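import Cfsg.Agent.Lib.Chevalley.Twist.AutParam

/-!
Field automorphisms of fixed groups, extensionality on the orbit root subgroups, the uniqueness of
the longest element on the fundamental roots, and the unipotent Sylow subgroup.
-/

set_option autoImplicit false

open scoped Matrix Pointwise

namespace Cfsg.Agent.Chevalley.Twist

open Cfsg.Lie Cfsg.Agent.Chevalley.Table Cfsg.Agent.Chevalley.Cert Cfsg.Agent.Chevalley.Group
  Cfsg.Agent.Chevalley.Weight Cfsg.Agent.Chevalley.Unip Cfsg.Agent.Chevalley.Borel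
  Cfsg.Agent.Chevalley.Weyl Cfsg.Agent.Chevalley.Bruhat Cfsg.Agent.Chevalley.NormalForm
  Cfsg.Agent.Chevalley.AutThm

variable {D : ChevalleyDatum} {F : Type*} [Field F] {T : Tab} {hC : Certified D T}

theorem mapGL_xg (σ : F →+* F) (r : ℕ) (t : F) :
    FieldAut.mapGL D σ (xg hC r t) = xg hC r (σ t) :=
  Units.ext (FieldAut.x_map σ r t)

theorem mapGL_opr (σ : F →+* F) (rt : ℕ → ℕ) (J : List ℕ) (f : ℕ → F) :
    FieldAut.mapGL D σ (opr hC rt J f) = opr hC rt J fun i => σ (f i) := by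
  rw [opr, opr, map_list_prod, List.map_map]
  exact congrArg List.prod (List.map_congr_left fun i _ => mapGL_xg σ _ _)

include hC in
theorem mapGL_U (σ : F →+* F) {u : GL D.Idx F} (hu : u ∈ D.posUnipotent F) :
    FieldAut.mapGL D σ u ∈ D.posUnipotent F := by
  suffices h : D.posUnipotent F ≤ (D.posUnipotent F).comap (FieldAut.mapGL D σ) from h hu
  conv_lhs => rw [U_eq_closure hC]
  rw [Subgroup.closure_le]
  rintro x ⟨r, t, hr, hp, rfl⟩
  rw [SetLike.mem_coe, Subgroup.mem_comap, mapGL_xg]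
  exact xg_mem_U hC hr hp _

include hC in
theorem mapGL_V (σ : F →+* F) {u : GL D.Idx F} (hu : u ∈ D.negUnipotent F) :
    FieldAut.mapGL D σ u ∈ D.negUnipotent F := by
  suffices h : D.negUnipotent F ≤ (D.negUnipotent F).comap (FieldAut.mapGL D σ) from h hu
  conv_lhs => rw [V_eq_closure hC]
  rw [Subgroup.closure_le]
  rintro x ⟨r, t, hr, hp, rfl⟩
  rw [SetLike.mem_coe, Subgroup.mem_comap, mapGL_xg]
  exact xg_mem_V hC hr hp _

/-- Any two longest words move the fundamental roots in the same way. -/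
theorem longest_unique (hC : Certified D T) {L L' : List ℕ} (hL : IsLongest D T L)
    (hL' : IsLongest D T L') {r : ℕ} (hr : r < D.nroots) : wL D L r = wL D L' r := by
  have hR : ∀ i ∈ L'.reverse, i < D.rank := fun i hi => hL'.1 i (List.mem_reverse.1 hi)
  have hall : ∀ i ∈ L'.reverse ++ L, i < D.rank := fun i hi =>
    (List.mem_append.1 hi).elim (hR i) (hL.1 i)
  have hpos : ∀ i < D.rank, 0 < T.phi (wL D (L'.reverse ++ L) (D.simple i)) := fun i hi => by
    rw [wL_append]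
    have hw := wL_lt hC hL.1 (hC.simple_lt hi)
    refine (longest_sign hC hL' (wL_lt hC hR hw)).1.2 ?_
    rw [wL_neg_simple hC hL'.1 hw]
    exact hL.2 _ (hC.simple_lt hi) (hC.phi_simple hi)
  have h := wL_eq_self_of_pos hC hall hpos hr
  rw [wL_append] at h
  conv_rhs => rw [← h]
  rw [wL_neg_simple hC hL'.1 (wL_lt hC hL.1 hr)]

variable {S : Tw hC F} (O : Orbits S) {K : Subgroup (GL D.Idx F)} (hK : GenData O K) {π : ℕ → ℕ}
  (hπ : S.π = π) (hO : ∀ a < O.k, Orth hC π (O.J a))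
  (hdisj : ∀ a < O.k, ∀ b < O.k, ∀ i ∈ O.J a, i ∈ O.J b → a = b)
  (hfix : ∀ c : ℕ → Fˣ, tor D c ∈ Fx S →
    ∃ c' : ℕ → Fˣ, tor D c' = tor D c ∧ ∀ i < D.rank, (c' (S.π i) : F) = S.hom i (c' i : F))

include hK hπ hO hdisj hfix in
/-- Two homomorphisms agreeing on the orbit root subgroups are equal. -/
theorem hom_ext_K {G : Type*} [Group G] (φ ψ : K →* G)
    (h : ∀ a, ∀ ha : a < O.k, ∀ g : K,
      g ∈ Xs O hπ hO K false ha ∨ g ∈ Xs O hπ hO K true ha → φ g = ψ g) : φ = ψ := by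
  refine MonoidHom.ext fun g => ?_
  have hle := le_of_opr_mem O hK hπ hO hdisj hfix (M := (φ.eqLocus ψ).map K.subtype)
    (fun a ha f hf => ⟨⟨⟨_, opr_mem_K O hK hπ hO (Or.inl rfl) ha hf⟩,
      h a ha _ (Or.inl ⟨f, hf, rfl⟩), rfl⟩,
      ⟨⟨_, opr_mem_K O hK hπ hO (Or.inr rfl) ha hf⟩, h a ha _ (Or.inr ⟨f, hf, rfl⟩), rfl⟩⟩)
  obtain ⟨y, hy, e⟩ := hle g.2
  rw [← show y = g from Subtype.ext e]
  exact hy

include hK hπ hO hdisj hfix in
theorem mapGL_mem_K (σ : F ≃+* F) (hσ : ∀ i < D.rank, ∀ t, σ (S.hom i t) = S.hom i (σ t))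
    {g : GL D.Idx F} (hg : g ∈ K) : FieldAut.mapGL D σ.toRingHom g ∈ K := by
  refine (le_of_opr_mem O hK hπ hO hdisj hfix (M := K.comap (FieldAut.mapGL D σ.toRingHom))
    fun a ha f hf => ?_) hg
  have hf' : FixF S (O.J a) fun i => σ.toRingHom (f i) := fun i hi => by
    show σ (f (S.π i)) = S.hom i (σ (f i))
    rw [hf i hi, hσ i (O.J_lt a ha i hi)]
  constructor <;> rw [Subgroup.mem_comap, mapGL_opr]
  · exact opr_mem_K O hK hπ hO (Or.inl rfl) ha hf'
  · exact opr_mem_K O hK hπ hO (Or.inr rfl) ha hf'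

/-- The field automorphisms of the fixed group. -/
def fldK (σ : F ≃+* F) (h : ∀ g ∈ K, FieldAut.mapGL D σ.toRingHom g ∈ K)
    (h' : ∀ g ∈ K, FieldAut.mapGL D σ.symm.toRingHom g ∈ K) : K ≃* K where
  toFun g := ⟨_, h g g.2⟩
  invFun g := ⟨_, h' g g.2⟩
  left_inv g := by
    refine Subtype.ext (Units.ext ?_)
    ext a b
    exact σ.symm_apply_apply _
  right_inv g := by
    refine Subtype.ext (Units.ext ?_)
    ext a b
    exact σ.apply_symm_apply _
  map_mul' g g' := Subtype.ext (map_mul (FieldAut.mapGL D σ.toRingHom) (g : GL D.Idx F) g')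

theorem exists_sylow_UK [Finite K] (p : ℕ) [Fact p.Prime] (n m : ℕ)
    (hU : Nat.card ↥(D.posUnipotent F ⊓ K) = p ^ n) (hG : Nat.card K = p ^ n * m)
    (hm : ¬ p ∣ m) : ∃ P : Sylow p K, (P : Subgroup K) = UK D K := by
  have hc : Nat.card (UK D K) = p ^ (Nat.card K).factorization p := by
    have e : Nat.card (UK D K) = Nat.card ↥(D.posUnipotent F ⊓ K) :=
      Nat.card_congr
        { toFun := fun x => ⟨x.1.1, x.2, x.1.2⟩
          invFun := fun x => ⟨⟨x.1, x.2.2⟩, x.2.1⟩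
          left_inv := fun x => rfl
          right_inv := fun x => rfl }
    have hm0 : m ≠ 0 := fun h => hm (h ▸ dvd_zero p)
    rw [e, hU, hG, Nat.factorization_mul (pow_ne_zero _ (Fact.out : p.Prime).ne_zero) hm0,
      Finsupp.add_apply, Nat.factorization_eq_zero_of_not_dvd hm,
      Nat.factorization_pow, Finsupp.smul_apply, (Fact.out : p.Prime).factorization_self]
    simp
  exact ⟨Sylow.ofCard _ hc, Sylow.coe_ofCard _ hc⟩

end Cfsg.Agent.Chevalley.Twist
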