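import Cfsg.Agent.Lib.Chevalley.Twist.Enum
import Cfsg.Agent.Lib.Chevalley.Poincare
import Cfsg.Agent.Lib.Chevalley.Data.E6
import Cfsg.Agent.Lib.Chevalley.Data.D4
import Cfsg.Agent.Lib.Chevalley.Data.TW2E6
import Cfsg.Agent.Lib.Chevalley.Data.TW3D4

/-!
The checks of the transversals of the fixed Weyl groups, run by the kernel.
-/

set_option autoImplicit false

namespace Cfsg.Agent.Chevalley.Twist.WChecks

open Cfsg.Agent.Chevalley Cfsg.Agent.Chevalley.Poincare

/-- The orbits in type E6. -/
abbrev JsE : List (List ℕ) := [[1], [3], [4, 2], [5, 0]]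

/-- The orbits in type D4. -/
abbrev JsD : List (List ℕ) := [[1], [3, 2, 0]]

theorem d4_ok : rangeChk Data.D4.tab JsD Data.TW3D4.blocks 12 0 12 = true := by decide +kernel

theorem d4_zero : (nth2 Data.TW3D4.blocks 9).len = 0 := by decide +kernel

theorem d4_poly : prodP [[-1, 1], [-1, 1], [1, 1, 1], genP (lensOf Data.TW3D4.blocks 12)] =
    prodP [addP (monP 2) [-1], addP (monP 6) [-1], addP (monP 8) (addP (monP 4) [1])] := by
  decide +kernel

theorem e6_ok0 : rangeChk Data.E6.tab JsE Data.TW2E6.blocks 1152 0 288 = true := by decide +kernel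

theorem e6_ok1 : rangeChk Data.E6.tab JsE Data.TW2E6.blocks 1152 288 288 = true := by decide +kernel

theorem e6_ok2 : rangeChk Data.E6.tab JsE Data.TW2E6.blocks 1152 576 288 = true := by decide +kernel

theorem e6_ok3 : rangeChk Data.E6.tab JsE Data.TW2E6.blocks 1152 864 288 = true := by decide +kernel

theorem e6_ok {k : ℕ} (hk : k < 1152) :
    wRepChk Data.E6.tab JsE Data.TW2E6.blocks 1152 k = true := by
  rcases Nat.lt_or_ge k 288 with h | h
  · exact range_ok e6_ok0 (Nat.zero_le k) (by omega)
  rcases Nat.lt_or_ge k 576 with h' | h'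
  · exact range_ok e6_ok1 h (by omega)
  rcases Nat.lt_or_ge k 864 with h'' | h''
  · exact range_ok e6_ok2 h' (by omega)
  · exact range_ok e6_ok3 h'' (by omega)

theorem e6_zero : (nth2 Data.TW2E6.blocks 927).len = 0 := by decide +kernel

theorem e6_poly :
    prodP [[-1, 1], [-1, 1], [-1, 1], [-1, 1], [1, 1], [1, 1], genP (lensOf Data.TW2E6.blocks 1152)] =
    prodP [addP (monP 2) [-1], addP (monP 5) [1], addP (monP 6) [-1], addP (monP 8) [-1],
      addP (monP 9) [1], addP (monP 12) [-1]] := by decide +kernel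

end Cfsg.Agent.Chevalley.Twist.WChecks
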