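import Cfsg.Agent.Lib.Chevalley.Twist.E6
import Cfsg.Agent.Lib.Chevalley.Twist.WChecks

/-!
The orders of the twisted groups of type E6 and of their standard subgroups.
-/

set_option autoImplicit false

open scoped Matrix

namespace Cfsg.Agent.Chevalley.Twist

open Cfsg.Lie Cfsg.Agent.Chevalley.Table Cfsg.Agent.Chevalley.Cert Cfsg.Agent.Chevalley.Group
  Cfsg.Agent.Chevalley.TorusCard

section general

variable {D : ChevalleyDatum} {F : Type*} [Field F] {T : Tab} {hC : Certified D T}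
variable (S : Tw hC F)

/-- The parameters fixed by `tau`. -/
noncomputable def fixParam (πi : ℕ → ℕ) (hlt : ∀ j < D.rank, πi j < D.rank) : Subgroup (Fin D.rank → Fˣ) :=
  (tau S πi hlt).eqLocus (MonoidHom.id _)

theorem mem_fixParam {πi : ℕ → ℕ} {hlt : ∀ j < D.rank, πi j < D.rank} {c : Fin D.rank → Fˣ} :
    c ∈ fixParam S πi hlt ↔ ∀ j : Fin D.rank, S.hom (πi j) (c ⟨πi j, hlt j j.2⟩ : F) = (c j : F) := by
  constructor
  · intro h j
    exact congrArg Units.val (congrFun (h : tau S πi hlt c = c) j)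
  · intro h
    show tau S πi hlt c = c
    exact funext fun j => Units.ext (h j)

/-- The order of the fixed torus against its parameters. -/
theorem card_H_K [Finite F] {O : Orbits S} {K : Subgroup (GL D.Idx F)} (hK : GenData O K)
    {πi : ℕ → ℕ} (hlt : ∀ j < D.rank, πi j < D.rank) (hinv : ∀ j < D.rank, S.π (πi j) = j)
    (hfix : ∀ c : ℕ → Fˣ, tor D c ∈ Fx S →
      ∃ c' : ℕ → Fˣ, tor D c' = tor D c ∧ ∀ i < D.rank, (c' (S.π i) : F) = S.hom i (c' i : F)) :
    Nat.card ↥((torHom D F).ker ⊓ fixParam S πi hlt) * Nat.card ↥(D.diagonalSubgroup F ⊓ K) =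
      Nat.card (fixParam S πi hlt) := by
  let φ : fixParam S πi hlt →* GL D.Idx F := (torHom D F).comp (fixParam S πi hlt).subtype
  have hrange : φ.range = D.diagonalSubgroup F ⊓ K := by
    refine le_antisymm ?_ fun g hg => ?_
    · rintro _ ⟨c, rfl⟩
      refine ⟨by rw [← range_torHom (F := F) hC]; exact ⟨c.1, rfl⟩, Fx_le O hK ?_⟩
      have h := img_torHom S hlt hinv c.1
      rw [show tau S πi hlt c.1 = c.1 from c.2] at h
      exact h
    · obtain ⟨c, rfl⟩ := (mem_H_iff hC).1 hg.1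
      obtain ⟨c', e, hc'⟩ := hfix c (hK.le hg.2)
      refine ⟨⟨fun j => c' j, (mem_fixParam S).2 fun j => ?_⟩, ?_⟩
      · have := hc' (πi j) (hlt j j.2)
        rw [hinv j j.2] at this
        exact this.symm
      · rw [← e]
        show tor D _ = _
        exact dg_congr fun s _ => Finset.prod_congr rfl fun i hi => by
          rw [TorusCard.ext, dif_pos (Finset.mem_range.1 hi)]; rfl
  have hker : Nat.card φ.ker = Nat.card ↥((torHom D F).ker ⊓ fixParam S πi hlt) :=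
    Nat.card_congr
      { toFun := fun c => ⟨c.1.1, c.2, c.1.2⟩
        invFun := fun c => ⟨⟨c.1, c.2.2⟩, c.2.1⟩
        left_inv := fun _ => rfl
        right_inv := fun _ => rfl }
  rw [← hker, ← hrange, ← Subgroup.index_ker, Subgroup.card_mul_index]

/-- The roots of `t^q = t` in a field. -/
theorem card_powfix {K : Type*} [Field K] [Fintype K] {q n : ℕ} (hq : 2 ≤ q)
    (hK : Fintype.card K = q ^ n) : Nat.card {t : K // t ^ q = t} = q := by
  classical
  have hker : Nat.card (powMonoidHom (q - 1) : Kˣ →* Kˣ).ker = q - 1 := by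
    rw [IsCyclic.card_powMonoidHom_ker, Nat.card_units, Nat.card_eq_fintype_card, hK]
    exact Nat.gcd_eq_right (Nat.sub_one_dvd_pow_sub_one q n)
  have hu : ∀ u : Kˣ, (u : K) ^ q = u ↔ u ∈ (powMonoidHom (q - 1) : Kˣ →* Kˣ).ker := by
    intro u
    rw [MonoidHom.mem_ker, powMonoidHom_apply]
    have e : (u : K) ^ q = (u ^ (q - 1) : Kˣ) * u := by
      rw [Units.val_pow_eq_pow_val, ← pow_succ, Nat.sub_add_cancel (by omega)]
    rw [e, mul_eq_right₀ u.ne_zero, Units.val_eq_one]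
  have e : {t : K // t ^ q = t} ≃ Option (powMonoidHom (q - 1) : Kˣ →* Kˣ).ker :=
    { toFun := fun t => if h : (t : K) = 0 then none else
        some ⟨Units.mk0 t h, (hu (Units.mk0 t h)).1 t.2⟩
      invFun := fun o => o.elim ⟨0, zero_pow (by omega)⟩ fun u => ⟨(u.1 : K), (hu u.1).2 u.2⟩
      left_inv := fun t => by
        by_cases h : (t : K) = 0
        · exact Subtype.ext (by simp [h])
        · exact Subtype.ext (by simp [h])
      right_inv := fun o => by
        cases o with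
        | none => simp
        | some u =>
          have hne : (u.1 : K) ≠ 0 := u.1.ne_zero
          simp [hne] }
  rw [Nat.card_congr e, Finite.card_option, hker, Nat.sub_add_cancel (by omega)]

theorem card_powfix_units {K : Type*} [Field K] [Fintype K] {q n : ℕ}
    (hK : Fintype.card K = q ^ n) :
    Nat.card (powMonoidHom (q - 1) : Kˣ →* Kˣ).ker = q - 1 := by
  classical
  rw [IsCyclic.card_powMonoidHom_ker, Nat.card_units, Nat.card_eq_fintype_card, hK]
  exact Nat.gcd_eq_right (Nat.sub_one_dvd_pow_sub_one q n)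

end general

namespace E6

open Cfsg.Agent.Chevalley Cfsg.Agent.Chevalley.Poincare Cfsg.Agent.Chevalley.WeylEnum
  Cfsg.Agent.Chevalley.NormalForm

theorem πlt : ∀ j < chevE6.rank, nodePi L j < chevE6.rank := by decide

theorem πinv : ∀ j < chevE6.rank, nodePi L (nodePi L j) = j := by decide

theorem cartan_vals : ∀ j < 6, ∀ i < 6, chevE6.cartan i (chevE6.simple j) =
    (([[2, 0, -1, 0, 0, 0], [0, 2, 0, -1, 0, 0], [-1, 0, 2, -1, 0, 0], [0, -1, -1, 2, -1, 0],
      [0, 0, 0, -1, 2, -1], [0, 0, 0, 0, -1, 2]] : List (List ℤ)).getD j []).getD i 0 := by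
  decide +kernel

/-- The transposed Cartan matrix. -/
def cm : Matrix (Fin 6) (Fin 6) ℤ := Matrix.of fun j i =>
  (([[2, 0, -1, 0, 0, 0], [0, 2, 0, -1, 0, 0], [-1, 0, 2, -1, 0, 0], [0, -1, -1, 2, -1, 0],
    [0, 0, 0, -1, 2, -1], [0, 0, 0, 0, -1, 2]] : List (List ℤ)).getD j []).getD i 0

theorem ker_iff {G : Type*} [CommGroup G] (c : Fin 6 → G) :
    matHom (cartanMat chevE6) c = 1 ↔ c 0 ^ 2 = c 2 ∧ c 1 ^ 2 = c 3 ∧ c 2 ^ 2 = c 0 * c 3 ∧
      c 3 ^ 2 = c 1 * c 2 * c 4 ∧ c 4 ^ 2 = c 3 * c 5 ∧ c 5 ^ 2 = c 4 := by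
  have e : cartanMat chevE6 = cm := Matrix.ext fun j i => cartan_vals j j.2 i i.2
  rw [e]
  show matHom cm c = 1 ↔ _
  simp only [funext_iff, Fin.forall_fin_succ, IsEmpty.forall_iff, and_true, matHom_apply,
    Fin.prod_univ_six, cm]
  simp only [Matrix.of_apply, Fin.isValue, Fin.val_zero, Fin.val_one, Fin.val_two,
    Fin.val_succ, show ((3 : Fin 6) : ℕ) = 3 from rfl, show ((4 : Fin 6) : ℕ) = 4 from rfl,
    show ((5 : Fin 6) : ℕ) = 5 from rfl, List.getD_cons_zero, List.getD_cons_succ, Nat.reduceAdd,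
    zpow_neg, zpow_ofNat, Pi.one_apply]
  simp only [pow_zero, pow_one, mul_one, one_mul]
  simp only [mul_inv_eq_one, mul_inv_eq_iff_eq_mul, inv_mul_eq_iff_eq_mul, mul_assoc, ← mul_inv,
    one_mul, mul_one, mul_comm, mul_left_comm]

theorem inv_card_ok : ∀ a < 4, ((Finset.range chevE6.nroots).filter fun r =>
    0 < Data.E6.tab.phi r ∧ Data.E6.tab.phi (applyW Data.E6.tab (Js.getD a []) r) < 0).card =
      (Js.getD a []).length := by decide +kernel

variable {K : Type*} [Field K] [Fintype K] {q : ℕ} {hK : Fintype.card K = q ^ 2}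
  (X : Setup (K := K) hK)
include X

theorem orth : ∀ a < X.O.k, Orth hC (nodePi L) (X.O.J a) := fun a ha => by
  rw [X.J_eq]; exact orth_of_chk hC (orth_ok a (X.k_eq ▸ ha))

theorem card_Uw_orbit (hq : IsPrimePow q) : ∀ a < X.O.k,
    Nat.card (Uw X.S (X.O.J a)) ^ 1 = q ^ (invSet chevE6 Data.E6.tab (X.O.J a)).card := by
  intro a ha
  have hinv : (invSet chevE6 Data.E6.tab (X.O.J a)).card = (Js.getD a []).length := by
    rw [← inv_card_ok a (X.k_eq ▸ ha), invSet, ← X.J_eq]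
    congr 1
    refine Finset.filter_congr fun r hr => ?_
    rw [show applyW Data.E6.tab (X.O.J a) r = wL chevE6 (X.O.J a) r from
      StConj.actT_foldr hC (X.O.J_lt a ha) (Finset.mem_range.1 hr)]
  rw [hinv, pow_one]
  have hqq : ∀ t : K, (t ^ q) ^ q = t := fun t => by
    rw [← pow_mul, ← pow_two, ← hK, FiniteField.pow_card]
  have hπ : ∀ i, X.S.π i = nodePi L i := fun i => by rw [X.π_eq]
  have hO := orth X a ha
  rw [X.J_eq] at hO
  have single : ∀ i : ℕ, i < 6 → nodePi L i = i → Js.getD a [] = [i] →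
      Nat.card (Uw X.S (X.O.J a)) = q ^ [i].length := by
    intro i hi hπi hJ
    rw [hJ] at hO
    have hJ' : X.O.J a = _ := (X.J_eq a).trans hJ
    rw [hJ', card_Uw_orth X.O X.π_eq ha (J := [i]) hJ' hO
      (fun (t : {t : K // t ^ q = t}) _ => (t : K)) (fun t j hj => ?_) (fun t t' h => ?_)
      (fun f hf => ?_), card_powfix hq.two_le hK, List.length_singleton, pow_one]
    · rw [X.hom_eq j (hO.lt j hj), t.2]
    · exact Subtype.ext (h i List.mem_cons_self)
    · have h := hf i List.mem_cons_self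
      rw [hπ, hπi, X.hom_eq i hi] at h
      exact ⟨⟨f i, h.symm⟩, fun j hj => by rw [List.mem_singleton.1 hj]⟩
  have double : ∀ i j : ℕ, i < 6 → i ≠ j → nodePi L i = j → nodePi L j = i →
      Js.getD a [] = [j, i] → Nat.card (Uw X.S (X.O.J a)) = q ^ [j, i].length := by
    intro i j hi hne e1 e2 hJ
    rw [hJ] at hO
    have hJ' : X.O.J a = _ := (X.J_eq a).trans hJ
    rw [hJ', card_Uw_orth X.O X.π_eq ha (J := [j, i]) hJ' hO
      (fun (t : K) k => if k = i then t else t ^ q) (fun t k hk => ?_) (fun t t' h => ?_)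
      (fun f hf => ?_), Nat.card_eq_fintype_card, hK]
    · rfl
    · rw [hπ, X.hom_eq k (hO.lt k hk)]
      simp only [List.mem_cons, List.not_mem_nil, or_false] at hk
      rcases hk with rfl | rfl
      · rw [e2, if_pos rfl, if_neg (Ne.symm hne), hqq]
      · rw [e1, if_neg (Ne.symm hne), if_pos rfl]
    · have := h i (by simp)
      simpa using this
    · refine ⟨f i, fun k hk => ?_⟩
      simp only [List.mem_cons, List.not_mem_nil, or_false] at hk
      rcases hk with rfl | rfl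
      · have h := hf i (by simp)
        rw [hπ, e1, X.hom_eq i hi] at h
        rw [if_neg (Ne.symm hne), h]
      · rw [if_pos rfl]
  have ha4 : a < 4 := X.k_eq ▸ ha
  interval_cases a
  · exact single 1 (by decide) (by decide) rfl
  · exact single 3 (by decide) (by decide) rfl
  · exact double 2 4 (by decide) (by decide) (by decide) (by decide) rfl
  · exact double 0 5 (by decide) (by decide) (by decide) (by decide) rfl

theorem card_U (hq : IsPrimePow q) :
    Nat.card ↥(chevE6.posUnipotent K ⊓ twistedE6 K q) = q ^ 36 := by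
  have h := card_U_K X.gen 1 q (card_Uw_orbit X hq)
  rwa [pow_one, show chevE6.nroots / 2 = 36 by decide +kernel] at h

theorem card_H :
    Nat.gcd 3 (q + 1) * Nat.card ↥(chevE6.diagonalSubgroup K ⊓ twistedE6 K q) =
      (q - 1) ^ 4 * (q + 1) ^ 2 := by
  classical
  have hq1 : 2 ≤ q := by
    have h1 : 1 < q ^ 2 := hK ▸ Fintype.one_lt_card
    rcases Nat.lt_or_ge q 2 with h | h
    · interval_cases q <;> simp at h1
    · exact h
  have hπ : ∀ i, X.S.π i = nodePi L i := fun i => by rw [X.π_eq]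
  have hqq : ∀ u : Kˣ, (u ^ q) ^ q = u := fun u => Units.ext (by
    rw [← pow_mul, ← pow_two, ← hK, Units.val_pow_eq_pow_val, FiniteField.pow_card])
  have key := card_H_K X.S X.gen πlt (fun j hj => by rw [hπ, πinv j hj]) X.fix
  -- the fixed parameters
  have hmem : ∀ c : Fin chevE6.rank → Kˣ, c ∈ fixParam X.S (nodePi L) πlt ↔
      ∀ j : Fin chevE6.rank, (c ⟨nodePi L j, πlt j j.2⟩) ^ q = c j := by
    intro c
    rw [mem_fixParam]
    refine forall_congr' fun j => ?_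
    rw [X.hom_eq _ (πlt j j.2), ← Units.val_pow_eq_pow_val, Units.val_inj]
  let P1 := (powMonoidHom (q - 1) : Kˣ →* Kˣ).ker
  have hP1 : ∀ u : Kˣ, u ∈ P1 ↔ u ^ q = u := fun u => by
    rw [MonoidHom.mem_ker, powMonoidHom_apply]
    conv_rhs => rw [show q = q - 1 + 1 by omega, pow_succ, mul_eq_right]
  have hfp : Nat.card (fixParam X.S (nodePi L) πlt) = Nat.card (P1 × P1 × Kˣ × Kˣ) := by
    refine Nat.card_congr
      { toFun := fun c => (⟨c.1 (⟨1, by decide⟩), (hP1 _).2 ((hmem _).1 c.2 ⟨1, by decide⟩)⟩,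
          ⟨c.1 (⟨3, by decide⟩), (hP1 _).2 ((hmem _).1 c.2 ⟨3, by decide⟩)⟩,
          c.1 ⟨0, by decide⟩, c.1 ⟨2, by decide⟩)
        invFun := fun p => ⟨(![p.2.2.1, (p.1 : Kˣ), p.2.2.2, (p.2.1 : Kˣ), p.2.2.2 ^ q, p.2.2.1 ^ q] :
          Fin 6 → Kˣ), (hmem _).2 fun j => ?_⟩
        left_inv := fun c => ?_
        right_inv := fun p => rfl }
    · fin_cases j
      exacts [hqq _, (hP1 _).1 p.1.2, hqq _, (hP1 _).1 p.2.1.2, rfl, rfl]
    · refine Subtype.ext (funext fun j => ?_)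
      fin_cases j
      exacts [rfl, rfl, rfl, rfl, (hmem _).1 c.2 ⟨4, by decide⟩, (hmem _).1 c.2 ⟨5, by decide⟩]
  -- the kernel
  have hrel : ∀ c : Fin chevE6.rank → Kˣ, c ∈ (torHom chevE6 K).ker ↔
      matHom (cartanMat chevE6) c = 1 := fun c => by rw [ker_torHom hC, MonoidHom.mem_ker]
  obtain ⟨g, hg⟩ : ∃ g, g = Nat.gcd 3 (q + 1) := ⟨_, rfl⟩
  let Z := (powMonoidHom g : Kˣ →* Kˣ).ker
  have hZ : ∀ z : Kˣ, z ∈ Z ↔ z ^ 3 = 1 ∧ z ^ (q + 1) = 1 := fun z => by
    rw [MonoidHom.mem_ker, powMonoidHom_apply, hg, pow_gcd_eq_one]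
  have hfwd : ∀ c : Fin chevE6.rank → Kˣ, c ∈ (torHom chevE6 K).ker ⊓ fixParam X.S (nodePi L) πlt →
      c ⟨0, by decide⟩ ∈ Z ∧ c = (![c ⟨0, by decide⟩, 1, (c ⟨0, by decide⟩)⁻¹, 1,
        c ⟨0, by decide⟩, (c ⟨0, by decide⟩)⁻¹] : Fin 6 → Kˣ) := by
    intro c hc
    have h1 := (hrel c).1 hc.1
    have h2 := congrArg (matHom adj) h1
    rw [← matHom_mul, adj_ok, map_one] at h2
    have h3 : ∀ j, c j ^ 3 = 1 := fun j => by
      have h4 := congrFun h2 j
      rw [matHom_apply, Finset.prod_eq_single j (fun i _ hne => by simp [Matrix.one_apply_ne hne.symm])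
        (by simp)] at h4
      simpa [zpow_ofNat] using h4
    obtain ⟨v, hv⟩ : ∃ v : Fin 6 → Kˣ, v = c := ⟨c, rfl⟩
    have h3' : ∀ j : Fin 6, v j ^ 3 = 1 := fun j => hv ▸ h3 j
    obtain ⟨r0, r1, r2, r3, -, -⟩ := (ker_iff v).1 (hv ▸ h1)
    have f5 : v 0 ^ q = v 5 := hv ▸ (hmem c).1 hc.2 ⟨5, by decide⟩
    have f4 : v 2 ^ q = v 4 := hv ▸ (hmem c).1 hc.2 ⟨4, by decide⟩
    obtain ⟨z, hz⟩ : ∃ z, z = v 0 := ⟨_, rfl⟩
    have hz3 : z ^ 3 = 1 := hz ▸ h3' 0
    have hsq : z ^ 2 = z⁻¹ := by rw [eq_inv_iff_mul_eq_one, ← pow_succ]; exact hz3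
    have e2 : v 2 = z⁻¹ := by rw [← r0, ← hz, hsq]
    have e3 : v 3 = 1 := by
      rw [e2, ← hz, inv_pow, hsq, inv_inv] at r2
      exact mul_eq_left.1 r2.symm
    have e1 : v 1 = 1 := by
      have h := h3' 1
      rw [pow_succ, r1, e3, one_mul] at h
      exact h
    have e4 : v 4 = z := by
      rw [e1, e2, e3, one_pow, one_mul] at r3
      exact (inv_mul_eq_one.1 r3.symm).symm
    have hzq : z ^ q = z⁻¹ := by
      rw [← inv_inj, ← inv_pow, inv_inv, ← e2, f4, e4]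
    have e5 : v 5 = z⁻¹ := by rw [← f5, ← hz, hzq]
    have hzZ : z ∈ Z := (hZ z).2 ⟨hz3, by rw [pow_succ, hzq, inv_mul_cancel]⟩
    subst hv
    refine ⟨hz ▸ hzZ, ?_⟩
    funext j
    fin_cases j
    exacts [rfl, e1, e2.trans (by rw [hz]; rfl), e3, e4.trans (by rw [hz]; rfl),
      e5.trans (by rw [hz]; rfl)]
  have hkey : ∀ z : Kˣ, z ∈ Z → z ^ q = z⁻¹ := fun z hz => by
    rw [eq_inv_iff_mul_eq_one, ← pow_succ]
    exact ((hZ z).1 hz).2
  have hker : Nat.card ↥((torHom chevE6 K).ker ⊓ fixParam X.S (nodePi L) πlt) = g := by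
    have e : ↥((torHom chevE6 K).ker ⊓ fixParam X.S (nodePi L) πlt) ≃ Z :=
      { toFun := fun c => ⟨c.1 ⟨0, by decide⟩, (hfwd c.1 c.2).1⟩
        invFun := fun z => ⟨(![(z : Kˣ), 1, (z : Kˣ)⁻¹, 1, (z : Kˣ), (z : Kˣ)⁻¹] : Fin 6 → Kˣ),
          ⟨(hrel _).2 ((ker_iff _).2 ?_), (hmem _).2 fun j => ?_⟩⟩
        left_inv := fun c => Subtype.ext (hfwd c.1 c.2).2.symm
        right_inv := fun z => rfl }
    · rw [Nat.card_congr e, IsCyclic.card_powMonoidHom_ker, Nat.card_units, Nat.card_eq_fintype_card,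
        hK]
      refine Nat.gcd_eq_right (hg ▸ (Nat.gcd_dvd_right 3 (q + 1)).trans ?_)
      exact ⟨q - 1, by rw [← Nat.sq_sub_sq q 1]⟩
    · have h2 : (z : Kˣ) ^ 2 = (z : Kˣ)⁻¹ := by
        rw [eq_inv_iff_mul_eq_one, ← pow_succ]; exact ((hZ _).1 z.2).1
      simp [inv_pow, h2]
    · have hzq := hkey z z.2
      have hzq' : ((z : Kˣ)⁻¹) ^ q = z := by rw [inv_pow, hzq, inv_inv]
      fin_cases j
      exacts [hzq', one_pow q, hzq, one_pow q, hzq', hzq]
  rw [hker, hfp] at key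
  rw [← hg, key, Nat.card_prod, Nat.card_prod, Nat.card_prod, card_powfix_units hK, Nat.card_units,
    Nat.card_eq_fintype_card, hK, show q ^ 2 - 1 = (q + 1) * (q - 1) by
      rw [← Nat.sq_sub_sq q 1]]
  ring

theorem card_group (hq : IsPrimePow q) :
    Nat.gcd 3 (q + 1) * Nat.card (twistedE6 K q) =
      q ^ 36 * (q ^ 2 - 1) * (q ^ 5 + 1) * (q ^ 6 - 1) * (q ^ 8 - 1) * (q ^ 9 + 1) * (q ^ 12 - 1) := by
  obtain ⟨E, hE, hcov, hdist, hlens⟩ := exists_transversal X.O (Js := Js) X.k_eq X.J_eq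
    (C := Data.TW2E6.blocks) (n := 1152) (fun k hk => WChecks.e6_ok hk) (k₀ := 927) (by decide)
    WChecks.e6_zero
  rw [Twist.card_K X.gen hE hcov hdist, card_B_K X.gen, sum_Uw X.gen (card_Uw_orbit X hq) hE hlens,
    card_U X hq]
  have hH := card_H X
  have hq1 : 1 ≤ q := (by decide : 1 ≤ 2).trans hq.two_le
  have h := congrArg (fun p => evalP p (q : ℤ)) WChecks.e6_poly
  simp only [eval_prodP, List.map_cons, List.map_nil, List.prod_cons, List.prod_nil, eval_addP,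
    eval_monP, eval_genP] at h
  obtain ⟨S', hS⟩ : ∃ S', S' = ((lensOf Data.TW2E6.blocks 1152).map fun l => q ^ l).sum := ⟨_, rfl⟩
  have hS' : ((lensOf Data.TW2E6.blocks 1152).map fun l => (q : ℤ) ^ l).sum = (S' : ℤ) := by
    rw [hS, Nat.cast_list_sum, List.map_map]; simp [Function.comp_def]
  rw [hS'] at h
  rw [← hS, show ∀ x y : ℕ, Nat.gcd 3 (q + 1) * (q ^ 36 * x * y) =
    q ^ 36 * (Nat.gcd 3 (q + 1) * x) * y from fun x y => by ring, hH]
  have hsub : ∀ d : ℕ, ((q ^ d - 1 : ℕ) : ℤ) = (q : ℤ) ^ d - 1 := fun d => by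
    rw [Nat.cast_sub (Nat.one_le_pow _ _ hq1), Nat.cast_pow, Nat.cast_one]
  have hsub1 : ((q - 1 : ℕ) : ℤ) = (q : ℤ) - 1 := by rw [Nat.cast_sub hq1, Nat.cast_one]
  zify [hq1, Nat.one_le_pow _ _ hq1]
  simp only [evalP, List.foldr_cons, List.foldr_nil] at h
  linear_combination ((q : ℤ) ^ 36) * h

end E6

end Cfsg.Agent.Chevalley.Twist
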