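import Cfsg.Agent.Lib.Chevalley.Twist.D4
import Cfsg.Agent.Lib.Chevalley.Twist.CountE6

/-!
The orders of the triality twisted groups and of their standard subgroups.
-/

set_option autoImplicit false

open scoped Matrix

namespace Cfsg.Agent.Chevalley.Twist.D4

open Cfsg.Lie Cfsg.Agent.Chevalley Cfsg.Agent.Chevalley.Table Cfsg.Agent.Chevalley.Cert
  Cfsg.Agent.Chevalley.Group Cfsg.Agent.Chevalley.TorusCard Cfsg.Agent.Chevalley.Poincare
  Cfsg.Agent.Chevalley.WeylEnum

theorem πlt : ∀ j < chevD4.rank, πi j < chevD4.rank := by decide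

theorem πinv : ∀ j < chevD4.rank, nodePi L (πi j) = j := by decide

theorem cartan_vals : ∀ j < 4, ∀ i < 4, chevD4.cartan i (chevD4.simple j) =
    (([[2, -1, 0, 0], [-1, 2, -1, -1], [0, -1, 2, 0], [0, -1, 0, 2]] : List (List ℤ)).getD j []).getD i 0 := by
  decide +kernel

/-- The transposed Cartan matrix. -/
def cm : Matrix (Fin 4) (Fin 4) ℤ := Matrix.of fun j i =>
  (([[2, -1, 0, 0], [-1, 2, -1, -1], [0, -1, 2, 0], [0, -1, 0, 2]] : List (List ℤ)).getD j []).getD i 0

theorem ker_rel {G : Type*} [CommGroup G] (c : Fin 4 → G)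
    (h : matHom (cartanMat chevD4) c = 1) :
    c 0 ^ 2 = c 1 ∧ c 1 ^ 2 = c 0 * c 2 * c 3 := by
  have e : cartanMat chevD4 = cm := Matrix.ext fun j i => cartan_vals j j.2 i i.2
  rw [e] at h
  change matHom cm c = 1 at h
  have h0 := congrFun h (0 : Fin 4)
  have h1 := congrFun h (1 : Fin 4)
  simp only [matHom_apply, Fin.prod_univ_four, cm, Matrix.of_apply, Fin.isValue, Fin.val_zero,
    Fin.val_one, Fin.val_two, show ((3 : Fin 4) : ℕ) = 3 from rfl, List.getD_cons_zero,
    List.getD_cons_succ, zpow_neg, zpow_ofNat, Pi.one_apply] at h0 h1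
  simp only [pow_zero, pow_one, mul_one, one_mul] at h0 h1
  refine ⟨mul_inv_eq_one.1 h0, ?_⟩
  rw [mul_assoc, mul_assoc] at h1
  rw [← mul_inv_eq_one, mul_inv, mul_inv]
  simpa [mul_comm, mul_left_comm, mul_assoc] using h1

theorem inv_card_ok : ∀ a < 2, ((Finset.range chevD4.nroots).filter fun r =>
    0 < Data.D4.tab.phi r ∧ Data.D4.tab.phi (applyW Data.D4.tab (Js.getD a []) r) < 0).card =
      (Js.getD a []).length := by decide +kernel

variable {K : Type*} [Field K] [Fintype K] {q : ℕ} {hK : Fintype.card K = q ^ 3}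
  (X : Setup (K := K) hK)
include X

theorem orth : ∀ a < X.O.k, Orth hC (nodePi L) (X.O.J a) := fun a ha => by
  rw [X.J_eq]; exact orth_of_chk hC (orth_ok a (X.k_eq ▸ ha))

theorem card_Uw_orbit (hq : IsPrimePow q) : ∀ a < X.O.k,
    Nat.card (Uw X.S (X.O.J a)) ^ 1 = q ^ (invSet chevD4 Data.D4.tab (X.O.J a)).card := by
  intro a ha
  have hinv : (invSet chevD4 Data.D4.tab (X.O.J a)).card = (Js.getD a []).length := by
    rw [← inv_card_ok a (X.k_eq ▸ ha), invSet, ← X.J_eq]
    congr 1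
    refine Finset.filter_congr fun r hr => ?_
    rw [show applyW Data.D4.tab (X.O.J a) r = wL chevD4 (X.O.J a) r from
      StConj.actT_foldr hC (X.O.J_lt a ha) (Finset.mem_range.1 hr)]
  rw [hinv, pow_one]
  have hπ : ∀ i, X.S.π i = nodePi L i := fun i => by rw [X.π_eq]
  have hO := orth X a ha
  rw [X.J_eq] at hO
  have ha2 : a < 2 := X.k_eq ▸ ha
  interval_cases a
  · have hJ' : X.O.J 0 = [1] := X.J_eq 0
    rw [hJ', card_Uw_orth X.O X.π_eq ha (J := [1]) hJ' hO
      (fun (t : {t : K // t ^ q = t}) _ => (t : K)) (fun t j hj => ?_) (fun t t' h => ?_)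
      (fun f hf => ?_), card_powfix hq.two_le hK]
    · exact (pow_one q).symm
    · rw [X.hom_eq j (hO.lt j hj), t.2]
    · exact Subtype.ext (h 1 List.mem_cons_self)
    · have h := hf 1 List.mem_cons_self
      rw [hπ, X.hom_eq 1 (by decide)] at h
      exact ⟨⟨f 1, h.symm⟩, fun j hj => by rw [List.mem_singleton.1 hj]⟩
  · have hJ' : X.O.J 1 = [3, 2, 0] := X.J_eq 1
    rw [hJ', card_Uw_orth X.O X.π_eq ha (J := [3, 2, 0]) hJ' hO
      (fun (t : K) k => if k = 0 then t else if k = 2 then t ^ q else (t ^ q) ^ q) (fun t k hk => ?_)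
      (fun t t' h => ?_) (fun f hf => ?_), Nat.card_eq_fintype_card, hK]
    · rfl
    · rw [hπ, X.hom_eq k (hO.lt k hk)]
      change k ∈ [3, 2, 0] at hk
      simp only [List.mem_cons, List.not_mem_nil, or_false] at hk
      rcases hk with rfl | rfl | rfl <;> simp [nodePi, qqq hK]
    · have := h 0 (by simp)
      simpa using this
    · refine ⟨f 0, fun k hk => ?_⟩
      simp only [List.mem_cons, List.not_mem_nil, or_false] at hk
      have h0 := hf 0 (by simp)
      rw [hπ, X.hom_eq 0 (by decide)] at h0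
      change f 2 = f 0 ^ q at h0
      have h2 := hf 2 (by simp)
      rw [hπ, X.hom_eq 2 (by decide)] at h2
      change f 3 = f 2 ^ q at h2
      rcases hk with rfl | rfl | rfl
      · rw [if_neg (by decide), if_neg (by decide), h2, h0]
      · rw [if_neg (by decide), if_pos rfl, h0]
      · rw [if_pos rfl]

theorem card_U (hq : IsPrimePow q) :
    Nat.card ↥(chevD4.posUnipotent K ⊓ twistedD4 K q) = q ^ 12 := by
  have h := card_U_K X.gen 1 q (card_Uw_orbit X hq)
  rwa [pow_one, show chevD4.nroots / 2 = 12 by decide +kernel] at h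

theorem card_H (hq : IsPrimePow q) :
    Nat.card ↥(chevD4.diagonalSubgroup K ⊓ twistedD4 K q) = (q - 1) ^ 2 * (q ^ 2 + q + 1) := by
  classical
  have hq2 := hq.two_le
  have hπ : ∀ i, X.S.π i = nodePi L i := fun i => by rw [X.π_eq]
  have hqqq : ∀ u : Kˣ, ((u ^ q) ^ q) ^ q = u := fun u => Units.ext (by
    rw [Units.val_pow_eq_pow_val, Units.val_pow_eq_pow_val, Units.val_pow_eq_pow_val, qqq hK])
  have key := card_H_K X.S X.gen πlt (fun j hj => by rw [hπ, πinv j hj]) X.fix
  have hmem : ∀ c : Fin chevD4.rank → Kˣ, c ∈ fixParam X.S πi πlt ↔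
      ∀ j : Fin chevD4.rank, (c ⟨πi j, πlt j j.2⟩) ^ q = c j := by
    intro c
    rw [mem_fixParam]
    refine forall_congr' fun j => ?_
    rw [X.hom_eq _ (πlt j j.2), ← Units.val_pow_eq_pow_val, Units.val_inj]
  let P1 := (powMonoidHom (q - 1) : Kˣ →* Kˣ).ker
  have hP1 : ∀ u : Kˣ, u ∈ P1 ↔ u ^ q = u := fun u => by
    rw [MonoidHom.mem_ker, powMonoidHom_apply]
    conv_rhs => rw [show q = q - 1 + 1 by omega, pow_succ, mul_eq_right]
  have hfp : Nat.card (fixParam X.S πi πlt) = Nat.card (P1 × Kˣ) := by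
    refine Nat.card_congr
      { toFun := fun c => (⟨c.1 (⟨1, by decide⟩), (hP1 _).2 ((hmem _).1 c.2 ⟨1, by decide⟩)⟩,
          c.1 ⟨0, by decide⟩)
        invFun := fun p => ⟨(![p.2, (p.1 : Kˣ), p.2 ^ q, (p.2 ^ q) ^ q] : Fin 4 → Kˣ),
          (hmem _).2 fun j => ?_⟩
        left_inv := fun c => ?_
        right_inv := fun p => rfl }
    · fin_cases j
      exacts [hqqq _, (hP1 _).1 p.1.2, rfl, rfl]
    · have h2 := (hmem _).1 c.2 ⟨2, by decide⟩
      refine Subtype.ext (funext fun j => ?_)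
      fin_cases j
      exacts [rfl, rfl, h2, (congrArg (· ^ q) h2).trans ((hmem _).1 c.2 ⟨3, by decide⟩)]
  have hker : (torHom chevD4 K).ker ⊓ fixParam X.S πi πlt = ⊥ := by
    rw [eq_bot_iff]
    intro c hc
    obtain ⟨hc1, hc2⟩ := Subgroup.mem_inf.1 hc
    have h1 : matHom (cartanMat chevD4) c = 1 := by
      rw [ker_torHom hC] at hc1
      exact hc1
    have h2 := congrArg (matHom adj) h1
    rw [← matHom_mul, adj_ok, map_one] at h2
    have hsq : ∀ j, c j ^ 2 = 1 := fun j => by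
      have h4 := congrFun h2 j
      rw [matHom_apply, Finset.prod_eq_single j (fun i _ hne => by simp [Matrix.one_apply_ne hne.symm])
        (by simp)] at h4
      simpa [zpow_ofNat] using h4
    obtain ⟨v, hv⟩ : ∃ v : Fin 4 → Kˣ, v = c := ⟨c, rfl⟩
    obtain ⟨r0, r1⟩ := ker_rel v (hv ▸ h1)
    have hv2 : ∀ j : Fin 4, v j ^ 2 = 1 := fun j => hv ▸ hsq j
    have f2 : v 0 ^ q = v 2 := hv ▸ (hmem c).1 hc2 ⟨2, by decide⟩
    have f3 : v 2 ^ q = v 3 := hv ▸ (hmem c).1 hc2 ⟨3, by decide⟩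
    have hodd : ∀ u : Kˣ, u ^ 2 = 1 → u ^ q = u := by
      intro u hu
      rcases Nat.even_or_odd q with hev | ⟨m, hm⟩
      · -- in characteristic two the square root of one is one
        have hu' : (u : K) = 1 ∨ (u : K) = -1 := by
          rw [← sq_eq_one_iff, ← Units.val_pow_eq_pow_val, hu, Units.val_one]
        obtain ⟨p, k, hp, hk, hpk⟩ := hq
        have hp2 : p = 2 := by
          obtain ⟨m, hm⟩ := hev
          have h2 : 2 ∣ p ^ k := hpk ▸ ⟨m, by omega⟩
          exact ((Nat.prime_dvd_prime_iff_eq Nat.prime_two hp.nat_prime).1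
            (Nat.prime_two.dvd_of_dvd_pow h2)).symm
        have hneg : (-1 : K) = 1 := by
          have hc : ((Fintype.card K : ℕ) : K) = 0 := FiniteField.cast_card_eq_zero K
          rw [hK, ← hpk, hp2, Nat.cast_pow, Nat.cast_pow] at hc
          have h20 : ((2 : ℕ) : K) = 0 := by
            have := pow_eq_zero_iff (n := k) (by omega) |>.1 (pow_eq_zero_iff (n := 3) (by omega) |>.1 hc)
            exact this
          rw [neg_eq_iff_add_eq_zero]
          simpa [one_add_one_eq_two] using h20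
        have hu1 : u = 1 := Units.val_eq_one.1 (hu'.elim id fun e => e.trans hneg)
        rw [hu1, one_pow]
      · rw [hm, pow_succ, pow_mul, hu, one_pow, one_mul]
    have e2 : v 2 = v 0 := by rw [← f2, hodd _ (hv2 0)]
    have e3 : v 3 = v 0 := by rw [← f3, e2, hodd _ (hv2 0)]
    have e1 : v 1 = 1 := by rw [← r0, hv2]
    have e0 : v 0 = 1 := by
      rw [e1, one_pow, e2, e3, ← sq, hv2, one_mul] at r1
      exact r1.symm
    subst hv
    refine Subgroup.mem_bot.2 ?_
    funext j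
    fin_cases j
    exacts [e0, e1, e2.trans e0, e3.trans e0]
  rw [hker, Subgroup.card_bot, one_mul, hfp] at key
  rw [key, Nat.card_prod, card_powfix_units hK, Nat.card_units, Nat.card_eq_fintype_card, hK]
  have h3 : q ^ 3 - 1 = (q - 1) * (q ^ 2 + q + 1) := by
    obtain ⟨m, rfl⟩ : ∃ m, q = m + 1 := ⟨q - 1, by omega⟩
    rw [Nat.add_sub_cancel, Nat.sub_eq_iff_eq_add (Nat.one_le_pow _ _ (by omega))]
    ring
  rw [h3]
  ring

theorem card_group (hq : IsPrimePow q) :
    Nat.card (twistedD4 K q) = q ^ 12 * (q ^ 2 - 1) * (q ^ 6 - 1) * (q ^ 8 + q ^ 4 + 1) := by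
  obtain ⟨E, hE, hcov, hdist, hlens⟩ := exists_transversal X.O (Js := Js) X.k_eq X.J_eq
    (C := Data.TW3D4.blocks) (n := 12) (fun k hk => range_ok WChecks.d4_ok (Nat.zero_le k) (by omega))
    (k₀ := 9) (by decide) WChecks.d4_zero
  rw [Twist.card_K X.gen hE hcov hdist, card_B_K X.gen, sum_Uw X.gen (card_Uw_orbit X hq) hE hlens,
    card_U X hq, card_H X hq]
  have hq1 : 1 ≤ q := (by decide : 1 ≤ 2).trans hq.two_le
  have h := congrArg (fun p => evalP p (q : ℤ)) WChecks.d4_poly
  simp only [eval_prodP, List.map_cons, List.map_nil, List.prod_cons, List.prod_nil, eval_addP,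
    eval_monP, eval_genP] at h
  obtain ⟨S', hS⟩ : ∃ S', S' = ((lensOf Data.TW3D4.blocks 12).map fun l => q ^ l).sum := ⟨_, rfl⟩
  have hS' : ((lensOf Data.TW3D4.blocks 12).map fun l => (q : ℤ) ^ l).sum = (S' : ℤ) := by
    rw [hS, Nat.cast_list_sum, List.map_map]; simp [Function.comp_def]
  rw [hS'] at h
  rw [← hS]
  zify [hq1, Nat.one_le_pow _ _ hq1]
  simp only [evalP, List.foldr_cons, List.foldr_nil] at h
  linear_combination ((q : ℤ) ^ 12) * h

end Cfsg.Agent.Chevalley.Twist.D4
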