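import Cfsg.Agent.Lib.Chevalley.Twist.SimpleF4
import Cfsg.Agent.Lib.Chevalley.Twist.CountE6
import Cfsg.Agent.Lib.Chevalley.Data.TW2F4

/-!
The orders of the twisted groups of type F4 and of their standard subgroups.
-/

set_option autoImplicit false

open scoped Matrix

namespace Cfsg.Agent.Chevalley.Twist.F4

open Cfsg.Lie Cfsg.Agent.Chevalley Cfsg.Agent.Chevalley.Table Cfsg.Agent.Chevalley.Cert
  Cfsg.Agent.Chevalley.Group Cfsg.Agent.Chevalley.TorusCard Cfsg.Agent.Chevalley.Poincare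
  Cfsg.Agent.Chevalley.WeylEnum Cfsg.Agent.Chevalley.NormalForm

theorem w_ok : rangeChk Data.F4.tab Js Data.TW2F4.blocks 16 0 16 = true := by decide +kernel

theorem w_zero : (nth2 Data.TW2F4.blocks 9).len = 0 := by decide +kernel

theorem w_even : ∀ l ∈ lensOf Data.TW2F4.blocks 16, 2 * (l / 2) = l := by decide +kernel

theorem w_poly : prodP [[-1, 1], [-1, 1], genP ((lensOf Data.TW2F4.blocks 16).map (· / 2))] =
    prodP [[-1, 1], addP (monP 3) [1], addP (monP 4) [-1], addP (monP 6) [1]] := by decide +kernel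

theorem inv_card_ok : ∀ a < 2, ((Finset.range chevF4.nroots).filter fun r =>
    0 < Data.F4.tab.phi r ∧ Data.F4.tab.phi (applyW Data.F4.tab (Js.getD a []) r) < 0).card =
      [2, 4].getD a 0 := by decide +kernel

variable {K : Type*} [Field K] [Fintype K] [CharP K 2] {m : ℕ}
  {hK : Fintype.card K = 2 ^ (2 * m + 1)} (X : Setup (K := K) hK)
include X

theorem card_Uw_orbit : ∀ a < X.O.k, Nat.card (Uw X.S (X.O.J a)) ^ 2 =
    (2 ^ (2 * m + 1)) ^ (invSet chevF4 Data.F4.tab (X.O.J a)).card := by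
  intro a ha
  have hinv : (invSet chevF4 Data.F4.tab (X.O.J a)).card = [2, 4].getD a 0 := by
    rw [← inv_card_ok a (X.k_eq ▸ ha), invSet, ← X.J_eq]
    congr 1
    refine Finset.filter_congr fun r hr => ?_
    rw [show applyW Data.F4.tab (X.O.J a) r = wL chevF4 (X.O.J a) r from
      StConj.actT_foldr hC (X.O.J_lt a ha) (Finset.mem_range.1 hr)]
  rw [hinv]
  have ha2 : a < 2 := X.k_eq ▸ ha
  have hπ : ∀ i, X.S.π i = nodePi L i := fun i => by rw [X.π_eq]
  interval_cases a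
  · have hJ' : X.O.J 0 = [3, 0] := X.J_eq 0
    rw [hJ', card_Uw_orth X.O X.π_eq ha (J := [3, 0]) hJ' (orth0 X)
      (fun (t : K) k => if k = 3 then t else t ^ 2 ^ m) (fun t k hk => ?_) (fun t t' h => ?_)
      (fun f hf => ?_), Nat.card_eq_fintype_card, hK]
    · rfl
    · change k ∈ [3, 0] at hk
      simp only [List.mem_cons, List.not_mem_nil, or_false] at hk
      rcases hk with rfl | rfl
      · rw [hπ, X.hom_eq 3 (by decide)]; simp [nodePi]
      · rw [hπ, X.hom_eq 0 (by decide)]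
        simp only [nodePi, List.getD_cons_zero, show (0 : ℕ) ≠ 3 by decide, ↓reduceIte]
        rw [← pow_mul, ← pow_mul, show 2 ^ m * (2 * 2 ^ m) = 2 * (2 ^ m * 2 ^ m) by ring, pow_q hK]
    · have := h 3 (by simp)
      simpa using this
    · refine ⟨f 3, fun k hk => ?_⟩
      simp only [List.mem_cons, List.not_mem_nil, or_false] at hk
      rcases hk with rfl | rfl
      · rw [if_pos rfl]
      · have h3 := hf 3 (by simp)
        rw [hπ, X.hom_eq 3 (by decide)] at h3
        simpa [nodePi] using h3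
  · rw [J1 X]
    let g : K × K → Uw X.S [1, 2, 1, 2] :=
      fun p => ⟨cw (2 ^ m) 27 25 28 30 p.1 p.2, (X.cls _).2 ⟨p.1, p.2, rfl⟩⟩
    have hg : Function.Bijective g := by
      constructor
      · intro p p' h
        have h1 : cw (2 ^ m) 27 25 28 30 p.1 p.2 = cw (2 ^ m) 27 25 28 30 p'.1 p'.2 :=
          congrArg Subtype.val h
        rw [cw_eq_sf, cw_eq_sf] at h1
        have h2 := sf_inj h1
        exact Prod.ext (congrFun h2 0) (congrFun h2 2)
      · rintro ⟨u, hu⟩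
        obtain ⟨t, v, e⟩ := (X.cls u).1 hu
        exact ⟨(t, v), Subtype.ext e.symm⟩
    rw [← Nat.card_eq_of_bijective g hg, Nat.card_prod, Nat.card_eq_fintype_card, hK]
    simp only [List.getD_cons_succ, List.getD_cons_zero]
    ring

theorem card_U : Nat.card ↥(chevF4.posUnipotent K ⊓ twistedF4 K (2 ^ m)) = (2 ^ (2 * m + 1)) ^ 12 := by
  have h := card_U_K X.gen 2 _ (card_Uw_orbit X)
  rw [show chevF4.nroots / 2 = 12 * 2 by decide +kernel, pow_mul] at h
  exact Nat.pow_left_injective two_ne_zero h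

theorem card_H : Nat.card ↥(chevF4.diagonalSubgroup K ⊓ twistedF4 K (2 ^ m)) =
    (2 ^ (2 * m + 1) - 1) ^ 2 := by
  classical
  have hlt : ∀ j < chevF4.rank, nodePi L j < chevF4.rank := by decide
  have hinv' : ∀ j < 4, nodePi L (nodePi L j) = j := by decide
  have key := card_H_K X.S X.gen hlt (fun j hj => by rw [X.π_eq]; exact hinv' j hj) X.fix
  have hq : ∀ u : Kˣ, u ^ (2 * (2 ^ m * 2 ^ m)) = u :=
    fun u => Units.ext (by rw [Units.val_pow_eq_pow_val, pow_q hK])
  have hmem : ∀ c : Fin chevF4.rank → Kˣ, c ∈ fixParam X.S (nodePi L) hlt ↔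
      ∀ j : Fin chevF4.rank,
        ((c ⟨nodePi L j, hlt j j.2⟩) ^ (L.getD (nodePi L j) (0, 1)).2) ^ 2 ^ m = c j := by
    intro c
    rw [mem_fixParam]
    refine forall_congr' fun j => ?_
    rw [X.hom_eq _ (hlt j j.2), ← Units.val_pow_eq_pow_val, ← Units.val_pow_eq_pow_val, Units.val_inj]
  have hfp : Nat.card (fixParam X.S (nodePi L) hlt) = Nat.card (Kˣ × Kˣ) := by
    refine Nat.card_congr
      { toFun := fun c => (c.1 ⟨3, by decide⟩, c.1 ⟨2, by decide⟩)
        invFun := fun p => ⟨(![p.1 ^ 2 ^ m, p.2 ^ 2 ^ m, p.2, p.1] : Fin 4 → Kˣ),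
          (hmem _).2 fun j => ?_⟩
        left_inv := fun c => ?_
        right_inv := fun p => rfl }
    · fin_cases j
      · show (p.1 ^ 1) ^ 2 ^ m = _
        rw [pow_one]; rfl
      · show (p.2 ^ 1) ^ 2 ^ m = _
        rw [pow_one]; rfl
      · show ((p.2 ^ 2 ^ m) ^ 2) ^ 2 ^ m = p.2
        rw [← pow_mul, ← pow_mul, show 2 ^ m * (2 * 2 ^ m) = 2 * (2 ^ m * 2 ^ m) by ring, hq]
      · show ((p.1 ^ 2 ^ m) ^ 2) ^ 2 ^ m = p.1
        rw [← pow_mul, ← pow_mul, show 2 ^ m * (2 * 2 ^ m) = 2 * (2 ^ m * 2 ^ m) by ring, hq]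
    · refine Subtype.ext (funext fun j => ?_)
      have h0 := (hmem _).1 c.2 ⟨0, by decide⟩
      have h1 := (hmem _).1 c.2 ⟨1, by decide⟩
      fin_cases j
      · refine Eq.trans ?_ h0
        show _ = ((c.1 ⟨3, _⟩) ^ 1) ^ 2 ^ m
        rw [pow_one]; rfl
      · refine Eq.trans ?_ h1
        show _ = ((c.1 ⟨2, _⟩) ^ 1) ^ 2 ^ m
        rw [pow_one]; rfl
      · rfl
      · rfl
  have hker : (torHom chevF4 K).ker ⊓ fixParam X.S (nodePi L) hlt = ⊥ := by
    rw [eq_bot_iff]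
    intro c hc
    have hc1 := (Subgroup.mem_inf.1 hc).1
    rw [ker_torHom hC, MonoidHom.mem_ker] at hc1
    have h2 := congrArg (matHom adj) hc1
    rw [← matHom_mul, adj_ok, one_smul, matHom_one, map_one] at h2
    exact Subgroup.mem_bot.2 h2
  rw [hker, Subgroup.card_bot, one_mul, hfp] at key
  rw [key, Nat.card_prod, Nat.card_units, Nat.card_eq_fintype_card, hK, sq]

set_option maxHeartbeats 2000000 in
theorem card_group : Nat.card (twistedF4 K (2 ^ m)) = (2 ^ (2 * m + 1)) ^ 12 * (2 ^ (2 * m + 1) - 1) *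
    ((2 ^ (2 * m + 1)) ^ 3 + 1) * ((2 ^ (2 * m + 1)) ^ 4 - 1) * ((2 ^ (2 * m + 1)) ^ 6 + 1) := by
  obtain ⟨E, hE, hcov, hdist, hlens⟩ := exists_transversal X.O (Js := Js) X.k_eq X.J_eq
    (C := Data.TW2F4.blocks) (n := 16) (fun k hk => range_ok w_ok (Nat.zero_le k) (by omega))
    (k₀ := 9) (by decide) w_zero
  rw [Twist.card_K X.gen hE hcov hdist, card_B_K X.gen,
    sum_Uw_sq X.gen (card_Uw_orbit X) hE hlens w_even, card_U X, card_H X]
  obtain ⟨q, hq⟩ : ∃ q, q = 2 ^ (2 * m + 1) := ⟨_, rfl⟩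
  rw [← hq]
  have hq1 : 1 ≤ q := hq ▸ Nat.one_le_two_pow
  have h := congrArg (fun p => evalP p (q : ℤ)) w_poly
  simp only [eval_prodP, List.map_cons, List.map_nil, List.prod_cons, List.prod_nil, eval_addP,
    eval_monP, eval_genP] at h
  obtain ⟨S', hS⟩ : ∃ S', S' = ((lensOf Data.TW2F4.blocks 16).map fun l => q ^ (l / 2)).sum := ⟨_, rfl⟩
  have hS' : (((lensOf Data.TW2F4.blocks 16).map (· / 2)).map fun l => (q : ℤ) ^ l).sum = (S' : ℤ) := by
    rw [hS, Nat.cast_list_sum, List.map_map, List.map_map]; simp [Function.comp_def]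
  rw [hS'] at h
  rw [← hS]
  zify [hq1, Nat.one_le_pow _ _ hq1]
  simp only [evalP, List.foldr_cons, List.foldr_nil] at h
  linear_combination ((q : ℤ) ^ 12) * h

end Cfsg.Agent.Chevalley.Twist.F4
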