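import Cfsg.Agent.Lib.Chevalley.Twist.E6
import Cfsg.Agent.Lib.Chevalley.Types.OrderD4

/-!
The triality twisted groups are fixed groups.
-/

set_option autoImplicit false

open scoped Matrix

namespace Cfsg.Agent.Chevalley.Twist.D4

open Cfsg.Lie Cfsg.Agent.Chevalley Cfsg.Agent.Chevalley.Table Cfsg.Agent.Chevalley.Cert
  Cfsg.Agent.Chevalley.Group Cfsg.Agent.Chevalley.GraphAut Cfsg.Agent.Chevalley.TorusCard

abbrev hC : Certified chevD4 Data.D4.tab := Types.D4.certified

theorem hT : StKernel.HasCerts Data.D4.tab :=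
  ⟨⟨_, Types.CoefD4.coef_ok⟩, ⟨_, Types.StCerts.conj_D4⟩⟩

/-- The node images with exponents. -/
abbrev L : List (ℕ × ℕ) := [(2, 1), (1, 1), (3, 1), (0, 1)]

/-- The orbits. -/
abbrev Js : List (List ℕ) := [[1], [3, 2, 0]]

/-- A word for the longest element. -/
abbrev top : List ℕ := [0, 1, 0, 1, 0, 1]

/-- Preimages of the nodes. -/
abbrev πi (j : ℕ) : ℕ := [3, 1, 0, 2].getD j 0

/-- An integral multiple of the inverse of the transposed Cartan matrix. -/
abbrev adj : Matrix (Fin chevD4.rank) (Fin chevD4.rank) ℤ :=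
  (!![2, 2, 1, 1; 2, 4, 2, 2; 1, 2, 2, 1; 1, 2, 1, 2] : Matrix (Fin 4) (Fin 4) ℤ)

theorem orbits_ok : orbitsChk Data.D4.tab Types.GAut.tabD4a (nodePi L) Js top = true := by
  decide +kernel

theorem orth_ok : ∀ a < 2, orthChk Data.D4.tab (nodePi L) (Js.getD a []) = true := by
  decide +kernel

theorem adj_ok : adj * cartanMat chevD4 = (2 : ℤ) • (1 : Matrix (Fin chevD4.rank) (Fin chevD4.rank) ℤ) := by
  decide +kernel

theorem disjoint_ok : ∀ a < 2, ∀ b < 2, ∀ i ∈ Js.getD a [], i ∈ Js.getD b [] → a = b := by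
  decide +kernel

variable {K : Type*} [Field K] [Fintype K] {q : ℕ}

/-- The data of the twisted group. -/
structure Setup (hK : Fintype.card K = q ^ 3) where
  S : Tw hC K
  O : Orbits S
  ρ_eq : S.ρ = Types.GAut.tabD4a.ρ
  π_eq : S.π = nodePi L
  hom_eq : ∀ i < 4, ∀ t, S.hom i t = t ^ q
  k_eq : O.k = 2
  J_eq : ∀ a, O.J a = Js.getD a []
  gen : GenData O (twistedD4 K q)
  fix : ∀ c : ℕ → Kˣ, tor chevD4 c ∈ Fx S → ∃ c' : ℕ → Kˣ, tor chevD4 c' = tor chevD4 c ∧
    ∀ i < chevD4.rank, (c' (S.π i) : K) = S.hom i (c' i : K)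

theorem qqq (hK : Fintype.card K = q ^ 3) (t : K) : ((t ^ q) ^ q) ^ q = t := by
  rw [← pow_mul, ← pow_mul, show q * (q * q) = q ^ 3 by ring, ← hK, FiniteField.pow_card]

set_option maxHeartbeats 1000000 in
theorem exists_setup (hq : IsPrimePow q) (hK : Fintype.card K = q ^ 3) :
    Nonempty (Setup (K := K) hK) := by
  classical
  obtain ⟨θ, hθ⟩ := E6.exists_powq hq three_ne_zero hK
  obtain ⟨S, hρ, hπ, hhom, -⟩ := exists_tw (hC := hC) hT (Or.inl rfl : CharOK K 0)
    Types.GAut.rel_D4a Types.GAut.onto_D4a Types.GAut.simple_D4a θ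
  obtain ⟨O, hk, hJ, -⟩ := exists_orbits (S := S) hρ (Js := Js) (top := top)
    (by rw [hπ]; exact orbits_ok)
  replace hk : O.k = 2 := hk
  have hπ' : ∀ i, S.π i = nodePi L i := fun i => by rw [hπ]
  have hhom' : ∀ i < 4, ∀ t, S.hom i t = t ^ q := fun i hi t => by
    have e : (L.getD i (0, 1)).2 = 1 := by revert i; decide
    rw [hhom i hi, hθ, show (([(2, 1), (1, 1), (3, 1), (0, 1)] : List (ℕ × ℕ)).getD i
      (0, 1)).2 = 1 from e, pow_one]
  have hOr : ∀ a < O.k, Orth hC (nodePi L) (O.J a) := fun a ha => by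
    rw [hJ]; exact orth_of_chk hC (orth_ok a (hk ▸ ha))
  have hOr' : ∀ a < 2, Orth hC (nodePi L) (Js.getD a []) := fun a ha => orth_of_chk hC (orth_ok a ha)
  have hp3 : ([0, 2, 3] : List ℕ).Perm [3, 2, 0] := by decide
  have htriple : ∀ (rt : ℕ → ℕ), Signed chevD4 rt → ∀ f : ℕ → K,
      wordGL hC [(rt 0, f 0), (rt 2, f 2), (rt 3, f 3)] = opr hC rt [3, 2, 0] f := fun rt hrt f => by
    rw [← opr_perm (J := [3, 2, 0]) (hOr' 1 (by decide)) hrt hp3 f]; rfl
  have hle : twistedD4 K q ≤ Fx S := by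
    rw [twistedD4, genSubgroup_eq hC, Subgroup.closure_le]
    rintro g ⟨w, hw, rfl⟩
    rcases hw with ⟨t, ht, r, hr, rfl⟩ | ⟨t, rs, hrs, rfl⟩
    · have hgen : ∀ (rt : ℕ → ℕ), Signed chevD4 rt → wordGL hC [(rt 1, t)] ∈ Fx S := by
        intro rt hrt
        show opr hC rt [1] (fun _ => t) ∈ Fx S
        refine opr_fixed (hOr' 0 (by decide)) hπ hrt fun j hj => ?_
        rw [hhom' j ((hOr' 0 (by decide)).lt j hj), ht]
      simp only [List.mem_cons, List.not_mem_nil, or_false] at hr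
      rcases hr with rfl | rfl
      · exact hgen chevD4.simple (Or.inl rfl)
      · exact hgen (fun i => chevD4.neg (chevD4.simple i)) (Or.inr rfl)
    · have hgen : ∀ (rt : ℕ → ℕ), Signed chevD4 rt →
          wordGL hC [(rt 0, t), (rt 2, t ^ q), (rt 3, t ^ q ^ 2)] ∈ Fx S := by
        intro rt hrt
        have hh := htriple rt hrt (fun k => if k = 0 then t else if k = 2 then t ^ q else t ^ q ^ 2)
        have e0 : ((0 : ℕ) = 0) := rfl
        simp only [show (2 : ℕ) ≠ 0 from by decide, show (3 : ℕ) ≠ 0 from by decide,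
          show (3 : ℕ) ≠ 2 from by decide, if_true, if_false] at hh
        rw [hh]
        refine opr_fixed (hOr' 1 (by decide)) hπ hrt fun k hk' => ?_
        rw [hπ', hhom' k ((hOr' 1 (by decide)).lt k hk')]
        change k ∈ [3, 2, 0] at hk'
        simp only [List.mem_cons, List.not_mem_nil, or_false] at hk'
        rcases hk' with rfl | rfl | rfl <;>
          simp [nodePi, sq, pow_mul, qqq hK]
      simp only [List.mem_cons, List.not_mem_nil, or_false] at hrs
      rcases hrs with rfl | rfl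
      · exact hgen chevD4.simple (Or.inl rfl)
      · exact hgen (fun i => chevD4.neg (chevD4.simple i)) (Or.inr rfl)
  have hmem : ∀ a < O.k, ∀ f : ℕ → K, (∀ i ∈ O.J a, f (S.π i) = S.hom i (f i)) →
      opr hC chevD4.simple (O.J a) f ∈ twistedD4 K q ∧
        opr hC (fun i => chevD4.neg (chevD4.simple i)) (O.J a) f ∈ twistedD4 K q := by
    intro a ha f hf
    rw [hk] at ha
    rw [hJ] at hf ⊢
    interval_cases a
    · have ht : f 1 ^ q = f 1 := by
        have h := hf 1 (by decide); rw [hπ', hhom' 1 (by decide)] at h; exact h.symm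
      exact ⟨wordGL_mem (w := [(d4p2, f 1)]) (Or.inl ⟨f 1, ht, d4p2, by simp, rfl⟩),
        wordGL_mem (w := [(d4m2, f 1)]) (Or.inl ⟨f 1, ht, d4m2, by simp, rfl⟩)⟩
    · have e : f 2 = f 0 ^ q := by
        have h := hf 0 (by decide); rw [hπ', hhom' 0 (by decide)] at h; exact h
      have e' : f 3 = f 0 ^ q ^ 2 := by
        have h := hf 2 (by decide); rw [hπ', hhom' 2 (by decide), e, ← pow_mul, ← sq] at h; exact h
      show opr hC chevD4.simple [3, 2, 0] f ∈ twistedD4 K q ∧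
        opr hC (fun i => chevD4.neg (chevD4.simple i)) [3, 2, 0] f ∈ twistedD4 K q
      rw [← htriple _ (Or.inl rfl) f, ← htriple _ (Or.inr rfl) f, e, e']
      exact ⟨wordGL_mem (Or.inr ⟨f 0, (d4p1, d4p3, d4p4), by simp, rfl⟩),
        wordGL_mem (Or.inr ⟨f 0, (d4m1, d4m3, d4m4), by simp, rfl⟩)⟩
  have hπlt : ∀ j < chevD4.rank, πi j < chevD4.rank := by decide
  have hπinv : ∀ j < chevD4.rank, nodePi L (πi j) = j := by decide
  have hπ3 : ∀ j < chevD4.rank, πi (πi (πi j)) = j := by decide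
  have hfix : ∀ c : ℕ → Kˣ, tor chevD4 c ∈ Fx S → ∃ c' : ℕ → Kˣ, tor chevD4 c' = tor chevD4 c ∧
      ∀ i < chevD4.rank, (c' (S.π i) : K) = S.hom i (c' i : K) := by
    intro c hc
    refine exists_fixed_param S (πi := πi) hπlt (fun j hj => by rw [hπ', hπinv j hj])
      (fun d hd => ?_) hc
    obtain ⟨τ, hτ⟩ : ∃ τ, τ = tau S πi hπlt := ⟨_, rfl⟩
    rw [← hτ] at hd ⊢
    have hτ3 : ∀ d, τ (τ (τ d)) = d := fun d => funext fun j => Units.ext (by
      rw [hτ]
      show S.hom (πi j) (S.hom (πi (πi j)) (S.hom (πi (πi (πi j))) (d ⟨_, _⟩ : K))) = _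
      rw [hhom' _ (hπlt j j.2), hhom' _ (hπlt _ (hπlt j j.2)),
        hhom' _ (hπlt _ (hπlt _ (hπlt j j.2))), qqq hK]
      congr 2
      exact Fin.ext (hπ3 j j.2))
    obtain ⟨z, hz⟩ : ∃ z, z = τ d * d⁻¹ := ⟨_, rfl⟩
    have hzker : z ∈ (torHom chevD4 K).ker := by
      rw [hz, MonoidHom.mem_ker, map_mul, map_inv, hd, mul_inv_cancel]
    -- the kernel has exponent two
    have hsq : ∀ z ∈ (torHom chevD4 K).ker, z * z = 1 := by
      intro z hzker
      have h1 : matHom (cartanMat chevD4) z = 1 := by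
        rw [ker_torHom hC] at hzker; exact hzker
      have h2 := congrArg (matHom adj) h1
      rw [← matHom_mul, adj_ok, map_one] at h2
      funext j
      have h3 := congrFun h2 j
      rw [matHom_apply, Finset.prod_eq_single j (fun i _ hne => by simp [Matrix.one_apply_ne hne.symm])
        (by simp)] at h3
      simpa [zpow_ofNat, sq] using h3
    have hτker : ∀ z ∈ (torHom chevD4 K).ker, τ z ∈ (torHom chevD4 K).ker := by
      intro w hw
      rw [MonoidHom.mem_ker] at hw ⊢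
      have h := img_torHom S hπlt (fun j hj => by rw [hπ', hπinv j hj]) w
      rw [hw, ← hτ] at h
      exact h.unique Img.one
    refine ⟨τ z, hτker z hzker, ?_⟩
    have hτz : τ (τ z) = (z * τ z)⁻¹ := by
      rw [eq_inv_iff_mul_eq_one, hz]
      simp only [map_mul, map_inv, hτ3]
      simp [mul_comm, mul_left_comm, mul_assoc]
    have h1 := hsq _ (hτker z hzker)
    rw [map_mul, hτz, show τ d = z * d by rw [hz, inv_mul_cancel_right], mul_inv_rev]
    calc z * d * ((τ z)⁻¹ * z⁻¹) = d * (τ z)⁻¹ := by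
          rw [mul_comm z d, mul_assoc, mul_comm (τ z)⁻¹, ← mul_assoc z, mul_inv_cancel, one_mul]
      _ = d * τ z := by rw [inv_eq_of_mul_eq_one_right h1]
  have hgen : GenData O (twistedD4 K q) :=
    genData_of_orth O hπ hOr (fun a ha b hb i h1 h2 => disjoint_ok a (hk ▸ ha) b (hk ▸ hb) i
      (hJ a ▸ h1) (hJ b ▸ h2)) hle hmem hfix
  exact ⟨⟨S, O, hρ, hπ, hhom', hk, hJ, hgen, hfix⟩⟩

end Cfsg.Agent.Chevalley.Twist.D4
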