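import Cfsg.Agent.Lib.Chevalley.Twist.SimpleE6
import Cfsg.Agent.Lib.Chevalley.Twist.D4

/-!
Perfectness and simplicity of the triality twisted groups.
-/

set_option autoImplicit false

open scoped Matrix commutatorElement

namespace Cfsg.Agent.Chevalley.Twist.D4

open Cfsg.Lie Cfsg.Agent.Chevalley Cfsg.Agent.Chevalley.Table Cfsg.Agent.Chevalley.Cert
  Cfsg.Agent.Chevalley.Group Cfsg.Agent.Chevalley.NormalForm

theorem conn_ok : connOrb Data.D4.tab Js = true := by decide +kernel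

theorem sing_ok : singOrb Data.D4.tab 1 1 [3, 2, 0] [3, 2, 0, 1] = true := by decide +kernel

theorem cart320 : ∀ i ∈ [3, 2, 0], ∀ l ∈ [3, 2, 0],
    chevD4.cartan l (chevD4.simple i) = if l = i then 2 else 0 := by decide +kernel

variable {K : Type*} [Field K] [Fintype K] {q : ℕ} {hK : Fintype.card K = q ^ 3}
  (X : Setup (K := K) hK)
include X

theorem hOr : ∀ a < X.O.k, Orth hC (nodePi L) (X.O.J a) := fun a ha => by
  rw [X.J_eq]; exact orth_of_chk hC (orth_ok a (X.k_eq ▸ ha))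

theorem hne : ∀ a < X.O.k, ∃ x ∈ Fx X.S, x ≠ 1 ∧ ∀ c : ℕ → Kˣ,
    x ∈ Uminus chevD4 K (tor chevD4 c * nL hC K (X.O.J a)) :=
  fun _ ha => exists_unip_ne X.O X.π_eq (hOr X) ha

theorem core : ((chevD4.borelSubgroup K ⊓ twistedD4 K q).subgroupOf (twistedD4 K q)).normalCore = ⊥ :=
  core_eq_bot X.gen (sep_of_orth X.O X.π_eq (hOr X))

theorem perfect (hq : IsPrimePow q) : commutator (twistedD4 K q) = ⊤ := by
  refine perfect_of_orth X.gen X.π_eq (hOr X)
    (fun a ha b hb i h1 h2 => disjoint_ok a (X.k_eq ▸ ha) b (X.k_eq ▸ hb) i (X.J_eq a ▸ h1)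
      (X.J_eq b ▸ h2)) X.fix fun a ha f hf => ?_
  have h4 : 4 ≤ Fintype.card K := by
    rw [hK]
    calc 4 ≤ 2 ^ 3 := by norm_num
      _ ≤ q ^ 3 := Nat.pow_le_pow_left hq.two_le 3
  obtain ⟨x, hx⟩ := E6.exists_sq_ne_one h4
  have hpow : ∀ y : K, y ^ 2 ≠ 1 → (y ^ q) ^ 2 ≠ 1 := fun y hy e => hy (by
    have := congrArg (fun z => (z ^ q) ^ q) e
    simp only [one_pow] at this
    rw [← qqq hK (y ^ 2), pow_right_comm y 2 q]
    exact this)
  rw [X.k_eq] at ha
  rw [X.J_eq] at hf ⊢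
  interval_cases a
  · exact opr_single_of_chk X.gen X.π_eq (hOr X) (orth_of_chk hC (orth_ok 0 (by decide)))
      (orth_of_chk hC (orth_ok 0 (by decide))) (Pa := [1]) (Wa := [1, 0]) (by simp [X.k_eq])
      (by simp [X.k_eq]) (by simp [X.J_eq]) (by simp [X.J_eq]) sing_ok hf
  · have hO : Orth hC (nodePi L) [3, 2, 0] := orth_of_chk hC (orth_ok 1 (by decide))
    refine opr_toral_orth (f := f) (J := [3, 2, 0]) X.gen X.π_eq hO
      (fun u => if u = 0 then x else if u = 2 then x ^ q else (x ^ q) ^ q) (fun u hu => ?_)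
      cart320 (fun u _ => ?_) hf
    · rw [X.π_eq, X.hom_eq u (hO.lt u hu)]
      simp only [List.mem_cons, List.not_mem_nil, or_false] at hu
      rcases hu with rfl | rfl | rfl <;> simp [nodePi, qqq hK]
    · split_ifs
      · exact hx
      · rw [Units.val_pow_eq_pow_val]; exact hpow _ hx
      · rw [Units.val_pow_eq_pow_val, Units.val_pow_eq_pow_val]; exact hpow _ (hpow _ hx)

theorem isSimple (hq : IsPrimePow q) :
    IsSimpleGroup (twistedD4 K q) ∧ ¬ IsMulCommutative (twistedD4 K q) :=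
  isSimpleK X.gen (by decide) (hne X)
    (conn_of_chk X.O (Js := Js) X.k_eq X.J_eq conn_ok) (sep_of_orth X.O X.π_eq (hOr X)) (perfect X hq)

end Cfsg.Agent.Chevalley.Twist.D4
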