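import Cfsg.Agent.Lib.Chevalley.Twist.RankOne

/-!
The fixed group is the group of the words, when all orbits are orthogonal.
-/

set_option autoImplicit false

open scoped Matrix

namespace Cfsg.Agent.Chevalley.Twist

open Cfsg.Lie Cfsg.Agent.Chevalley.Table Cfsg.Agent.Chevalley.Cert Cfsg.Agent.Chevalley.Group
  Cfsg.Agent.Chevalley.NormalForm Cfsg.Agent.Chevalley.TorusCard

variable {D : ChevalleyDatum} {F : Type*} [Field F] {T : Tab} {hC : Certified D T} {S : Tw hC F}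

theorem genData_of_orth (O : Orbits S) {π : ℕ → ℕ} (hπ : S.π = π)
    (hO : ∀ a < O.k, Orth hC π (O.J a))
    (hdisj : ∀ a < O.k, ∀ b < O.k, ∀ i ∈ O.J a, i ∈ O.J b → a = b)
    {K : Subgroup (GL D.Idx F)} (hle : K ≤ Fx S)
    (hmem : ∀ a < O.k, ∀ f : ℕ → F, (∀ i ∈ O.J a, f (S.π i) = S.hom i (f i)) →
      opr hC D.simple (O.J a) f ∈ K ∧ opr hC (fun i => D.neg (D.simple i)) (O.J a) f ∈ K)
    (hfix : ∀ c : ℕ → Fˣ, tor D c ∈ Fx S →
      ∃ c' : ℕ → Fˣ, tor D c' = tor D c ∧ ∀ i < D.rank, (c' (S.π i) : F) = S.hom i (c' i : F)) :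
    GenData O K where
  le := hle
  torus c hc := by
    obtain ⟨c', e, hc'⟩ := hfix c hc
    rw [← e]
    refine tor_mem_of_orbits S O hdisj (fun a ha d hd => ?_) hc'
    have hJ := O.J_lt a ha
    obtain ⟨d', hd', e'⟩ := onr_tor (hC := hC) (O.J a) (orth_nodup (hO a ha)) hJ d
    rw [show (fun i => if i ∈ O.J a then d i else 1) = d' from funext fun i => (hd' i).symm, ← e',
      hg_prod_eq (hO a ha) (fun i => (d i : F)) _ (orth_nodup (hO a ha)) fun _ h => h]
    refine mul_mem (onr_mem (hO a ha) (hmem a ha _ fun i hi => hd i (hJ i hi)).1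
      (hmem a ha _ fun i hi => ?_).2) (onr_mem (hO a ha) (hmem a ha _ fun i _ => ?_).1
      (hmem a ha _ fun i _ => ?_).2)
    · simp only [map_neg, map_inv₀, hd i (hJ i hi)]
    · simp
    · simp
  mono a ha := ⟨1, by
    rw [tor_one, one_mul, ← onr_one (hC := hC) (O.J a)]
    exact onr_mem (hO a ha) (hmem a ha _ fun i _ => (map_one _).symm).1
      (hmem a ha _ fun i _ => by simp).2⟩
  unip a ha u hu c hU := by
    obtain ⟨f, hf, rfl⟩ := fixed_Uminus (hO a ha) hπ hu hU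
    exact (hmem a ha f hf).1

theorem exists_unip_ne (O : Orbits S) {π : ℕ → ℕ} (hπ : S.π = π)
    (hO : ∀ a < O.k, Orth hC π (O.J a)) {a : ℕ} (ha : a < O.k) :
    ∃ x ∈ Fx S, x ≠ 1 ∧ ∀ c : ℕ → Fˣ, x ∈ Uminus D F (tor D c * nL hC F (O.J a)) := by
  refine ⟨opr hC D.simple (O.J a) (fun _ => 1),
    opr_fixed (hO a ha) hπ (Or.inl rfl) (fun i _ => (map_one _).symm), fun h => ?_, fun c => ?_⟩
  · obtain ⟨i, hi⟩ : ∃ i, i ∈ O.J a := List.exists_mem_of_ne_nil _ (O.ne a ha)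
    rw [← opr_zero (hC := hC) (rt := D.simple) (O.J a)] at h
    exact one_ne_zero (opr_unique (hO a ha) h i hi)
  · rw [Uminus_eq hC (O.J_lt a ha) c]
    refine list_prod_mem fun g hg => ?_
    obtain ⟨i, hi, rfl⟩ := List.mem_map.1 hg
    have hir := O.J_lt a ha i hi
    exact Subgroup.subset_closure ⟨D.simple i, 1, (mem_invList hC).2
      ⟨hC.simple_lt hir, hC.phi_simple hir, O.neg_simple a ha i hi⟩, rfl⟩

end Cfsg.Agent.Chevalley.Twist
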