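import Cfsg.Prelude.Def_LieTwisted
import Cfsg.Agent.Lib.Chevalley.Twist.OrthGen
import Cfsg.Agent.Lib.Chevalley.Types.GAut
import Cfsg.Agent.Lib.Chevalley.Types.OrderE6

/-!
The twisted groups of type E6 are fixed groups.
-/

set_option autoImplicit false

open scoped Matrix

namespace Cfsg.Agent.Chevalley.Twist.E6

open Cfsg.Lie Cfsg.Agent.Chevalley Cfsg.Agent.Chevalley.Table Cfsg.Agent.Chevalley.Cert
  Cfsg.Agent.Chevalley.Group Cfsg.Agent.Chevalley.GraphAut Cfsg.Agent.Chevalley.TorusCard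

abbrev hC : Certified chevE6 Data.E6.tab := Types.E6.certified

theorem hT : StKernel.HasCerts Data.E6.tab :=
  ⟨⟨_, Types.CoefE6.coef_ok⟩, ⟨_, Types.StCerts.conj_E6⟩⟩

/-- The node images with exponents. -/
abbrev L : List (ℕ × ℕ) := [(5, 1), (1, 1), (4, 1), (3, 1), (2, 1), (0, 1)]

/-- The orbits. -/
abbrev Js : List (List ℕ) := [[1], [3], [4, 2], [5, 0]]

/-- A word for the longest element. -/
abbrev top : List ℕ :=
  [0, 1, 0, 3, 2, 1, 0, 3, 2, 1, 0, 3, 2, 1, 0, 3, 2, 1, 0, 3, 2, 1, 3, 2]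

/-- An integral multiple of the inverse of the transposed Cartan matrix. -/
abbrev adj : Matrix (Fin chevE6.rank) (Fin chevE6.rank) ℤ :=
  (!![4, 3, 5, 6, 4, 2; 3, 6, 6, 9, 6, 3; 5, 6, 10, 12, 8, 4; 6, 9, 12, 18, 12, 6;
    4, 6, 8, 12, 10, 5; 2, 3, 4, 6, 5, 4] : Matrix (Fin 6) (Fin 6) ℤ)

theorem orbits_ok : orbitsChk Data.E6.tab Types.GAut.tabE6 (nodePi L) Js top = true := by
  decide +kernel

theorem orth_ok : ∀ a < 4, orthChk Data.E6.tab (nodePi L) (Js.getD a []) = true := by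
  decide +kernel

theorem adj_ok : adj * cartanMat chevE6 = (3 : ℤ) • (1 : Matrix (Fin chevE6.rank) (Fin chevE6.rank) ℤ) := by
  decide +kernel

theorem disjoint_ok : ∀ a < 4, ∀ b < 4, ∀ i ∈ Js.getD a [], i ∈ Js.getD b [] → a = b := by
  decide +kernel

variable {K : Type*} [Field K] [Fintype K] {q : ℕ}

/-- The data of the twisted group. -/
structure Setup (hK : Fintype.card K = q ^ 2) where
  S : Tw hC K
  O : Orbits S
  ρ_eq : S.ρ = Types.GAut.tabE6.ρ
  π_eq : S.π = nodePi L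
  hom_eq : ∀ i < 6, ∀ t, S.hom i t = t ^ q
  k_eq : O.k = 4
  J_eq : ∀ a, O.J a = Js.getD a []
  gen : GenData O (twistedE6 K q)
  fix : ∀ c : ℕ → Kˣ, tor chevE6 c ∈ Fx S → ∃ c' : ℕ → Kˣ, tor chevE6 c' = tor chevE6 c ∧
    ∀ i < chevE6.rank, (c' (S.π i) : K) = S.hom i (c' i : K)

/-- `t ↦ t^q` is a ring endomorphism. -/
theorem exists_powq (hq : IsPrimePow q) {n : ℕ} (hn : n ≠ 0) (hK : Fintype.card K = q ^ n) :
    ∃ θ : K →+* K, ∀ t, θ t = t ^ q := by
  obtain ⟨p, k, hp, hk, rfl⟩ := hq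
  haveI : Fact p.Prime := ⟨hp.nat_prime⟩
  obtain ⟨p', hp'⟩ := CharP.exists K
  haveI := hp'
  obtain ⟨m, hp'pr, hcard⟩ := FiniteField.card K p'
  have e : p' = p := by
    rw [hK, ← pow_mul] at hcard
    have h1 : p' ∣ p ^ (k * n) := hcard ▸ dvd_pow_self p' m.ne_zero
    exact (Nat.prime_dvd_prime_iff_eq hp'pr hp.nat_prime).1 (hp'pr.dvd_of_dvd_pow h1)
  subst e
  exact ⟨iterateFrobenius K p' k, fun t => iterateFrobenius_def p' k t⟩

theorem exists_setup (hq : IsPrimePow q) (hK : Fintype.card K = q ^ 2) : Nonempty (Setup (K := K) hK) := by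
  classical
  obtain ⟨θ, hθ⟩ := exists_powq hq two_ne_zero hK
  have hqq : ∀ t : K, (t ^ q) ^ q = t := fun t => by
    rw [← pow_mul, ← pow_two, ← hK, FiniteField.pow_card]
  obtain ⟨S, hρ, hπ, hhom, -⟩ := exists_tw (hC := hC) hT (Or.inl rfl : CharOK K 0)
    Types.GAut.rel_E6 Types.GAut.onto_E6 Types.GAut.simple_E6 θ
  obtain ⟨O, hk, hJ, -⟩ := exists_orbits (S := S) hρ (Js := Js) (top := top)
    (by rw [hπ]; exact orbits_ok)
  replace hk : O.k = 4 := hk
  have hπ' : ∀ i, S.π i = nodePi L i := fun i => by rw [hπ]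
  have hhom' : ∀ i < 6, ∀ t, S.hom i t = t ^ q := fun i hi t => by
    have e : (L.getD i (0, 1)).2 = 1 := by revert i; decide
    rw [hhom i hi, hθ, show (([(5, 1), (1, 1), (4, 1), (3, 1), (2, 1), (0, 1)] : List (ℕ × ℕ)).getD i
      (0, 1)).2 = 1 from e, pow_one]
  have hOr : ∀ a < O.k, Orth hC (nodePi L) (O.J a) := fun a ha => by
    rw [hJ]; exact orth_of_chk hC (orth_ok a (hk ▸ ha))
  have hOr' : ∀ a < 4, Orth hC (nodePi L) (Js.getD a []) := fun a ha => orth_of_chk hC (orth_ok a ha)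
  -- the generators in terms of the orbits
  have hsingle : ∀ (rt : ℕ → ℕ) (i : ℕ) (f : ℕ → K),
      wordGL hC [(rt i, f i)] = opr hC rt [i] f := fun rt i f => rfl
  have hdouble : ∀ (rt : ℕ → ℕ), Signed chevE6 rt → ∀ (i j : ℕ) (f : ℕ → K) (a : ℕ), a < 4 →
      [i, j].Perm (Js.getD a []) →
      wordGL hC [(rt i, f i), (rt j, f j)] = opr hC rt (Js.getD a []) f := fun rt hrt i j f a ha hp => by
    rw [← opr_perm (hOr' a ha) hrt hp f]; rfl
  have hle : twistedE6 K q ≤ Fx S := by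
    rw [twistedE6, genSubgroup_eq hC, Subgroup.closure_le]
    rintro g ⟨w, hw, rfl⟩
    rcases hw with ⟨t, ht, r, hr, rfl⟩ | ⟨t, rs, hrs, rfl⟩
    · have hgen : ∀ (rt : ℕ → ℕ), Signed chevE6 rt → ∀ a < 4, ∀ i, Js.getD a [] = [i] →
          wordGL hC [(rt i, t)] ∈ Fx S := by
        intro rt hrt a ha i hi
        rw [hsingle rt i (fun _ => t), ← hi]
        refine opr_fixed (hOr' a ha) hπ hrt fun j hj => ?_
        rw [hhom' j ((hOr' a ha).lt j hj), ht]
      simp only [List.mem_cons, List.not_mem_nil, or_false] at hr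
      rcases hr with rfl | rfl | rfl | rfl
      · exact hgen _ (Or.inl rfl) 0 (by decide) 1 rfl
      · exact hgen _ (Or.inr rfl) 0 (by decide) 1 rfl
      · exact hgen _ (Or.inl rfl) 1 (by decide) 3 rfl
      · exact hgen _ (Or.inr rfl) 1 (by decide) 3 rfl
    · have hgen : ∀ (rt : ℕ → ℕ), Signed chevE6 rt → ∀ a < 4, ∀ i j, Js.getD a [] = [j, i] →
          nodePi L i = j → nodePi L j = i → i ≠ j →
          wordGL hC [(rt i, t), (rt j, t ^ q)] ∈ Fx S := by
        intro rt hrt a ha i j hij e1 e2 hne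
        have hh := hdouble rt hrt i j (fun k => if k = i then t else t ^ q) a ha
          (by rw [hij]; exact List.Perm.swap _ _ _)
        simp only [if_neg hne.symm, if_true] at hh
        rw [hh]
        refine opr_fixed (hOr' a ha) hπ hrt fun k hk' => ?_
        rw [hπ', hhom' k ((hOr' a ha).lt k hk')]
        rw [hij] at hk'
        simp only [List.mem_cons, List.not_mem_nil, or_false] at hk'
        rcases hk' with rfl | rfl
        · rw [e2, if_pos rfl, if_neg hne.symm, hqq]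
        · rw [e1, if_neg hne.symm, if_pos rfl]
      simp only [List.mem_cons, List.not_mem_nil, or_false] at hrs
      rcases hrs with rfl | rfl | rfl | rfl
      · exact hgen _ (Or.inl rfl) 3 (by decide) 0 5 rfl (by decide) (by decide) (by decide)
      · exact hgen _ (Or.inr rfl) 3 (by decide) 0 5 rfl (by decide) (by decide) (by decide)
      · exact hgen _ (Or.inl rfl) 2 (by decide) 2 4 rfl (by decide) (by decide) (by decide)
      · exact hgen _ (Or.inr rfl) 2 (by decide) 2 4 rfl (by decide) (by decide) (by decide)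
  have hmem : ∀ a < O.k, ∀ f : ℕ → K, (∀ i ∈ O.J a, f (S.π i) = S.hom i (f i)) →
      opr hC chevE6.simple (O.J a) f ∈ twistedE6 K q ∧
        opr hC (fun i => chevE6.neg (chevE6.simple i)) (O.J a) f ∈ twistedE6 K q := by
    intro a ha f hf
    rw [hk] at ha
    rw [hJ] at hf ⊢
    interval_cases a
    · have ht : f 1 ^ q = f 1 := by
        have h := hf 1 (by decide); rw [hπ', hhom' 1 (by decide)] at h; exact h.symm
      exact ⟨wordGL_mem (w := [(e6p2, f 1)]) (Or.inl ⟨f 1, ht, e6p2, by simp, rfl⟩),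
        wordGL_mem (w := [(e6m2, f 1)]) (Or.inl ⟨f 1, ht, e6m2, by simp, rfl⟩)⟩
    · have ht : f 3 ^ q = f 3 := by
        have h := hf 3 (by decide); rw [hπ', hhom' 3 (by decide)] at h; exact h.symm
      exact ⟨wordGL_mem (w := [(e6p4, f 3)]) (Or.inl ⟨f 3, ht, e6p4, by simp, rfl⟩),
        wordGL_mem (w := [(e6m4, f 3)]) (Or.inl ⟨f 3, ht, e6m4, by simp, rfl⟩)⟩
    · have e : f 4 = f 2 ^ q := by
        have h := hf 2 (by decide); rw [hπ', hhom' 2 (by decide)] at h; exact h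
      constructor
      · rw [← hdouble chevE6.simple (Or.inl rfl) 2 4 f 2 (by decide) (List.Perm.swap _ _ _), e]
        exact wordGL_mem (Or.inr ⟨f 2, (e6p3, e6p5), by simp, rfl⟩)
      · rw [← hdouble (fun i => chevE6.neg (chevE6.simple i)) (Or.inr rfl) 2 4 f 2 (by decide)
          (List.Perm.swap _ _ _), e]
        exact wordGL_mem (Or.inr ⟨f 2, (e6m3, e6m5), by simp, rfl⟩)
    · have e : f 5 = f 0 ^ q := by
        have h := hf 0 (by decide); rw [hπ', hhom' 0 (by decide)] at h; exact h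
      constructor
      · rw [← hdouble chevE6.simple (Or.inl rfl) 0 5 f 3 (by decide) (List.Perm.swap _ _ _), e]
        exact wordGL_mem (Or.inr ⟨f 0, (e6p1, e6p6), by simp, rfl⟩)
      · rw [← hdouble (fun i => chevE6.neg (chevE6.simple i)) (Or.inr rfl) 0 5 f 3 (by decide)
          (List.Perm.swap _ _ _), e]
        exact wordGL_mem (Or.inr ⟨f 0, (e6m1, e6m6), by simp, rfl⟩)
  have hπlt : ∀ j < chevE6.rank, nodePi L j < chevE6.rank := by decide
  have hπinv : ∀ j < chevE6.rank, nodePi L (nodePi L j) = j := by decide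
  have hfix : ∀ c : ℕ → Kˣ, tor chevE6 c ∈ Fx S → ∃ c' : ℕ → Kˣ, tor chevE6 c' = tor chevE6 c ∧
      ∀ i < chevE6.rank, (c' (S.π i) : K) = S.hom i (c' i : K) := by
    intro c hc
    refine exists_fixed_param S (πi := nodePi L) hπlt (fun j hj => by rw [hπ', hπinv j hj])
      (fun d hd => ?_) hc
    obtain ⟨τ, hτ⟩ : ∃ τ, τ = tau S (nodePi L) hπlt := ⟨_, rfl⟩
    rw [← hτ] at hd ⊢
    have hτ2 : ∀ d, τ (τ d) = d := fun d => funext fun j => Units.ext (by
      rw [hτ]
      show S.hom (nodePi L j) (S.hom (nodePi L (nodePi L j)) (d ⟨_, _⟩ : K)) = _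
      rw [hhom' _ (hπlt j j.2), hhom' _ (hπlt _ (hπlt j j.2)), hqq]
      congr 2
      exact Fin.ext (hπinv j j.2))
    obtain ⟨z, hz⟩ : ∃ z, z = τ d * d⁻¹ := ⟨_, rfl⟩
    have hzker : z ∈ (torHom chevE6 K).ker := by
      rw [hz, MonoidHom.mem_ker, map_mul, map_inv, hd, mul_inv_cancel]
    have hz3 : z ^ 3 = 1 := by
      have h1 : matHom (cartanMat chevE6) z = 1 := by
        rw [ker_torHom hC] at hzker; exact hzker
      have h2 := congrArg (matHom adj) h1
      rw [← matHom_mul, adj_ok, map_one] at h2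
      funext j
      have h3 := congrFun h2 j
      rw [matHom_apply, Finset.prod_eq_single j (fun i _ hne => by simp [Matrix.one_apply_ne hne.symm])
        (by simp)] at h3
      simpa [zpow_natCast] using h3
    have hzτ : τ z = z⁻¹ := by rw [hz, map_mul, map_inv, hτ2, mul_inv_rev, inv_inv]
    refine ⟨z ^ 2, pow_mem hzker 2, ?_⟩
    rw [map_mul, map_pow, hzτ, show τ d = z * d by rw [hz, inv_mul_cancel_right], inv_pow]
    calc z * d * (z ^ 2)⁻¹ = d * (z * (z ^ 2)⁻¹) := by rw [mul_comm z d, mul_assoc]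
      _ = d * z ^ 2 := by
        congr 1
        rw [mul_inv_eq_iff_eq_mul, ← pow_add, pow_succ z 3, hz3, one_mul]
  have hgen : GenData O (twistedE6 K q) :=
    genData_of_orth O hπ hOr (fun a ha b hb i h1 h2 => disjoint_ok a (hk ▸ ha) b (hk ▸ hb) i
      (hJ a ▸ h1) (hJ b ▸ h2)) hle hmem hfix
  exact ⟨⟨S, O, hρ, hπ, hhom', hk, hJ, hgen, hfix⟩⟩

end Cfsg.Agent.Chevalley.Twist.E6
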