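import Cfsg.Agent.Lib.Chevalley.Twist.Simple
import Cfsg.Agent.Lib.Chevalley.Twist.E6

/-!
Perfectness and simplicity of the twisted groups of type E6.
-/

set_option autoImplicit false

open scoped Matrix commutatorElement

namespace Cfsg.Agent.Chevalley.Twist.E6

open Cfsg.Lie Cfsg.Agent.Chevalley Cfsg.Agent.Chevalley.Table Cfsg.Agent.Chevalley.Cert
  Cfsg.Agent.Chevalley.Group Cfsg.Agent.Chevalley.NormalForm

theorem conn_ok : connOrb Data.E6.tab Js = true := by decide +kernel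

theorem sing13_ok : singOrb Data.E6.tab 1 3 [] [3] = true := by decide +kernel

theorem sing31_ok : singOrb Data.E6.tab 3 1 [] [1] = true := by decide +kernel

theorem cart05 : ∀ i ∈ [5, 0], ∀ l ∈ [5, 0],
    chevE6.cartan l (chevE6.simple i) = if l = i then 2 else 0 := by decide +kernel

theorem cart24 : ∀ i ∈ [4, 2], ∀ l ∈ [4, 2],
    chevE6.cartan l (chevE6.simple i) = if l = i then 2 else 0 := by decide +kernel

variable {K : Type*} [Field K] [Fintype K] {q : ℕ}

theorem exists_sq_ne_one {F : Type*} [Field F] [Fintype F] (h : 4 ≤ Fintype.card F) :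
    ∃ a : Fˣ, (a : F) ^ 2 ≠ 1 := by
  classical
  obtain ⟨a, ha⟩ : ∃ a : F, a ∉ ({0, 1, -1} : Finset F) := by
    by_contra hcon
    push Not at hcon
    have h1 := Finset.card_le_card (s := Finset.univ) (t := ({0, 1, -1} : Finset F)) fun a _ => hcon a
    have h2 : ({0, 1, -1} : Finset F).card ≤ 3 := Finset.card_le_three
    rw [Finset.card_univ] at h1
    omega
  simp only [Finset.mem_insert, Finset.mem_singleton, not_or] at ha
  exact ⟨Units.mk0 a ha.1, fun e => (sq_eq_one_iff.1 e).elim ha.2.1 ha.2.2⟩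

variable {hK : Fintype.card K = q ^ 2} (X : Setup (K := K) hK)
include X

theorem hOr : ∀ a < X.O.k, Orth hC (nodePi L) (X.O.J a) := fun a ha => by
  rw [X.J_eq]; exact orth_of_chk hC (orth_ok a (X.k_eq ▸ ha))

theorem hne : ∀ a < X.O.k, ∃ x ∈ Fx X.S, x ≠ 1 ∧ ∀ c : ℕ → Kˣ,
    x ∈ Uminus chevE6 K (tor chevE6 c * nL hC K (X.O.J a)) :=
  fun _ ha => exists_unip_ne X.O X.π_eq (hOr X) ha

theorem core : ((chevE6.borelSubgroup K ⊓ twistedE6 K q).subgroupOf (twistedE6 K q)).normalCore = ⊥ :=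
  core_eq_bot X.gen (sep_of_orth X.O X.π_eq (hOr X))

theorem perfect (hq : IsPrimePow q) : commutator (twistedE6 K q) = ⊤ := by
  refine perfect_of_orth X.gen X.π_eq (hOr X)
    (fun a ha b hb i h1 h2 => disjoint_ok a (X.k_eq ▸ ha) b (X.k_eq ▸ hb) i (X.J_eq a ▸ h1)
      (X.J_eq b ▸ h2)) X.fix fun a ha f hf => ?_
  have h4 : 4 ≤ Fintype.card K := by
    rw [hK]
    calc 4 = 2 ^ 2 := rfl
      _ ≤ q ^ 2 := Nat.pow_le_pow_left hq.two_le 2
  obtain ⟨x, hx⟩ := exists_sq_ne_one h4
  have hqq : ∀ t : K, (t ^ q) ^ q = t := fun t => by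
    rw [← pow_mul, ← pow_two, ← hK, FiniteField.pow_card]
  have hxq : ((x : K) ^ q) ^ 2 ≠ 1 := fun e => hx (by
    have := congrArg (· ^ q) e
    rwa [← pow_mul, mul_comm, pow_mul, hqq, one_pow] at this)
  rw [X.k_eq] at ha
  rw [X.J_eq] at hf ⊢
  have tor2 : ∀ i j : ℕ, i ≠ j → nodePi L i = j → nodePi L j = i → i < 6 → j < 6 →
      ∀ J : List ℕ, J = [j, i] → Orth hC (nodePi L) J →
      (∀ u ∈ J, ∀ l ∈ J, chevE6.cartan l (chevE6.simple u) = if l = u then 2 else 0) →
      ∀ f : ℕ → K, (∀ u ∈ J, f (X.S.π u) = X.S.hom u (f u)) →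
        opr hC chevE6.simple J f ∈ ⁅twistedE6 K q, twistedE6 K q⁆ := by
    intro i j hij e1 e2 hi hj J hJ hO hcart f hf
    refine opr_toral_orth X.gen X.π_eq hO (fun u => if u = i then x else x ^ q) (fun u hu => ?_)
      hcart (fun u _ => ?_) hf
    · rw [X.π_eq, X.hom_eq u (hO.lt u hu)]
      rw [hJ] at hu
      simp only [List.mem_cons, List.not_mem_nil, or_false] at hu
      rcases hu with rfl | rfl
      · rw [e2, if_pos rfl, if_neg (Ne.symm hij), Units.val_pow_eq_pow_val, hqq]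
      · rw [e1, if_neg (Ne.symm hij), if_pos rfl, Units.val_pow_eq_pow_val]
    · split_ifs
      exacts [hx, by rw [Units.val_pow_eq_pow_val]; exact hxq]
  interval_cases a
  · exact opr_single_of_chk X.gen X.π_eq (hOr X) (orth_of_chk hC (orth_ok 0 (by decide)))
      (orth_of_chk hC (orth_ok 1 (by decide))) (Pa := []) (Wa := [1]) (by simp) (by simp [X.k_eq])
      rfl (by simp [X.J_eq]) sing13_ok hf
  · exact opr_single_of_chk X.gen X.π_eq (hOr X) (orth_of_chk hC (orth_ok 1 (by decide)))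
      (orth_of_chk hC (orth_ok 0 (by decide))) (Pa := []) (Wa := [0]) (by simp) (by simp [X.k_eq])
      rfl (by simp [X.J_eq]) sing31_ok hf
  · exact tor2 2 4 (by decide) (by decide) (by decide) (by decide) (by decide) _ rfl
      (orth_of_chk hC (orth_ok 2 (by decide))) cart24 f hf
  · exact tor2 0 5 (by decide) (by decide) (by decide) (by decide) (by decide) _ rfl
      (orth_of_chk hC (orth_ok 3 (by decide))) cart05 f hf

theorem isSimple (hq : IsPrimePow q) :
    IsSimpleGroup (twistedE6 K q) ∧ ¬ IsMulCommutative (twistedE6 K q) :=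
  isSimpleK X.gen (by decide) (hne X)
    (conn_of_chk X.O (Js := Js) X.k_eq X.J_eq conn_ok) (sep_of_orth X.O X.π_eq (hOr X)) (perfect X hq)

end Cfsg.Agent.Chevalley.Twist.E6
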