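import Cfsg.Agent.Lib.Chevalley.Twist.F4

/-!
Perfectness and simplicity of the twisted groups of type F4.
-/

set_option autoImplicit false

open scoped Matrix commutatorElement

namespace Cfsg.Agent.Chevalley.Twist.F4

open Cfsg.Lie Cfsg.Agent.Chevalley Cfsg.Agent.Chevalley.Table Cfsg.Agent.Chevalley.Cert
  Cfsg.Agent.Chevalley.Group Cfsg.Agent.Chevalley.Unip Cfsg.Agent.Chevalley.NormalForm
  Cfsg.Agent.Chevalley.Bruhat Cfsg.Agent.Chevalley.Weyl Cfsg.Agent.Chevalley.Borel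
  Cfsg.Agent.Chevalley.TorusCard

theorem conn_ok : connOrb Data.F4.tab Js = true := by decide +kernel

theorem neg_ok0 : ∀ r ∈ [14, 23], r < chevF4.nroots ∧ Data.F4.tab.phi r < 0 ∧
    0 < Data.F4.tab.phi (wL chevF4 [3, 0] r) := by decide +kernel

theorem neg_ok1 : ∀ r ∈ [20, 22, 19, 17], r < chevF4.nroots ∧ Data.F4.tab.phi r < 0 ∧
    0 < Data.F4.tab.phi (wL chevF4 [1, 2, 1, 2] r) := by decide +kernel

theorem cartan_ok : ∀ j < 5, ∀ i < 4, chevF4.cartan i ([33, 24, 27, 25, 28].getD j 0) =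
    (([[2, -1, 0, 0], [0, 0, -1, 2], [-1, 2, -1, 0], [0, -2, 2, -1], [-1, 0, 1, -1]] :
      List (List ℤ)).getD j []).getD i 0 := by decide +kernel

variable {K : Type*} [Field K] [Fintype K] [CharP K 2] {m : ℕ}

theorem sf_mul (c c' : Fin 4 → K) : sf c * sf c' =
    sf ![c 0 + c' 0, c 1 + c' 1, c 2 + c' 2 + c 1 * c' 0, c 3 + c' 3 + c 1 ^ 2 * c' 0] := by
  simp only [sf, Matrix.cons_val_zero, Matrix.cons_val_one, Matrix.cons_val]
  have hz25 : ∀ x y z : K, xg hC 28 y * xg hC 30 z * xg hC 25 x =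
      xg hC 25 x * (xg hC 28 y * xg hC 30 z) := fun x y z => by
    rw [mul_assoc, comm_even (r := 25) (s := 30) (by simp), ← mul_assoc,
      comm_even (r := 25) (s := 28) (by simp), mul_assoc]
  have hz27 : ∀ x y z : K, xg hC 28 y * xg hC 30 z * xg hC 27 x =
      xg hC 27 x * (xg hC 28 y * xg hC 30 z) := fun x y z => by
    rw [mul_assoc, comm_even (r := 27) (s := 30) (by simp), ← mul_assoc,
      comm_even (r := 27) (s := 28) (by simp), mul_assoc]
  have hadd : ∀ y z y' z' : K, xg hC 28 y * xg hC 30 z * (xg hC 28 y' * xg hC 30 z') =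
      xg hC 28 (y + y') * xg hC 30 (z + z') := fun y z y' z' => by
    rw [mul_assoc, ← mul_assoc (xg hC 30 z), comm_even (r := 28) (s := 30) (by simp), xg_add hC,
      xg_add hC]
    simp only [mul_assoc]
  calc xg hC 25 (c 0) * xg hC 27 (c 1) * (xg hC 28 (c 2) * xg hC 30 (c 3)) *
        (xg hC 25 (c' 0) * xg hC 27 (c' 1) * (xg hC 28 (c' 2) * xg hC 30 (c' 3)))
      = xg hC 25 (c 0) * xg hC 27 (c 1) * (xg hC 28 (c 2) * xg hC 30 (c 3) * xg hC 25 (c' 0)) *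
          (xg hC 27 (c' 1) * (xg hC 28 (c' 2) * xg hC 30 (c' 3))) := by group
    _ = xg hC 25 (c 0) * (xg hC 27 (c 1) * xg hC 25 (c' 0)) *
          (xg hC 28 (c 2) * xg hC 30 (c 3) * xg hC 27 (c' 1)) *
          (xg hC 28 (c' 2) * xg hC 30 (c' 3)) := by rw [hz25]; group
    _ = xg hC 25 (c 0) * (xg hC 25 (c' 0) * xg hC 27 (c 1)) *
          (xg hC 28 (c 1 * c' 0) * xg hC 30 (c 1 ^ 2 * c' 0) * xg hC 27 (c' 1)) *
          (xg hC 28 (c 2) * xg hC 30 (c 3) * (xg hC 28 (c' 2) * xg hC 30 (c' 3))) := by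
        rw [comm_pos', hz27]; group
    _ = xg hC 25 (c 0 + c' 0) * xg hC 27 (c 1 + c' 1) *
          (xg hC 28 (c 2 + c' 2 + c 1 * c' 0) * xg hC 30 (c 3 + c' 3 + c 1 ^ 2 * c' 0)) := by
        rw [hz27, hadd, xg_add hC 25, xg_add hC 27]
        rw [show c 2 + c' 2 + c 1 * c' 0 = c 1 * c' 0 + (c 2 + c' 2) by ring,
          show c 3 + c' 3 + c 1 ^ 2 * c' 0 = c 1 ^ 2 * c' 0 + (c 3 + c' 3) by ring, ← hadd (c 1 * c' 0)]
        group

theorem cw_mul (hK : Fintype.card K = 2 ^ (2 * m + 1)) (t u t' u' : K) :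
    cw (2 ^ m) 27 25 28 30 t u * cw (2 ^ m) 27 25 28 30 t' u' =
      cw (2 ^ m) 27 25 28 30 (t + t') (u + u' + t ^ 2 ^ m * t') := by
  obtain ⟨E, hE⟩ : ∃ E, E = 2 ^ m := ⟨_, rfl⟩
  have hq : ∀ t : K, t ^ (2 * (E * E)) = t := hE ▸ pow_q hK
  have hadd : ∀ x y : K, (x + y) ^ E = x ^ E + y ^ E := hE ▸ add_pow_e (m := m)
  rw [← hE]
  rw [cw_eq_sf, cw_eq_sf, cw_eq_sf, sf_mul]
  congr 1
  funext j
  fin_cases j
  · rfl
  · exact (hadd t t').symm
  · rfl
  · show (t ^ E) ^ 2 * t + u ^ (2 * E) + ((t' ^ E) ^ 2 * t' + u' ^ (2 * E)) + (t ^ E) ^ 2 * t' =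
      ((t + t') ^ E) ^ 2 * (t + t') + (u + u' + t ^ E * t') ^ (2 * E)
    have e : ((t ^ E * t') ^ 2) ^ E = t * (t' ^ E) ^ 2 := by
      rw [mul_pow, mul_pow, ← pow_mul, ← pow_mul, ← pow_mul,
        show E * (2 * E) = 2 * (E * E) by ring, hq, ← pow_mul, mul_comm E 2]
    rw [hadd, sq_add, pow_mul (u + u' + _), sq_add, sq_add, hadd, hadd, e, ← pow_mul u,
      ← pow_mul u']
    linear_combination (-(t * (t' ^ E) ^ 2)) * (_root_.CharTwo.two_eq_zero (R := K))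

variable {hK : Fintype.card K = 2 ^ (2 * m + 1)} (X : Setup (K := K) hK)
include X

theorem orth0 : Orth hC (nodePi L) [3, 0] := orth_of_chk hC orth_ok

theorem J0 : X.O.J 0 = [3, 0] := X.J_eq 0

theorem J1 : X.O.J 1 = [1, 2, 1, 2] := X.J_eq 1

theorem cw_Fx (t u : K) : cw (2 ^ m) 27 25 28 30 t u ∈ Fx X.S :=
  X.gen.le (X.cls_mem t u).1

theorem hne : ∀ a < X.O.k, ∃ x ∈ Fx X.S, x ≠ 1 ∧ ∀ c : ℕ → Kˣ,
    x ∈ Uminus chevF4 K (tor chevF4 c * nL hC K (X.O.J a)) := by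
  intro a ha
  rw [X.k_eq] at ha
  interval_cases a
  · refine ⟨opr hC chevF4.simple [3, 0] (fun _ => 1),
      opr_fixed (orth0 X) X.π_eq (Or.inl rfl) (fun i _ => (map_one _).symm), fun h => ?_, fun c => ?_⟩
    · rw [← opr_zero (hC := hC) (rt := chevF4.simple) [3, 0]] at h
      exact one_ne_zero (opr_unique (orth0 X) h 3 (by simp))
    · rw [J0 X, Uminus_eq hC (by decide) c]
      refine list_prod_mem fun g hg => ?_
      obtain ⟨i, hi, rfl⟩ := List.mem_map.1 hg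
      have hir : i < chevF4.rank := (orth0 X).lt i hi
      exact Subgroup.subset_closure ⟨chevF4.simple i, 1, (mem_invList hC).2
        ⟨hC.simple_lt hir, hC.phi_simple hir,
          J0 X ▸ X.O.neg_simple 0 (by rw [X.k_eq]; decide) i (J0 X ▸ hi)⟩, rfl⟩
  · refine ⟨cw (2 ^ m) 27 25 28 30 0 1, cw_Fx X 0 1, fun h => ?_, fun c => ?_⟩
    · have h0 : sf (0 : Fin 4 → K) = 1 := by simp [sf, xg_zero hC]
      rw [cw_eq_sf, ← h0] at h
      exact one_ne_zero (congrFun (sf_inj h) 2)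
    · rw [J1 X]
      exact ((mem_Uw (by decide) c).1 ((X.cls _).2 ⟨0, 1, rfl⟩)).1

theorem sep : Sep X.S := by
  intro c h i hi
  have h1 := h _ (opr_mem_U (orth0 X) fun _ => (1 : K))
    (opr_fixed (orth0 X) X.π_eq (Or.inl rfl) fun j _ => (map_one _).symm)
  rw [tor_conj_opr (orth0 X)] at h1
  have h2 := opr_unique (orth0 X) h1
  have hU : cw (2 ^ m) 27 25 28 30 1 0 ∈ chevF4.posUnipotent K :=
    Uminus_le_U hC _ ((X.cls _).2 ⟨1, 0, rfl⟩).1
  have h3 := h _ hU (cw_Fx X 1 0)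
  have hroots := roots_ok
  have h4 : sf ![(torChar chevF4 c 25 : K) * 1, (torChar chevF4 c 27 : K) * 1, 0,
      (torChar chevF4 c 30 : K) * 1] = sf ![(1 : K), 1, 0, 1] := by
    have hE0 : 2 * 2 ^ m ≠ 0 := by positivity
    have e : cw (2 ^ m) 27 25 28 30 (1 : K) 0 = sf ![(1 : K), 1, 0, 1] := by
      rw [cw_eq_sf, one_pow, one_pow, one_mul, zero_pow hE0, add_zero]
    rw [e] at h3
    refine Eq.trans ?_ h3
    simp only [sf, Matrix.cons_val_zero, Matrix.cons_val_one, Matrix.cons_val, xg_zero hC, one_mul]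
    rw [← tor_conj_x hC c 25 1 (by decide +kernel), ← tor_conj_x hC c 27 1 (by decide +kernel),
      ← tor_conj_x hC c 30 1 (by decide +kernel)]
    group
  have h5 := sf_inj h4
  have e25 : (torChar chevF4 c 25 : K) = 1 := by simpa using congrFun h5 0
  have e27 : (torChar chevF4 c 27 : K) = 1 := by simpa using congrFun h5 1
  change i < 4 at hi
  refine Units.val_eq_one.1 ?_
  interval_cases i
  · simpa using h2 0 (by simp)
  · rw [hroots.2.1]; exact e27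
  · rw [hroots.2.2.1]; exact e25
  · simpa using h2 3 (by simp)

theorem conj_cw {c : ℕ → Kˣ} (hc : tor chevF4 c ∈ twistedF4 K (2 ^ m)) (t u : K) :
    tor chevF4 c * cw (2 ^ m) 27 25 28 30 t u * (tor chevF4 c)⁻¹ =
      cw (2 ^ m) 27 25 28 30 ((torChar chevF4 c 25 : K) * t) ((torChar chevF4 c 28 : K) * u) := by
  obtain ⟨x, hx⟩ : ∃ x : Fin 4 → K, x = ![t, t ^ 2 ^ m, u,
      (t ^ 2 ^ m) ^ 2 * t + u ^ (2 * 2 ^ m)] := ⟨_, rfl⟩
  have hcw : cw (2 ^ m) 27 25 28 30 t u = sf x := hx ▸ cw_eq_sf _ t u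
  have hmem : tor chevF4 c * sf x * (tor chevF4 c)⁻¹ = sf ![(torChar chevF4 c 25 : K) * x 0,
      (torChar chevF4 c 27 : K) * x 1, (torChar chevF4 c 28 : K) * x 2,
      (torChar chevF4 c 30 : K) * x 3] := by
    simp only [sf, Matrix.cons_val_zero, Matrix.cons_val_one, Matrix.cons_val]
    rw [← tor_conj_x hC c 25 _ (by decide +kernel), ← tor_conj_x hC c 27 _ (by decide +kernel),
      ← tor_conj_x hC c 28 _ (by decide +kernel), ← tor_conj_x hC c 30 _ (by decide +kernel)]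
    group
  have hin : tor chevF4 c * sf x * (tor chevF4 c)⁻¹ ∈ Uw X.S [1, 2, 1, 2] := by
    refine (mem_Uw (by decide) 1).2 ⟨?_, ?_⟩
    · rw [hmem, Uminus_eq hC (by decide) 1, invList_eq_invT hC (by decide), inv_ok, sf]
      refine mul_mem (mul_mem ?_ ?_) (mul_mem ?_ ?_) <;>
        exact Subgroup.subset_closure ⟨_, _, by simp, rfl⟩
    · rw [← hcw]
      exact mul_mem (mul_mem (X.gen.le hc) (cw_Fx X t u)) (inv_mem (X.gen.le hc))
  obtain ⟨t', v', e⟩ := (X.cls _).1 hin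
  rw [hcw, e]
  rw [hmem, cw_eq_sf] at e
  have e1 := sf_inj e
  rw [show t' = (torChar chevF4 c 25 : K) * t by rw [hx] at e1; exact (congrFun e1 0).symm,
    show v' = (torChar chevF4 c 28 : K) * u by rw [hx] at e1; exact (congrFun e1 2).symm]

theorem cw_zero : cw (2 ^ m) 27 25 28 30 (0 : K) 0 = 1 := by
  have h2E : 2 * 2 ^ m ≠ 0 := by positivity
  simp [cw, zero_pow (pow_ne_zero m two_ne_zero), zero_pow h2E, xg_zero hC]

theorem tor_mem {c : ℕ → Kˣ} (hc : ∀ i < chevF4.rank, (c (X.S.π i) : K) = X.S.hom i (c i : K)) :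
    tor chevF4 c ∈ twistedF4 K (2 ^ m) := by
  have hlt : ∀ j < chevF4.rank, nodePi L j < chevF4.rank := by decide
  have hinv' : ∀ j < 4, nodePi L (nodePi L j) = j := by decide
  have hinv : ∀ j < chevF4.rank, X.S.π (nodePi L j) = j := fun j hj => by
    rw [X.π_eq]; exact hinv' j hj
  refine Fx_le X.O X.gen ?_
  have h := img_torHom X.S hlt hinv fun i => c i
  have e1 : tau X.S (nodePi L) hlt (fun i : Fin chevF4.rank => c i) = fun i : Fin chevF4.rank => c i := by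
    funext j
    refine Units.ext ?_
    show X.S.hom (nodePi L j) (c (nodePi L j) : K) = _
    rw [← hc _ (hlt j j.2), hinv j j.2]
  have e : torHom chevF4 K (fun i : Fin chevF4.rank => c i) = tor chevF4 c :=
    dg_congr fun s _ => Finset.prod_congr rfl fun i hi => by
      rw [TorusCard.ext, dif_pos (Finset.mem_range.1 hi)]
  rw [e1, e] at h
  exact h

omit X in
/-- The torus used for commutators. -/
def tc (m : ℕ) (s : Kˣ) : ℕ → Kˣ := fun i => if i = 0 then (s⁻¹) ^ 2 ^ m else if i = 3 then s⁻¹ else 1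

omit X [CharP K 2] [Fintype K] in
theorem char_tc (s : Kˣ) : torChar chevF4 (tc m s) 33 = ((s⁻¹) ^ 2 ^ m) ^ 2 ∧
    torChar chevF4 (tc m s) 24 = (s⁻¹) ^ 2 ∧ torChar chevF4 (tc m s) 27 = s ^ 2 ^ m ∧
    torChar chevF4 (tc m s) 25 = s ∧ torChar chevF4 (tc m s) 28 = s ^ 2 ^ m * s := by
  have h : ∀ j < 5, torChar chevF4 (tc m s) ([33, 24, 27, 25, 28].getD j 0) =
      ∏ i ∈ Finset.range 4, tc m s i ^ (([[2, -1, 0, 0], [0, 0, -1, 2], [-1, 2, -1, 0], [0, -2, 2, -1],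
        [-1, 0, 1, -1]] : List (List ℤ)).getD j []).getD i 0 := fun j hj =>
    Finset.prod_congr rfl fun i hi => by rw [cartan_ok j hj i (Finset.mem_range.1 hi)]
  refine ⟨(h 0 (by decide)).trans ?_, (h 1 (by decide)).trans ?_, (h 2 (by decide)).trans ?_,
    (h 3 (by decide)).trans ?_, (h 4 (by decide)).trans ?_⟩ <;>
    simp [Finset.prod_range_succ, tc, zpow_ofNat]

theorem perfect (hm : 1 ≤ m) : commutator (twistedF4 K (2 ^ m)) = ⊤ := by
  classical
  obtain ⟨E, hE⟩ : ∃ E, E = 2 ^ m := ⟨_, rfl⟩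
  have hcard : 3 ≤ Fintype.card K := by
    rw [hK]
    calc 3 ≤ 2 ^ 2 := by norm_num
      _ ≤ _ := Nat.pow_le_pow_right (by norm_num) (by omega)
  obtain ⟨x, -, hx⟩ := Finset.exists_mem_notMem_of_card_lt_card
    (s := ({0, 1} : Finset K)) (t := Finset.univ) (by
      rw [Finset.card_univ]
      have := Finset.card_le_two (a := (0 : K)) (b := 1)
      omega)
  simp only [Finset.mem_insert, Finset.mem_singleton, not_or] at hx
  obtain ⟨s, hs⟩ : ∃ s : Kˣ, (s : K) = x := ⟨Units.mk0 x hx.1, rfl⟩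
  have hq : ∀ t : K, t ^ (2 * (E * E)) = t := hE ▸ pow_q hK
  have hs1 : s ≠ 1 := fun e => hx.2 (by rw [← hs, e, Units.val_one])
  have hsq : ∀ y : Kˣ, y ^ 2 = 1 → y = 1 := fun y hy => Units.ext (by
    have h2 : ((y : K) + 1) ^ 2 = 0 := by
      rw [sq_add, ← Units.val_pow_eq_pow_val, hy, Units.val_one, one_pow,
        _root_.CharTwo.add_self_eq_zero]
    rw [Units.val_one]
    exact _root_.CharTwo.add_eq_zero.1 (pow_eq_zero_iff two_ne_zero |>.1 h2))
  have hsE : s ^ E * s ≠ 1 := by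
    intro e
    have h1 : (s : K) ^ E * (s : K) = 1 := by
      rw [← Units.val_pow_eq_pow_val, ← Units.val_mul, e, Units.val_one]
    have h2 : ((s : K) ^ E * (s : K)) ^ (2 * E) = (s : K) * ((s : K) ^ E) ^ 2 := by
      rw [mul_pow, ← pow_mul, ← pow_mul, show E * (2 * E) = 2 * (E * E) by ring, hq, mul_comm 2 E]
    rw [h1, one_pow] at h2
    have h3 : (s : K) ^ E = 1 := by
      have h4 : (s : K) ^ E = ((s : K) ^ E) ^ 2 := by
        calc (s : K) ^ E = (s : K) ^ E * ((s : K) * ((s : K) ^ E) ^ 2) := by rw [← h2, mul_one]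
          _ = ((s : K) ^ E * (s : K)) * ((s : K) ^ E) ^ 2 := by ring
          _ = ((s : K) ^ E) ^ 2 := by rw [h1, one_mul]
      rw [sq] at h4
      exact (mul_eq_left₀ (pow_ne_zero _ s.ne_zero)).1 h4.symm
    rw [h3, one_mul] at h1
    exact hs1 (Units.ext (by rw [h1, Units.val_one]))
  obtain ⟨χ33, χ24, χ27, χ25, χ28⟩ := char_tc (K := K) (m := m) s
  have hhom : ∀ i < 4, ∀ t, X.S.hom i t = (t ^ (L.getD i (0, 1)).2) ^ E := hE ▸ X.hom_eq
  have htc : ∀ i < chevF4.rank, (tc m s (X.S.π i) : K) = X.S.hom i (tc m s i : K) := by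
    intro i hi
    change i < 4 at hi
    rw [X.π_eq, hhom i hi]
    interval_cases i <;> simp [nodePi, tc, ← hE]
    rw [← pow_mul, ← pow_mul, show E * (2 * E) = 2 * (E * E) by ring, hq]
  have hh : tor chevF4 (tc m s) ∈ twistedF4 K (2 ^ m) :=
    tor_mem X htc
  -- the pair
  have hpair : ∀ u ∈ Uw X.S (X.O.J 0), u ∈ ⁅twistedF4 K (2 ^ m), twistedF4 K (2 ^ m)⁆ := by
    intro u hu
    rw [J0 X] at hu
    obtain ⟨hU, hF⟩ := (mem_Uw (by decide) 1).1 hu
    obtain ⟨f, hf, rfl⟩ := fixed_Uminus (orth0 X) X.π_eq hF hU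
    refine opr_toral X.gen X.π_eq (orth0 X) (X.gen.le hh) (fun i hi => ?_) hf
    simp only [List.mem_cons, List.not_mem_nil, or_false] at hi
    rcases hi with rfl | rfl
    · rw [roots_ok.2.2.2.1, χ24, Ne, Units.val_eq_one]
      exact fun e => hs1 (inv_eq_one.1 (hsq _ e))
    · rw [roots_ok.1, χ33, Ne, Units.val_eq_one]
      intro e
      have e1 : ((s⁻¹ ^ 2 ^ m) ^ 2) ^ 2 ^ m = (1 : Kˣ) := by rw [e, one_pow]
      rw [← hE, ← pow_mul, ← pow_mul, show E * (2 * E) = 2 * (E * E) by ring] at e1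
      refine hs1 (inv_eq_one.1 (Units.ext ?_))
      rw [← hq ((s⁻¹ : Kˣ) : K), ← Units.val_pow_eq_pow_val, e1]
  -- the class
  have hcl : ∀ u ∈ Uw X.S (X.O.J 1), u ∈ ⁅twistedF4 K (2 ^ m), twistedF4 K (2 ^ m)⁆ := by
    rw [J1 X]
    have hE0 : 2 ^ m ≠ 0 := pow_ne_zero m two_ne_zero
    have hinv : ∀ t u : K, (cw (2 ^ m) 27 25 28 30 t u)⁻¹ =
        cw (2 ^ m) 27 25 28 30 t (u + t ^ 2 ^ m * t) := fun t u => by
      refine inv_eq_of_mul_eq_one_right ?_
      rw [cw_mul hK, _root_.CharTwo.add_self_eq_zero, ← add_assoc, _root_.CharTwo.add_self_eq_zero,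
        zero_add, _root_.CharTwo.add_self_eq_zero]
      exact cw_zero X
    have hbr : ∀ t u : K, cw (2 ^ m) 27 25 28 30 ((s : K) * t + t)
        ((((s ^ 2 ^ m * s : Kˣ) : K) + 1) * u + (((s : K) * t) ^ 2 ^ m * t + t ^ 2 ^ m * t)) ∈
        ⁅twistedF4 K (2 ^ m), twistedF4 K (2 ^ m)⁆ := by
      intro t u
      have h := Subgroup.commutator_mem_commutator hh (X.cls_mem t u).1
      rw [commutatorElement_def, conj_cw X hh, χ25, χ28, hinv, cw_mul hK] at h
      convert h using 2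
      ring
    intro u hu
    obtain ⟨t, w, rfl⟩ := (X.cls u).1 hu
    have hd : (s : K) + 1 ≠ 0 := fun e => hx.2 (hs ▸ _root_.CharTwo.add_eq_zero.1 e)
    have hd2 : ((s ^ 2 ^ m * s : Kˣ) : K) + 1 ≠ 0 := fun e =>
      hsE (hE ▸ Units.val_eq_one.1 (_root_.CharTwo.add_eq_zero.1 e))
    obtain ⟨r, hr⟩ : ∃ r : K, r = t / ((s : K) + 1) := ⟨_, rfl⟩
    obtain ⟨A, hA⟩ : ∃ A : K, A = ((s : K) * r) ^ 2 ^ m * r + r ^ 2 ^ m * r := ⟨_, rfl⟩
    have h := hbr r ((w + A) / (((s ^ 2 ^ m * s : Kˣ) : K) + 1))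
    rw [← hA, mul_div_cancel₀ _ hd2, add_assoc, _root_.CharTwo.add_self_eq_zero, add_zero,
      ← add_one_mul, hr, mul_div_cancel₀ _ hd] at h
    exact h
  have hder : ∀ a < X.O.k, ∀ u ∈ Uw X.S (X.O.J a),
      u ∈ ⁅twistedF4 K (2 ^ m), twistedF4 K (2 ^ m)⁆ := by
    intro a ha
    rw [X.k_eq] at ha
    interval_cases a
    exacts [hpair, hcl]
  refine commutator_eq_top_of_le _ ?_
  refine (show twistedF4 K (2 ^ m) = _ from genSubgroup_eq hC (f4Words K (2 ^ m))).le.trans ((Subgroup.closure_le _).2 ?_)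
  rintro g ⟨w, hw, rfl⟩
  have hF : wordGL hC w ∈ Fx X.S := X.gen.le (wordGL_mem hw)
  have hk : 0 < X.O.k ∧ 1 < X.O.k := by rw [X.k_eq]; decide
  rcases hw with ⟨t, rfl | rfl⟩ | ⟨t, u, rfl | rfl⟩
  · refine hpair _ ?_
    rw [J0 X]
    refine (mem_Uw (by decide) 1).2 ⟨?_, hF⟩
    rw [Uminus_eq hC (by decide) 1]
    refine list_prod_mem fun y hy => ?_
    obtain ⟨p, hp, rfl⟩ := List.mem_map.1 hy
    refine Subgroup.subset_closure ⟨p.1, p.2, ?_, rfl⟩
    rw [invList_eq_invT hC (by decide)]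
    have : p.1 ∈ [33, 24] := by
      simp only [f4PairWord, List.mem_cons, List.not_mem_nil, or_false] at hp
      rcases hp with rfl | rfl <;> simp [f4p1, f4p4]
    revert this
    generalize p.1 = r
    intro hr
    simp only [List.mem_cons, List.not_mem_nil, or_false] at hr
    rcases hr with rfl | rfl <;> decide +kernel
  · refine der_neg X.gen hk.1 (fun u hu => hpair u hu) (fun p hp => ?_) hF
    rw [J0 X]
    exact neg_ok0 p.1 (by
      simp only [f4PairWord, List.mem_cons, List.not_mem_nil, or_false] at hp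
      rcases hp with rfl | rfl <;> simp [f4m1, f4m4])
  · rw [wordGL_cw]
    exact hcl _ (J1 X ▸ (X.cls _).2 ⟨t, u, rfl⟩)
  · refine der_neg X.gen hk.2 (fun u hu => hcl u hu) (fun p hp => ?_) hF
    rw [J1 X]
    exact neg_ok1 p.1 (by
      simp only [b2ClassWord, List.mem_cons, List.not_mem_nil, or_false] at hp
      rcases hp with rfl | rfl | rfl | rfl <;> simp [f4m1, f4m4, f4ma, f4mb, f4mab, f4maab])

theorem isSimple (hm : 1 ≤ m) :
    IsSimpleGroup (twistedF4 K (2 ^ m)) ∧ ¬ IsMulCommutative (twistedF4 K (2 ^ m)) :=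
  isSimpleK X.gen (by decide) (hne X) (conn_of_chk X.O (Js := Js) X.k_eq X.J_eq conn_ok) (sep X)
    (perfect X hm)

end Cfsg.Agent.Chevalley.Twist.F4
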