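import Cfsg.Agent.Lib.Chevalley.Twist.G2
import Cfsg.Agent.Lib.Chevalley.Twist.SimpleE6
import Cfsg.Agent.Lib.Chevalley.Twist.CountE6
import Cfsg.Agent.Lib.Chevalley.Data.TW2G2

/-!
Structure, orders and simplicity of the twisted groups of type G2.
-/

set_option autoImplicit false

open scoped Matrix commutatorElement

namespace Cfsg.Agent.Chevalley.Twist.G2

open Cfsg.Lie Cfsg.Agent.Chevalley Cfsg.Agent.Chevalley.Table Cfsg.Agent.Chevalley.Cert
  Cfsg.Agent.Chevalley.Group Cfsg.Agent.Chevalley.Unip Cfsg.Agent.Chevalley.NormalForm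
  Cfsg.Agent.Chevalley.Bruhat Cfsg.Agent.Chevalley.Weyl Cfsg.Agent.Chevalley.Borel
  Cfsg.Agent.Chevalley.TorusCard Cfsg.Agent.Chevalley.WeylEnum Cfsg.Agent.Chevalley.Poincare

theorem neg_ok : ∀ r ∈ [4, 5, 3, 2, 1, 0], r < chevG2.nroots ∧ Data.G2.tab.phi r < 0 ∧
    0 < Data.G2.tab.phi (wL chevG2 J r) := by decide +kernel

theorem w_ok : rangeChk Data.G2.tab [J] Data.TW2G2.blocks 2 0 2 = true := by decide +kernel

theorem w_zero : (nth2 Data.TW2G2.blocks 1).len = 0 := by decide +kernel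

theorem w_lens : lensOf Data.TW2G2.blocks 2 = [0, 6] := by decide +kernel

theorem inv_card_ok : ((Finset.range chevG2.nroots).filter fun r =>
    0 < Data.G2.tab.phi r ∧ Data.G2.tab.phi (applyW Data.G2.tab J r) < 0).card = 6 := by decide +kernel

theorem cartan_ok : ∀ j < 6, ∀ i < 2, chevG2.cartan i (P.getD j 0) =
    (([[2, -1], [-3, 2], [-1, 1], [1, 0], [3, -1], [0, 1]] : List (List ℤ)).getD j []).getD i 0 := by
  decide +kernel

theorem J_neg : ∀ r ∈ [6, 7, 8, 9, 10, 11], Data.G2.tab.phi (wL chevG2 J r) < 0 := by decide +kernel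

theorem invSet_card : (invSet chevG2 Data.G2.tab J).card = 6 := by
  refine Eq.trans ?_ inv_card_ok
  rw [invSet]
  refine congrArg Finset.card (Finset.filter_congr fun r hr => ?_)
  rw [show applyW Data.G2.tab J r = wL chevG2 J r from
    StConj.actT_foldr hC (show ∀ i ∈ J, i < chevG2.rank by decide) (Finset.mem_range.1 hr)]

/-- The fixed torus parameters. -/
def tc {K : Type*} [Field K] (m : ℕ) (x : Kˣ) : ℕ → Kˣ := fun i => if i = 0 then x ^ 3 ^ m else x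

variable {K : Type*} [Field K] [Fintype K] [CharP K 3] {m : ℕ}

omit [Fintype K] [CharP K 3] in
theorem char_tc (x : Kˣ) : torChar chevG2 (tc m x) 6 = ((x ^ 3 ^ m) ^ 3)⁻¹ * x ^ 2 ∧
    torChar chevG2 (tc m x) 10 = (x ^ 3 ^ m) ^ 3 * x⁻¹ ∧ torChar chevG2 (tc m x) 11 = x := by
  have h : ∀ j < 6, torChar chevG2 (tc m x) (P.getD j 0) = ∏ i ∈ Finset.range 2, tc m x i ^
      (([[2, -1], [-3, 2], [-1, 1], [1, 0], [3, -1], [0, 1]] : List (List ℤ)).getD j []).getD i 0 :=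
    fun j hj => Finset.prod_congr rfl fun i hi => by rw [cartan_ok j hj i (Finset.mem_range.1 hi)]
  refine ⟨(h 1 (by decide)).trans ?_, (h 4 (by decide)).trans ?_, (h 5 (by decide)).trans ?_⟩ <;>
    simp [Finset.prod_range_succ, tc, zpow_ofNat]

theorem tc_triv (hK : Fintype.card K = 3 ^ (2 * m + 1)) {x : Kˣ}
    (h : torChar chevG2 (tc m x) 6 = 1 ∨ torChar chevG2 (tc m x) 10 = 1 ∨
      torChar chevG2 (tc m x) 11 = 1) : x ^ 2 = 1 := by
  obtain ⟨c6, c10, c11⟩ := char_tc (m := m) x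
  have hq : ∀ y : Kˣ, y ^ (3 * (3 ^ m * 3 ^ m)) = y :=
    fun y => Units.ext (by rw [Units.val_pow_eq_pow_val, pow_q hK])
  have hE : ∀ y : Kˣ, (((y ^ 3 ^ m) ^ 3) ^ 3 ^ m) ^ 3 = y ^ 3 := fun y => by
    rw [← pow_mul, ← pow_mul, ← pow_mul,
      show 3 ^ m * (3 * (3 ^ m * 3)) = 3 * (3 ^ m * 3 ^ m) * 3 by ring, pow_mul, hq]
  rcases h with h | h | h
  · rw [c6, inv_mul_eq_one] at h
    have h2 := hE x
    rw [h] at h2
    have h4 : ((x ^ 2) ^ 3 ^ m) ^ 3 = x ^ 4 := by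
      rw [← pow_mul, ← pow_mul, show 2 * (3 ^ m * 3) = (3 ^ m * 3) * 2 by ring, pow_mul,
        pow_mul x (3 ^ m) 3, h]
      rw [← pow_mul]
    rw [h4] at h2
    rw [show (4 : ℕ) = 3 + 1 by rfl, pow_succ, mul_eq_left] at h2
    rw [h2, one_pow]
  · rw [c10, mul_inv_eq_one] at h
    have h2 := hE x
    rw [h] at h2
    rw [h] at h2
    have h3 : x ^ 3 = x := h2.symm
    rw [pow_succ, mul_eq_right] at h3
    exact h3
  · rw [c11] at h; rw [h, one_pow]

variable {hK : Fintype.card K = 3 ^ (2 * m + 1)} (X : Setup (K := K) hK)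
include X

theorem wU_Fx (t u v : K) : wU (3 ^ m) t u v ∈ Fx X.S := X.gen.le (X.cls_mem t u v).1

theorem wU_inj {t u v t' u' v' : K} (h : wU (3 ^ m) t u v = wU (3 ^ m) t' u' v') :
    t = t' ∧ u = u' ∧ v = v' := by
  obtain ⟨-, h1, -, -, h4, h5⟩ := wd_inj h
  exact ⟨h1, h4, h5⟩

theorem wU_zero : wU (3 ^ m) (0 : K) 0 0 = 1 := by
  have R := rels_pos (K := K)
  simp [wU, wd, R.zero]

theorem wU_mul (t u v t' u' v' : K) : wU (3 ^ m) t u v * wU (3 ^ m) t' u' v' =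
    wU (3 ^ m) (t + t') (u + u' - (t' ^ 3 ^ m) ^ 3 * t)
      (v + v' - (t' ^ 3 ^ m) ^ 3 * t ^ 2 - t' * (u - (t' ^ 3 ^ m) ^ 3 * t)) := by
  have hmem : wU (3 ^ m) t u v * wU (3 ^ m) t' u' v' ∈ Uw X.S J :=
    mul_mem ((X.cls _).2 ⟨t, u, v, rfl⟩) ((X.cls _).2 ⟨t', u', v', rfl⟩)
  obtain ⟨a, b, c, e⟩ := (X.cls _).1 hmem
  have e' := e
  rw [wU, wU, rels_pos.wd_mul, wU] at e'
  obtain ⟨-, h1, -, -, h4, h5⟩ := wd_inj e'
  rw [e, ← h1, ← h4, ← h5]
  congr 1 <;> ring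

theorem conj_wU {c : ℕ → Kˣ} (hc : tor chevG2 c ∈ twistedG2 K (3 ^ m)) (t u v : K) :
    tor chevG2 c * wU (3 ^ m) t u v * (tor chevG2 c)⁻¹ =
      wU (3 ^ m) ((torChar chevG2 c 6 : K) * t) ((torChar chevG2 c 10 : K) * u)
        ((torChar chevG2 c 11 : K) * v) := by
  have key : ∀ a b d e f g : K, tor chevG2 c * wd yP a b d e f g * (tor chevG2 c)⁻¹ =
      wd yP ((torChar chevG2 c 7 : K) * a) ((torChar chevG2 c 6 : K) * b)
        ((torChar chevG2 c 8 : K) * d) ((torChar chevG2 c 9 : K) * e)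
        ((torChar chevG2 c 10 : K) * f) ((torChar chevG2 c 11 : K) * g) := by
    intro a b d e f g
    simp only [wd, yP, List.getD_cons_zero, List.getD_cons_succ]
    rw [← tor_conj_x hC c 7 _ (by decide +kernel), ← tor_conj_x hC c 6 _ (by decide +kernel),
      ← tor_conj_x hC c 8 _ (by decide +kernel), ← tor_conj_x hC c 9 _ (by decide +kernel),
      ← tor_conj_x hC c 10 _ (by decide +kernel), ← tor_conj_x hC c 11 _ (by decide +kernel)]
    group
  have hin : tor chevG2 c * wU (3 ^ m) t u v * (tor chevG2 c)⁻¹ ∈ Uw X.S J := by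
    refine (mem_Uw (by decide) 1).2 ⟨?_, ?_⟩
    · rw [wU, key, wd_eq_sf, Uminus_eq hC (by decide) 1, invList_eq_invT hC (by decide), inv_ok, sf]
      refine list_prod_mem fun x hx => ?_
      obtain ⟨r, hr, rfl⟩ := List.mem_map.1 hx
      exact Subgroup.subset_closure ⟨r, _, hr, rfl⟩
    · exact mul_mem (mul_mem (X.gen.le hc) (wU_Fx X t u v)) (inv_mem (X.gen.le hc))
  obtain ⟨a, b, d, e⟩ := (X.cls _).1 hin
  have e' := e
  rw [wU, key, wU] at e'
  obtain ⟨-, h1, -, -, h4, h5⟩ := wd_inj e'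
  rw [e, h1, h4, h5]

theorem tor_tc_mem (x : Kˣ) : tor chevG2 (tc m x) ∈ twistedG2 K (3 ^ m) := by
  have hlt : ∀ j < chevG2.rank, nodePi L j < chevG2.rank := by decide
  have hinv' : ∀ j < 2, nodePi L (nodePi L j) = j := by decide
  have hinv : ∀ j < chevG2.rank, X.S.π (nodePi L j) = j := fun j hj => by
    rw [X.π_eq]; exact hinv' j hj
  refine Fx_le X.O X.gen ?_
  have h := img_torHom X.S hlt hinv fun i => tc m x i
  have e1 : tau X.S (nodePi L) hlt (fun i : Fin chevG2.rank => tc m x i) =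
      fun i : Fin chevG2.rank => tc m x i := by
    funext j
    refine Units.ext ?_
    show X.S.hom (nodePi L j) (tc m x (nodePi L j) : K) = _
    obtain ⟨j, hj⟩ := j
    rw [X.hom_eq _ (hlt j hj)]
    change j < 2 at hj
    interval_cases j
    · simp [nodePi, tc]
    · simp only [nodePi, List.getD_cons_zero, List.getD_cons_succ, tc, ↓reduceIte,
        Units.val_pow_eq_pow_val, show (1 : ℕ) ≠ 0 by decide]
      rw [← pow_mul, ← pow_mul, show 3 ^ m * (3 * 3 ^ m) = 3 * (3 ^ m * 3 ^ m) by ring, pow_q hK]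
  have e : torHom chevG2 K (fun i : Fin chevG2.rank => tc m x i) = tor chevG2 (tc m x) :=
    dg_congr fun s _ => Finset.prod_congr rfl fun i hi => by
      rw [TorusCard.ext, dif_pos (Finset.mem_range.1 hi)]
  rw [e1, e] at h
  exact h

/-- The fixed torus as the image of the multiplicative group. -/
noncomputable def torusHom : Kˣ →* twistedG2 K (3 ^ m) where
  toFun x := ⟨tor chevG2 (tc m x), tor_tc_mem X x⟩
  map_one' := Subtype.ext (by
    show tor chevG2 (tc m (1 : Kˣ)) = 1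
    rw [show tc m (1 : Kˣ) = 1 from funext fun i => by simp [tc], tor_one])
  map_mul' x y := Subtype.ext (by
    show tor chevG2 (tc m (x * y)) = tor chevG2 (tc m x) * tor chevG2 (tc m y)
    rw [tor_mul]
    congr 1
    funext i
    simp only [tc, Pi.mul_apply]
    split_ifs
    · rw [mul_pow]
    · rfl)

theorem coe_torusHom (x : Kˣ) : (torusHom X x : GL chevG2.Idx K) = tor chevG2 (tc m x) := rfl

theorem torus_inj {x y : Kˣ} (h : tor chevG2 (tc m x) = tor chevG2 (tc m y)) : x = y := by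
  have h1 := congrArg (fun g => g) (char_tc (m := m) x).2.2
  have h2 := (char_tc (m := m) y).2.2
  have h3 : torChar chevG2 (tc m x) 11 = torChar chevG2 (tc m y) 11 := by
    have e := congrArg (fun g : GL chevG2.Idx K => (g : Matrix chevG2.Idx chevG2.Idx K)
      (Sum.inr ⟨11, by decide⟩) (Sum.inr ⟨11, by decide⟩)) h
    simp only [coe_tor hC] at e
    exact Units.ext (by simpa [Root.dMat] using e)
  rw [← h1, ← h2, h3]

theorem mem_torus {g : GL chevG2.Idx K} :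
    g ∈ chevG2.diagonalSubgroup K ⊓ twistedG2 K (3 ^ m) ↔ ∃ x : Kˣ, g = tor chevG2 (tc m x) := by
  constructor
  · rintro ⟨hH, hG⟩
    obtain ⟨c, rfl⟩ := (mem_H_iff hC).1 hH
    obtain ⟨c', e, hc'⟩ := X.fix c (X.gen.le hG)
    refine ⟨c' 1, e.symm.trans (dg_congr fun s _ => Finset.prod_congr rfl fun i hi => ?_)⟩
    have hi2 : i < 2 := Finset.mem_range.1 hi
    congr 1
    interval_cases i
    · refine Units.ext ?_
      have h := hc' 1 (by decide)
      rw [X.π_eq, X.hom_eq 1 (by decide)] at h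
      simpa [nodePi, tc] using h
    · rfl
  · rintro ⟨x, rfl⟩
    exact ⟨tor_mem_H hC _, tor_tc_mem X x⟩

theorem hne : ∀ a < X.O.k, ∃ x ∈ Fx X.S, x ≠ 1 ∧ ∀ c : ℕ → Kˣ,
    x ∈ Uminus chevG2 K (tor chevG2 c * nL hC K (X.O.J a)) := by
  intro a ha
  rw [X.k_eq] at ha
  obtain rfl : a = 0 := by omega
  refine ⟨wU (3 ^ m) 0 1 0, wU_Fx X 0 1 0, fun h => ?_, fun c => ?_⟩
  · rw [← wU_zero X] at h
    exact one_ne_zero (wU_inj X h).2.1
  · rw [X.J_eq]
    exact ((mem_Uw (by decide) c).1 ((X.cls _).2 ⟨0, 1, 0, rfl⟩)).1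

theorem sep : Sep X.S := by
  intro c h i hi
  have h1 := h _ (Uminus_le_U hC _ ((X.cls _).2 ⟨1, 0, 0, rfl⟩).1) (wU_Fx X 1 0 0)
  simp only [wU, wd, yP, List.getD_cons_zero, List.getD_cons_succ, one_pow,
    zero_pow (pow_ne_zero m (by norm_num : (3 : ℕ) ≠ 0)), add_zero, xg_zero hC, mul_one] at h1
  have h2 : tor chevG2 c * wd yP 1 1 1 1 0 0 * (tor chevG2 c)⁻¹ = wd yP (1 : K) 1 1 1 0 0 := by
    simpa [wd, yP, xg_zero hC] using h1
  have h3 : tor chevG2 c * wd yP 1 1 1 1 0 0 * (tor chevG2 c)⁻¹ =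
      wd yP ((torChar chevG2 c 7 : K) * 1) ((torChar chevG2 c 6 : K) * 1)
        ((torChar chevG2 c 8 : K) * 1) ((torChar chevG2 c 9 : K) * 1) 0 0 := by
    simp only [wd, yP, List.getD_cons_zero, List.getD_cons_succ, xg_zero hC, mul_one]
    rw [← mul_one (torChar chevG2 c 7 : K), ← mul_one (torChar chevG2 c 6 : K),
      ← mul_one (torChar chevG2 c 8 : K), ← mul_one (torChar chevG2 c 9 : K),
      ← tor_conj_x hC c 7 _ (by decide +kernel), ← tor_conj_x hC c 6 _ (by decide +kernel),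
      ← tor_conj_x hC c 8 _ (by decide +kernel), ← tor_conj_x hC c 9 _ (by decide +kernel)]
    group
  obtain ⟨e7, e6, -⟩ := wd_inj (h3.symm.trans h2)
  rw [mul_one] at e7 e6
  change i < 2 at hi
  refine Units.val_eq_one.1 ?_
  interval_cases i
  · rw [roots_ok.1]; exact e7
  · rw [roots_ok.2.1]; exact e6

theorem perfect (hm : 1 ≤ m) : commutator (twistedG2 K (3 ^ m)) = ⊤ := by
  have h4 : 4 ≤ Fintype.card K := by
    rw [hK]
    calc 4 ≤ 3 ^ 3 := by norm_num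
      _ ≤ _ := Nat.pow_le_pow_right (by norm_num) (by omega)
  obtain ⟨x, hx⟩ := E6.exists_sq_ne_one h4
  have hx2 : x ^ 2 ≠ 1 := fun e => hx (by rw [← Units.val_pow_eq_pow_val, e, Units.val_one])
  obtain ⟨a, ha⟩ : ∃ a : K, a = (torChar chevG2 (tc m x) 6 : K) := ⟨_, rfl⟩
  obtain ⟨b, hb⟩ : ∃ b : K, b = (torChar chevG2 (tc m x) 10 : K) := ⟨_, rfl⟩
  obtain ⟨d, hd⟩ : ∃ d : K, d = (torChar chevG2 (tc m x) 11 : K) := ⟨_, rfl⟩
  have ha1 : a - 1 ≠ 0 := fun e => hx2 (tc_triv hK (Or.inl (Units.val_eq_one.1 (ha ▸ sub_eq_zero.1 e))))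
  have hb1 : b - 1 ≠ 0 := fun e =>
    hx2 (tc_triv hK (Or.inr (Or.inl (Units.val_eq_one.1 (hb ▸ sub_eq_zero.1 e)))))
  have hd1 : d - 1 ≠ 0 := fun e =>
    hx2 (tc_triv hK (Or.inr (Or.inr (Units.val_eq_one.1 (hd ▸ sub_eq_zero.1 e)))))
  have hm0 : 3 ^ m ≠ 0 := pow_ne_zero m (by norm_num)
  -- commutators with the torus element
  have hbr : ∀ t u v : K, ∃ u' v' : K,
      wU (3 ^ m) ((a - 1) * t) u' v' ∈ ⁅twistedG2 K (3 ^ m), twistedG2 K (3 ^ m)⁆ ∧
      (t = 0 → u' = (b - 1) * u ∧ v' = (d - 1) * v) := by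
    intro t u v
    obtain ⟨t', u', v', e⟩ : ∃ t' u' v', (wU (3 ^ m) t u v)⁻¹ = wU (3 ^ m) t' u' v' :=
      (X.cls _).1 (inv_mem ((X.cls _).2 ⟨t, u, v, rfl⟩))
    have h1 : wU (3 ^ m) t u v * wU (3 ^ m) t' u' v' = wU (3 ^ m) 0 0 0 := by
      rw [wU_zero X, ← e, mul_inv_cancel]
    rw [wU_mul X] at h1
    obtain ⟨i1, i2, i3⟩ := wU_inj X h1
    have h := Subgroup.commutator_mem_commutator (tor_tc_mem X x) (X.cls_mem t u v).1
    rw [commutatorElement_def, conj_wU X (tor_tc_mem X x), ← ha, ← hb, ← hd, e, wU_mul X,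
      show a * t + t' = (a - 1) * t by linear_combination i1] at h
    refine ⟨_, _, h, fun ht => ?_⟩
    subst ht
    obtain rfl : t' = 0 := by simpa using i1
    simp only [zero_pow hm0, zero_pow (by norm_num : (3 : ℕ) ≠ 0), mul_zero, zero_mul, sub_zero,
      add_zero] at i2 i3 ⊢
    exact ⟨by linear_combination i2, by linear_combination i3⟩
  have h0 : ∀ u v : K, wU (3 ^ m) 0 u v ∈ ⁅twistedG2 K (3 ^ m), twistedG2 K (3 ^ m)⁆ := by
    intro u v
    obtain ⟨u', v', h, he⟩ := hbr 0 (u / (b - 1)) (v / (d - 1))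
    obtain ⟨rfl, rfl⟩ := he rfl
    rwa [mul_zero, mul_div_cancel₀ _ hb1, mul_div_cancel₀ _ hd1] at h
  have hcl : ∀ g ∈ Uw X.S (X.O.J 0), g ∈ ⁅twistedG2 K (3 ^ m), twistedG2 K (3 ^ m)⁆ := by
    rw [X.J_eq]
    intro g hg
    obtain ⟨t, u, v, rfl⟩ := (X.cls g).1 hg
    obtain ⟨u', v', h, -⟩ := hbr (t / (a - 1)) 0 0
    rw [mul_div_cancel₀ _ ha1] at h
    have h2 := mul_mem h (h0 (u - u') (v - v'))
    rw [wU_mul X] at h2
    simp only [zero_pow hm0, zero_pow (by norm_num : (3 : ℕ) ≠ 0), zero_mul, sub_zero, add_zero,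
      add_sub_cancel] at h2
    exact h2
  refine commutator_eq_top_of_le _ ?_
  refine (show twistedG2 K (3 ^ m) = _ from genSubgroup_eq hC (g2Words K (3 ^ m))).le.trans
    ((Subgroup.closure_le _).2 ?_)
  rintro g ⟨w, hw, rfl⟩
  have hF : wordGL hC w ∈ Fx X.S := X.gen.le (wordGL_mem hw)
  have hk : 0 < X.O.k := by rw [X.k_eq]; decide
  obtain ⟨t, u, v, rfl | rfl⟩ := hw
  · rw [wordGL_U]
    exact hcl _ (X.J_eq ▸ (X.cls _).2 ⟨t, u, v, rfl⟩)
  · refine der_neg X.gen hk hcl (fun p hp => ?_) hF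
    rw [X.J_eq]
    refine neg_ok p.1 ?_
    have h : p.1 ∈ [7, 6, 8, 9, 10, 11].map fun r => chevG2.negIdx.getD r 0 := by
      have := List.mem_map_of_mem (f := Prod.fst) hp
      simpa [reeWordV, ChevalleyDatum.negWord, reeWordU, g2a, g2b, g2ab, g2aab, g2aaab, g2aaabb] using this
    obtain ⟨r, hr, e⟩ := List.mem_map.1 h
    rw [← e]
    simp only [List.mem_cons, List.not_mem_nil, or_false] at hr
    rcases hr with rfl | rfl | rfl | rfl | rfl | rfl <;> decide +kernel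

theorem isSimple (hm : 1 ≤ m) :
    IsSimpleGroup (twistedG2 K (3 ^ m)) ∧ ¬ IsMulCommutative (twistedG2 K (3 ^ m)) :=
  isSimpleK X.gen (by decide) (hne X)
    (fun a ha h => absurd ha (by rw [X.k_eq]; omega)) (sep X) (perfect X hm)

/-! ### Orders -/

theorem card_Uw_orbit : ∀ a < X.O.k, Nat.card (Uw X.S (X.O.J a)) ^ 2 =
    (3 ^ (2 * m + 1)) ^ (invSet chevG2 Data.G2.tab (X.O.J a)).card := by
  intro a ha
  rw [X.k_eq] at ha
  obtain rfl : a = 0 := by omega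
  have hinv : (invSet chevG2 Data.G2.tab (X.O.J 0)).card = 6 := by rw [X.J_eq, invSet_card]
  rw [hinv, X.J_eq]
  let g : K × K × K → Uw X.S J :=
    fun p => ⟨wU (3 ^ m) p.1 p.2.1 p.2.2, (X.cls _).2 ⟨p.1, p.2.1, p.2.2, rfl⟩⟩
  have hg : Function.Bijective g := by
    constructor
    · intro p p' h
      obtain ⟨h1, h2, h3⟩ := wU_inj X (congrArg Subtype.val h :)
      exact Prod.ext h1 (Prod.ext h2 h3)
    · rintro ⟨u, hu⟩
      obtain ⟨t, u', v, e⟩ := (X.cls u).1 hu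
      exact ⟨(t, u', v), Subtype.ext e.symm⟩
  rw [← Nat.card_eq_of_bijective g hg, Nat.card_prod, Nat.card_prod, Nat.card_eq_fintype_card, hK]
  ring

theorem card_U : Nat.card ↥(chevG2.posUnipotent K ⊓ twistedG2 K (3 ^ m)) = (3 ^ (2 * m + 1)) ^ 3 := by
  have h := card_U_K X.gen 2 _ (card_Uw_orbit X)
  rw [show chevG2.nroots / 2 = 3 * 2 by decide +kernel, pow_mul] at h
  exact Nat.pow_left_injective two_ne_zero h

theorem mem_U {g : GL chevG2.Idx K} : g ∈ chevG2.posUnipotent K ⊓ twistedG2 K (3 ^ m) ↔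
    ∃ t u v : K, g = wU (3 ^ m) t u v := by
  have hle : Uw X.S J ≤ chevG2.posUnipotent K ⊓ twistedG2 K (3 ^ m) :=
    fun u hu => ⟨Uminus_le_U hC _ hu.1, Fx_le X.O X.gen hu.2⟩
  have h2 := card_Uw_orbit X 0 (by rw [X.k_eq]; decide)
  rw [X.J_eq] at h2
  have hinv : (invSet chevG2 Data.G2.tab J).card = 3 * 2 := invSet_card
  rw [hinv, pow_mul] at h2
  have h3 := Nat.pow_left_injective two_ne_zero h2
  have heq : Uw X.S J = chevG2.posUnipotent K ⊓ twistedG2 K (3 ^ m) := by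
    haveI : Finite ↥(chevG2.posUnipotent K ⊓ twistedG2 K (3 ^ m)) := Subtype.finite
    exact Subgroup.eq_of_le_of_card_ge hle (by rw [card_U X, h3])
  rw [← heq]
  exact X.cls g

theorem card_H : Nat.card ↥(chevG2.diagonalSubgroup K ⊓ twistedG2 K (3 ^ m)) = 3 ^ (2 * m + 1) - 1 := by
  classical
  let f : Kˣ → ↥(chevG2.diagonalSubgroup K ⊓ twistedG2 K (3 ^ m)) :=
    fun x => ⟨tor chevG2 (tc m x), (mem_torus X).2 ⟨x, rfl⟩⟩
  have hf : Function.Bijective f := by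
    refine ⟨fun x y h => torus_inj X (congrArg Subtype.val h :), ?_⟩
    rintro ⟨g, hg⟩
    obtain ⟨x, rfl⟩ := (mem_torus X).1 hg
    exact ⟨x, rfl⟩
  rw [← Nat.card_eq_of_bijective f hf, Nat.card_units, Nat.card_eq_fintype_card, hK]

theorem card_group : Nat.card (twistedG2 K (3 ^ m)) =
    (3 ^ (2 * m + 1)) ^ 3 * (3 ^ (2 * m + 1) - 1) * ((3 ^ (2 * m + 1)) ^ 3 + 1) := by
  obtain ⟨E, hE, hcov, hdist, hlens⟩ := exists_transversal X.O (Js := [J]) X.k_eq
    X.Js_eq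
    (C := Data.TW2G2.blocks) (n := 2) (fun k hk => range_ok w_ok (Nat.zero_le k) (by omega))
    (k₀ := 1) (by decide) w_zero
  rw [Twist.card_K X.gen hE hcov hdist, card_B_K X.gen, card_U X, card_H X,
    sum_Uw_sq X.gen (card_Uw_orbit X) hE hlens (by rw [w_lens]; decide), w_lens]
  simp [add_comm]

end Cfsg.Agent.Chevalley.Twist.G2
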