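import Cfsg.Agent.Lib.Chevalley.Twist.BN

/-!
Twists from tables: the endomorphism and the orbit data, validated by finite checks.
-/

set_option autoImplicit false

open scoped Matrix

namespace Cfsg.Agent.Chevalley.Twist

open Cfsg.Lie Cfsg.Agent.Chevalley.Eval Cfsg.Agent.Chevalley.Table Cfsg.Agent.Chevalley.Check
  Cfsg.Agent.Chevalley.Cert Cfsg.Agent.Chevalley.Group Cfsg.Agent.Chevalley.Borel
  Cfsg.Agent.Chevalley.GraphAut Cfsg.Agent.Chevalley.StKernel

variable {D : ChevalleyDatum} {F : Type*} [Field F] {T : Tab}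

/-- The node permutation of a table. -/
def nodePi (L : List (ℕ × ℕ)) (i : ℕ) : ℕ := (L.getD i (0, 1)).1

open scoped Classical in
/-- The field map on a node. -/
noncomputable def homOf (θ : F →+* F) (L : List (ℕ × ℕ)) (i : ℕ) : F →+* F :=
  if h : ∃ φ : F →+* F, ∀ x, φ x = x ^ (L.getD i (0, 1)).2 then θ.comp h.choose else θ

/-- The twist of a graph table and a field map. -/
theorem exists_tw [Finite F] (hC : Certified D T) (hT : HasCerts T) {p : ℕ} (hp : CharOK F p)
    {M : GTab} {L : List (ℕ × ℕ)} (h : relChk T p M = true) (honto : ontoChk T M = true)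
    (hs : simpleChk T M L = true) (θ : F →+* F) :
    ∃ S : Tw hC F, S.ρ = M.ρ ∧ S.π = nodePi L ∧ (∀ i < D.rank, ∀ t, S.hom i t = θ (t ^ (L.getD i (0, 1)).2)) ∧
      S.act = fun r t => (M.ε r : F) * θ (t ^ M.e r) := by
  classical
  obtain ⟨α, hαs, hα⟩ := exists_hom hC hT hp h honto
  haveI : Finite (D.group F) := Subtype.finite
  have hαi : Function.Injective α := Finite.injective_iff_surjective.2 hαs
  let β : D.group F →* D.group F :=
    ((FieldAut.mapGL D θ).comp (D.group F).subtype).codRestrict (D.group F)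
      fun g => FieldAut.map_mem_group θ g.2
  have hβi : Function.Injective β := fun a b e => by
    have e1 := congrArg (fun z : D.group F => ((z : GL D.Idx F) : Matrix D.Idx D.Idx F)) e
    exact Subtype.ext (Units.ext (Matrix.map_injective θ.injective e1))
  have hhom : ∀ i < D.rank, ∀ t, homOf θ L i t = θ (t ^ (L.getD i (0, 1)).2) := by
    intro i hi t
    have h1 := Eval.of_allR hs i (by rw [hC.l_eq]; exact hi)
    simp only [Bool.and_eq_true] at h1
    have h2 := Nat.eq_of_beq_eq_true h1.2.2.1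
    rw [hC.simple_eq hi] at h2
    obtain ⟨-, -, φ, hφ, -⟩ := relChk_spec hC hp h (hC.simple_lt hi)
    have hex : ∃ φ : F →+* F, ∀ x, φ x = x ^ (L.getD i (0, 1)).2 := ⟨φ, h2 ▸ hφ⟩
    rw [homOf, dif_pos hex, RingHom.comp_apply, hex.choose_spec]
  have hsimp : ∀ i < D.rank, M.ρ (D.simple i) = D.simple (nodePi L i) ∧
      M.ρ (D.neg (D.simple i)) = D.neg (D.simple (nodePi L i)) ∧ M.ε (D.simple i) = 1 ∧
      M.ε (D.neg (D.simple i)) = 1 ∧ M.e (D.simple i) = (L.getD i (0, 1)).2 ∧
      M.e (D.neg (D.simple i)) = (L.getD i (0, 1)).2 ∧ nodePi L i < D.rank := by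
    intro i hi
    have h1 := Eval.of_allR hs i (by rw [hC.l_eq]; exact hi)
    simp only [Bool.and_eq_true, Nat.blt_eq, hC.l_eq] at h1
    obtain ⟨⟨⟨hj, e1⟩, e2, e3, e3'⟩, ⟨e4, e4'⟩, e5, e6⟩ := h1
    have one : ∀ z : ℤ, Perfect.isUnit1 z = true → isNN z = true → z = 1 := fun z hu hn => by
      have := (isNN_iff z).1 hn
      rcases Int.natAbs_eq_iff.1 (Nat.eq_of_beq_eq_true hu) with e | e <;> omega
    have hp' := hC.simple_lt hi
    rw [hC.simple_eq hi, hC.simple_eq hj] at e1 e2
    rw [hC.neg_eq hp', hC.neg_eq (hC.simple_lt hj)] at e2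
    rw [hC.simple_eq hi, hC.neg_eq hp'] at e4 e4' e6
    rw [hC.simple_eq hi] at e3 e3' e5
    exact ⟨Nat.eq_of_beq_eq_true e1, Nat.eq_of_beq_eq_true e2, one _ e3 e3', one _ e4 e4',
      Nat.eq_of_beq_eq_true e5, Nat.eq_of_beq_eq_true e6, hj⟩
  refine ⟨{
    sig := β.comp α
    sig_inj := hβi.comp hαi
    ρ := M.ρ
    π := nodePi L
    hom := homOf θ L
    act := fun r t => (M.ε r : F) * θ (t ^ M.e r)
    ρ_lt := fun r hr => (relChk_spec hC hp h hr).1
    π_lt := fun i hi => (hsimp i hi).2.2.2.2.2.2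
    ρ_simple := fun i hi => (hsimp i hi).1
    ρ_neg_simple := fun i hi => (hsimp i hi).2.1
    sig_x := fun r hr t => ?_
    act_simple := fun i hi t => ?_
    act_neg_simple := fun i hi t => ?_
    act_surj := fun r hr => ?_ }, rfl, rfl, hhom, rfl⟩
  · refine Units.ext ?_
    show (((α ⟨xg hC r t, _⟩ : D.group F) : GL D.Idx F) : Matrix D.Idx D.Idx F).map θ = _
    rw [hα r hr t, Xi, coe_xg, FieldAut.x_map, coe_xg, map_mul, map_intCast]
  · show (M.ε (D.simple i) : F) * θ (t ^ M.e (D.simple i)) = homOf θ L i t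
    rw [(hsimp i hi).2.2.1, (hsimp i hi).2.2.2.2.1, Int.cast_one, one_mul, hhom i hi]
  · show (M.ε (D.neg (D.simple i)) : F) * θ (t ^ M.e (D.neg (D.simple i))) = homOf θ L i t
    rw [(hsimp i hi).2.2.2.1, (hsimp i hi).2.2.2.2.2.1, Int.cast_one, one_mul, hhom i hi]
  · obtain ⟨-, hε, φ, hφ, -⟩ := relChk_spec hC hp h hr
    refine Finite.injective_iff_surjective.1 fun t u e => φ.injective (θ.injective ?_)
    rw [hφ, hφ]
    exact mul_left_cancel₀ (by rcases hε with e' | e' <;> simp [e']) e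

/-! ### Checks for the orbit data -/

/-- A word acting on a root. -/
noncomputable def applyW (T : Tab) (L : List ℕ) (r : ℕ) : ℕ := List.rec r (fun j _ ih => T.refl j ih) L

/-- Some element of a list. -/
noncomputable def anyL {α : Type} (p : α → Bool) (L : List α) : Bool :=
  List.rec false (fun a _ ih => bif p a then true else ih) L

/-- All sublists. -/
noncomputable def subs (L : List ℕ) : List (List ℕ) :=
  List.rec [[]] (fun a _ ih => ih.map (a :: ·) ++ ih) L

/-- The head root of a chain entry. -/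
noncomputable def headIs (r : ℕ) (L : List (ℕ × ℤ)) : Bool :=
  List.rec false (fun q _ _ => Nat.beq q.1 r) L

/-- Checks on one orbit. -/
noncomputable def orbitChk (T : Tab) (M : GTab) (π : ℕ → ℕ) (J : List ℕ) : Bool :=
  ((allL (fun i => Nat.blt i T.l) J && !J.isEmpty) &&
  (allL (fun i => allL (fun j => Nat.beq i j || (Nat.beq (π i) j || Nat.beq (π (π i)) j)) J) J &&
  allL (fun i => iblt (T.phi (applyW T J (T.simple i))) 0) J)) &&
  (allR T.n (fun r => Nat.beq (applyW T J (M.ρ r)) (M.ρ (applyW T J r)) &&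
      (Nat.beq (applyW T J (applyW T J r)) r &&
      (!(iblt 0 (T.phi r) && iblt (T.phi (applyW T J r)) 0) ||
        (anyL (fun i => Nat.beq r (T.simple i)) J ||
          anyR T.n fun x => (iblt 0 (T.phi x) && iblt (T.phi (applyW T J x)) 0) &&
            anyR T.n fun y => (iblt 0 (T.phi y) && iblt (T.phi (applyW T J y)) 0) &&
              headIs r (T.E x y))))) &&
  allL (fun L' => anyR T.l (fun i =>
      !Nat.beq (applyW T L' (M.ρ (T.simple i))) (M.ρ (applyW T L' (T.simple i)))) ||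
    (allR T.l (fun i => Nat.beq (applyW T L' (T.simple i)) (T.simple i)) ||
      allR T.l fun i => Nat.beq (applyW T L' (T.simple i)) (applyW T J (T.simple i)))) (subs J))

/-- Checks on all orbits. -/
noncomputable def orbitsChk (T : Tab) (M : GTab) (π : ℕ → ℕ) (Js : List (List ℕ))
    (top : List ℕ) : Bool :=
  (allL (orbitChk T M π) Js && allR T.l (fun i => anyL (fun J => anyL (Nat.beq i) J) Js)) &&
  (allR Js.length (fun a => allR Js.length fun b => Nat.beq a b || anyR T.l fun i =>
      !Nat.beq (applyW T (Js.getD a []) (T.simple i)) (applyW T (Js.getD b []) (T.simple i))) &&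
  (allL (fun a => Nat.blt a Js.length) top &&
    allR T.l fun i => iblt (T.phi (applyW T (top.flatMap fun a => Js.getD a []) (T.simple i))) 0))

theorem anyL_iff {α : Type} {p : α → Bool} : ∀ L : List α, anyL p L = true ↔ ∃ x ∈ L, p x = true
  | [] => by simp [anyL]
  | a :: L => by
    show (bif p a then true else anyL p L) = true ↔ _
    cases h : p a with
    | true => simp [h]
    | false => simp [h, anyL_iff L]

theorem mem_subs : ∀ {L L' : List ℕ}, L'.Sublist L → L' ∈ subs L := by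
  intro L L' h
  induction h with
  | slnil => simp [subs]
  | cons a _ ih => exact List.mem_append_right _ ih
  | cons_cons a _ ih => exact List.mem_append_left _ (List.mem_map.2 ⟨_, ih, rfl⟩)

/-- The orbit data of a checked table. -/
theorem exists_orbits {hC : Certified D T} {S : Tw hC F} {M : GTab} (hρ : S.ρ = M.ρ)
    {Js : List (List ℕ)} {top : List ℕ} (h : orbitsChk T M S.π Js top = true) :
    ∃ O : Orbits S, O.k = Js.length ∧ (∀ a, O.J a = Js.getD a []) ∧ O.top = top := by
  simp only [orbitsChk, Bool.and_eq_true] at h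
  obtain ⟨⟨hall, hcov⟩, hdist, htop, htneg⟩ := h
  have hmem : ∀ a < Js.length, Js.getD a [] ∈ Js := fun a ha => by
    rw [List.getD_eq_getElem _ _ ha]; exact List.getElem_mem ha
  have hJlt : ∀ a < Js.length, ∀ i ∈ Js.getD a [], i < D.rank := fun a ha i hi => by
    have h1 := of_allL hall _ (hmem a ha)
    simp only [orbitChk, Bool.and_eq_true] at h1
    have h2 := of_allL h1.1.1.1 i hi
    rwa [Nat.blt_eq, hC.l_eq] at h2
  have hW : ∀ {L : List ℕ}, (∀ i ∈ L, i < D.rank) → ∀ {r}, r < D.nroots →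
      applyW T L r = wL D L r := fun hL _ hr => StConj.actT_foldr hC hL hr
  have hmain : ∀ a < Js.length, ∀ r < D.nroots,
      wL D (Js.getD a []) (M.ρ r) = M.ρ (wL D (Js.getD a []) r) ∧
        wL D (Js.getD a []) (wL D (Js.getD a []) r) = r ∧
        (0 < T.phi r → T.phi (wL D (Js.getD a []) r) < 0 →
          (∃ i ∈ Js.getD a [], r = D.simple i) ∨ ∃ x y : ℕ, ∃ q : ℕ × ℤ, x < D.nroots ∧
            y < D.nroots ∧ 0 < T.phi x ∧ 0 < T.phi y ∧ T.phi (wL D (Js.getD a []) x) < 0 ∧
            T.phi (wL D (Js.getD a []) y) < 0 ∧ (D.chainEntry x y)[0]? = some q ∧ q.1 = r) := by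
    intro a ha r hr
    have h1 := of_allL hall _ (hmem a ha)
    simp only [orbitChk, Bool.and_eq_true] at h1
    have h2 := Eval.of_allR h1.2.1 r (by rw [hC.n_eq]; exact hr)
    simp only [Bool.and_eq_true] at h2
    obtain ⟨e1, e2, e3⟩ := h2
    have hρr : M.ρ r < D.nroots := hρ ▸ S.ρ_lt r hr
    have hJ := hJlt a ha
    rw [hW hJ hρr, hW hJ hr] at e1
    rw [hW hJ hr, hW hJ (wL_lt hC hJ hr)] at e2
    refine ⟨Nat.eq_of_beq_eq_true e1, Nat.eq_of_beq_eq_true e2, fun hp hn => ?_⟩
    simp only [Bool.or_eq_true, Bool.not_eq_true', Bool.and_eq_false_iff] at e3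
    rcases e3 with (h0 | h0) | h3 | h3
    · rw [(iblt_iff _ _).2 hp] at h0; simp at h0
    · rw [hW hJ hr, (iblt_iff _ _).2 hn] at h0; simp at h0
    · obtain ⟨i, hi, hir⟩ := (anyL_iff _).1 h3
      exact Or.inl ⟨i, hi, by rw [← hC.simple_eq (hJ i hi)]; exact Nat.eq_of_beq_eq_true hir⟩
    · obtain ⟨x, hx, h4⟩ := of_anyR h3
      simp only [Bool.and_eq_true] at h4
      obtain ⟨⟨hx1, hx2⟩, h5⟩ := h4
      obtain ⟨y, hy, h6⟩ := of_anyR h5
      simp only [Bool.and_eq_true] at h6
      obtain ⟨⟨hy1, hy2⟩, h7⟩ := h6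
      rw [hC.n_eq] at hx hy
      rw [hW hJ hx] at hx2
      rw [hW hJ hy] at hy2
      rw [hC.linked.E_eq x hx y hy] at h7
      cases hch : D.chainEntry x y with
      | nil => rw [hch] at h7; simp [headIs] at h7
      | cons q L =>
        rw [hch] at h7
        exact Or.inr ⟨x, y, q, hx, hy, (iblt_iff _ _).1 hx1, (iblt_iff _ _).1 hy1,
          (iblt_iff _ _).1 hx2, (iblt_iff _ _).1 hy2, by rw [hch]; rfl, Nat.eq_of_beq_eq_true h7⟩
  refine ⟨{
    k := Js.length
    J := fun a => Js.getD a []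
    J_lt := hJlt
    ne := fun a ha e => ?_
    cover := fun i hi => ?_
    trans := fun a ha i hi j hj => ?_
    commute := fun a ha r hr => by rw [hρ]; exact (hmain a ha r hr).1
    invol := fun a ha r hr => (hmain a ha r hr).2.1
    neg_simple := fun a ha i hi => ?_
    decomp := fun a ha r hr => (hmain a ha r hr).2.2
    sub := fun a ha L hL hLe => ?_
    distinct := fun a ha b hb hne => ?_
    top := top
    top_lt := fun a hat => ?_
    top_neg := fun i hi => ?_ }, rfl, fun _ => rfl, rfl⟩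
  · have h1 := of_allL hall _ (hmem a ha)
    simp only [orbitChk, Bool.and_eq_true, Bool.not_eq_true'] at h1
    rw [e] at h1
    simp at h1
  · obtain ⟨J, hJ, h1⟩ := (anyL_iff _).1 (Eval.of_allR hcov i (by rw [hC.l_eq]; exact hi))
    obtain ⟨a, ha, rfl⟩ := List.getElem_of_mem hJ
    obtain ⟨j, hj, hij⟩ := (anyL_iff _).1 h1
    exact ⟨a, ha, by rw [List.getD_eq_getElem _ _ ha, Nat.eq_of_beq_eq_true hij]; exact hj⟩
  · have h1 := of_allL hall _ (hmem a ha)
    simp only [orbitChk, Bool.and_eq_true] at h1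
    have h2 := of_allL (of_allL h1.1.2.1 i hi) j hj
    simp only [Bool.or_eq_true] at h2
    rcases h2 with h2 | h2 | h2
    exacts [⟨0, Nat.eq_of_beq_eq_true h2⟩, ⟨1, Nat.eq_of_beq_eq_true h2⟩,
      ⟨2, Nat.eq_of_beq_eq_true h2⟩]
  · have h1 := of_allL hall _ (hmem a ha)
    simp only [orbitChk, Bool.and_eq_true] at h1
    have h2 := of_allL h1.1.2.2 i hi
    rw [iblt_iff, hC.simple_eq (hJlt a ha i hi),
      hW (hJlt a ha) (hC.simple_lt (hJlt a ha i hi))] at h2
    exact h2
  · have hJ := hJlt a ha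
    have hLlt : ∀ i ∈ L, i < D.rank := fun i hi => hJ i (hL.subset hi)
    have h1 := of_allL hall _ (hmem a ha)
    simp only [orbitChk, Bool.and_eq_true] at h1
    have h2 := of_allL h1.2.2 L (mem_subs hL)
    simp only [Bool.or_eq_true] at h2
    rcases h2 with h3 | h3 | h3
    · obtain ⟨i, hi, h4⟩ := of_anyR h3
      rw [hC.l_eq] at hi
      rw [Bool.not_eq_true', hC.simple_eq hi, hW hLlt (hC.simple_lt hi),
        hW hLlt (hρ ▸ S.ρ_lt _ (hC.simple_lt hi))] at h4
      exact absurd (hρ ▸ hLe i hi) (Nat.ne_of_beq_eq_false h4)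
    · refine Or.inl fun i hi => ?_
      have := Eval.of_allR h3 i (by rw [hC.l_eq]; exact hi)
      rw [hC.simple_eq hi, hW hLlt (hC.simple_lt hi)] at this
      exact Nat.eq_of_beq_eq_true this
    · refine Or.inr fun i hi => ?_
      have := Eval.of_allR h3 i (by rw [hC.l_eq]; exact hi)
      rw [hC.simple_eq hi, hW hLlt (hC.simple_lt hi), hW hJ (hC.simple_lt hi)] at this
      exact Nat.eq_of_beq_eq_true this
  · have h1 := Eval.of_allR (Eval.of_allR hdist a ha) b hb
    rw [Bool.or_eq_true] at h1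
    rcases h1 with h1 | h1
    · exact absurd (Nat.eq_of_beq_eq_true h1) hne
    obtain ⟨i, hi, h4⟩ := of_anyR h1
    rw [hC.l_eq] at hi
    rw [Bool.not_eq_true', hC.simple_eq hi, hW (hJlt a ha) (hC.simple_lt hi),
      hW (hJlt b hb) (hC.simple_lt hi)] at h4
    exact ⟨i, hi, Nat.ne_of_beq_eq_false h4⟩
  · have := of_allL htop a hat
    rwa [Nat.blt_eq] at this
  · have hT : ∀ j ∈ top.flatMap (fun a => Js.getD a []), j < D.rank := fun j hj => by
      obtain ⟨a, hat, hja⟩ := List.mem_flatMap.1 hj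
      have := of_allL htop a hat
      rw [Nat.blt_eq] at this
      exact hJlt a this j hja
    have := Eval.of_allR htneg i (by rw [hC.l_eq]; exact hi)
    rw [iblt_iff, hC.simple_eq hi, hW hT (hC.simple_lt hi)] at this
    exact this

end Cfsg.Agent.Chevalley.Twist
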