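import Cfsg.Agent.Lib.Chevalley.Columns

/-!
A check of identities between words in characteristic three, reducing the coefficients at every step.
-/

set_option autoImplicit false

open scoped Matrix

namespace Cfsg.Agent.Chevalley.Twist.Mod3

open Cfsg.Lie Cfsg.Agent.Chevalley.Eval Cfsg.Agent.Chevalley.Table Cfsg.Agent.Chevalley.Cert
  Cfsg.Agent.Chevalley.Columns

/-- Reduce the coefficients. -/
noncomputable def red (L : List Term) : List Term :=
  norm (List.rec [] (fun T _ ih => ⟨T.idx, T.a, T.b, Int.emod T.c 3⟩ :: ih) (norm L) : List Term)

/-- The image under a word, reduced at every letter. -/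
noncomputable def actW (col : Col) (w : List Letter) (L : List Term) : List Term :=
  List.rec L (fun l _ ih => red (act col l ih)) w

/-- The check of a word identity. -/
noncomputable def sameWords (col : Col) (dim : ℕ) (w w' : List Letter) : Bool :=
  allR dim fun j => (red (negTerms (actW col w' (unit j)) (actW col w (unit j)))).isEmpty

variable {D : ChevalleyDatum} {F : Type*} [Field F] [CharP F 3] {col : Col}

theorem cast_emod (z : ℤ) : ((Int.emod z 3 : ℤ) : F) = (z : F) := by
  conv_rhs => rw [← Int.emod_add_mul_ediv z 3]
  rw [Int.cast_add, Int.cast_mul, Int.cast_ofNat, show (3 : F) = 0 from CharP.ofNat_eq_zero F 3,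
    zero_mul, add_zero]
  rfl

theorem vec_red (t u : F) (L : List Term) : vec D t u (red L) = vec D t u L := by
  rw [red, vec_norm]
  conv_rhs => rw [← vec_norm]
  induction norm L with
  | nil => rfl
  | cons T L ih =>
    show vec D t u (⟨T.idx, T.a, T.b, Int.emod T.c 3⟩ :: _) = _
    rw [vec_cons, ih, vec_cons]
    simp only [mval, cast_emod]

theorem vec_actW (t u : F) (h : ColValid D F col) (w : List Letter) (L : List Term) :
    vec D t u (actW col w L) = D.wordMat F (wordVal t u w) *ᵥ vec D t u L := by
  induction w with
  | nil => simp [actW, wordVal, ChevalleyDatum.wordMat]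
  | cons l w ih =>
    show vec D t u (red (act col l (actW col w L))) = _
    rw [vec_red, vec_act t u h, ih, Matrix.mulVec_mulVec]
    simp [wordVal, ChevalleyDatum.wordMat]

theorem wordMat_eq (t u : F) (h : ColValid D F col) {w w' : List Letter}
    (hs : sameWords col (D.rank + D.nroots) w w' = true) :
    D.wordMat F (wordVal t u w) = D.wordMat F (wordVal t u w') := by
  refine matrix_ext D fun j hj => ?_
  have h1 := vec_red (D := D) t u (negTerms (actW col w' (unit j)) (actW col w (unit j)))
  rw [List.isEmpty_iff.1 (of_allR hs j hj), vec_nil, vec_negTerms, eq_comm, sub_eq_zero,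
    vec_actW t u h, vec_actW t u h, vec_unit] at h1
  exact h1

end Cfsg.Agent.Chevalley.Twist.Mod3
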