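import Cfsg.Agent.Lib.Chevalley.Twist.OrthGen
import Cfsg.Agent.Lib.Chevalley.Order
import Cfsg.Agent.Lib.Chevalley.TorusCard

/-!
The orders of the fixed unipotent groups, of the fixed Borel group and of the fixed group.
-/

set_option autoImplicit false

open scoped Matrix

namespace Cfsg.Agent.Chevalley.Twist

open Cfsg.Lie Cfsg.Agent.Chevalley.Table Cfsg.Agent.Chevalley.Cert Cfsg.Agent.Chevalley.Group
  Cfsg.Agent.Chevalley.Weight Cfsg.Agent.Chevalley.Unip Cfsg.Agent.Chevalley.Borel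
  Cfsg.Agent.Chevalley.Weyl Cfsg.Agent.Chevalley.Bruhat Cfsg.Agent.Chevalley.NormalForm
  Cfsg.Agent.Chevalley.WeylEnum

variable {D : ChevalleyDatum} {F : Type*} [Field F] {T : Tab} {hC : Certified D T}
variable (S : Tw hC F)

/-- The fixed elements of `U` that the word sends into `V`. -/
def Uw (L : List ℕ) : Subgroup (GL D.Idx F) := Uminus D F (tor D 1 * nL hC F L) ⊓ Fx S

variable {S}

theorem mem_Uw {L : List ℕ} (hL : ∀ i ∈ L, i < D.rank) (c : ℕ → Fˣ) {u : GL D.Idx F} :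
    u ∈ Uw S L ↔ u ∈ Uminus D F (tor D c * nL hC F L) ∧ u ∈ Fx S := by
  rw [Uw, Subgroup.mem_inf, Uminus_eq hC hL 1, Uminus_eq hC hL c]

theorem Uw_congr {L L' : List ℕ} (hL : ∀ i ∈ L, i < D.rank) (hL' : ∀ i ∈ L', i < D.rank)
    (h : Eqv D L L') : Uw S L = Uw S L' := by
  rw [Uw, Uw, Order.Uminus_congr hC hL hL' h 1 1]

theorem equiv_append {L M : List ℕ} (hM : ∀ i ∈ M, i < D.rank) (h : Equiv' S L) (h' : Equiv' S M) :
    Equiv' S (L ++ M) := by
  intro r hr
  rw [wL_append, wL_append, h' r hr, h _ (wL_lt hC hM hr)]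

theorem equiv_flatMap (O : Orbits S) : ∀ w : List ℕ, (∀ a ∈ w, a < O.k) →
    Equiv' S (w.flatMap O.J) := by
  intro w
  induction w with
  | nil => intro _ r _; rfl
  | cons a w ih =>
    intro hw
    rw [List.flatMap_cons]
    exact equiv_append (flatMap_lt O fun b hb => hw b (List.mem_cons_of_mem a hb))
      (fun r hr => O.commute a (hw a List.mem_cons_self) r hr)
      (ih fun b hb => hw b (List.mem_cons_of_mem a hb))

section step

variable (O : Orbits S) {L : List ℕ} (hL : ∀ i ∈ L, i < D.rank) {a : ℕ} (ha : a < O.k)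
  (hneg : ∀ s < D.nroots, 0 < T.phi s → T.phi (wL D (O.J a) s) < 0 → T.phi (wL D L s) < 0)
include hL ha hneg

theorem inv_append_fwd {r : ℕ} (hr : r ∈ invSet D T (L ++ O.J a)) :
    wL D (O.J a) r ∈ invSet D T L ∧ wL D (O.J a) r ∉ invSet D T (O.J a) := by
  simp only [invSet, Finset.mem_filter, Finset.mem_range, wL_append] at hr ⊢
  obtain ⟨hr, hp, hn⟩ := hr
  have hJ := O.J_lt a ha
  have hlt := wL_lt hC hJ hr
  have hpos : 0 < T.phi (wL D (O.J a) r) := by
    by_contra hcon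
    have h1 : T.phi (wL D (O.J a) r) < 0 := by have := hC.phi_ne_zero hlt; omega
    have h2 : 0 < T.phi (D.neg (wL D (O.J a) r)) := by rw [hC.phi_neg hlt]; omega
    have h3 := hneg _ (hC.neg_lt hlt) h2
      (by rw [wL_neg hC hJ hlt, O.invol a ha r hr, hC.phi_neg hr]; omega)
    rw [wL_neg hC hL hlt, hC.phi_neg (wL_lt hC hL hlt)] at h3
    omega
  refine ⟨⟨hlt, hpos, hn⟩, fun h => ?_⟩
  rw [O.invol a ha r hr] at h
  omega

theorem inv_append_bwd {s : ℕ} (hs : s ∈ invSet D T L) (hs' : s ∉ invSet D T (O.J a)) :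
    wL D (O.J a) s ∈ invSet D T (L ++ O.J a) := by
  simp only [invSet, Finset.mem_filter, Finset.mem_range, wL_append] at hs hs' ⊢
  obtain ⟨hs, hp, hn⟩ := hs
  have hlt := wL_lt hC (O.J_lt a ha) hs
  refine ⟨hlt, ?_, by rwa [O.invol a ha s hs]⟩
  have := hC.phi_ne_zero hlt
  have : ¬ T.phi (wL D (O.J a) s) < 0 := fun h => hs' ⟨hs, hp, h⟩
  omega

theorem invSet_card_step :
    (invSet D T L).card = (invSet D T (L ++ O.J a)).card + (invSet D T (O.J a)).card := by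
  have hsub : invSet D T (O.J a) ⊆ invSet D T L := fun s hs => by
    simp only [invSet, Finset.mem_filter, Finset.mem_range] at hs ⊢
    exact ⟨hs.1, hs.2.1, hneg s hs.1 hs.2.1 hs.2.2⟩
  have e : (invSet D T (L ++ O.J a)).card = (invSet D T L \ invSet D T (O.J a)).card := by
    refine Finset.card_nbij' (wL D (O.J a)) (wL D (O.J a)) (fun r hr => ?_) (fun s hs => ?_)
      (fun r hr => ?_) (fun s hs => ?_)
    · exact Finset.mem_coe.2 (Finset.mem_sdiff.2 (inv_append_fwd O hL ha hneg (Finset.mem_coe.1 hr)))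
    · obtain ⟨h1, h2⟩ := Finset.mem_sdiff.1 (Finset.mem_coe.1 hs)
      exact Finset.mem_coe.2 (inv_append_bwd O hL ha hneg h1 h2)
    · simp only [invSet, Finset.coe_filter, Finset.mem_range, Set.mem_setOf_eq] at hr
      exact O.invol a ha r hr.1
    · have h := Finset.mem_sdiff.1 (Finset.mem_coe.1 hs)
      simp only [invSet, Finset.mem_filter, Finset.mem_range] at h
      exact O.invol a ha s h.1.1
  rw [e, Finset.card_sdiff_of_subset hsub, Nat.sub_add_cancel (Finset.card_le_card hsub)]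

theorem card_Uw_step {d : ℕ → Fˣ} (hd : tor D d * nL hC F (O.J a) ∈ Fx S) :
    Nat.card (Uw S L) = Nat.card (Uw S (L ++ O.J a)) * Nat.card (Uw S (O.J a)) := by
  have hJ := O.J_lt a ha
  have hLJ : ∀ i ∈ L ++ O.J a, i < D.rank := fun i hi => (List.mem_append.1 hi).elim (hL i) (hJ i)
  obtain ⟨m, hm⟩ : ∃ m, m = tor D d * nL hC F (O.J a) := ⟨_, rfl⟩
  rw [← hm] at hd
  have hJL : Uminus D F (tor D d * nL hC F (O.J a)) ≤ Uminus D F (tor D 1 * nL hC F L) := by
    rw [Uminus_eq hC hJ d, Uminus_eq hC hL 1]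
    refine Subgroup.closure_mono ?_
    rintro g ⟨s, t, hs, rfl⟩
    obtain ⟨h1, h2, h3⟩ := (mem_invList hC).1 hs
    exact ⟨s, t, (mem_invList hC).2 ⟨h1, h2, hneg s h1 h2 h3⟩, rfl⟩
  have hA : ∀ A ∈ Uw S (L ++ O.J a), m⁻¹ * A * m ∈ Uw S L := by
    intro A hA
    refine (mem_Uw hL 1).2 ⟨?_, mul_mem (mul_mem (inv_mem hd) hA.2) hd⟩
    have hmap : (Uminus D F (tor D 1 * nL hC F (L ++ O.J a))).map (MulAut.conj m⁻¹).toMonoidHom ≤
        Uminus D F (tor D 1 * nL hC F L) := by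
      rw [Uminus_eq hC hLJ 1, Uminus_eq hC hL 1, MonoidHom.map_closure, Subgroup.closure_le]
      rintro _ ⟨_, ⟨r, t, hr, rfl⟩, rfl⟩
      have hr' : r ∈ invSet D T (L ++ O.J a) := by
        simp only [invSet, Finset.mem_filter, Finset.mem_range]
        exact (mem_invList hC).1 hr
      obtain ⟨h1, -⟩ := inv_append_fwd O hL ha hneg hr'
      have hrn : r < D.nroots := ((mem_invList hC).1 hr).1
      obtain ⟨η, hη, e⟩ := conj_xg (F := F) hC hJ d (wL_lt hC hJ hrn)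
      refine Subgroup.subset_closure ⟨wL D (O.J a) r, t / η, (mem_invList hC).2 ?_, ?_⟩
      · simpa only [invSet, Finset.mem_filter, Finset.mem_range] using h1
      · have e' := e (t / η)
        rw [O.invol a ha r hrn, mul_div_cancel₀ _ hη, ← hm] at e'
        rw [← e']
        simp [MulAut.conj_apply, mul_assoc]
    have := hmap ⟨A, hA.1, rfl⟩
    simpa [MulAut.conj_apply] using this
  have hUm : ∀ {B}, B ∈ Uw S (O.J a) → B ∈ Uw S L := fun {B} hB =>
    (mem_Uw hL 1).2 ⟨hJL ((mem_Uw hJ d).1 hB).1, hB.2⟩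
  let f : ↥(Uw S (L ++ O.J a)) × ↥(Uw S (O.J a)) → ↥(Uw S L) := fun p =>
    ⟨m⁻¹ * p.1 * m * p.2, mul_mem (hA _ p.1.2) (hUm p.2.2)⟩
  have hf : Function.Bijective f := by
    constructor
    · rintro ⟨A, B⟩ ⟨A', B'⟩ h
      have h' : m⁻¹ * (A : GL D.Idx F) * m * B = m⁻¹ * A' * m * B' := congrArg Subtype.val h
      have hBU := Uminus_le_U hC _ A.2.1
      have hV : m * ((B' : GL D.Idx F) * (B : GL D.Idx F)⁻¹) * m⁻¹ ∈ D.negUnipotent F := by
        rw [hm]
        exact conj_Uminus hC (mul_mem ((mem_Uw hJ d).1 B'.2).1 (inv_mem ((mem_Uw hJ d).1 B.2).1))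
      have e : (A' : GL D.Idx F)⁻¹ * A = m * ((B' : GL D.Idx F) * (B : GL D.Idx F)⁻¹) * m⁻¹ := by
        calc (A' : GL D.Idx F)⁻¹ * A
            = (A' : GL D.Idx F)⁻¹ * (m * (m⁻¹ * (A : GL D.Idx F) * m * B) * (B : GL D.Idx F)⁻¹ * m⁻¹) := by group
          _ = _ := by rw [h']; group
      have h1 := U_inf_V hC (mul_mem (inv_mem (Uminus_le_U hC _ A'.2.1)) hBU) (e ▸ hV)
      rw [inv_mul_eq_one] at h1
      obtain rfl : A = A' := Subtype.ext h1.symm
      obtain rfl : B = B' := Subtype.ext (mul_left_cancel h')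
      rfl
    · rintro ⟨u, hu⟩
      obtain ⟨A, B, rfl, hAF, hBF, hAU, hA', hB⟩ :=
        split_fixed O ha (hm ▸ hd) (Uminus_le_U hC _ hu.1) hu.2
      rw [← hm] at hA' hB
      have hB' : B ∈ Uw S (O.J a) := (mem_Uw hJ d).2 ⟨hm ▸ hB, hBF⟩
      have hA1 : A ∈ Uw S L := by
        have := mul_mem hu (inv_mem (hUm hB'))
        rwa [mul_inv_cancel_right] at this
      obtain ⟨h, hh⟩ : ∃ h : ℕ → Fˣ, m * m = tor D h := by
        have hJJ : ∀ i ∈ O.J a ++ O.J a, i < D.rank := fun i hi =>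
          (List.mem_append.1 hi).elim (hJ i) (hJ i)
        obtain ⟨c', hc'⟩ := nL_conj_tor (F := F) hC hJ d
        obtain ⟨e, he⟩ := exists_tor_of_pos (F := F) hC hJJ fun i hi => by
          rw [wL_append, O.invol a ha _ (hC.simple_lt hi)]
          exact hC.phi_simple hi
        refine ⟨d * c' * e, ?_⟩
        rw [hm, ← tor_mul, ← tor_mul, ← he, nL_append,
          show tor D d * tor D c' * (nL hC F (O.J a) * nL hC F (O.J a)) =
            tor D d * (tor D c' * nL hC F (O.J a)) * nL hC F (O.J a) by group, ← hc']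
        group
      obtain ⟨c, hc⟩ : ∃ c : ℕ → Fˣ,
          tor D 1 * nL hC F L * m⁻¹ = tor D c * nL hC F (L ++ O.J a) := by
        obtain ⟨c', hc'⟩ := nL_conj_tor (F := F) hC hL (h⁻¹ * d)
        refine ⟨c', ?_⟩
        rw [nL_append, ← mul_assoc, ← hc', ← tor_mul, ← tor_inv, ← hh, hm, tor_one, one_mul]
        group
      have hA2 : m * A * m⁻¹ ∈ Uw S (L ++ O.J a) := by
        refine (mem_Uw hLJ c).2 ⟨(mem_Uminus_iff hC ((mem_N_iff hC).2 ⟨c, _, hLJ, rfl⟩)).2
          ⟨hA', ?_⟩, mul_mem (mul_mem hd hAF) (inv_mem hd)⟩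
        rw [← hc]
        have := conj_Uminus hC hA1.1
        simpa [mul_assoc] using this
      exact ⟨⟨⟨_, hA2⟩, ⟨B, hB'⟩⟩, Subtype.ext (show m⁻¹ * (m * A * m⁻¹) * m * B = A * B by group)⟩
  rw [← Nat.card_congr (Equiv.ofBijective f hf), Nat.card_prod]

end step

theorem invSet_eq_empty_iff (hC : Certified D T) {L : List ℕ} (hL : ∀ i ∈ L, i < D.rank) :
    invSet D T L = ∅ ↔ Eqv D L [] := by
  constructor
  · intro h r hr
    refine wL_eq_self_of_pos hC hL (fun i hi => ?_) hr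
    have h1 := hC.phi_ne_zero (wL_lt hC hL (hC.simple_lt hi))
    by_contra hcon
    have h2 : D.simple i ∈ invSet D T L := Finset.mem_filter.2
      ⟨Finset.mem_range.2 (hC.simple_lt hi), hC.phi_simple hi, by omega⟩
    rw [h] at h2
    exact absurd h2 (Finset.notMem_empty _)
  · intro h
    rw [invSet, Finset.filter_eq_empty_iff]
    intro r hr h'
    rw [h r (Finset.mem_range.1 hr)] at h'
    simp only [wL, List.foldr_nil] at h'
    omega

theorem Uw_bot {L : List ℕ} (hL : ∀ i ∈ L, i < D.rank) (h : invSet D T L = ∅) :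
    Uw S L = ⊥ := by
  rw [eq_bot_iff]
  intro u hu
  have h1 := hu.1
  rw [Uminus_eq hC hL 1] at h1
  refine (Subgroup.closure_le _).2 ?_ h1
  rintro g ⟨r, t, hr, -⟩
  have h2 := (mem_invList hC).1 hr
  exact absurd (h ▸ (Finset.mem_filter.2 ⟨Finset.mem_range.2 h2.1, h2.2⟩ : r ∈ invSet D T L))
    (Finset.notMem_empty r)

variable {O : Orbits S} {K : Subgroup (GL D.Idx F)} (hK : GenData O K)
include hK

/-- The fixed unipotent group of a word, from those of the orbits. -/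
theorem card_Uw (e Q : ℕ)
    (hcard : ∀ a < O.k, Nat.card (Uw S (O.J a)) ^ e = Q ^ (invSet D T (O.J a)).card)
    {L : List ℕ} (hL : ∀ i ∈ L, i < D.rank) (hE : Equiv' S L) :
    Nat.card (Uw S L) ^ e = Q ^ (invSet D T L).card := by
  obtain ⟨n, hn⟩ : ∃ n, n = (invSet D T L).card := ⟨_, rfl⟩
  induction n using Nat.strong_induction_on generalizing L with
  | _ n ih =>
    rcases Finset.eq_empty_or_nonempty (invSet D T L) with h0 | ⟨r, hr⟩
    · rw [Uw_bot hL h0, h0, Finset.card_empty, Subgroup.card_bot, one_pow, pow_zero]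
    simp only [invSet, Finset.mem_filter, Finset.mem_range] at hr
    obtain ⟨a, ha, hneg⟩ := exists_orbit O hL hE hr.1 hr.2.1 hr.2.2
    obtain ⟨d, hd⟩ := hK.mono a ha
    have h1 := invSet_card_step O hL ha hneg
    have hpos : 0 < (invSet D T (O.J a)).card := Finset.card_pos.2 (by
      obtain ⟨i, hi⟩ : ∃ i, i ∈ O.J a := List.exists_mem_of_ne_nil _ (O.ne a ha)
      exact ⟨D.simple i, Finset.mem_filter.2 ⟨Finset.mem_range.2 (hC.simple_lt (O.J_lt a ha i hi)),
        hC.phi_simple (O.J_lt a ha i hi), O.neg_simple a ha i hi⟩⟩)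
    rw [card_Uw_step O hL ha hneg (hK.le hd), mul_pow, hcard a ha,
      ih _ (by omega) (fun i hi => (List.mem_append.1 hi).elim (hL i) (O.J_lt a ha i))
        (equiv_append (O.J_lt a ha) hE fun r hr => O.commute a ha r hr) rfl, h1, pow_add]

omit hK in
theorem top_all_neg {r : ℕ} (hr : r < D.nroots) (hp : 0 < T.phi r) :
    T.phi (wL D (O.top.flatMap O.J) r) < 0 := by
  have hLr := flatMap_lt O O.top_lt
  have h1 := sign_of_simple hC (f := fun r => - T.phi (wL D (O.top.flatMap O.J) r))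
    (fun i hi r hr => by
      have := phi_wL_additive hC hLr i hi r hr
      linarith) (fun i hi => by have := O.top_neg i hi; omega) r hr hp
  omega

omit hK in
theorem U_inf_Fx_eq : D.posUnipotent F ⊓ Fx S = Uw S (O.top.flatMap O.J) := by
  have hLr := flatMap_lt O O.top_lt
  refine le_antisymm (fun u hu => (mem_Uw hLr 1).2 ⟨?_, hu.2⟩)
    fun u hu => ⟨Uminus_le_U hC _ hu.1, hu.2⟩
  have hu1 := hu.1
  rw [U_eq_closure hC] at hu1
  rw [Uminus_eq hC hLr 1]
  refine Subgroup.closure_mono ?_ hu1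
  rintro g ⟨r, t, hr, hp, rfl⟩
  exact ⟨r, t, (mem_invList hC).2 ⟨hr, hp, top_all_neg hr hp⟩, rfl⟩

theorem card_U_K (e Q : ℕ)
    (hcard : ∀ a < O.k, Nat.card (Uw S (O.J a)) ^ e = Q ^ (invSet D T (O.J a)).card) :
    Nat.card ↥(D.posUnipotent F ⊓ K) ^ e = Q ^ (D.nroots / 2) := by
  classical
  rw [← Fx_eq O hK, U_inf_Fx_eq (O := O),
    card_Uw hK e Q hcard (flatMap_lt O O.top_lt) (equiv_flatMap O _ O.top_lt)]
  congr 1
  rw [← Count.card_posRoots hC, ← List.toFinset_card_of_nodup ((posRoots_sorted (D := D)).imp ne_of_lt)]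
  congr 1
  ext r
  simp only [invSet, Finset.mem_filter, Finset.mem_range, List.mem_toFinset, mem_posRoots hC]
  exact ⟨fun h => ⟨h.1, h.2.1⟩, fun h => ⟨h.1, h.2, top_all_neg h.1 h.2⟩⟩

theorem card_B_K : Nat.card ↥(D.borelSubgroup F ⊓ K) =
    Nat.card ↥(D.posUnipotent F ⊓ K) * Nat.card ↥(D.diagonalSubgroup F ⊓ K) := by
  have hb : Function.Bijective (fun p : ↥(D.posUnipotent F ⊓ K) × ↥(D.diagonalSubgroup F ⊓ K) =>
      (⟨p.1 * p.2, mul_mem (Subgroup.mem_sup_left p.1.2.1) (Subgroup.mem_sup_right p.2.2.1),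
        mul_mem p.1.2.2 p.2.2.2⟩ : ↥(D.borelSubgroup F ⊓ K))) := by
    constructor
    · rintro ⟨⟨u, hu⟩, ⟨h, hh⟩⟩ ⟨⟨u', hu'⟩, ⟨h', hh'⟩⟩ e
      have e' : u * h = u' * h' := congrArg Subtype.val e
      have h1 : u'⁻¹ * u = h' * h⁻¹ :=
        calc u'⁻¹ * u = u'⁻¹ * (u * h) * h⁻¹ := by group
          _ = _ := by rw [e']; group
      have h2 : u'⁻¹ * u ∈ (⊥ : Subgroup (GL D.Idx F)) := by
        rw [← U_inf_H hC, Subgroup.mem_inf]
        exact ⟨mul_mem (inv_mem hu'.1) hu.1, h1 ▸ mul_mem hh'.1 (inv_mem hh.1)⟩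
      rw [Subgroup.mem_bot, inv_mul_eq_one] at h2
      subst h2
      obtain rfl := mul_left_cancel e'
      rfl
    · rintro ⟨b, hb, hbK⟩
      obtain ⟨u, hu, h, hh, rfl⟩ := (mem_B_iff hC).1 hb
      obtain ⟨u', hu'⟩ := Img.exists_of_mem (S := S) (B_le_group hC (Subgroup.mem_sup_left hu))
      obtain ⟨h', hh'⟩ := Img.exists_of_mem (S := S) (H_le_group hC hh)
      have e : u' * h' = u * h := (hu'.mul hh').unique (hK.le hbK)
      have h1 : u⁻¹ * u' = h * h'⁻¹ :=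
        calc u⁻¹ * u' = u⁻¹ * (u' * h') * h'⁻¹ := by group
          _ = _ := by rw [e]; group
      have h2 : u⁻¹ * u' ∈ (⊥ : Subgroup (GL D.Idx F)) := by
        rw [← U_inf_H hC, Subgroup.mem_inf]
        exact ⟨mul_mem (inv_mem hu) (img_U S hu hu'),
          h1 ▸ mul_mem hh (inv_mem (img_H S hh hh'))⟩
      rw [Subgroup.mem_bot, inv_mul_eq_one] at h2
      subst h2
      obtain rfl := mul_left_cancel e
      exact ⟨⟨⟨u, hu, Fx_le O hK hu'⟩, ⟨h', hh, Fx_le O hK hh'⟩⟩, rfl⟩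
  rw [← Nat.card_congr (Equiv.ofBijective _ hb), Nat.card_prod]

omit hK in
theorem exists_orbit_word {L : List ℕ} (hL : ∀ i ∈ L, i < D.rank) (hE : Equiv' S L) :
    ∃ w : List ℕ, (∀ a ∈ w, a < O.k) ∧ Eqv D L (w.flatMap O.J) := by
  obtain ⟨n, hn⟩ : ∃ n, n = (invSet D T L).card := ⟨_, rfl⟩
  induction n using Nat.strong_induction_on generalizing L with
  | _ n ih =>
    rcases Finset.eq_empty_or_nonempty (invSet D T L) with h0 | ⟨r, hr⟩
    · exact ⟨[], by simp, (invSet_eq_empty_iff hC hL).1 h0⟩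
    simp only [invSet, Finset.mem_filter, Finset.mem_range] at hr
    obtain ⟨a, ha, hneg⟩ := exists_orbit O hL hE hr.1 hr.2.1 hr.2.2
    have h1 := invSet_card_step O hL ha hneg
    have hpos : 0 < (invSet D T (O.J a)).card := Finset.card_pos.2 (by
      obtain ⟨i, hi⟩ : ∃ i, i ∈ O.J a := List.exists_mem_of_ne_nil _ (O.ne a ha)
      exact ⟨D.simple i, Finset.mem_filter.2 ⟨Finset.mem_range.2 (hC.simple_lt (O.J_lt a ha i hi)),
        hC.phi_simple (O.J_lt a ha i hi), O.neg_simple a ha i hi⟩⟩)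
    obtain ⟨w, hw, he⟩ := ih _ (by omega)
      (fun i hi => (List.mem_append.1 hi).elim (hL i) (O.J_lt a ha i))
      (equiv_append (O.J_lt a ha) hE fun r hr => O.commute a ha r hr) rfl
    refine ⟨w ++ [a], fun b hb => (List.mem_append.1 hb).elim (hw b) fun hb => ?_, fun r hr => ?_⟩
    · rw [List.mem_singleton.1 hb]; exact ha
    · have h2 := he _ (wL_lt hC (O.J_lt a ha) hr)
      rw [wL_append, O.invol a ha r hr] at h2
      rw [h2, List.flatMap_append, wL_append, List.flatMap_singleton]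

/-- The order of the fixed group from a transversal of the fixed Weyl group. -/
theorem card_K {E : List (List ℕ)} (hElt : ∀ e ∈ E, ∀ a ∈ e, a < O.k)
    (hcover : ∀ w : List ℕ, (∀ a ∈ w, a < O.k) → ∃ e ∈ E, Eqv D (w.flatMap O.J) (e.flatMap O.J))
    (hdist : E.Pairwise fun e e' => ¬ Eqv D (e.flatMap O.J) (e'.flatMap O.J)) [Finite F] :
    Nat.card K = Nat.card ↥(D.borelSubgroup F ⊓ K) *
      (E.map fun e => Nat.card (Uw S (e.flatMap O.J))).sum := by
  classical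
  have hEr : ∀ k : Fin E.length, ∀ i ∈ (E[k.1]).flatMap O.J, i < D.rank :=
    fun k => flatMap_lt O (hElt _ (List.getElem_mem k.2))
  choose c hc using fun k : Fin E.length => top_mono_mem O hK _ (hElt _ (List.getElem_mem k.2))
  have hn : ∀ k : Fin E.length,
      tor D (c k) * nL hC F ((E[k.1]).flatMap O.J) ∈ D.monomialSubgroup F :=
    fun k => (mem_N_iff hC).2 ⟨c k, _, hEr k, rfl⟩
  let β : Fin E.length → Type _ := fun k =>
    ↥(D.borelSubgroup F ⊓ K) × ↥(Uw S ((E[k.1]).flatMap O.J))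
  let f : (Σ k, β k) → K := fun p =>
    ⟨(p.2.1 : GL D.Idx F) * (tor D (c p.1) * nL hC F ((E[p.1.1]).flatMap O.J)) * (p.2.2 : GL D.Idx F),
      mul_mem (mul_mem p.2.1.2.2 (hc p.1)) (Fx_le O hK p.2.2.2.2)⟩
  have hf : Function.Bijective f := by
    constructor
    · rintro ⟨k, b, u⟩ ⟨k', b', u'⟩ h
      have h' := congrArg Subtype.val h
      obtain ⟨h1, h2⟩ := unique_form hC b.2.1 b'.2.1 (hn k) (hn k')
        ((mem_Uw (hEr k) (c k)).1 u.2).1 ((mem_Uw (hEr k') (c k')).1 u'.2).1 h'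
      have heq : Eqv D ((E[k.1]).flatMap O.J) ((E[k'.1]).flatMap O.J) := fun r hr =>
        eqv_of_mul_H (hEr k) (hEr k') (c := c k) (c' := c k') h1 (mul_inv_cancel_left _ _) hr
      obtain rfl : k = k' := by
        rcases lt_trichotomy k.1 k'.1 with hlt | heq' | hlt
        · exact absurd heq (List.pairwise_iff_getElem.1 hdist _ _ k.2 k'.2 hlt)
        · exact Fin.ext heq'
        · exact absurd (fun r hr => (heq r hr).symm)
            (List.pairwise_iff_getElem.1 hdist _ _ k'.2 k.2 hlt)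
      obtain ⟨hb, hu⟩ := h2 rfl
      rw [Subtype.ext hb, Subtype.ext hu]
    · rintro ⟨g, hg⟩
      obtain ⟨v, hv, hvF, n, hn', hnF, u, hu, huF, rfl⟩ := fixed_form S (hK.le hg)
      obtain ⟨d, L, hL, rfl⟩ := (mem_N_iff hC).1 hn'
      obtain ⟨w, hw, hLw⟩ := exists_orbit_word (O := O) hL (equiv_of_fixed hL hnF)
      obtain ⟨e, he, hwe⟩ := hcover w hw
      obtain ⟨k, hk, rfl⟩ := List.getElem_of_mem he
      have hLe : Eqv D L ((E[k]).flatMap O.J) := fun r hr => (hLw r hr).trans (hwe r hr)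
      obtain ⟨d', hd'⟩ := Order.nL_eq_tor_mul (F := F) hC hL (hEr ⟨k, hk⟩) hLe
      have hu' : u ∈ Uw S ((E[k]).flatMap O.J) := by
        rw [← Uw_congr (S := S) hL (hEr ⟨k, hk⟩) hLe]
        exact (mem_Uw hL d).2 ⟨hu, huF⟩
      have hbK : v * tor D (d * d' * (c ⟨k, hk⟩)⁻¹) ∈ D.borelSubgroup F ⊓ K := by
        refine Subgroup.mem_inf.2 ⟨mul_mem (Subgroup.mem_sup_left hv)
          (Subgroup.mem_sup_right (tor_mem_H hC _)), ?_⟩
        have e1 : tor D (d * d' * (c ⟨k, hk⟩)⁻¹) =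
            tor D d * nL hC F L * (tor D (c ⟨k, hk⟩) * nL hC F ((E[k]).flatMap O.J))⁻¹ := by
          rw [hd', ← tor_mul, ← tor_mul, ← tor_inv]; group
        exact mul_mem (Fx_le O hK hvF) (e1 ▸ mul_mem (Fx_le O hK hnF) (inv_mem (hc ⟨k, hk⟩)))
      refine ⟨⟨⟨k, hk⟩, ⟨_, hbK⟩, ⟨u, hu'⟩⟩, Subtype.ext ?_⟩
      show v * tor D (d * d' * (c ⟨k, hk⟩)⁻¹) *
        (tor D (c ⟨k, hk⟩) * nL hC F ((E[k]).flatMap O.J)) * u = v * (tor D d * nL hC F L) * u
      rw [hd', ← tor_mul, ← tor_mul, ← tor_inv]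
      group
  rw [← Nat.card_congr (Equiv.ofBijective f hf), Nat.card_sigma]
  simp only [β, Nat.card_prod]
  rw [← Finset.mul_sum]
  congr 1
  conv_rhs => rw [← List.ofFn_getElem (xs := E), List.map_ofFn, List.sum_ofFn]
  rfl

omit hK in
/-- The fixed unipotent group of an orthogonal orbit, by parameters. -/
theorem card_Uw_orth (O : Orbits S) {π : ℕ → ℕ} (hπ : S.π = π) {a : ℕ} (ha : a < O.k)
    {J : List ℕ} (hJa : O.J a = J) (hO : Orth hC π J) {P : Type*}
    (g : P → ℕ → F) (hg : ∀ p, ∀ i ∈ J, g p (S.π i) = S.hom i (g p i))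
    (hinj : ∀ p p', (∀ i ∈ J, g p i = g p' i) → p = p')
    (hsurj : ∀ f : ℕ → F, (∀ i ∈ J, f (S.π i) = S.hom i (f i)) → ∃ p, ∀ i ∈ J, f i = g p i) :
    Nat.card (Uw S J) = Nat.card P := by
  have hmem : ∀ p, opr hC D.simple J (g p) ∈ Uw S J := fun p => by
    refine (mem_Uw hO.lt 1).2 ⟨?_, opr_fixed hO hπ (Or.inl rfl) (hg p)⟩
    rw [Uminus_eq hC hO.lt 1]
    refine list_prod_mem fun x hx => ?_
    obtain ⟨i, hi, rfl⟩ := List.mem_map.1 hx
    have hs := hC.simple_lt (hO.lt i hi)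
    refine Subgroup.subset_closure ⟨D.simple i, g p i, (mem_invList hC).2
      ⟨hs, hC.phi_simple (hO.lt i hi), ?_⟩, rfl⟩
    subst hJa
    exact O.neg_simple a ha i hi
  have hb : Function.Bijective fun p : P => (⟨_, hmem p⟩ : Uw S J) := by
    constructor
    · exact fun p p' h => hinj p p' (opr_unique hO (congrArg Subtype.val h))
    · rintro ⟨u, hu⟩
      obtain ⟨f, hf, rfl⟩ := fixed_Uminus hO hπ ((mem_Uw hO.lt 1).1 hu).2 ((mem_Uw hO.lt 1).1 hu).1
      obtain ⟨p, hp⟩ := hsurj f hf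
      exact ⟨p, Subtype.ext (opr_congr fun i hi => (hp i hi).symm)⟩
  rw [← Nat.card_congr (Equiv.ofBijective _ hb)]

end Cfsg.Agent.Chevalley.Twist
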