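import Cfsg.Agent.Lib.Chevalley.Twist.Simple
import Cfsg.Agent.Lib.Chevalley.Twist.Count

/-!
Tools for the orbits that are not orthogonal: ordered products, monomial elements by their permutation,
and the perfectness criterion through the generators.
-/

set_option autoImplicit false

open scoped Matrix commutatorElement

namespace Cfsg.Agent.Chevalley.Twist

open Cfsg.Lie Cfsg.Agent.Chevalley.Table Cfsg.Agent.Chevalley.Check Cfsg.Agent.Chevalley.Cert
  Cfsg.Agent.Chevalley.Group Cfsg.Agent.Chevalley.Unip Cfsg.Agent.Chevalley.Borel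
  Cfsg.Agent.Chevalley.Weyl Cfsg.Agent.Chevalley.Bruhat Cfsg.Agent.Chevalley.NormalForm

variable {D : ChevalleyDatum} {F : Type*} [Field F] {T : Tab}

/-- An element of `U⁻_w` is an ordered product over the inversions. -/
theorem exists_prodX_Uminus (hC : Certified D T) {L : List ℕ} (hL : ∀ i ∈ L, i < D.rank)
    (c : ℕ → Fˣ) {g : GL D.Idx F} (hg : g ∈ Uminus D F (tor D c * nL hC F L)) :
    ∃ f : ℕ → F, g = prodX hC (invList D T L) f := by
  have hgU : g⁻¹ ∈ D.posUnipotent F := inv_mem (Uminus_le_U hC _ hg)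
  rw [← Uge_zero hC] at hgU
  obtain ⟨f, hf⟩ := split_decomp hC (fun r => decide (0 < T.phi (wL D L r))) 0 g⁻¹ hgU
  have hlist : ((posFrom D 0).filter fun r => !decide (0 < T.phi (wL D L r))) = invList D T L := by
    rw [invList, posFrom_zero]
    refine List.filter_congr fun r hr => ?_
    have := hC.phi_ne_zero (wL_lt hC hL ((mem_posRoots hC).1 hr).1)
    rw [← decide_not]
    exact decide_eq_decide.2 (by omega)
  rw [hlist] at hf
  obtain ⟨v, hv⟩ : ∃ v, v = prodX hC ((posFrom D 0).filter fun r => decide (0 < T.phi (wL D L r))) f :=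
    ⟨_, rfl⟩
  rw [← hv] at hf
  have hw : prodX hC (invList D T L).reverse f ∈ Uminus D F (tor D c * nL hC F L) := by
    rw [Uminus_eq hC hL c]
    refine list_prod_mem fun x hx => ?_
    obtain ⟨r, hr, rfl⟩ := List.mem_map.1 hx
    exact Subgroup.subset_closure ⟨r, _, List.mem_reverse.1 hr, rfl⟩
  have hvU : tor D c * nL hC F L * v * (tor D c * nL hC F L)⁻¹ ∈ D.posUnipotent F := by
    have : v ∈ (D.posUnipotent F).comap (MulAut.conj (tor D c * nL hC F L)).toMonoidHom := by
      rw [hv]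
      refine list_prod_mem fun x hx => ?_
      obtain ⟨r, hr, rfl⟩ := List.mem_map.1 hx
      obtain ⟨hr', hq⟩ := List.mem_filter.1 hr
      have hlt := ((mem_posFrom hC).1 hr').1
      obtain ⟨η, -, e⟩ := conj_xg (F := F) hC hL c hlt
      show tor D c * nL hC F L * xg hC r (f r) * (tor D c * nL hC F L)⁻¹ ∈ D.posUnipotent F
      rw [e]
      exact xg_mem_U hC (wL_lt hC hL hlt) (of_decide_eq_true hq) _
    exact this
  have hvV : v ∈ Uminus D F (tor D c * nL hC F L) := by
    rw [show v = g⁻¹ * (prodX hC (invList D T L).reverse f)⁻¹ by rw [hf]; group]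
    exact mul_mem (inv_mem hg) (inv_mem hw)
  have h1 := U_inf_V hC hvU (conj_Uminus hC hvV)
  rw [mul_inv_eq_one] at h1
  rw [mul_eq_left.1 h1, one_mul] at hf
  refine ⟨fun r => -f r, ?_⟩
  rw [← prodX_reverse_inv hC]
  show g = (prodX hC (invList D T L).reverse f)⁻¹
  rw [← hf, inv_inv]

/-- The inversions of an orbit word, from the table. -/
noncomputable def invT (T : Tab) (J : List ℕ) : List ℕ :=
  ((List.range T.n).filter fun r => iblt 0 (T.phi r) && iblt (T.phi (applyW T J r)) 0)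

theorem invList_eq_invT (hC : Certified D T) {J : List ℕ} (hJ : ∀ i ∈ J, i < D.rank) :
    invList D T J = invT T J := by
  refine List.Perm.eq_of_pairwise' (r := (· < ·)) ?_ ?_ ?_
  · exact posRoots_sorted.filter _
  · exact List.pairwise_lt_range.filter _
  refine (List.perm_ext_iff_of_nodup ((posRoots_sorted.filter _).imp ne_of_lt)
    (List.nodup_range.filter _)).2 fun r => ?_
  show r ∈ invList D T J ↔ r ∈ invT T J
  rw [mem_invList hC, invT, List.mem_filter, List.mem_range, hC.n_eq, Bool.and_eq_true, iblt_iff,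
    iblt_iff]
  constructor
  · rintro ⟨h1, h2, h3⟩
    exact ⟨h1, h2, by rwa [show applyW T J r = wL D J r from StConj.actT_foldr hC hJ h1]⟩
  · rintro ⟨h1, h2, h3⟩
    exact ⟨h1, h2, by rwa [show applyW T J r = wL D J r from StConj.actT_foldr hC hJ h1] at h3⟩

/-- `g` is a monomial element with the permutation of the word. -/
def Mono (hC : Certified D T) (g : GL D.Idx F) (L : List ℕ) : Prop :=
  (∀ i ∈ L, i < D.rank) ∧ ∃ c : ℕ → Fˣ, g = tor D c * nL hC F L

namespace Mono

variable {hC : Certified D T}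

theorem nL' {L : List ℕ} (hL : ∀ i ∈ L, i < D.rank) : Mono hC (nL hC F L) L :=
  ⟨hL, 1, by rw [tor_one, one_mul]⟩

theorem mul {g g' : GL D.Idx F} {L L' : List ℕ} (h : Mono hC g L) (h' : Mono hC g' L') :
    Mono hC (g * g') (L ++ L') := by
  obtain ⟨hL, c, rfl⟩ := h
  obtain ⟨hL', c', rfl⟩ := h'
  obtain ⟨d, hd⟩ := nL_conj_tor (F := F) hC hL c'
  refine ⟨fun i hi => (List.mem_append.1 hi).elim (hL i) (hL' i), c * d, ?_⟩
  rw [nL_append, ← tor_mul, mul_assoc (tor D c) (tor D d), ← mul_assoc (tor D d), ← hd]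
  group

theorem hg' {r : ℕ} (hr : r < D.nroots) {t : F} (ht : t ≠ 0) : Mono hC (hg hC r t) [] := by
  refine ⟨by simp, ?_⟩
  rw [show t = ((Units.mk0 t ht : Fˣ) : F) from rfl, hg_eq_tor hC hr]
  exact ⟨fun i => Units.mk0 t ht ^ cor D r i, by simp [Group.nL]⟩

theorem ng_simple {i : ℕ} (hi : i < D.rank) {t : F} (ht : t ≠ 0) :
    Mono hC (ng hC (D.simple i) t) [i] := by
  obtain ⟨c, hc⟩ := ng_simple_eq hC hi ht
  exact ⟨by simpa using hi, c, by rw [hc, nL_singleton]⟩

theorem nL_inv : ∀ {L : List ℕ}, (∀ i ∈ L, i < D.rank) → Mono hC (Group.nL hC F L)⁻¹ L.reverse := by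
  intro L
  induction L with
  | nil => intro _; simpa [Group.nL] using (nL' (hC := hC) (F := F) (L := []) (by simp))
  | cons i L ih =>
    intro hL
    rw [nL_cons, mul_inv_rev, List.reverse_cons, ng_inv]
    exact (ih fun j hj => hL j (List.mem_cons_of_mem i hj)).mul
      (ng_simple (hL i List.mem_cons_self) (neg_ne_zero.2 one_ne_zero))

/-- A reflection in a root that is the image of a fundamental one. -/
theorem ng_image {L : List ℕ} (hL : ∀ j ∈ L, j < D.rank) {i : ℕ} (hi : i < D.rank) {t : F}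
    (ht : t ≠ 0) : Mono hC (ng hC (wL D L (D.simple i)) t) (L ++ [i] ++ L.reverse) := by
  obtain ⟨η, hη, h⟩ := nL_conj_ng (F := F) hC hL (hC.simple_lt hi)
  have e := h (η⁻¹ * t)
  rw [mul_inv_cancel_left₀ hη] at e
  rw [← e]
  exact ((nL' hL).mul (ng_simple hi (mul_ne_zero (inv_ne_zero hη) ht))).mul (nL_inv hL)

theorem congr {g : GL D.Idx F} {L L' : List ℕ} (h : Mono hC g L) (hL' : ∀ i ∈ L', i < D.rank)
    (he : ∀ i < D.rank, wL D L (D.simple i) = wL D L' (D.simple i)) : Mono hC g L' := by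
  obtain ⟨hL, c, rfl⟩ := h
  obtain ⟨d, hd⟩ := Order.nL_eq_tor_mul (F := F) hC hL hL' (WeylEnum.eqv_of_simple hC hL hL' he)
  exact ⟨hL', c * d, by rw [hd, ← tor_mul, mul_assoc]⟩

end Mono

variable {hC : Certified D T} {S : Tw hC F} {O : Orbits S} {K : Subgroup (GL D.Idx F)}
variable (hK : GenData O K)
include hK

omit hK in
theorem commutator_conj_mem {n x : GL D.Idx F} (hn : n ∈ K) (hx : x ∈ ⁅K, K⁆) :
    n * x * n⁻¹ ∈ ⁅K, K⁆ := by
  have hmap : (⁅K, K⁆).map (MulAut.conj n).toMonoidHom ≤ ⁅K, K⁆ := by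
    rw [Subgroup.map_commutator]
    refine Subgroup.commutator_mono ?_ ?_ <;>
      · rintro _ ⟨y, hy, rfl⟩
        exact mul_mem (mul_mem hn hy) (inv_mem hn)
  exact hmap ⟨x, hx, rfl⟩

/-- A fixed element from negative roots of an orbit is in the derived group when the positive ones
are. -/
theorem der_neg {a : ℕ} (ha : a < O.k) (hder : ∀ u ∈ Uw S (O.J a), u ∈ ⁅K, K⁆) {l : List (ℕ × F)}
    (hl : ∀ p ∈ l, p.1 < D.nroots ∧ T.phi p.1 < 0 ∧ 0 < T.phi (wL D (O.J a) p.1))
    (hF : wordGL hC l ∈ Fx S) : wordGL hC l ∈ ⁅K, K⁆ := by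
  obtain ⟨c, hc⟩ := mel_eq hK ha
  have hJ := O.J_lt a ha
  have hm := mel_mem hK a
  have hmF := hK.le hm
  have hx : mel hK a * wordGL hC l * (mel hK a)⁻¹ ∈ Uw S (O.J a) := by
    refine (mem_Uw hJ c).2 ⟨?_, mul_mem (mul_mem hmF hF) (inv_mem hmF)⟩
    have hmem : wordGL hC l ∈
        (Uminus D F (tor D c * nL hC F (O.J a))).comap (MulAut.conj (mel hK a)).toMonoidHom := by
      refine list_prod_mem fun x hx => ?_
      obtain ⟨p, hp, rfl⟩ := List.mem_map.1 hx
      obtain ⟨h1, h2, h3⟩ := hl p hp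
      obtain ⟨η, -, e⟩ := conj_xg (F := F) hC hJ c h1
      show mel hK a * xg hC p.1 p.2 * (mel hK a)⁻¹ ∈ Uminus D F (tor D c * nL hC F (O.J a))
      rw [hc, e, Uminus_eq hC hJ c]
      exact Subgroup.subset_closure ⟨_, _, (mem_invList hC).2
        ⟨wL_lt hC hJ h1, h3, by rw [O.invol a ha p.1 h1]; exact h2⟩, rfl⟩
    exact hmem
  have h := commutator_conj_mem (inv_mem hm) (hder _ hx)
  simpa [mul_assoc] using h

/-- The fixed unipotent sum over a transversal, when two powers of a cardinal match the lengths. -/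
theorem sum_Uw_sq {Q : ℕ}
    (hcard : ∀ a < O.k, Nat.card (Uw S (O.J a)) ^ 2 = Q ^ (WeylEnum.invSet D T (O.J a)).card)
    {E : List (List ℕ)} (hE : ∀ e ∈ E, ∀ a ∈ e, a < O.k) {lens : List ℕ}
    (hlens : E.map (fun e => (WeylEnum.invSet D T (e.flatMap O.J)).card) = lens)
    (heven : ∀ l ∈ lens, 2 * (l / 2) = l) :
    (E.map fun e => Nat.card (Uw S (e.flatMap O.J))).sum = (lens.map fun l => Q ^ (l / 2)).sum := by
  rw [← hlens, List.map_map]
  congr 1
  refine List.map_congr_left fun e he => ?_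
  have h := card_Uw hK 2 Q hcard (flatMap_lt O (hE e he)) (equiv_flatMap O e (hE e he))
  have hl := heven (WeylEnum.invSet D T (e.flatMap O.J)).card (hlens ▸ List.mem_map.2 ⟨e, he, rfl⟩)
  rw [← hl, mul_comm 2, pow_mul] at h
  exact Nat.pow_left_injective two_ne_zero h

end Cfsg.Agent.Chevalley.Twist
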