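import Cfsg.Prelude.Def_LieTwisted
import Cfsg.Agent.Lib.Chevalley.Twist.Wild
import Cfsg.Agent.Lib.Chevalley.Twist.Mod3
import Cfsg.Agent.Lib.Chevalley.Types.OrderG2

/-!
The relations of the positive and of the negative roots of G2 in characteristic three, in a common form.
-/

set_option autoImplicit false

open scoped Matrix

namespace Cfsg.Agent.Chevalley.Twist.G2

open Cfsg.Lie Cfsg.Agent.Chevalley Cfsg.Agent.Chevalley.Table Cfsg.Agent.Chevalley.Cert
  Cfsg.Agent.Chevalley.Group Cfsg.Agent.Chevalley.Unip Cfsg.Agent.Chevalley.Eval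
  Cfsg.Agent.Chevalley.Columns

abbrev hC : Certified chevG2 Data.G2.tab := Types.G2.certified

variable {K : Type*} [Field K]

/-- The commutation rules of six one-parameter subgroups. -/
structure Rels {G : Type*} [Group G] (y : ℕ → K → G) : Prop where
  add : ∀ i c d, y i (c + d) = y i c * y i d
  ba : ∀ t u, y 1 u * y 0 t =
    y 0 t * y 1 u * (y 2 (t * u) * (y 3 (t ^ 2 * u) * (y 4 (-(t ^ 3 * u)) * y 5 (-(t ^ 3 * u ^ 2)))))
  ca : ∀ t u, y 2 u * y 0 t = y 0 t * y 2 u * y 3 (-(t * u))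
  db : ∀ t u, y 4 u * y 1 t = y 1 t * y 4 u * y 5 (-(t * u))
  comm : ∀ ij ∈ [(0, 3), (0, 4), (0, 5), (1, 2), (1, 3), (1, 5), (2, 3), (2, 4), (2, 5), (3, 4),
    (3, 5), (4, 5)], ∀ t u, Commute (y ij.2 u) (y ij.1 t)

/-- An ordered product. -/
def wd {G : Type*} [Group G] (y : ℕ → K → G) (a b c d e f : K) : G :=
  y 0 a * y 1 b * (y 2 c * (y 3 d * (y 4 e * y 5 f)))

namespace Rels

variable {G : Type*} [Group G] {y : ℕ → K → G} (R : Rels y)
include R

theorem zero (i : ℕ) : y i 0 = 1 := by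
  have h := R.add i 0 0
  rw [add_zero] at h
  exact left_eq_mul.1 h

theorem cm {i j : ℕ} (h : (i, j) ∈ [(0, 3), (0, 4), (0, 5), (1, 2), (1, 3), (1, 5), (2, 3), (2, 4),
    (2, 5), (3, 4), (3, 5), (4, 5)]) (t u : K) : Commute (y j u) (y i t) := R.comm _ h t u

theorem zmul (c d e f c' d' e' f' : K) :
    y 2 c * (y 3 d * (y 4 e * y 5 f)) * (y 2 c' * (y 3 d' * (y 4 e' * y 5 f'))) =
      y 2 (c + c') * (y 3 (d + d') * (y 4 (e + e') * y 5 (f + f'))) := by
  have h5 : Commute (y 4 e * y 5 f) (y 2 c') :=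
    (R.cm (i := 2) (j := 4) (by simp) c' e).mul_left (R.cm (i := 2) (j := 5) (by simp) c' f)
  have h4 : Commute (y 3 d * (y 4 e * y 5 f)) (y 2 c') :=
    (R.cm (i := 2) (j := 3) (by simp) c' d).mul_left h5
  have h6 : Commute (y 4 e * y 5 f) (y 3 d') :=
    (R.cm (i := 3) (j := 4) (by simp) d' e).mul_left (R.cm (i := 3) (j := 5) (by simp) d' f)
  have h7 : Commute (y 5 f) (y 4 e') := R.cm (by simp) _ _
  calc _ = y 2 c * ((y 3 d * (y 4 e * y 5 f)) * y 2 c') * (y 3 d' * (y 4 e' * y 5 f')) := by group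
    _ = (y 2 c * y 2 c') * y 3 d * ((y 4 e * y 5 f) * y 3 d') * (y 4 e' * y 5 f') := by
      rw [h4.eq]; group
    _ = (y 2 c * y 2 c') * (y 3 d * y 3 d') * y 4 e * (y 5 f * y 4 e') * y 5 f' := by
      rw [h6.eq]; group
    _ = (y 2 c * y 2 c') * (y 3 d * y 3 d') * (y 4 e * y 4 e') * (y 5 f * y 5 f') := by
      rw [h7.eq]; group
    _ = _ := by rw [← R.add, ← R.add, ← R.add, ← R.add]; group

theorem move0 (a c d e f : K) : y 2 c * (y 3 d * (y 4 e * y 5 f)) * y 0 a =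
    y 0 a * (y 2 c * (y 3 (d - a * c) * (y 4 e * y 5 f))) := by
  have h : Commute (y 3 d * (y 4 e * y 5 f)) (y 0 a) :=
    (R.cm (i := 0) (j := 3) (by simp) a d).mul_left
      ((R.cm (i := 0) (j := 4) (by simp) a e).mul_left (R.cm (i := 0) (j := 5) (by simp) a f))
  rw [mul_assoc (y 2 c), h.eq, ← mul_assoc, R.ca, show d - a * c = -(a * c) + d by ring,
    R.add 3]
  group

theorem move1 (b c d e f : K) : y 2 c * (y 3 d * (y 4 e * y 5 f)) * y 1 b =
    y 1 b * (y 2 c * (y 3 d * (y 4 e * y 5 (f - b * e)))) := by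
  calc y 2 c * (y 3 d * (y 4 e * y 5 f)) * y 1 b
      = y 2 c * (y 3 d * (y 4 e * (y 5 f * y 1 b))) := by group
    _ = y 2 c * (y 3 d * ((y 4 e * y 1 b) * y 5 f)) := by
      rw [(R.cm (i := 1) (j := 5) (by simp) b f).eq]; group
    _ = y 2 c * (y 3 d * y 1 b) * (y 4 e * (y 5 (-(b * e)) * y 5 f)) := by rw [R.db]; group
    _ = (y 2 c * y 1 b) * y 3 d * (y 4 e * (y 5 (-(b * e)) * y 5 f)) := by
      rw [(R.cm (i := 1) (j := 3) (by simp) b d).eq]; group
    _ = _ := by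
      rw [(R.cm (i := 1) (j := 2) (by simp) b c).eq, ← R.add,
        show -(b * e) + f = f - b * e by ring]
      group

theorem wd_mul (a b c d e f a' b' c' d' e' f' : K) :
    wd y a b c d e f * wd y a' b' c' d' e' f' =
      wd y (a + a') (b + b') (a' * b + c + c') (a' ^ 2 * b + (d - a' * c) + d')
        (-(a' ^ 3 * b) + e + e') (-(a' ^ 3 * b ^ 2) + f - b' * (-(a' ^ 3 * b) + e) + f') := by
  unfold wd
  calc _ = y 0 a * y 1 b * (y 2 c * (y 3 d * (y 4 e * y 5 f)) * y 0 a') * y 1 b' *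
        (y 2 c' * (y 3 d' * (y 4 e' * y 5 f'))) := by group
    _ = y 0 a * (y 1 b * y 0 a') * (y 2 c * (y 3 (d - a' * c) * (y 4 e * y 5 f))) * y 1 b' *
        (y 2 c' * (y 3 d' * (y 4 e' * y 5 f'))) := by rw [R.move0]; group
    _ = (y 0 a * y 0 a') * y 1 b *
        (y 2 (a' * b) * (y 3 (a' ^ 2 * b) * (y 4 (-(a' ^ 3 * b)) * y 5 (-(a' ^ 3 * b ^ 2)))) *
          (y 2 c * (y 3 (d - a' * c) * (y 4 e * y 5 f))) * y 1 b') *
        (y 2 c' * (y 3 d' * (y 4 e' * y 5 f'))) := by rw [R.ba]; group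
    _ = (y 0 a * y 0 a') * (y 1 b * y 1 b') *
        (y 2 (a' * b + c) * (y 3 (a' ^ 2 * b + (d - a' * c)) * (y 4 (-(a' ^ 3 * b) + e) *
          y 5 (-(a' ^ 3 * b ^ 2) + f - b' * (-(a' ^ 3 * b) + e)))) *
          (y 2 c' * (y 3 d' * (y 4 e' * y 5 f')))) := by rw [R.zmul, R.move1]; group
    _ = _ := by rw [R.zmul, ← R.add, ← R.add]

/-- The image of a product under the exchange of long and short roots, reordered. -/
theorem swap (A B P Q X Y : K) : y 1 B * y 0 A * (y 4 P * y 5 Q * (y 2 X * y 3 Y)) =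
    wd y A B (A * B + X) (A ^ 2 * B + Y) (-(A ^ 3 * B) + P) (-(A ^ 3 * B ^ 2) + Q) := by
  have e1 : y 4 P * y 5 Q = y 2 0 * (y 3 0 * (y 4 P * y 5 Q)) := by rw [R.zero, R.zero]; group
  have e2 : y 2 X * y 3 Y = y 2 X * (y 3 Y * (y 4 0 * y 5 0)) := by rw [R.zero, R.zero]; group
  rw [R.ba, e1, e2, R.zmul, mul_assoc, R.zmul, wd]
  simp only [zero_add, add_zero, mul_assoc]

end Rels

/-- The positive roots in the order of the words. -/
abbrev P : List ℕ := [7, 6, 8, 9, 10, 11]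

/-- The negatives of those roots. -/
abbrev N : List ℕ := [4, 5, 3, 2, 1, 0]

/-- The root subgroups of the positive roots. -/
def yP (i : ℕ) (c : K) : GL chevG2.Idx K := xg hC (P.getD i 0) c

/-- The root subgroups of the negative roots, twisted by a sign. -/
def yN (i : ℕ) (c : K) : GL chevG2.Idx K := xg hC (N.getD i 0) (-c)

theorem comm_ne : ∀ rs ∈ [(7, 6), (7, 8), (6, 10), (4, 5), (4, 3), (5, 1)],
    rs.1 < chevG2.nroots ∧ rs.2 < chevG2.nroots ∧ rs.2 ≠ rs.1 ∧ rs.2 ≠ chevG2.neg rs.1 := by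
  decide +kernel

theorem comm_ok : chevG2.commTerms 7 6 = [(8, -1, 1, 1), (9, 1, 2, 1), (10, 1, 3, 1), (11, 1, 3, 2)] ∧
    chevG2.commTerms 7 8 = [(9, -2, 1, 1), (10, -3, 2, 1), (11, 3, 1, 2)] ∧
    chevG2.commTerms 6 10 = [(11, 1, 1, 1)] ∧
    chevG2.commTerms 4 5 = [(3, 1, 1, 1), (2, 1, 2, 1), (1, -1, 3, 1), (0, 1, 3, 2)] ∧
    chevG2.commTerms 4 3 = [(2, 2, 1, 1), (1, -3, 2, 1), (0, 3, 1, 2)] ∧
    chevG2.commTerms 5 1 = [(0, -1, 1, 1)] := by
  refine ⟨?_, ?_, ?_, ?_, ?_, ?_⟩ <;> decide +kernel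

/-- A pair whose commutator terms vanish modulo three. -/
abbrev vanishes (r s : ℕ) : Prop :=
  s ≠ r ∧ s ≠ chevG2.neg r ∧ ∀ c ∈ chevG2.commTerms r s, (3 : ℤ) ∣ c.2.1

theorem vanish_ok : ∀ ij ∈ [(0, 3), (0, 4), (0, 5), (1, 2), (1, 3), (1, 5), (2, 3), (2, 4),
    (2, 5), (3, 4), (3, 5), (4, 5)],
    vanishes (P.getD ij.1 0) (P.getD ij.2 0) ∧ vanishes (N.getD ij.1 0) (N.getD ij.2 0) := by
  decide +kernel

theorem vanish_pair : vanishes 8 1 ∧ vanishes 10 3 ∧ vanishes 8 10 ∧ vanishes 3 1 := by decide +kernel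

variable [CharP K 3]

theorem three : (3 : K) = 0 := CharP.ofNat_eq_zero K 3

theorem comm_vanish {r s : ℕ} (hr : r < chevG2.nroots) (hs : s < chevG2.nroots) (h : vanishes r s)
    (t u : K) : Commute (xg hC s u) (xg hC r t) := by
  have hx := xg_comm (F := K) hC hr hs h.1 h.2.1 t u
  rw [List.prod_eq_one, mul_one] at hx
  · exact hx
  intro x hxm
  obtain ⟨p, hp, rfl⟩ := List.mem_map.1 hxm
  obtain ⟨c, hc, rfl⟩ := List.mem_map.1 hp
  have h5 : ((c.2.1 : ℤ) : K) = 0 := (CharP.intCast_eq_zero_iff K 3 _).2 (h.2.2 c hc)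
  rw [show (c.2.1 : K) * (-t) ^ c.2.2.1 * u ^ c.2.2.2 = 0 by rw [h5]; ring]
  exact xg_zero hC _

theorem lt12 (i : ℕ) : P.getD i 0 < chevG2.nroots ∧ N.getD i 0 < chevG2.nroots := by
  rcases Nat.lt_or_ge i 6 with h | h
  · interval_cases i <;> decide
  · rw [List.getD_eq_default _ _ (by simpa using h), List.getD_eq_default _ _ (by simpa using h)]
    decide

theorem comm_eval {r s : ℕ} (h : (r, s) ∈ [(7, 6), (7, 8), (6, 10), (4, 5), (4, 3), (5, 1)]) (t u : K) :
    xg hC s u * xg hC r t = xg hC r t * xg hC s u *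
      ((chevG2.commTerms r s).map fun c =>
        xg hC c.1 ((c.2.1 : K) * (-t) ^ c.2.2.1 * u ^ c.2.2.2)).prod := by
  obtain ⟨h1, h2, h3, h4⟩ := comm_ne _ h
  rw [xg_comm hC h1 h2 h3 h4, ChevalleyDatum.commWord, List.map_map]
  rfl

theorem rels_pos : Rels (yP (K := K)) := by
  obtain ⟨c1, c2, c3, -, -, -⟩ := comm_ok
  refine ⟨fun i c d => xg_add hC _ c d, fun t u => ?_, fun t u => ?_, fun t u => ?_, fun ij h t u =>
    comm_vanish (lt12 _).1 (lt12 _).1 (vanish_ok ij h).1 t u⟩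
  · show xg hC 6 u * xg hC 7 t = _
    rw [comm_eval (by simp), c1]
    simp only [yP, List.getD_cons_zero, List.getD_cons_succ, List.map_cons, List.map_nil,
      List.prod_cons, List.prod_nil, mul_one, Int.cast_neg, Int.cast_one, pow_one, one_mul]
    congr 5 <;> ring_nf
  · show xg hC 8 u * xg hC 7 t = _
    rw [comm_eval (by simp), c2]
    simp only [yP, List.getD_cons_zero, List.getD_cons_succ, List.map_cons, List.map_nil,
      List.prod_cons, List.prod_nil, mul_one, Int.cast_neg, Int.cast_ofNat, three, neg_zero,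
      zero_mul, xg_zero hC]
    congr 2
    linear_combination (t * u) * three (K := K)
  · show xg hC 10 u * xg hC 6 t = _
    rw [comm_eval (by simp), c3]
    simp only [yP, List.getD_cons_zero, List.getD_cons_succ, List.map_cons, List.map_nil,
      List.prod_cons, List.prod_nil, mul_one, Int.cast_one, pow_one, one_mul, neg_mul]

theorem rels_neg : Rels (yN (K := K)) := by
  obtain ⟨-, -, -, c1, c2, c3⟩ := comm_ok
  refine ⟨fun i c d => by rw [yN, yN, yN, neg_add, xg_add hC], fun t u => ?_, fun t u => ?_,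
    fun t u => ?_, fun ij h t u =>
    comm_vanish (lt12 _).2 (lt12 _).2 (vanish_ok ij h).2 (-t) (-u)⟩
  · show xg hC 5 (-u) * xg hC 4 (-t) = _
    rw [comm_eval (by simp), c1]
    simp only [yN, List.getD_cons_zero, List.getD_cons_succ, List.map_cons, List.map_nil,
      List.prod_cons, List.prod_nil, mul_one, Int.cast_neg, Int.cast_one, pow_one, one_mul]
    congr 5 <;> ring_nf
  · show xg hC 3 (-u) * xg hC 4 (-t) = _
    rw [comm_eval (by simp), c2]
    simp only [yN, List.getD_cons_zero, List.getD_cons_succ, List.map_cons, List.map_nil,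
      List.prod_cons, List.prod_nil, mul_one, Int.cast_neg, Int.cast_ofNat, three, neg_zero,
      zero_mul, xg_zero hC]
    congr 2
    linear_combination (-(t * u)) * three (K := K)
  · show xg hC 1 (-u) * xg hC 5 (-t) = _
    rw [comm_eval (by simp), c3]
    simp only [yN, List.getD_cons_zero, List.getD_cons_succ, List.map_cons, List.map_nil,
      List.prod_cons, List.prod_nil, mul_one, Int.cast_neg, Int.cast_one, pow_one, neg_mul, neg_neg,
      one_mul, mul_neg]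

end Cfsg.Agent.Chevalley.Twist.G2
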