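import Cfsg.Agent.Lib.Chevalley.Twist.Build

/-!
Orbits of pairwise orthogonal fundamental roots, the fixed torus, and generation by words.
-/

set_option autoImplicit false

open scoped Matrix

namespace Cfsg.Agent.Chevalley.Twist

open Cfsg.Lie Cfsg.Agent.Chevalley.Table Cfsg.Agent.Chevalley.Check Cfsg.Agent.Chevalley.Cert
  Cfsg.Agent.Chevalley.Group Cfsg.Agent.Chevalley.Unip Cfsg.Agent.Chevalley.Borel
  Cfsg.Agent.Chevalley.Perfect Cfsg.Agent.Chevalley.Weyl Cfsg.Agent.Chevalley.NormalForm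
  Cfsg.Agent.Chevalley.TorusCard

variable {D : ChevalleyDatum} {F : Type*} [Field F] {T : Tab}

/-! ### Words -/

/-- The element of a word. -/
def wordGL (hC : Certified D T) (w : List (ℕ × F)) : GL D.Idx F :=
  (w.map fun p => xg hC p.1 p.2).prod

theorem coe_wordGL (hC : Certified D T) (w : List (ℕ × F)) :
    ((wordGL hC w : GL D.Idx F) : Matrix D.Idx D.Idx F) = D.wordMat F w := by
  induction w with
  | nil => simp [wordGL, ChevalleyDatum.wordMat]
  | cons a w ih =>
    simp only [wordGL, ChevalleyDatum.wordMat, List.map_cons, List.prod_cons, Units.val_mul,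
      coe_xg] at ih ⊢
    rw [ih]

theorem genSubgroup_eq (hC : Certified D T) (W : Set (List (ℕ × F))) :
    D.genSubgroup F W = Subgroup.closure (wordGL hC '' W) := by
  rw [ChevalleyDatum.genSubgroup]
  congr 1
  ext g
  constructor
  · rintro ⟨w, hw, h⟩
    exact ⟨w, hw, Units.ext ((coe_wordGL hC w).trans h.symm)⟩
  · rintro ⟨w, hw, rfl⟩
    exact ⟨w, hw, coe_wordGL hC w⟩

theorem wordGL_mem {hC : Certified D T} {W : Set (List (ℕ × F))} {w : List (ℕ × F)} (h : w ∈ W) :
    wordGL hC w ∈ D.genSubgroup F W := by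
  rw [genSubgroup_eq hC]; exact Subgroup.subset_closure ⟨w, h, rfl⟩

/-! ### Orthogonal orbits -/

/-- No commutator between two roots. -/
noncomputable def noComm (T : Tab) (a b : ℕ) : Bool :=
  !Nat.beq b a && (!Nat.beq b (T.neg a) && (commOf T.E a b).isEmpty)

/-- The fundamental roots of `J` are pairwise orthogonal, listed increasingly, `π`-stable, and the
only positive roots the word makes negative. -/
noncomputable def orthChk (T : Tab) (π : ℕ → ℕ) (J : List ℕ) : Bool :=
  (allL (fun i => Nat.blt i T.l) J && allL (fun i => List.elem (π i) J) J) &&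
  (allL (fun i => allL (fun j => Nat.beq i j ||
    ((noComm T (T.simple i) (T.simple j) && noComm T (T.simple i) (T.neg (T.simple j))) &&
      noComm T (T.neg (T.simple i)) (T.neg (T.simple j)))) J) J &&
  (decide ((J.map T.simple).Pairwise (· < ·)) &&
    Eval.allR T.n fun r => !(iblt 0 (T.phi r) && iblt (T.phi (applyW T J r)) 0) ||
      anyL (fun i => Nat.beq r (T.simple i)) J))

/-- An orthogonal orbit. -/
structure Orth (hC : Certified D T) (π : ℕ → ℕ) (J : List ℕ) : Prop where
  lt : ∀ i ∈ J, i < D.rank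
  stable : ∀ i ∈ J, π i ∈ J
  comm : ∀ i ∈ J, ∀ j ∈ J, i ≠ j → ∀ a b : ℕ,
    (a = D.simple i ∨ a = D.neg (D.simple i)) → (b = D.simple j ∨ b = D.neg (D.simple j)) →
    b ≠ a ∧ b ≠ D.neg a ∧ D.commTerms a b = [] ∨ a ≠ b ∧ a ≠ D.neg b ∧ D.commTerms b a = []
  sorted : (J.map D.simple).Pairwise (· < ·)
  inv : ∀ r < D.nroots, 0 < T.phi r → T.phi (wL D J r) < 0 → ∃ i ∈ J, r = D.simple i

theorem noComm_spec (hC : Certified D T) {a b : ℕ} (ha : a < D.nroots) (hb : b < D.nroots)
    (h : noComm T a b = true) : b ≠ a ∧ b ≠ D.neg a ∧ D.commTerms a b = [] := by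
  simp only [noComm, Bool.and_eq_true, Bool.not_eq_true', List.isEmpty_iff, hC.neg_eq ha,
    commOf_eq hC ha hb] at h
  exact ⟨Nat.ne_of_beq_eq_false h.1, Nat.ne_of_beq_eq_false h.2.1, h.2.2⟩

theorem orth_of_chk (hC : Certified D T) {π : ℕ → ℕ} {J : List ℕ} (h : orthChk T π J = true) :
    Orth hC π J := by
  simp only [orthChk, Bool.and_eq_true, decide_eq_true_eq] at h
  obtain ⟨⟨hlt, hst⟩, hcomm, hsort, hinv⟩ := h
  have hlt' : ∀ i ∈ J, i < D.rank := fun i hi => by
    have := of_allL hlt i hi; rwa [Nat.blt_eq, hC.l_eq] at this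
  refine ⟨hlt', fun i hi => List.elem_iff.1 (of_allL hst i hi), fun i hi j hj hne a b ha hb => ?_,
    ?_, fun r hr hp hn => ?_⟩
  · have hii := hC.simple_lt (hlt' i hi)
    have hjj := hC.simple_lt (hlt' j hj)
    have get : ∀ i ∈ J, ∀ j ∈ J, i ≠ j → noComm T (D.simple i) (D.simple j) = true ∧
        noComm T (D.simple i) (D.neg (D.simple j)) = true ∧
        noComm T (D.neg (D.simple i)) (D.neg (D.simple j)) = true := by
      intro i hi j hj hne
      have h1 := of_allL (of_allL hcomm i hi) j hj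
      simp only [Bool.or_eq_true, Bool.and_eq_true, hC.simple_eq (hlt' i hi),
        hC.simple_eq (hlt' j hj), hC.neg_eq (hC.simple_lt (hlt' i hi)),
        hC.neg_eq (hC.simple_lt (hlt' j hj))] at h1
      rcases h1 with h1 | h1
      exacts [absurd (Nat.eq_of_beq_eq_true h1) hne, ⟨h1.1.1, h1.1.2, h1.2⟩]
    obtain ⟨g1, g2, g3⟩ := get i hi j hj hne
    obtain ⟨g1', g2', -⟩ := get j hj i hi (Ne.symm hne)
    rcases ha with rfl | rfl <;> rcases hb with rfl | rfl
    · exact Or.inl (noComm_spec hC hii hjj g1)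
    · exact Or.inl (noComm_spec hC hii (hC.neg_lt hjj) g2)
    · exact Or.inr (noComm_spec hC hjj (hC.neg_lt hii) g2')
    · exact Or.inl (noComm_spec hC (hC.neg_lt hii) (hC.neg_lt hjj) g3)
  · rwa [List.map_congr_left fun i hi => hC.simple_eq (hlt' i hi)] at hsort
  · have h1 := Eval.of_allR hinv r (by rw [hC.n_eq]; exact hr)
    rw [show applyW T J r = wL D J r from StConj.actT_foldr hC hlt' hr, (iblt_iff _ _).2 hp,
      (iblt_iff _ _).2 hn] at h1
    simp only [Bool.and_self, Bool.not_true, Bool.false_or] at h1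
    obtain ⟨i, hi, e⟩ := (anyL_iff _).1 h1
    exact ⟨i, hi, by rw [← hC.simple_eq (hlt' i hi)]; exact Nat.eq_of_beq_eq_true e⟩

/-- The product over an orbit, on the roots chosen by `rt`. -/
def opr (hC : Certified D T) (rt : ℕ → ℕ) (J : List ℕ) (f : ℕ → F) : GL D.Idx F :=
  (J.map fun i => xg hC (rt i) (f i)).prod

/-- The product of `n_i(a_i)` over an orbit. -/
def onr (hC : Certified D T) (J : List ℕ) (a : ℕ → F) : GL D.Idx F :=
  (J.map fun i => ng hC (D.simple i) (a i)).prod

variable {hC : Certified D T} {π : ℕ → ℕ} {J : List ℕ} (hO : Orth hC π J)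

/-- `rt` picks the fundamental root or its negative. -/
def Signed (D : ChevalleyDatum) (rt : ℕ → ℕ) : Prop :=
  rt = D.simple ∨ rt = fun i => D.neg (D.simple i)

include hO

theorem orth_nodup : J.Nodup := List.Nodup.of_map _ (hO.sorted.imp ne_of_lt)

theorem orth_commute {i j : ℕ} (hi : i ∈ J) (hj : j ∈ J) (hne : i ≠ j) {a b : ℕ}
    (ha : a = D.simple i ∨ a = D.neg (D.simple i)) (hb : b = D.simple j ∨ b = D.neg (D.simple j))
    (t u : F) : Commute (xg hC a t) (xg hC b u) := by
  have hA : a < D.nroots := by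
    rcases ha with rfl | rfl
    exacts [hC.simple_lt (hO.lt i hi), hC.neg_lt (hC.simple_lt (hO.lt i hi))]
  have hB : b < D.nroots := by
    rcases hb with rfl | rfl
    exacts [hC.simple_lt (hO.lt j hj), hC.neg_lt (hC.simple_lt (hO.lt j hj))]
  rcases hO.comm i hi j hj hne a b ha hb with ⟨h1, h2, h3⟩ | ⟨h1, h2, h3⟩
  · have h := xg_comm (F := F) hC hA hB h1 h2 t u
    simp only [ChevalleyDatum.commWord, h3, List.map_nil, List.prod_nil, mul_one] at h
    exact h.symm
  · have h := xg_comm (F := F) hC hB hA h1 h2 u t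
    simp only [ChevalleyDatum.commWord, h3, List.map_nil, List.prod_nil, mul_one] at h
    exact h

theorem signed_cases {rt : ℕ → ℕ} (hrt : Signed D rt) (i : ℕ) :
    rt i = D.simple i ∨ rt i = D.neg (D.simple i) := by
  rcases hrt with rfl | rfl
  exacts [Or.inl rfl, Or.inr rfl]

theorem opr_commute {rt : ℕ → ℕ} (hrt : Signed D rt) {i : ℕ} (hi : i ∈ J) {l : List ℕ}
    (hl : ∀ j ∈ l, j ∈ J ∧ i ≠ j) {a : ℕ} (ha : a = D.simple i ∨ a = D.neg (D.simple i)) (t : F)
    (f : ℕ → F) : Commute (xg hC a t) (opr hC rt l f) := by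
  refine Commute.list_prod_right _ _ fun x hx => ?_
  obtain ⟨j, hj, rfl⟩ := List.mem_map.1 hx
  exact orth_commute hO hi (hl j hj).1 (hl j hj).2 ha (signed_cases hO hrt j) t (f j)

theorem opr_add {rt : ℕ → ℕ} (hrt : Signed D rt) : ∀ l : List ℕ, l.Nodup → (∀ i ∈ l, i ∈ J) →
    ∀ f g : ℕ → F, opr hC rt l (f + g) = opr hC rt l f * opr hC rt l g := by
  intro l
  induction l with
  | nil => intro _ _ f g; simp [opr]
  | cons i l ih =>
    intro hnd hl f g
    rw [List.nodup_cons] at hnd
    have hc := opr_commute hO hrt (l := l) (hl i List.mem_cons_self)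
      (fun j hj => ⟨hl j (List.mem_cons_of_mem i hj), fun e => hnd.1 (e ▸ hj)⟩)
      (signed_cases hO hrt i) (g i) f
    have h := ih hnd.2 (fun j hj => hl j (List.mem_cons_of_mem i hj)) f g
    simp only [opr, List.map_cons, List.prod_cons, Pi.add_apply] at h hc ⊢
    rw [h, xg_add hC, mul_assoc, mul_assoc, ← mul_assoc (xg hC (rt i) (g i)), hc.eq, mul_assoc]

omit hO in
theorem opr_congr {rt : ℕ → ℕ} {l : List ℕ} {f g : ℕ → F} (h : ∀ i ∈ l, f i = g i) :
    opr hC rt l f = opr hC rt l g := by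
  rw [opr, opr]
  congr 1
  exact List.map_congr_left fun i hi => by rw [h i hi]

omit hO in
theorem opr_zero {rt : ℕ → ℕ} (l : List ℕ) : opr hC rt l (0 : ℕ → F) = 1 :=
  List.prod_eq_one fun x hx => by
    obtain ⟨j, -, rfl⟩ := List.mem_map.1 hx
    exact xg_zero hC _

theorem opr_inv {rt : ℕ → ℕ} (hrt : Signed D rt) (f : ℕ → F) :
    (opr hC rt J f)⁻¹ = opr hC rt J (-f) :=
  inv_eq_of_mul_eq_one_right (by
    rw [← opr_add hO hrt J (orth_nodup hO) (fun _ h => h), add_neg_cancel, opr_zero])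

theorem opr_perm {rt : ℕ → ℕ} (hrt : Signed D rt) {l : List ℕ} (hp : l.Perm J) (f : ℕ → F) :
    opr hC rt l f = opr hC rt J f := by
  refine List.Perm.prod_eq' (hp.map _) ?_
  rw [List.pairwise_map]
  exact List.Pairwise.imp_of_mem (fun {a b} ha hb hne => orth_commute hO (hp.mem_iff.1 ha)
    (hp.mem_iff.1 hb) hne (signed_cases hO hrt a) (signed_cases hO hrt b) _ _)
    (hp.nodup_iff.2 (orth_nodup hO))

theorem opr_unique {f g : ℕ → F} (h : opr hC D.simple J f = opr hC D.simple J g) :
    ∀ i ∈ J, f i = g i := by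
  intro i hi
  have h1 : opr hC D.simple J (f - g) = 1 := by
    rw [sub_eq_add_neg, opr_add hO (Or.inl rfl) J (orth_nodup hO) (fun _ h => h),
      ← opr_inv hO (Or.inl rfl), h, mul_inv_cancel]
  let t : ℕ → F := fun r => ((J.filter fun j => Nat.beq (D.simple j) r).map (f - g)).sum
  have ht : ∀ j ∈ J, t (D.simple j) = (f - g) j := by
    intro j hj
    have : (J.filter fun k => Nat.beq (D.simple k) (D.simple j)) = [j] := by
      refine List.perm_singleton.1 ((List.perm_ext_iff_of_nodup ((orth_nodup hO).filter _)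
        (List.nodup_singleton j)).2 fun x => ?_)
      simp only [List.mem_filter, List.mem_singleton]
      exact ⟨fun hx => hC.simple_inj (hO.lt x hx.1) (hO.lt j hj) (Nat.eq_of_beq_eq_true hx.2),
        fun hx => by subst hx; exact ⟨hj, Nat.beq_refl _⟩⟩
    simp [t, this]
  have h2 : prodX hC (J.map D.simple) t = prodX hC (J.map D.simple) 0 := by
    have e1 : prodX hC (J.map D.simple) t = opr hC D.simple J (f - g) := by
      rw [prodX, opr, List.map_map]
      congr 1
      exact List.map_congr_left fun j hj => by rw [Function.comp_apply, ht j hj]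
    rw [e1, h1, prodX]
    symm
    refine List.prod_eq_one fun x hx => ?_
    obtain ⟨j, -, rfl⟩ := List.mem_map.1 hx
    exact xg_zero hC _
  have h3 := prodX_inj hC hO.sorted (fun r hr => by
    obtain ⟨j, hj, rfl⟩ := List.mem_map.1 hr
    exact ⟨hC.simple_lt (hO.lt j hj), hC.phi_simple (hO.lt j hj)⟩) h2 (D.simple i)
    (List.mem_map.2 ⟨i, hi, rfl⟩)
  rw [ht i hi] at h3
  exact sub_eq_zero.1 h3

theorem map_π_perm {S : Tw hC F} (hπ : S.π = π) : (J.map S.π).Perm J := by
  have hinj : ∀ x ∈ J, ∀ y ∈ J, S.π x = S.π y → x = y := fun x hx y hy e => by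
    refine hC.simple_inj (hO.lt x hx) (hO.lt y hy) (ρ_inj S (hC.simple_lt (hO.lt x hx))
      (hC.simple_lt (hO.lt y hy)) ?_)
    rw [S.ρ_simple x (hO.lt x hx), S.ρ_simple y (hO.lt y hy), e]
  refine ((((orth_nodup hO).map_on hinj)).subperm fun x hx => ?_).perm_of_length_le (by simp)
  obtain ⟨y, hy, rfl⟩ := List.mem_map.1 hx
  exact hπ ▸ hO.stable y hy

theorem img_opr {S : Tw hC F} (hπ : S.π = π) {rt : ℕ → ℕ} (hrt : Signed D rt) (f g : ℕ → F)
    (hfg : ∀ i ∈ J, g (S.π i) = S.hom i (f i)) :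
    Img S (opr hC rt J f) (opr hC rt J g) := by
  rw [← opr_perm hO hrt (map_π_perm hO hπ) g]
  suffices key : ∀ l : List ℕ, (∀ i ∈ l, i ∈ J) → Img S (opr hC rt l f) (opr hC rt (l.map S.π) g) from
    key J fun _ h => h
  intro l
  induction l with
  | nil => intro _; simpa [opr] using Img.one (S := S)
  | cons i l ih =>
    intro hl
    have hi := hl i List.mem_cons_self
    have hir := hO.lt i hi
    simp only [opr, List.map_cons, List.prod_cons]
    refine Img.mul ?_ (ih fun j hj => hl j (List.mem_cons_of_mem i hj))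
    rw [hfg i hi]
    rcases hrt with rfl | rfl <;> try dsimp only
    · rw [← S.ρ_simple i hir, ← S.act_simple i hir]
      exact img_xg S (hC.simple_lt hir) _
    · rw [← S.ρ_neg_simple i hir, ← S.act_neg_simple i hir]
      exact img_xg S (hC.neg_lt (hC.simple_lt hir)) _

theorem opr_fixed {S : Tw hC F} (hπ : S.π = π) {rt : ℕ → ℕ} (hrt : Signed D rt) {f : ℕ → F}
    (hf : ∀ i ∈ J, f (S.π i) = S.hom i (f i)) : opr hC rt J f ∈ Fx S :=
  img_opr hO hπ hrt f f hf

theorem fixed_Uminus {S : Tw hC F} (hπ : S.π = π) {u : GL D.Idx F} (hu : u ∈ Fx S) {c : ℕ → Fˣ}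
    (hU : u ∈ Uminus D F (tor D c * nL hC F J)) :
    ∃ f : ℕ → F, (∀ i ∈ J, f (S.π i) = S.hom i (f i)) ∧ u = opr hC D.simple J f := by
  classical
  rw [Uminus_eq hC hO.lt c] at hU
  obtain ⟨f, rfl⟩ : ∃ f : ℕ → F, u = opr hC D.simple J f := by
    clear hu
    induction hU using Subgroup.closure_induction with
    | mem x hx =>
      obtain ⟨r, t, hr, rfl⟩ := hx
      obtain ⟨h1, h2, h3⟩ := (mem_invList hC).1 hr
      obtain ⟨i, hi, rfl⟩ := hO.inv r h1 h2 h3
      refine ⟨fun j => if j = i then t else 0, ?_⟩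
      have : ∀ l : List ℕ, l.Nodup → opr hC D.simple l (fun j => if j = i then t else 0) =
          if i ∈ l then xg hC (D.simple i) t else 1 := by
        intro l
        induction l with
        | nil => intro _; simp [opr]
        | cons a l ihl =>
          intro hnd
          rw [List.nodup_cons] at hnd
          have := ihl hnd.2
          simp only [opr, List.map_cons, List.prod_cons] at this ⊢
          rw [this]
          by_cases ha : a = i
          · subst ha
            simp [hnd.1]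
          · simp [ha, Ne.symm ha, xg_zero hC]
      rw [this J (orth_nodup hO), if_pos hi]
    | one => exact ⟨0, (opr_zero J).symm⟩
    | mul x y _ _ hx hy =>
      obtain ⟨f, rfl⟩ := hx
      obtain ⟨g, rfl⟩ := hy
      exact ⟨f + g, (opr_add hO (Or.inl rfl) J (orth_nodup hO) (fun _ h => h) f g).symm⟩
    | inv x _ hx =>
      obtain ⟨f, rfl⟩ := hx
      exact ⟨-f, opr_inv hO (Or.inl rfl) f⟩
  refine ⟨f, ?_, rfl⟩
  have hinj : ∀ x ∈ J, ∀ y ∈ J, S.π x = S.π y → x = y := fun x hx y hy e => by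
    refine hC.simple_inj (hO.lt x hx) (hO.lt y hy) (ρ_inj S (hC.simple_lt (hO.lt x hx))
      (hC.simple_lt (hO.lt y hy)) ?_)
    rw [S.ρ_simple x (hO.lt x hx), S.ρ_simple y (hO.lt y hy), e]
  let g : ℕ → F := fun j => ((J.filter fun i => Nat.beq (S.π i) j).map fun i => S.hom i (f i)).sum
  have hg : ∀ i ∈ J, g (S.π i) = S.hom i (f i) := by
    intro j hj
    have : (J.filter fun k => Nat.beq (S.π k) (S.π j)) = [j] := by
      refine List.perm_singleton.1 ((List.perm_ext_iff_of_nodup ((orth_nodup hO).filter _)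
        (List.nodup_singleton j)).2 fun x => ?_)
      simp only [List.mem_filter, List.mem_singleton]
      exact ⟨fun hx => hinj x hx.1 j hj (Nat.eq_of_beq_eq_true hx.2),
        fun hx => by subst hx; exact ⟨hj, Nat.beq_refl _⟩⟩
    simp [g, this]
  have h := opr_unique hO ((img_opr hO hπ (Or.inl rfl) f g hg).unique hu)
  intro i hi
  rw [← hg i hi]
  exact (h _ (hπ ▸ hO.stable i hi)).symm

theorem onr_eq (a : ℕ → F) : ∀ l : List ℕ, l.Nodup → (∀ i ∈ l, i ∈ J) →
    onr hC l a = opr hC D.simple l a *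
      opr hC (fun i => D.neg (D.simple i)) l (fun i => -(a i)⁻¹) * opr hC D.simple l a := by
  intro l
  induction l with
  | nil => intro _ _; simp [opr, onr]
  | cons i l ih =>
    intro hnd hl
    rw [List.nodup_cons] at hnd
    have hlt : ∀ j ∈ l, j ∈ J ∧ i ≠ j := fun j hj =>
      ⟨hl j (List.mem_cons_of_mem i hj), fun e => hnd.1 (e ▸ hj)⟩
    have h1 := opr_commute hO (rt := D.simple) (Or.inl rfl) (hl i List.mem_cons_self) hlt
      (a := D.neg (D.simple i)) (Or.inr rfl) (-(a i)⁻¹) a
    have h2 := opr_commute hO (rt := D.simple) (Or.inl rfl) (hl i List.mem_cons_self) hlt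
      (a := D.simple i) (Or.inl rfl) (a i) a
    have h3 := opr_commute hO (rt := fun i => D.neg (D.simple i)) (Or.inr rfl) (hl i List.mem_cons_self)
      hlt (a := D.simple i) (Or.inl rfl) (a i) (fun i => -(a i)⁻¹)
    have e := ih hnd.2 fun j hj => hl j (List.mem_cons_of_mem i hj)
    simp only [opr, onr, List.map_cons, List.prod_cons] at e h1 h2 h3 ⊢
    rw [e, ng]
    generalize (l.map fun i => xg hC (D.simple i) (a i)).prod = A at h1 h2 ⊢
    generalize (l.map fun i => xg hC (D.neg (D.simple i)) (-(a i)⁻¹)).prod = B at h3 ⊢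
    simp only [mul_assoc]
    rw [← mul_assoc (xg hC (D.simple i) (a i)) A, h2.eq, mul_assoc,
      ← mul_assoc (xg hC (D.neg (D.simple i)) (-(a i)⁻¹)) A, h1.eq, mul_assoc,
      ← mul_assoc (xg hC (D.simple i) (a i)) B, h3.eq, mul_assoc, h2.eq]

/-- Membership of the `n`-products, from the words. -/
theorem onr_mem {K : Subgroup (GL D.Idx F)} {a : ℕ → F}
    (h1 : opr hC D.simple J a ∈ K)
    (h2 : opr hC (fun i => D.neg (D.simple i)) J (fun i => -(a i)⁻¹) ∈ K) : onr hC J a ∈ K := by
  rw [onr_eq hO a J (orth_nodup hO) fun _ h => h]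
  exact mul_mem (mul_mem h1 h2) h1

omit hO in
theorem onr_one (l : List ℕ) : onr hC l (fun _ => (1 : F)) = nL hC F l := by simp [onr, nL]

omit hO in
theorem onr_tor : ∀ l : List ℕ, l.Nodup → (∀ i ∈ l, i < D.rank) → ∀ c : ℕ → Fˣ,
    ∃ d : ℕ → Fˣ, (∀ i, d i = if i ∈ l then c i else 1) ∧
      (l.map fun i => hg hC (D.simple i) (c i : F)).prod = tor D d := by
  intro l
  induction l with
  | nil => intro _ _ c; exact ⟨1, fun i => by simp, by simp [tor_one]⟩
  | cons i l ih =>
    intro hnd hl c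
    rw [List.nodup_cons] at hnd
    obtain ⟨d, hd, e⟩ := ih hnd.2 (fun j hj => hl j (List.mem_cons_of_mem i hj)) c
    refine ⟨(fun j => if j = i then c i else 1) * d, fun j => ?_, ?_⟩
    · simp only [Pi.mul_apply, hd j, List.mem_cons]
      by_cases h : j = i
      · subst h; simp [hnd.1]
      · simp [h]
    · rw [List.map_cons, List.prod_cons, e, hg_simple hC (hl i List.mem_cons_self), tor_mul]

theorem ng_commute {i j : ℕ} (hi : i ∈ J) (hj : j ∈ J) (hne : i ≠ j) (a b : F) :
    Commute (ng hC (D.simple i) a) (ng hC (D.simple j) b) := by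
  have h : ∀ r, (r = D.simple i ∨ r = D.neg (D.simple i)) → ∀ t : F,
      Commute (xg hC r t) (ng hC (D.simple j) b) := fun r hr t =>
    ((orth_commute hO hi hj hne hr (Or.inl rfl) t b).mul_right
      (orth_commute hO hi hj hne hr (Or.inr rfl) t _)).mul_right
      (orth_commute hO hi hj hne hr (Or.inl rfl) t b)
  exact ((h _ (Or.inl rfl) a).mul_left (h _ (Or.inr rfl) _)).mul_left (h _ (Or.inl rfl) a)

theorem hg_prod_eq (c : ℕ → F) : ∀ l : List ℕ, l.Nodup → (∀ i ∈ l, i ∈ J) →
    (l.map fun i => hg hC (D.simple i) (c i)).prod = onr hC l c * onr hC l (fun _ => (-1 : F)) := by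
  intro l
  induction l with
  | nil => intro _ _; simp [onr]
  | cons i l ih =>
    intro hnd hl
    rw [List.nodup_cons] at hnd
    have hc : Commute (ng hC (D.simple i) (-1 : F)) (onr hC l c) :=
      Commute.list_prod_right _ _ fun x hx => by
        obtain ⟨j, hj, rfl⟩ := List.mem_map.1 hx
        exact ng_commute hO (hl i List.mem_cons_self) (hl j (List.mem_cons_of_mem i hj))
          (fun e => hnd.1 (e ▸ hj)) _ _
    have e := ih hnd.2 fun j hj => hl j (List.mem_cons_of_mem i hj)
    simp only [onr, List.map_cons, List.prod_cons] at e hc ⊢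
    rw [e, hg]
    simp only [mul_assoc]
    rw [← mul_assoc (ng hC (D.simple i) (-1 : F)), hc.eq]
    simp only [mul_assoc]

omit hO
variable (S : Tw hC F)

/-- The action on torus parameters, given an inverse of `π`. -/
noncomputable def tau (πi : ℕ → ℕ) (hlt : ∀ j < D.rank, πi j < D.rank) :
    (Fin D.rank → Fˣ) →* (Fin D.rank → Fˣ) where
  toFun c j := Units.map (S.hom (πi j)).toMonoidHom (c ⟨πi j, hlt j j.2⟩)
  map_one' := by funext j; simp
  map_mul' c c' := by funext j; simp

theorem img_torHom {πi : ℕ → ℕ} (hlt : ∀ j < D.rank, πi j < D.rank)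
    (hinv : ∀ j < D.rank, S.π (πi j) = j) (c : Fin D.rank → Fˣ) :
    Img S (torHom D F c) (torHom D F (tau S πi hlt c)) := by
  have hmem : ∀ c, torHom D F c ∈ D.group F := fun c => H_le_group hC (tor_mem_H hC _)
  have key : ((D.group F).subtype.comp S.sig).comp ((torHom D F).codRestrict (D.group F) hmem) =
      (torHom D F).comp (tau S πi hlt) := by
    refine MonoidHom.pi_ext fun i a => ?_
    have hi : (i : ℕ) < D.rank := i.2
    have e1 : ∀ (j : Fin D.rank) (a : Fˣ),
        torHom D F (Pi.mulSingle j a) = hg hC (D.simple j) (a : F) := by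
      intro j a
      rw [hg_simple hC j.2]
      show tor D _ = _
      congr 1
      funext k
      by_cases h : k = j
      · subst h; rw [if_pos rfl, TorusCard.ext, dif_pos j.2, Pi.mulSingle_eq_same]
      · rw [if_neg h, TorusCard.ext]
        split_ifs with hk
        · rw [Pi.mulSingle_eq_of_ne (fun e => h (congrArg Fin.val e))]
        · rfl
    have e2 : tau S πi hlt (Pi.mulSingle i a) =
        Pi.mulSingle ⟨S.π i, S.π_lt i hi⟩ (Units.map (S.hom i).toMonoidHom a) := by
      funext j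
      show Units.map _ (Pi.mulSingle (M := fun _ => Fˣ) i a ⟨πi j, _⟩) = _
      by_cases h : πi j = i
      · have hj : j = ⟨S.π i, S.π_lt i hi⟩ := Fin.ext (by rw [← hinv j j.2, h])
        rw [show (⟨πi j, hlt j j.2⟩ : Fin D.rank) = i from Fin.ext h, Pi.mulSingle_eq_same, hj,
          Pi.mulSingle_eq_same, ← hj, h]
      · have hj : j ≠ ⟨S.π i, S.π_lt i hi⟩ := fun e => h (by
          have e' : S.π (πi j) = S.π i := by rw [hinv j j.2, e]
          refine hC.simple_inj (hlt j j.2) hi (ρ_inj S (hC.simple_lt (hlt j j.2)) (hC.simple_lt hi) ?_)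
          rw [S.ρ_simple _ (hlt j j.2), S.ρ_simple i hi, e'])
        rw [Pi.mulSingle_eq_of_ne (fun e => h (congrArg Fin.val e)), Pi.mulSingle_eq_of_ne hj,
          map_one]
    have h1 := (img_ng_simple S hi (a : F)).mul (img_ng_simple S hi (-1))
    rw [map_neg, map_one] at h1
    show ((S.sig ⟨torHom D F (Pi.mulSingle i a), hmem _⟩ : D.group F) : GL D.Idx F) = _
    refine (Img.unique (S := S) (g := torHom D F (Pi.mulSingle i a)) ⟨hmem _, rfl⟩ ?_)
    rw [MonoidHom.comp_apply, e2, e1, e1]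
    exact h1
  exact ⟨hmem c, DFunLike.congr_fun key c⟩

/-- A fixed torus element has fixed parameters, under a correction of the kernel. -/
theorem exists_fixed_param {πi : ℕ → ℕ} (hlt : ∀ j < D.rank, πi j < D.rank)
    (hinv : ∀ j < D.rank, S.π (πi j) = j)
    (hcorr : ∀ c : Fin D.rank → Fˣ, (torHom D F) (tau S πi hlt c) = torHom D F c →
      ∃ z ∈ (torHom D F).ker, tau S πi hlt (c * z) = c * z)
    {c : ℕ → Fˣ} (h : tor D c ∈ Fx S) :
    ∃ c' : ℕ → Fˣ, tor D c' = tor D c ∧ ∀ i < D.rank, (c' (S.π i) : F) = S.hom i (c' i : F) := by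
  have e : torHom D F (fun i => c i) = tor D c := dg_congr fun s _ =>
    Finset.prod_congr rfl fun i hi => by rw [TorusCard.ext, dif_pos (Finset.mem_range.1 hi)]
  obtain ⟨z, hz, hfix⟩ := hcorr (fun i => c i)
    ((img_torHom S hlt hinv _).unique (e.symm ▸ h) |>.trans e.symm)
  refine ⟨TorusCard.ext ((fun i : Fin D.rank => c i) * z), ?_, fun i hi => ?_⟩
  · show torHom D F _ = _
    rw [map_mul, MonoidHom.mem_ker.1 hz, mul_one, e]
  · have hj := S.π_lt i hi
    have h1 := congrFun hfix ⟨S.π i, hj⟩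
    have hback : πi (S.π i) = i := by
      refine hC.simple_inj (hlt _ hj) hi (ρ_inj S (hC.simple_lt (hlt _ hj)) (hC.simple_lt hi) ?_)
      rw [S.ρ_simple _ (hlt _ hj), S.ρ_simple i hi, hinv _ hj]
    rw [TorusCard.ext, TorusCard.ext, dif_pos hj, dif_pos hi, ← h1]
    show S.hom (πi (S.π i)) _ = _
    show S.hom (πi (S.π i)) ((((fun i : Fin D.rank => c i) * z) ⟨πi (S.π i), hlt _ hj⟩ : Fˣ) : F) = _
    generalize hlt _ hj = pf
    revert pf
    rw [hback]
    exact fun _ => rfl

/-- The torus by orbit components. -/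
theorem tor_mem_of_orbits (O : Orbits S) {K : Subgroup (GL D.Idx F)}
    (hdisj : ∀ a < O.k, ∀ b < O.k, ∀ i ∈ O.J a, i ∈ O.J b → a = b)
    (hcomp : ∀ a < O.k, ∀ c : ℕ → Fˣ, (∀ i < D.rank, (c (S.π i) : F) = S.hom i (c i : F)) →
      tor D (fun i => if i ∈ O.J a then c i else 1) ∈ K)
    {c : ℕ → Fˣ} (hc : ∀ i < D.rank, (c (S.π i) : F) = S.hom i (c i : F)) : tor D c ∈ K := by
  have key : ∀ m ≤ O.k,
      tor D (fun i => ∏ a ∈ Finset.range m, if i ∈ O.J a then c i else 1) ∈ K := by
    intro m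
    induction m with
    | zero => intro _; simp [show (fun _ : ℕ => (1 : Fˣ)) = 1 from rfl, tor_one, one_mem]
    | succ m ih =>
      intro hm
      have e : (fun i => ∏ a ∈ Finset.range (m + 1), if i ∈ O.J a then c i else 1) =
          (fun i => ∏ a ∈ Finset.range m, if i ∈ O.J a then c i else 1) *
            fun i => if i ∈ O.J m then c i else 1 := by
        funext i; rw [Finset.prod_range_succ]; rfl
      rw [e, ← tor_mul]
      exact mul_mem (ih (by omega)) (hcomp m (by omega) c hc)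
  have := key O.k le_rfl
  have e : tor D (fun i => ∏ a ∈ Finset.range O.k, if i ∈ O.J a then c i else 1) = tor D c := by
    refine dg_congr fun s _ => Finset.prod_congr rfl fun i hi => ?_
    obtain ⟨a, ha, hia⟩ := O.cover i (Finset.mem_range.1 hi)
    dsimp only
    rw [Finset.prod_eq_single a (fun b hb hne => ?_) (fun h => absurd (Finset.mem_range.2 ha) h),
      if_pos hia]
    rw [if_neg fun h => hne (hdisj b (Finset.mem_range.1 hb) a ha i h hia)]
  rwa [e] at this

end Cfsg.Agent.Chevalley.Twist
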