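import Cfsg.Agent.Lib.Chevalley.Twist.AutExt
import Cfsg.Agent.Lib.Chevalley.Twist.CountE6
import Cfsg.Prelude.Def_KGroupFacts

/-!
Diagonal automorphisms of fixed groups, and the order of the outer automorphism group from the
rigidity of the automorphisms normalised on the fundamental root elements.
-/

set_option autoImplicit false

open scoped Matrix Pointwise

namespace Cfsg.Agent.Chevalley.Twist

open Cfsg.Lie Cfsg.Agent.Chevalley.Table Cfsg.Agent.Chevalley.Cert Cfsg.Agent.Chevalley.Group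
  Cfsg.Agent.Chevalley.Weight Cfsg.Agent.Chevalley.Unip Cfsg.Agent.Chevalley.Borel
  Cfsg.Agent.Chevalley.Weyl Cfsg.Agent.Chevalley.Bruhat Cfsg.Agent.Chevalley.NormalForm
  Cfsg.Agent.Chevalley.AutThm Cfsg.Agent.Chevalley.TorusCard

variable {D : ChevalleyDatum} {F : Type*} [Field F] {T : Tab}

theorem torChar_ext (c : Fin D.rank → Fˣ) (j : Fin D.rank) :
    torChar D (ext c) (D.simple j) = matHom (cartanMat D) c j := by
  rw [torChar, matHom_apply, ← Fin.prod_univ_eq_prod_range]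
  refine Finset.prod_congr rfl fun i _ => ?_
  rw [ext, dif_pos i.2]
  rfl

theorem torChar_neg (hC : Certified D T) (c : ℕ → Fˣ) {r : ℕ} (hr : r < D.nroots) :
    torChar D c (D.neg r) = (torChar D c r)⁻¹ := by
  rw [torChar, torChar, ← Finset.prod_inv_distrib]
  refine Finset.prod_congr rfl fun i hi => ?_
  rw [hC.cartan_neg hr (Finset.mem_range.1 hi), zpow_neg]

theorem charOf_mul (T : Tab) (N : List (List ℤ)) (c c' : Fin D.rank → Fˣ) :
    charOf T N (c * c') = charOf T N c * charOf T N c' := by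
  funext r
  rw [Pi.mul_apply, charOf, charOf, charOf, ← Finset.prod_mul_distrib]
  exact Finset.prod_congr rfl fun m _ => by rw [Pi.mul_apply, mul_zpow]

variable {hC : Certified D T} {S : Tw hC F} (O : Orbits S) {K : Subgroup (GL D.Idx F)}
  (hK : GenData O K) {π : ℕ → ℕ}
  (hπ : S.π = π) (hO : ∀ a < O.k, Orth hC π (O.J a))
  (hdisj : ∀ a < O.k, ∀ b < O.k, ∀ i ∈ O.J a, i ∈ O.J b → a = b)
  (hfix : ∀ c : ℕ → Fˣ, tor D c ∈ Fx S →
    ∃ c' : ℕ → Fˣ, tor D c' = tor D c ∧ ∀ i < D.rank, (c' (S.π i) : F) = S.hom i (c' i : F))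
  {N : List (List ℤ)} (Z : AutThm.Setup D T N)
  (πi : ℕ → ℕ) (hlt : ∀ j < D.rank, πi j < D.rank) (hinv : ∀ j < D.rank, S.π (πi j) = j)

include hlt hinv in
theorem pi_inv {i : ℕ} (hi : i < D.rank) : πi (S.π i) = i := by
  have hj := S.π_lt i hi
  refine hC.simple_inj (hlt _ hj) hi (ρ_inj S (hC.simple_lt (hlt _ hj)) (hC.simple_lt hi) ?_)
  rw [S.ρ_simple _ (hlt _ hj), S.ρ_simple i hi, hinv _ hj]

include hinv in
theorem fixParam_step {c : Fin D.rank → Fˣ} (hc : c ∈ fixParam S πi hlt) (i : Fin D.rank) :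
    (c ⟨S.π i, S.π_lt i i.2⟩ : F) = S.hom i (c i : F) := by
  have h := (mem_fixParam S).1 hc ⟨S.π i, S.π_lt i i.2⟩
  have e := pi_inv πi hlt hinv i.2
  rw [← h]
  show S.hom (πi (S.π i)) (c ⟨πi (S.π i), hlt _ (S.π_lt i i.2)⟩ : F) = _
  generalize hlt _ (S.π_lt i i.2) = pf
  revert pf
  rw [e]
  exact fun _ => rfl

include hK hπ hO in
/-- A fixed character keeps a fixed orbit element fixed. -/
theorem scaled_mem {χ : ℕ → Fˣ}
    (hχ : ∀ i < D.rank, (χ (D.simple (S.π i)) : F) = S.hom i (χ (D.simple i) : F))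
    (hneg : ∀ i < D.rank, χ (D.neg (D.simple i)) = (χ (D.simple i))⁻¹) {a : ℕ} (ha : a < O.k)
    {f : ℕ → F} (hf : FixF S (O.J a) f) :
    opr hC D.simple (O.J a) (fun i => (χ (D.simple i) : F) * f i) ∈ K ∧
      opr hC (fun i => D.neg (D.simple i)) (O.J a)
        (fun i => (χ (D.neg (D.simple i)) : F) * f i) ∈ K := by
  refine ⟨opr_mem_K O hK hπ hO (Or.inl rfl) ha fun i hi => ?_,
    opr_mem_K O hK hπ hO (Or.inr rfl) ha fun i hi => ?_⟩
  · have hir := O.J_lt a ha i hi
    simp only [hχ i hir, hf i hi, map_mul]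
  · have hir := O.J_lt a ha i hi
    simp only [hneg _ (S.π_lt i hir), hneg i hir, Units.val_inv_eq_inv_val, hχ i hir, hf i hi,
      map_mul, map_inv₀]

include Z in
theorem dg_conj_opr {χ : ℕ → Fˣ} (hχ : D.IsRootCharacter χ) {rt : ℕ → ℕ} {J : List ℕ}
    (hrt : ∀ i ∈ J, rt i < D.nroots) (f : ℕ → F) :
    MulAut.conj (dg D F χ) (opr hC rt J f) = opr hC rt J fun i => (χ (rt i) : F) * f i := by
  rw [opr, opr, map_list_prod, List.map_map]
  exact congrArg List.prod (List.map_congr_left fun i hi => by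
    rw [Function.comp_apply, MulAut.conj_apply,
      SimpleFacts.ChevalleyDiag.dg_conj_xg hC Z.cons hχ (hrt i hi)])

include Z hinv in
theorem chr_fixed {c : Fin D.rank → Fˣ} (hc : c ∈ fixParam S πi hlt) :
    ∀ i < D.rank, (charOf T N c (D.simple (S.π i)) : F) =
      S.hom i (charOf T N c (D.simple i) : F) := fun i hi => by
  rw [charOf_simple hC Z.coef Z.int c ⟨i, hi⟩,
    charOf_simple hC Z.coef Z.int c ⟨S.π i, S.π_lt i hi⟩]
  exact fixParam_step πi hlt hinv hc ⟨i, hi⟩

include hK hπ hO hdisj hfix Z hinv in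
theorem dg_mem_K {c : Fin D.rank → Fˣ} (hc : c ∈ fixParam S πi hlt) {g : GL D.Idx F} (hg : g ∈ K) :
    MulAut.conj (dg D F (charOf T N c)) g ∈ K := by
  have hχ := charOf_isRootCharacter (F := F) hC Z.int c
  refine (le_of_opr_mem O hK hπ hO hdisj hfix
    (M := K.comap (MulAut.conj (dg D F (charOf T N c))).toMonoidHom) fun a ha f hf => ?_) hg
  have h := scaled_mem O hK hπ hO (chr_fixed Z πi hlt hinv hc)
    (fun i hi => hχ.1 _ (hC.simple_lt hi)) ha hf
  constructor <;> rw [Subgroup.mem_comap, MulEquiv.coe_toMonoidHom]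
  · rw [dg_conj_opr Z hχ fun i hi => hC.simple_lt (O.J_lt a ha i hi)]
    exact h.1
  · rw [dg_conj_opr Z hχ fun i hi => hC.neg_lt (hC.simple_lt (O.J_lt a ha i hi))]
    exact h.2

omit hK in
theorem conj_dg_mul (χ χ' : ℕ → Fˣ) (g : GL D.Idx F) :
    MulAut.conj (dg D F χ) (MulAut.conj (dg D F χ') g) = MulAut.conj (dg D F (χ * χ')) g := by
  rw [← MulAut.mul_apply, ← map_mul, dg_mul]

/-- The diagonal automorphisms of the fixed group. -/
noncomputable def dHomK : fixParam S πi hlt →* MulAut K where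
  toFun c :=
    { toFun := fun g => ⟨_, dg_mem_K O hK hπ hO hdisj hfix Z πi hlt hinv c.2 g.2⟩
      invFun := fun g => ⟨_, dg_mem_K O hK hπ hO hdisj hfix Z πi hlt hinv (c⁻¹).2 g.2⟩
      left_inv := fun g => Subtype.ext (by
        show MulAut.conj (dg D F (charOf T N (c.1)⁻¹)) (MulAut.conj (dg D F (charOf T N c.1)) g.1) = g.1
        rw [conj_dg_mul, ← charOf_mul, inv_mul_cancel,
          show charOf T N (1 : Fin D.rank → Fˣ) = 1 from funext fun r => by simp [charOf],
          dg_one, map_one]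
        rfl)
      right_inv := fun g => Subtype.ext (by
        show MulAut.conj (dg D F (charOf T N c.1)) (MulAut.conj (dg D F (charOf T N (c.1)⁻¹)) g.1) = g.1
        rw [conj_dg_mul, ← charOf_mul, mul_inv_cancel,
          show charOf T N (1 : Fin D.rank → Fˣ) = 1 from funext fun r => by simp [charOf],
          dg_one, map_one]
        rfl)
      map_mul' := fun g h => Subtype.ext (map_mul (MulAut.conj (dg D F (charOf T N c.1))) g.1 h.1) }
  map_one' := MulEquiv.ext fun g => Subtype.ext (by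
    show MulAut.conj (dg D F (charOf T N (1 : Fin D.rank → Fˣ))) g.1 = g.1
    rw [show charOf T N (1 : Fin D.rank → Fˣ) = 1 from funext fun r => by simp [charOf],
      dg_one, map_one]
    rfl)
  map_mul' c c' := MulEquiv.ext fun g => Subtype.ext (by
    show MulAut.conj (dg D F (charOf T N (c.1 * c'.1))) g.1 =
      MulAut.conj (dg D F (charOf T N c.1)) (MulAut.conj (dg D F (charOf T N c'.1)) g.1)
    rw [conj_dg_mul, charOf_mul])

theorem coe_dHomK (c : fixParam S πi hlt) (g : K) :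
    (dHomK O hK hπ hO hdisj hfix Z πi hlt hinv c g : GL D.Idx F) =
      MulAut.conj (dg D F (charOf T N c.1)) g.1 := rfl

include hK hπ hO hdisj hfix Z hinv in
theorem dHomK_opr (c : fixParam S πi hlt) {a : ℕ} (ha : a < O.k) (g : K) (f : ℕ → F) :
    ((g : GL D.Idx F) = opr hC D.simple (O.J a) f →
      (dHomK O hK hπ hO hdisj hfix Z πi hlt hinv c g : GL D.Idx F) =
        opr hC D.simple (O.J a) fun i => (ext c.1 i : F) * f i) ∧
    ((g : GL D.Idx F) = opr hC (fun i => D.neg (D.simple i)) (O.J a) f →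
      (dHomK O hK hπ hO hdisj hfix Z πi hlt hinv c g : GL D.Idx F) =
        opr hC (fun i => D.neg (D.simple i)) (O.J a) fun i => ((ext c.1 i)⁻¹ : Fˣ) * f i) := by
  have hχ := charOf_isRootCharacter (F := F) hC Z.int c.1
  constructor <;> intro e <;> rw [coe_dHomK, e]
  · rw [dg_conj_opr Z hχ fun i hi => hC.simple_lt (O.J_lt a ha i hi)]
    refine opr_congr fun i hi => ?_
    rw [charOf_simple hC Z.coef Z.int c.1 ⟨i, O.J_lt a ha i hi⟩, ext, dif_pos (O.J_lt a ha i hi)]
  · rw [dg_conj_opr Z hχ fun i hi => hC.neg_lt (hC.simple_lt (O.J_lt a ha i hi))]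
    refine opr_congr fun i hi => ?_
    rw [hχ.1 _ (hC.simple_lt (O.J_lt a ha i hi)),
      charOf_simple hC Z.coef Z.int c.1 ⟨i, O.J_lt a ha i hi⟩, ext, dif_pos (O.J_lt a ha i hi)]

include hK hπ hO hdisj hfix Z hinv in
theorem dHomK_UV (c : fixParam S πi hlt) :
    (UK D K).map (dHomK O hK hπ hO hdisj hfix Z πi hlt hinv c).toMonoidHom = UK D K ∧
      (VK D K).map (dHomK O hK hπ hO hdisj hfix Z πi hlt hinv c).toMonoidHom = VK D K := by
  have key : ∀ (e : fixParam S πi hlt) (g : GL D.Idx F),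
      (g ∈ D.posUnipotent F → MulAut.conj (dg D F (charOf T N e.1)) g ∈ D.posUnipotent F) ∧
      (g ∈ D.negUnipotent F → MulAut.conj (dg D F (charOf T N e.1)) g ∈ D.negUnipotent F) := by
    intro e g
    have hχ := charOf_isRootCharacter (F := F) hC Z.int e.1
    constructor <;> intro hg
    · suffices h : D.posUnipotent F ≤ (D.posUnipotent F).comap
          (MulAut.conj (dg D F (charOf T N e.1))).toMonoidHom from h hg
      conv_lhs => rw [U_eq_closure hC]
      rw [Subgroup.closure_le]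
      rintro x ⟨r, t, hr, hp, rfl⟩
      rw [SetLike.mem_coe, Subgroup.mem_comap, MulEquiv.coe_toMonoidHom, MulAut.conj_apply,
        SimpleFacts.ChevalleyDiag.dg_conj_xg hC Z.cons hχ hr]
      exact xg_mem_U hC hr hp _
    · suffices h : D.negUnipotent F ≤ (D.negUnipotent F).comap
          (MulAut.conj (dg D F (charOf T N e.1))).toMonoidHom from h hg
      conv_lhs => rw [V_eq_closure hC]
      rw [Subgroup.closure_le]
      rintro x ⟨r, t, hr, hp, rfl⟩
      rw [SetLike.mem_coe, Subgroup.mem_comap, MulEquiv.coe_toMonoidHom, MulAut.conj_apply,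
        SimpleFacts.ChevalleyDiag.dg_conj_xg hC Z.cons hχ hr]
      exact xg_mem_V hC hr hp _
  have inv : ∀ g : K, dHomK O hK hπ hO hdisj hfix Z πi hlt hinv c
      (dHomK O hK hπ hO hdisj hfix Z πi hlt hinv c⁻¹ g) = g := fun g => by
    rw [← MulAut.mul_apply, ← map_mul, mul_inv_cancel, map_one]; rfl
  constructor <;> refine le_antisymm ?_ fun g hg => ⟨_, ?_, inv g⟩
  · rintro _ ⟨g, hg, rfl⟩; exact (key c g).1 hg
  · exact (key c⁻¹ g).1 hg
  · rintro _ ⟨g, hg, rfl⟩; exact (key c g).2 hg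
  · exact (key c⁻¹ g).2 hg

/-! ### The torus -/

include hK hinv in
theorem torHom_mem_K {u : Fin D.rank → Fˣ} (hu : u ∈ fixParam S πi hlt) : torHom D F u ∈ K := by
  have h := img_torHom S hlt hinv u
  rw [show tau S πi hlt u = u from hu] at h
  exact Fx_le O hK h

include hinv in
theorem torMat_mem {u : Fin D.rank → Fˣ} (hu : u ∈ fixParam S πi hlt) :
    matHom (cartanMat D) u ∈ fixParam S πi hlt := by
  have hF : tor D (ext u) ∈ Fx S := by
    have h := img_torHom S hlt hinv u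
    rw [show tau S πi hlt u = u from hu] at h
    exact h
  have key : ∀ i : Fin D.rank, ((matHom (cartanMat D) u ⟨S.π i, S.π_lt i i.2⟩ : Fˣ) : F) =
      S.hom i ((matHom (cartanMat D) u i : Fˣ) : F) := by
    intro i
    have hp := hC.simple_lt i.2
    have h := (((mem_Fx S).1 hF).mul (img_xg S hp (1 : F))).mul ((mem_Fx S).1 hF).inv
    rw [tor_conj_x hC _ _ _ hp, tor_conj_x hC _ _ _ (S.ρ_lt _ hp), mul_one] at h
    have h' := h.unique (img_xg S hp _)
    rw [S.ρ_simple i i.2, S.act_simple i i.2, S.act_simple i i.2, map_one, mul_one] at h'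
    have h'' := xg_injective hC (hC.simple_lt (S.π_lt i i.2)) h'
    rwa [torChar_ext u ⟨S.π i, S.π_lt i i.2⟩, torChar_ext u i] at h''
  refine (mem_fixParam S).2 fun j => ?_
  have h := key ⟨πi j, hlt j j.2⟩
  rw [← h]
  exact congrArg (fun x : Fin D.rank => ((matHom (cartanMat D) u x : Fˣ) : F))
    (Fin.ext (hinv j j.2))

/-- The action of the fixed torus on the fundamental root elements. -/
noncomputable def psiK : fixParam S πi hlt →* fixParam S πi hlt :=
  ((matHom (cartanMat D)).comp (fixParam S πi hlt).subtype).codRestrict _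
    fun u => torMat_mem πi hlt hinv u.2

include hK hπ hO hdisj hfix Z hinv in
/-- The diagonal automorphism of a torus element is inner. -/
theorem dHomK_psi (u : fixParam S πi hlt) :
    dHomK O hK hπ hO hdisj hfix Z πi hlt hinv (psiK πi hlt hinv u) =
      MulAut.conj (⟨torHom D F u.1, torHom_mem_K O hK πi hlt hinv u.2⟩ : K) := by
  suffices h : (dHomK O hK hπ hO hdisj hfix Z πi hlt hinv (psiK πi hlt hinv u)).toMonoidHom =
      (MulAut.conj (⟨torHom D F u.1, torHom_mem_K O hK πi hlt hinv u.2⟩ : K)).toMonoidHom from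
    MulEquiv.ext fun g => DFunLike.congr_fun h g
  refine hom_ext_K O hK hπ hO hdisj hfix _ _ fun a ha g hg => Subtype.ext ?_
  have hval : ∀ i ∈ O.J a, ext (psiK πi hlt hinv u).1 i = torChar D (ext u.1) (D.simple i) :=
    fun i hi => by
      rw [ext, dif_pos (O.J_lt a ha i hi)]
      exact (torChar_ext u.1 ⟨i, O.J_lt a ha i hi⟩).symm
  have hr : ∀ (rt : ℕ → ℕ), (∀ i ∈ O.J a, rt i < D.nroots) → ∀ f : ℕ → F,
      MulAut.conj (torHom D F u.1) (opr hC rt (O.J a) f) =
        opr hC rt (O.J a) fun i => (torChar D (ext u.1) (rt i) : F) * f i := fun rt hrt f => by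
    rw [opr, opr, map_list_prod, List.map_map]
    exact congrArg List.prod (List.map_congr_left fun i hi => by
      rw [Function.comp_apply, MulAut.conj_apply]
      exact tor_conj_x hC _ _ _ (hrt i hi))
  show (dHomK O hK hπ hO hdisj hfix Z πi hlt hinv (psiK πi hlt hinv u) g : GL D.Idx F) =
    MulAut.conj (torHom D F u.1) (g : GL D.Idx F)
  rcases hg with ⟨f, -, e⟩ | ⟨f, -, e⟩
  · replace e : (g : GL D.Idx F) = opr hC D.simple (O.J a) f := e
    rw [(dHomK_opr O hK hπ hO hdisj hfix Z πi hlt hinv _ ha g f).1 e, e,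
      hr _ fun i hi => hC.simple_lt (O.J_lt a ha i hi)]
    exact opr_congr fun i hi => by rw [hval i hi]
  · replace e : (g : GL D.Idx F) = opr hC (fun i => D.neg (D.simple i)) (O.J a) f := e
    rw [(dHomK_opr O hK hπ hO hdisj hfix Z πi hlt hinv _ ha g f).2 e, e,
      hr _ fun i hi => hC.neg_lt (hC.simple_lt (O.J_lt a ha i hi))]
    exact opr_congr fun i hi => by
      rw [hval i hi, torChar_neg hC _ (hC.simple_lt (O.J_lt a ha i hi))]

/-! ### The outer automorphism group -/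

section out

variable (q : ℕ) (hq : ∀ i < D.rank, ∀ t, S.hom i t = t ^ q)

include hK hπ hO hdisj hfix hq in
theorem field_mem_K (σ : F ≃+* F) :
    ∀ g ∈ K, FieldAut.mapGL D σ.toRingHom g ∈ K := fun _ hg =>
  mapGL_mem_K O hK hπ hO hdisj hfix σ (fun i hi t => by rw [hq i hi, hq i hi, map_pow]) hg

/-- The field automorphisms of the fixed group. -/
noncomputable def fHomG : (F ≃+* F) →* MulAut K where
  toFun σ := fldK σ (field_mem_K O hK hπ hO hdisj hfix q hq σ)
    (field_mem_K O hK hπ hO hdisj hfix q hq σ.symm)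
  map_one' := MulEquiv.ext fun g => Subtype.ext (Units.ext (Matrix.ext fun _ _ => rfl))
  map_mul' σ τ := MulEquiv.ext fun g => Subtype.ext (Units.ext (Matrix.ext fun _ _ => rfl))

theorem coe_fHomG (σ : F ≃+* F) (g : K) :
    (fHomG O hK hπ hO hdisj hfix q hq σ g : GL D.Idx F) = FieldAut.mapGL D σ.toRingHom g.1 := rfl

include hK hπ hO hdisj hfix hq in
theorem fHomG_UV (σ : F ≃+* F) :
    (UK D K).map (fHomG O hK hπ hO hdisj hfix q hq σ).toMonoidHom = UK D K ∧
      (VK D K).map (fHomG O hK hπ hO hdisj hfix q hq σ).toMonoidHom = VK D K := by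
  have inv : ∀ g : K, fHomG O hK hπ hO hdisj hfix q hq σ
      (fHomG O hK hπ hO hdisj hfix q hq σ⁻¹ g) = g := fun g => by
    rw [← MulAut.mul_apply, ← map_mul, mul_inv_cancel, map_one]; rfl
  constructor <;> refine le_antisymm ?_ fun g hg => ⟨_, ?_, inv g⟩
  · rintro _ ⟨g, hg, rfl⟩; exact mapGL_U (hC := hC) σ.toRingHom hg
  · exact mapGL_U (hC := hC) (σ⁻¹ : F ≃+* F).toRingHom hg
  · rintro _ ⟨g, hg, rfl⟩; exact mapGL_V (hC := hC) σ.toRingHom hg
  · exact mapGL_V (hC := hC) (σ⁻¹ : F ≃+* F).toRingHom hg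

/-- The composite of a diagonal and a field automorphism. -/
noncomputable def outDF (x : fixParam S πi hlt × (F ≃+* F)) : Cfsg.Out K :=
  QuotientGroup.mk' (Cfsg.Inn K)
    (dHomK O hK hπ hO hdisj hfix Z πi hlt hinv x.1 * fHomG O hK hπ hO hdisj hfix q hq x.2)

include hK hπ hO hdisj hfix Z hinv hq in
/-- Only the torus makes a diagonal times field automorphism inner. -/
theorem outDF_ker
    (hsep : ∀ σ : F ≃+* F,
      (∀ a < O.k, ∀ f, FixF S (O.J a) f → ∀ i ∈ O.J a, σ (f i) = f i) → σ = 1)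
    {e : fixParam S πi hlt} {σ : F ≃+* F}
    (h : outDF O hK hπ hO hdisj hfix Z πi hlt hinv q hq (e, σ) = 1) :
    σ = 1 ∧ e ∈ (psiK πi hlt hinv).range := by
  obtain ⟨x, hx⟩ := (QuotientGroup.eq_one_iff _).1 h
  have key : ∀ A : Subgroup K,
      A.map (dHomK O hK hπ hO hdisj hfix Z πi hlt hinv e).toMonoidHom = A →
      A.map (fHomG O hK hπ hO hdisj hfix q hq σ).toMonoidHom = A →
      x ∈ Subgroup.normalizer (A : Set K) := by
    intro A hd hf
    have hA : A.map (MulAut.conj x).toMonoidHom = A := by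
      rw [hx, show (dHomK O hK hπ hO hdisj hfix Z πi hlt hinv e *
          fHomG O hK hπ hO hdisj hfix q hq σ).toMonoidHom =
        (dHomK O hK hπ hO hdisj hfix Z πi hlt hinv e).toMonoidHom.comp
          (fHomG O hK hπ hO hdisj hfix q hq σ).toMonoidHom from rfl, ← Subgroup.map_map, hf, hd]
    rw [Subgroup.mem_normalizer_iff]
    intro z
    constructor
    · intro hz; rw [← hA]; exact ⟨z, hz, rfl⟩
    · intro hz
      rw [← hA] at hz
      obtain ⟨w, hw, e'⟩ := hz
      rwa [← (MulAut.conj x).injective (show MulAut.conj x w = MulAut.conj x z from e')]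
  have hxH : x ∈ HK D K := by
    rw [← normalizer_inf_K O hK hπ hO]
    exact ⟨key _ (dHomK_UV O hK hπ hO hdisj hfix Z πi hlt hinv e).1
        (fHomG_UV O hK hπ hO hdisj hfix q hq σ).1,
      key _ (dHomK_UV O hK hπ hO hdisj hfix Z πi hlt hinv e).2
        (fHomG_UV O hK hπ hO hdisj hfix q hq σ).2⟩
  obtain ⟨c, hc⟩ := (mem_H_iff hC).1 (Subgroup.mem_subgroupOf.1 hxH)
  obtain ⟨c', hcc, hc'⟩ := hfix c (hK.le (hc ▸ x.2))
  obtain ⟨u, hu⟩ : ∃ u : fixParam S πi hlt, u.1 = fun j : Fin D.rank => c' j.1 :=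
    ⟨⟨fun j : Fin D.rank => c' j.1, (mem_fixParam S).2 fun j => by
    have := hc' (πi j) (hlt j j.2)
    rw [hinv j j.2] at this
    exact this.symm⟩, rfl⟩
  have hux : (⟨torHom D F u.1, torHom_mem_K O hK πi hlt hinv u.2⟩ : K) = x := Subtype.ext (by
    show tor D _ = _
    rw [hc, ← hcc, hu]
    exact dg_congr fun s _ => Finset.prod_congr rfl fun i hi => by
      rw [TorusCard.ext, dif_pos (Finset.mem_range.1 hi)])
  rw [← hux, ← dHomK_psi O hK hπ hO hdisj hfix Z πi hlt hinv u] at hx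
  have hmain : ∀ a < O.k, ∀ f, FixF S (O.J a) f → ∀ i ∈ O.J a,
      (ext e.1 i : F) * σ (f i) = (ext (psiK πi hlt hinv u).1 i : F) * f i := by
    intro a ha f hf i hi
    let g : K := ⟨_, opr_mem_K O hK hπ hO (Or.inl rfl) ha hf⟩
    have h1 : (fHomG O hK hπ hO hdisj hfix q hq σ g : GL D.Idx F) =
        opr hC D.simple (O.J a) fun i => σ (f i) := by
      rw [coe_fHomG]; exact mapGL_opr σ.toRingHom _ _ _
    have h2 := (dHomK_opr O hK hπ hO hdisj hfix Z πi hlt hinv e ha _ _).1 h1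
    have h3 := (dHomK_opr O hK hπ hO hdisj hfix Z πi hlt hinv (psiK πi hlt hinv u) ha g f).1 rfl
    rw [hx, MulAut.mul_apply, h2] at h3
    exact opr_unique (hO a ha) h3 i hi
  have he : ∀ a < O.k, ∀ i ∈ O.J a, (ext e.1 i : F) = ext (psiK πi hlt hinv u).1 i :=
    fun a ha i hi => by simpa using hmain a ha _ (FixF.one _) i hi
  refine ⟨hsep σ fun a ha f hf i hi => ?_, u, Subtype.ext (funext fun j => Units.ext ?_)⟩
  · have := hmain a ha f hf i hi
    rw [he a ha i hi] at this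
    exact mul_left_cancel₀ (Units.ne_zero _) this
  · obtain ⟨a, ha, hja⟩ := O.cover j j.2
    have := he a ha j hja
    rw [ext, ext, dif_pos j.2, dif_pos j.2] at this
    exact this.symm

include hK hπ hO hdisj hfix Z hinv hq in
/-- Surjectivity, from the rigidity of normalised automorphisms. -/
theorem outDF_surjective [Finite F] (p : ℕ) [Fact p.Prime]
    (hP : ∃ P : Sylow p K, (P : Subgroup K) = UK D K)
    (hstab : ∀ θ : K ≃* K, (UK D K).map θ.toMonoidHom = UK D K →
      (VK D K).map θ.toMonoidHom = VK D K → ∀ a, ∀ ha : a < O.k,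
        (Xs O hπ hO K false ha).map θ.toMonoidHom = Xs O hπ hO K false ha)
    (hrigid : ∀ θ : K ≃* K, (UK D K).map θ.toMonoidHom = UK D K →
      (VK D K).map θ.toMonoidHom = VK D K →
      (∀ a, ∀ ha : a < O.k, θ ⟨_, opr_mem_K O hK hπ hO (Or.inl rfl) ha (FixF.one _)⟩ =
        ⟨_, opr_mem_K O hK hπ hO (Or.inl rfl) ha (FixF.one _)⟩) →
      ∃ σ : F ≃+* F, θ.toMonoidHom = (fHomG O hK hπ hO hdisj hfix q hq σ).toMonoidHom) :
    Function.Surjective (outDF O hK hπ hO hdisj hfix Z πi hlt hinv q hq) := by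
  classical
  intro y
  obtain ⟨φ, rfl⟩ := QuotientGroup.mk'_surjective (Cfsg.Inn K) y
  obtain ⟨x, φ', hφ, hU, hV⟩ := exists_fix_K O hK hπ hO p hP φ
  have hf : ∀ a, ∀ ha : a < O.k, ∃ f, FixF S (O.J a) f ∧
      (φ' ⟨_, opr_mem_K O hK hπ hO (Or.inl rfl) ha (FixF.one _)⟩ : GL D.Idx F) =
        opr hC D.simple (O.J a) f := by
    intro a ha
    have : φ' ⟨_, opr_mem_K O hK hπ hO (Or.inl rfl) ha (FixF.one _)⟩ ∈ Xs O hπ hO K false ha :=
      hstab φ' hU hV a ha ▸ ⟨_, ⟨_, FixF.one _, rfl⟩, rfl⟩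
    exact this
  choose f hff hfe using hf
  have hne : ∀ a, ∀ ha : a < O.k, ∀ i ∈ O.J a, f a ha i ≠ 0 := by
    intro a ha i hi h0
    have hall : ∀ j ∈ O.J a, f a ha j = 0 := by
      intro j hj
      obtain ⟨n, rfl⟩ := O.trans a ha i hi j hj
      clear hj
      have hst : ∀ k ∈ O.J a, S.π k ∈ O.J a := fun k hk => by rw [hπ]; exact (hO a ha).stable k hk
      suffices key : f a ha (S.π^[n] i) = 0 ∧ S.π^[n] i ∈ O.J a from key.1
      induction n with
      | zero => exact ⟨h0, hi⟩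
      | succ n ih =>
        rw [Function.iterate_succ', Function.comp_apply]
        exact ⟨by rw [hff a ha _ ih.2, ih.1, map_zero], hst _ ih.2⟩
    have e := hfe a ha
    rw [opr_congr (g := (0 : ℕ → F)) hall, opr_zero] at e
    have e' : φ' ⟨_, opr_mem_K O hK hπ hO (Or.inl rfl) ha (FixF.one _)⟩ = 1 := Subtype.ext e
    rw [map_eq_one_iff φ' φ'.injective] at e'
    have e'' := congrArg Subtype.val e'
    simp only [OneMemClass.coe_one] at e''
    rw [← opr_zero (hC := hC) (rt := D.simple) (O.J a)] at e''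
    exact one_ne_zero (opr_unique (hO a ha) e'' i hi)
  choose orb horb hmem using fun j : Fin D.rank => O.cover j j.2
  obtain ⟨c, hc⟩ : ∃ c : Fin D.rank → Fˣ, ∀ a, ∀ ha : a < O.k, ∀ i, ∀ hi : i ∈ O.J a,
      (c ⟨i, O.J_lt a ha i hi⟩ : F) = f a ha i := by
    refine ⟨fun j => Units.mk0 (f (orb j) (horb j) j) (hne _ _ _ (hmem j)), fun a ha i hi => ?_⟩
    have e := hdisj _ (horb ⟨i, O.J_lt a ha i hi⟩) a ha i (hmem _) hi
    show f (orb ⟨i, _⟩) _ i = _
    generalize horb ⟨i, O.J_lt a ha i hi⟩ = pf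
    revert pf
    rw [e]
    exact fun _ => rfl
  have hcF : c ∈ fixParam S πi hlt := (mem_fixParam S).2 fun j => by
    obtain ⟨a, ha, hia⟩ := O.cover (πi j) (hlt j j.2)
    have h1 := hc a ha _ hia
    have h2 : S.π (πi j) ∈ O.J a := hπ ▸ (hO a ha).stable _ hia
    have h3 := hc a ha _ h2
    rw [h1, ← hff a ha _ hia, ← h3]
    congr 2
    exact Fin.ext (hinv j j.2)
  let d : MulAut K := dHomK O hK hπ hO hdisj hfix Z πi hlt hinv ⟨c, hcF⟩
  let θ : K ≃* K := φ'.trans d⁻¹
  have hdinv : d⁻¹ = dHomK O hK hπ hO hdisj hfix Z πi hlt hinv ⟨c, hcF⟩⁻¹ := (map_inv _ _).symm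
  obtain ⟨σ, hσ⟩ := hrigid θ
    (by rw [show θ.toMonoidHom = (d⁻¹ : MulAut K).toMonoidHom.comp φ'.toMonoidHom from rfl,
          ← Subgroup.map_map, hU, hdinv, (dHomK_UV O hK hπ hO hdisj hfix Z πi hlt hinv _).1])
    (by rw [show θ.toMonoidHom = (d⁻¹ : MulAut K).toMonoidHom.comp φ'.toMonoidHom from rfl,
          ← Subgroup.map_map, hV, hdinv, (dHomK_UV O hK hπ hO hdisj hfix Z πi hlt hinv _).2])
    (fun a ha => by
      show (d⁻¹ : MulAut K) (φ' _) = _
      refine (MulEquiv.symm_apply_eq d).2 (Subtype.ext ?_)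
      rw [hfe a ha, (dHomK_opr O hK hπ hO hdisj hfix Z πi hlt hinv ⟨c, hcF⟩ ha _ _).1 rfl]
      refine opr_congr fun i hi => ?_
      rw [mul_one, ext, dif_pos (O.J_lt a ha i hi), hc a ha i hi])
  refine ⟨(⟨c, hcF⟩, σ), ?_⟩
  have hfac : φ = MulAut.conj x * (d * fHomG O hK hπ hO hdisj hfix q hq σ) := by
    refine MulEquiv.ext fun g => ?_
    have hg : θ g = fHomG O hK hπ hO hdisj hfix q hq σ g := DFunLike.congr_fun hσ g
    rw [MulAut.mul_apply, MulAut.mul_apply, ← hg, hφ g, MulAut.conj_apply]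
    show _ = x * d (d⁻¹ (φ' g)) * x⁻¹
    rw [← MulAut.mul_apply, mul_inv_cancel]
    rfl
  rw [hfac, map_mul, show QuotientGroup.mk' (Cfsg.Inn K) (MulAut.conj x) = 1 from
    (QuotientGroup.eq_one_iff _).2 ⟨x, rfl⟩, one_mul]
  rfl

include hK hπ hO hdisj hfix Z hinv hq in
/-- The order of the outer automorphism group of a fixed group. -/
theorem card_out_K [Finite F]
    (hsep : ∀ σ : F ≃+* F,
      (∀ a < O.k, ∀ f, FixF S (O.J a) f → ∀ i ∈ O.J a, σ (f i) = f i) → σ = 1)
    (hsurj : Function.Surjective (outDF O hK hπ hO hdisj hfix Z πi hlt hinv q hq)) :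
    Nat.card (Cfsg.Out K) =
      Nat.card ↥((torHom D F).ker ⊓ fixParam S πi hlt) * Nat.card (F ≃+* F) := by
  let P := fixParam S πi hlt
  let R : Subgroup P := (psiK πi hlt hinv).range
  let dB : P →* Cfsg.Out K := (QuotientGroup.mk' (Cfsg.Inn K)).comp
    (dHomK O hK hπ hO hdisj hfix Z πi hlt hinv)
  let fB : (F ≃+* F) →* Cfsg.Out K :=
    (QuotientGroup.mk' (Cfsg.Inn K)).comp (fHomG O hK hπ hO hdisj hfix q hq)
  have hout : ∀ e σ, outDF O hK hπ hO hdisj hfix Z πi hlt hinv q hq (e, σ) = dB e * fB σ :=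
    fun e σ => map_mul _ _ _
  have hR : ∀ r ∈ R, dB r = 1 := by
    rintro _ ⟨u, rfl⟩
    exact (QuotientGroup.eq_one_iff _).2
      ⟨_, (dHomK_psi O hK hπ hO hdisj hfix Z πi hlt hinv u).symm⟩
  let Φ : (P ⧸ R) × (F ≃+* F) → Cfsg.Out K :=
    fun x => outDF O hK hπ hO hdisj hfix Z πi hlt hinv q hq (x.1.out, x.2)
  have hΦ : Function.Bijective Φ := by
    constructor
    · rintro ⟨x, σ⟩ ⟨y, τ⟩ h
      simp only [Φ, hout] at h
      have h' : outDF O hK hπ hO hdisj hfix Z πi hlt hinv q hq (y.out⁻¹ * x.out, σ * τ⁻¹) = 1 := by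
        rw [hout, map_mul dB, map_mul fB, map_inv, map_inv,
          show (dB y.out)⁻¹ * dB x.out * (fB σ * (fB τ)⁻¹) =
            (dB y.out)⁻¹ * (dB x.out * fB σ) * (fB τ)⁻¹ by simp only [mul_assoc], h]
        group
      obtain ⟨h1, h2⟩ := outDF_ker O hK hπ hO hdisj hfix Z πi hlt hinv q hq hsep h'
      refine Prod.ext ?_ (mul_inv_eq_one.1 h1)
      have := QuotientGroup.eq.2 h2
      rw [QuotientGroup.out_eq', QuotientGroup.out_eq'] at this
      exact this.symm
    · intro y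
      obtain ⟨⟨e, σ⟩, rfl⟩ := hsurj y
      refine ⟨(QuotientGroup.mk e, σ), ?_⟩
      simp only [Φ, hout]
      congr 1
      obtain ⟨r, hr⟩ := QuotientGroup.mk_out_eq_mul R e
      rw [hr, map_mul, hR _ r.2, mul_one]
  rw [← Nat.card_congr (Equiv.ofBijective Φ hΦ), Nat.card_prod]
  congr 1
  refine Nat.eq_of_mul_eq_mul_right (m := Nat.card R) Nat.card_pos ?_
  rw [← Subgroup.index_eq_card, Subgroup.index_mul_card]
  have hker : Nat.card (psiK πi hlt hinv).ker =
      Nat.card ↥((torHom D F).ker ⊓ fixParam S πi hlt) := by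
    have hk := ker_torHom (F := F) hC
    refine Nat.card_congr
      { toFun := fun c => ⟨c.1.1, ⟨hk ▸ congrArg Subtype.val c.2, c.1.2⟩⟩
        invFun := fun c => ⟨⟨c.1, c.2.2⟩, Subtype.ext (show c.1 ∈ (matHom (G := Fˣ) (cartanMat D)).ker by
          rw [← hk]; exact c.2.1)⟩
        left_inv := fun _ => rfl
        right_inv := fun _ => rfl }
  rw [← hker, show Nat.card R = (psiK πi hlt hinv).ker.index from (Subgroup.index_ker _).symm,
    Subgroup.card_mul_index]

end out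

end Cfsg.Agent.Chevalley.Twist
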