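import Cfsg.Agent.Lib.Chevalley.Twist.Gen

/-!
The (B, N)-pair of the fixed group.
-/

set_option autoImplicit false

open scoped Matrix

namespace Cfsg.Agent.Chevalley.Twist

open Cfsg.Lie Cfsg.Agent.Chevalley.Table Cfsg.Agent.Chevalley.Cert Cfsg.Agent.Chevalley.Group
  Cfsg.Agent.Chevalley.Weight Cfsg.Agent.Chevalley.Unip Cfsg.Agent.Chevalley.Borel
  Cfsg.Agent.Chevalley.Weyl Cfsg.Agent.Chevalley.Bruhat Cfsg.Agent.Chevalley.NormalForm
  Cfsg.Agent.Chevalley.WeylEnum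

variable {D : ChevalleyDatum} {F : Type*} [Field F] {T : Tab} {hC : Certified D T}
variable {S : Tw hC F} {O : Orbits S} {K : Subgroup (GL D.Idx F)} (hK : GenData O K)

include hK

theorem mem_K_iff {g : GL D.Idx F} : g ∈ K ↔ g ∈ Fx S :=
  ⟨fun h => hK.le h, fun h => Fx_le O hK h⟩

theorem K_le_group : K ≤ D.group F := fun _ h => Fx_le_group S (hK.le h)

theorem exists_mel (a : ℕ) : ∃ g : GL D.Idx F, g ∈ K ∧
    (a < O.k → ∃ c : ℕ → Fˣ, g = tor D c * nL hC F (O.J a)) := by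
  by_cases h : a < O.k
  · obtain ⟨c, hc⟩ := hK.mono a h
    exact ⟨_, hc, fun _ => ⟨c, rfl⟩⟩
  · exact ⟨1, one_mem _, fun h' => absurd h' h⟩

/-- The chosen representative of the longest element of an orbit. -/
noncomputable def mel (a : ℕ) : GL D.Idx F := (exists_mel hK a).choose

theorem mel_mem (a : ℕ) : mel hK a ∈ K := (exists_mel hK a).choose_spec.1

theorem mel_eq {a : ℕ} (ha : a < O.k) :
    ∃ c : ℕ → Fˣ, mel hK a = tor D c * nL hC F (O.J a) := (exists_mel hK a).choose_spec.2 ha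

theorem mel_mem_N {a : ℕ} (ha : a < O.k) : mel hK a ∈ D.monomialSubgroup F := by
  obtain ⟨c, hc⟩ := mel_eq hK ha
  rw [hc]
  exact (mem_N_iff hC).2 ⟨c, _, O.J_lt a ha, rfl⟩

omit hK in
theorem H_le_B : D.diagonalSubgroup F ≤ D.borelSubgroup F := le_sup_right

omit hK in
theorem mem_H_of_inf (hC : Certified D T) {g : GL D.Idx F} (hB : g ∈ D.borelSubgroup F) (hN : g ∈ D.monomialSubgroup F) :
    g ∈ D.diagonalSubgroup F := by
  rw [← B_inf_N hC, Subgroup.mem_inf]; exact ⟨hB, hN⟩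

omit hK in
theorem eqv_of_mul_H {c c' : ℕ → Fˣ} {L L' : List ℕ} (hL : ∀ i ∈ L, i < D.rank)
    (hL' : ∀ i ∈ L', i < D.rank) {h : GL D.Idx F} (hh : h ∈ D.diagonalSubgroup F)
    (e : tor D c * nL hC F L * h = tor D c' * nL hC F L') {r : ℕ} (hr : r < D.nroots) :
    wL D L r = wL D L' r := by
  obtain ⟨d, rfl⟩ := (mem_H_iff hC).1 hh
  obtain ⟨d', hd'⟩ := nL_conj_tor (F := F) hC hL d
  refine wL_congr hC (c := c * d') (c' := c') hL hL' ?_ hr
  rw [← e, ← tor_mul, mul_assoc, ← hd', ← mul_assoc]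

theorem mel_sq {a : ℕ} (ha : a < O.k) : mel hK a * mel hK a ∈ D.diagonalSubgroup F := by
  obtain ⟨c, hc⟩ := mel_eq hK ha
  have hJ := O.J_lt a ha
  obtain ⟨c', hc'⟩ := nL_conj_tor (F := F) hC hJ c
  have hJJ : ∀ i ∈ O.J a ++ O.J a, i < D.rank := fun i hi =>
    (List.mem_append.1 hi).elim (hJ i) (hJ i)
  obtain ⟨d, hd⟩ := exists_tor_of_pos (F := F) hC hJJ fun i hi => by
    rw [wL_append, O.invol a ha _ (hC.simple_lt hi)]
    exact hC.phi_simple hi
  rw [hc, show tor D c * nL hC F (O.J a) * (tor D c * nL hC F (O.J a)) =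
    tor D c * (nL hC F (O.J a) * tor D c) * nL hC F (O.J a) by group, hc',
    show tor D c * (tor D c' * nL hC F (O.J a)) * nL hC F (O.J a) =
    tor D c * tor D c' * (nL hC F (O.J a) * nL hC F (O.J a)) by group, ← nL_append, hd, tor_mul,
    tor_mul]
  exact tor_mem_H hC _

theorem mel_inj {a b : ℕ} (ha : a < O.k) (hb : b < O.k)
    (h : (mel hK a)⁻¹ * mel hK b ∈ D.diagonalSubgroup F) : a = b := by
  by_contra hne
  obtain ⟨i, hi, hne'⟩ := O.distinct a ha b hb hne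
  obtain ⟨c, hc⟩ := mel_eq hK ha
  obtain ⟨c', hc'⟩ := mel_eq hK hb
  exact hne' (eqv_of_mul_H (O.J_lt a ha) (O.J_lt b hb) (c := c) (c' := c') h
    (by rw [← hc, mul_inv_cancel_left, hc']) (hC.simple_lt hi))

/-- The subgroup generated by the representatives and the fixed torus. -/
def NK : Subgroup (GL D.Idx F) :=
  Subgroup.closure {g | ∃ a < O.k, g = mel hK a} ⊔ (D.diagonalSubgroup F ⊓ K)

theorem fixed_mono_mem_NK {n : GL D.Idx F} (hn : n ∈ D.monomialSubgroup F) (hF : n ∈ K) :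
    n ∈ NK hK := by
  obtain ⟨c, L, hL, rfl⟩ := (mem_N_iff hC).1 hn
  obtain ⟨m, hm⟩ : ∃ m, m = (invSet D T L).card := ⟨_, rfl⟩
  induction m using Nat.strong_induction_on generalizing c L with
  | _ m ih =>
    rcases Finset.eq_empty_or_nonempty (invSet D T L) with h0 | ⟨r, hr⟩
    · have hpos : ∀ i < D.rank, 0 < T.phi (wL D L (D.simple i)) := fun i hi => by
        by_contra hcon
        have h1 := hC.phi_ne_zero (wL_lt hC hL (hC.simple_lt hi))
        have h2 : D.simple i ∈ invSet D T L := Finset.mem_filter.2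
          ⟨Finset.mem_range.2 (hC.simple_lt hi), hC.phi_simple hi, by omega⟩
        rw [h0] at h2
        exact absurd h2 (Finset.notMem_empty _)
      obtain ⟨d, hd⟩ := exists_tor_of_pos (F := F) hC hL hpos
      rw [hd, tor_mul] at hF ⊢
      exact Subgroup.mem_sup_right (Subgroup.mem_inf.2 ⟨tor_mem_H hC _, hF⟩)
    simp only [invSet, Finset.mem_filter, Finset.mem_range] at hr
    have hLe := equiv_of_fixed (S := S) hL (hK.le hF)
    obtain ⟨a, ha, hneg⟩ := exists_orbit O hL hLe hr.1 hr.2.1 hr.2.2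
    obtain ⟨d, hd⟩ := mel_eq hK ha
    obtain ⟨c', L', hL', e, he⟩ := exists_quot O ha (c := c) (d := d) hL
    have hlt := invSet_step O hL hL' ha hneg (O.ne a ha) he
    have hF' : tor D c' * nL hC F L' ∈ K := by
      rw [← e, ← hd]; exact mul_mem hF (inv_mem (mel_mem hK a))
    have h6 := mul_mem (ih _ (hm ▸ hlt) c' L' hL' ((mem_N_iff hC).2 ⟨c', L', hL', rfl⟩) hF' rfl)
      (Subgroup.mem_sup_left (Subgroup.subset_closure ⟨a, ha, rfl⟩) : mel hK a ∈ NK hK)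
    rw [← e, ← hd, inv_mul_cancel_right] at h6
    exact h6

omit hK in
/-- The products of a word with a Borel and a monomial element. -/
theorem word_mul_union : ∀ L : List ℕ, (∀ i ∈ L, i < D.rank) → ∀ b ∈ D.borelSubgroup F,
    ∀ n ∈ D.monomialSubgroup F, ∃ L' : List ℕ, L'.Sublist L ∧
      ∃ b₁ ∈ D.borelSubgroup F, ∃ b₂ ∈ D.borelSubgroup F,
        nL hC F L * b * n = b₁ * (nL hC F L' * n) * b₂ := by
  intro L
  induction L with
  | nil =>
    intro _ b hb n _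
    exact ⟨[], List.Sublist.refl _, b, hb, 1, one_mem _, by simp [nL]⟩
  | cons i L ih =>
    intro hL b hb n hn
    have hi := hL i List.mem_cons_self
    obtain ⟨L', hL', b₁, hb₁, b₂, hb₂, e⟩ :=
      ih (fun j hj => hL j (List.mem_cons_of_mem i hj)) b hb n hn
    have hL'r : ∀ j ∈ L', j < D.rank := fun j hj => hL j (List.mem_cons_of_mem i (hL'.subset hj))
    have e2 : nL hC F (i :: L) * b * n =
        ng hC (D.simple i) 1 * b₁ * (nL hC F L' * n) * b₂ := by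
      rw [nL_cons, show ng hC (D.simple i) 1 * nL hC F L * b * n =
        ng hC (D.simple i) 1 * (nL hC F L * b * n) by group, e]
      group
    rcases Bruhat.mul_mem_union hC hi (mul_mem (nL_mem_N hC hL'r) hn) hb₁ with h | h
    · obtain ⟨x, hx, y, hy, e3⟩ := DoubleCoset.mem_doubleCoset.1 h
      refine ⟨i :: L', hL'.cons_cons i, x, hx, y * b₂, mul_mem hy hb₂, ?_⟩
      rw [e2, e3, nL_cons]
      group
    · obtain ⟨x, hx, y, hy, e3⟩ := DoubleCoset.mem_doubleCoset.1 h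
      refine ⟨L', hL'.cons i, x, hx, y * b₂, mul_mem hy hb₂, ?_⟩
      rw [e2, e3]
      group

theorem K_dc_of_eq {g n m b₁ b₂ : GL D.Idx F} (hg : g ∈ K) (hn : n ∈ K)
    (hnN : n ∈ D.monomialSubgroup F) (hb₁ : b₁ ∈ D.borelSubgroup F)
    (hb₂ : b₂ ∈ D.borelSubgroup F) (hm : m ∈ D.monomialSubgroup F) (e : g = b₁ * m * b₂)
    (hperm : ∀ c : ℕ → Fˣ, ∀ c' : ℕ → Fˣ, ∀ L L' : List ℕ, (∀ i ∈ L, i < D.rank) →
      (∀ i ∈ L', i < D.rank) → m = tor D c * nL hC F L → n = tor D c' * nL hC F L' →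
      Equiv' S L → ∀ i < D.rank, wL D L (D.simple i) = wL D L' (D.simple i)) :
    ∃ x ∈ D.borelSubgroup F ⊓ K, ∃ y ∈ D.borelSubgroup F ⊓ K, g = x * n * y := by
  obtain ⟨v, hv, hvF, n', hn', hn'F, u, hu, huF, e'⟩ := fixed_form S (hK.le hg)
  have hUB : D.posUnipotent F ≤ D.borelSubgroup F := le_sup_left
  have hH := inv_mul_mem_H hC (hUB hv) hb₁ hn' hm (hUB (Uminus_le_U hC _ hu)) hb₂ (e'.symm.trans e)
  obtain ⟨c, L, hL, hn'L⟩ := (mem_N_iff hC).1 hn'
  obtain ⟨c₁, L₁, hL₁, hmL⟩ := (mem_N_iff hC).1 hm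
  obtain ⟨c₂, L₂, hL₂, hnL⟩ := (mem_N_iff hC).1 hnN
  have heq : ∀ r < D.nroots, wL D L r = wL D L₁ r := fun r hr =>
    eqv_of_mul_H hL hL₁ hH (by rw [← hn'L, mul_inv_cancel_left, hmL]) hr
  have hE := equiv_of_fixed (S := S) hL (hn'L ▸ hn'F)
  have hE1 : Equiv' S L₁ := fun r hr => by
    rw [← heq _ (S.ρ_lt r hr), ← heq r hr]; exact hE r hr
  have h1 := hperm c₁ c₂ L₁ L₂ hL₁ hL₂ hmL hnL hE1
  have h2 : n⁻¹ * n' ∈ D.diagonalSubgroup F := by
    obtain ⟨d, hd⟩ := Order.nL_eq_tor_mul (F := F) hC hL hL₂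
      (eqv_of_simple hC hL hL₂ fun i hi => (heq _ (hC.simple_lt hi)).trans (h1 i hi))
    have hd2 : n' = tor D (c * d * c₂⁻¹) * n := by
      rw [hn'L, hd, hnL, ← tor_mul, ← tor_mul, ← tor_inv]; group
    rw [hd2, ← mul_assoc]
    simpa using H_conj hC (inv_mem hnN) (tor_mem_H (F := F) hC (c * d * c₂⁻¹))
  refine ⟨v, ⟨hUB hv, Fx_le O hK hvF⟩, n⁻¹ * n' * u, Subgroup.mem_inf.2 ⟨?_, ?_⟩, ?_⟩
  · exact mul_mem (H_le_B h2) (hUB (Uminus_le_U hC _ hu))
  · exact mul_mem (mul_mem (inv_mem hn) (Fx_le O hK hn'F)) (Fx_le O hK huF)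
  · rw [e']; group

theorem mul_mem_union_K {a : ℕ} (ha : a < O.k) {n b : GL D.Idx F} (hn : n ∈ K)
    (hnN : n ∈ D.monomialSubgroup F) (hb : b ∈ K) (hbB : b ∈ D.borelSubgroup F) :
    ∃ x ∈ D.borelSubgroup F ⊓ K, ∃ y ∈ D.borelSubgroup F ⊓ K,
      mel hK a * b * n = x * (mel hK a * n) * y ∨ mel hK a * b * n = x * n * y := by
  have hJ := O.J_lt a ha
  obtain ⟨c, hc⟩ := mel_eq hK ha
  obtain ⟨L', hL', b₁, hb₁, b₂, hb₂, e⟩ := word_mul_union (hC := hC) (O.J a) hJ b hbB n hnN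
  have hL'r : ∀ j ∈ L', j < D.rank := fun j hj => hJ j (hL'.subset hj)
  have hg : mel hK a * b * n ∈ K := mul_mem (mul_mem (mel_mem hK a) hb) hn
  have e2 : mel hK a * b * n = tor D c * b₁ * (nL hC F L' * n) * b₂ := by
    rw [hc, show tor D c * nL hC F (O.J a) * b * n = tor D c * (nL hC F (O.J a) * b * n) by group, e]
    group
  have hb₁' : tor D c * b₁ ∈ D.borelSubgroup F := mul_mem (H_le_B (tor_mem_H hC c)) hb₁
  have hm : nL hC F L' * n ∈ D.monomialSubgroup F := mul_mem (nL_mem_N hC hL'r) hnN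
  obtain ⟨cn, Ln, hLn, hnL⟩ := (mem_N_iff hC).1 hnN
  have hnE := equiv_of_fixed (S := S) hLn (hnL ▸ hK.le hn)
  -- the permutation of a monomial element
  have hm_perm : ∀ c₁ : ℕ → Fˣ, ∀ L₁ : List ℕ, (∀ i ∈ L₁, i < D.rank) →
      nL hC F L' * n = tor D c₁ * nL hC F L₁ → ∀ r < D.nroots,
      wL D L₁ r = wL D L' (wL D Ln r) := by
    intro c₁ L₁ hL₁ h r hr
    obtain ⟨d, hd⟩ := nL_conj_tor (F := F) hC hL'r cn
    rw [← wL_append]
    refine wL_congr hC (c := c₁) (c' := d) hL₁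
      (fun i hi => (List.mem_append.1 hi).elim (hL'r i) (hLn i)) ?_ hr
    rw [← h, hnL, nL_append, ← mul_assoc, hd, mul_assoc]
  have hLnr : ∀ j ∈ Ln.reverse, j < D.rank := fun j hj => hLn j (List.mem_reverse.1 hj)
  by_cases hsub : ∀ i < D.rank, wL D L' (S.ρ (D.simple i)) = S.ρ (wL D L' (D.simple i))
  · rcases O.sub a ha L' hL' hsub with h | h
    · obtain ⟨x, hx, y, hy, exy⟩ := K_dc_of_eq hK hg hn hnN hb₁' hb₂ hm e2
        fun c₁ c₂ L₁ L₂ hL₁ hL₂ h1 h2 _ i hi => by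
          rw [hm_perm c₁ L₁ hL₁ h1 _ (hC.simple_lt hi)]
          have h0 : Eqv D L' [] := eqv_of_simple hC hL'r (by simp) fun j hj => by simpa [wL] using h j hj
          rw [h0 _ (wL_lt hC hLn (hC.simple_lt hi))]
          exact wL_congr hC hLn hL₂ (hnL.symm.trans h2) (hC.simple_lt hi)
      exact ⟨x, hx, y, hy, Or.inr exy⟩
    · have hmn : mel hK a * n ∈ D.monomialSubgroup F := mul_mem (mel_mem_N hK ha) hnN
      obtain ⟨x, hx, y, hy, exy⟩ := K_dc_of_eq hK hg (mul_mem (mel_mem hK a) hn) hmn hb₁' hb₂ hm e2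
        fun c₁ c₂ L₁ L₂ hL₁ hL₂ h1 h2 _ i hi => by
          rw [hm_perm c₁ L₁ hL₁ h1 _ (hC.simple_lt hi),
            eqv_of_simple hC hL'r hJ h _ (wL_lt hC hLn (hC.simple_lt hi)), ← wL_append]
          obtain ⟨d, hd⟩ := nL_conj_tor (F := F) hC hJ cn
          refine wL_congr hC (c := c * d) (c' := c₂)
            (fun j hj => (List.mem_append.1 hj).elim (hJ j) (hLn j)) hL₂ ?_ (hC.simple_lt hi)
          rw [← h2, hc, hnL, nL_append, ← tor_mul, mul_assoc (tor D c) (tor D d),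
            ← mul_assoc (tor D d), ← hd]
          group
      exact ⟨x, hx, y, hy, Or.inl exy⟩
  · -- the cell of a fixed element has an equivariant permutation
    exfalso
    apply hsub
    obtain ⟨v, hv, hvF, n', hn', hn'F, u, hu, huF, e'⟩ := fixed_form S (hK.le hg)
    have hUB : D.posUnipotent F ≤ D.borelSubgroup F := le_sup_left
    have hH := inv_mul_mem_H hC (hUB hv) hb₁' hn' hm (hUB (Uminus_le_U hC _ hu)) hb₂
      (e'.symm.trans e2)
    obtain ⟨c₀, L₀, hL₀, hn'L⟩ := (mem_N_iff hC).1 hn'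
    obtain ⟨c₁, L₁, hL₁, hmL⟩ := (mem_N_iff hC).1 hm
    have heq : ∀ r < D.nroots, wL D L₀ r = wL D L' (wL D Ln r) := fun r hr => by
      rw [eqv_of_mul_H hL₀ hL₁ hH (by rw [← hn'L, mul_inv_cancel_left, hmL]) hr]
      exact hm_perm c₁ L₁ hL₁ hmL r hr
    have hE := equiv_of_fixed (S := S) hL₀ (hn'L ▸ hn'F)
    intro i hi
    obtain ⟨r, hr_def⟩ : ∃ r, r = wL D Ln.reverse (D.simple i) := ⟨_, rfl⟩
    have hr : r < D.nroots := hr_def ▸ wL_lt hC hLnr (hC.simple_lt hi)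
    have hback : wL D Ln r = D.simple i := hr_def ▸ wL_neg_simple hC hLn (hC.simple_lt hi)
    rw [← hback, ← hnE r hr, ← heq _ (S.ρ_lt r hr), ← heq r hr]
    exact hE r hr

/-- The (B, N)-pair. -/
noncomputable def bnK
    (hne : ∀ a < O.k, ∃ x ∈ Fx S, x ≠ 1 ∧ ∀ c : ℕ → Fˣ,
      x ∈ Uminus D F (tor D c * nL hC F (O.J a))) : Cfsg.BNPair ↥K where
  B := (D.borelSubgroup F ⊓ K).subgroupOf K
  N := (D.monomialSubgroup F ⊓ K).subgroupOf K
  S := {n | ∃ a < O.k, (n : GL D.Idx F) = mel hK a}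
  sup_eq_top := by
    rw [← Subgroup.subgroupOf_sup inf_le_right inf_le_right, Subgroup.subgroupOf_eq_top]
    intro g hg
    obtain ⟨v, hv, hvF, n, hn, hnF, u, hu, huF, rfl⟩ := fixed_form S (hK.le hg)
    exact mul_mem (mul_mem (Subgroup.mem_sup_left ⟨Subgroup.mem_sup_left hv, Fx_le O hK hvF⟩)
      (Subgroup.mem_sup_right ⟨hn, Fx_le O hK hnF⟩))
      (Subgroup.mem_sup_left ⟨Subgroup.mem_sup_left (Uminus_le_U hC _ hu), Fx_le O hK huF⟩)
  conj_mem := fun n hn t ht => by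
    have hn' : (n : GL D.Idx F) ∈ D.monomialSubgroup F := hn.1
    have ht' : (t : GL D.Idx F) ∈ D.diagonalSubgroup F := mem_H_of_inf hC ht.1.1 ht.2.1
    exact ⟨H_le_B (H_conj hC hn' ht'), (n * t * n⁻¹).2⟩
  subset := by
    rintro n ⟨a, ha, hn⟩
    refine ⟨?_, n.2⟩
    show (n : GL D.Idx F) ∈ D.monomialSubgroup F
    rw [hn]; exact mel_mem_N hK ha
  sq_mem := by
    rintro s ⟨a, ha, hs⟩
    refine ⟨?_, (s * s).2⟩
    show ((s * s : K) : GL D.Idx F) ∈ _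
    rw [Subgroup.coe_mul, hs]
    exact H_le_B (mel_sq hK ha)
  inj := by
    rintro s ⟨a, ha, hs⟩ s' ⟨b, hb, hs'⟩ h
    have h1 : (mel hK a)⁻¹ * mel hK b ∈ D.borelSubgroup F := by
      have := h.1
      simpa [hs, hs'] using this
    obtain rfl := mel_inj hK ha hb (mem_H_of_inf hC h1
      (mul_mem (inv_mem (mel_mem_N hK ha)) (mel_mem_N hK hb)))
    exact Subtype.ext (hs.trans hs'.symm)
  closure_sup := by
    refine le_antisymm (sup_le ((Subgroup.closure_le _).2 ?_) inf_le_right) fun n hn => ?_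
    · rintro n ⟨a, ha, hn⟩
      refine ⟨?_, n.2⟩
      show (n : GL D.Idx F) ∈ D.monomialSubgroup F
      rw [hn]; exact mel_mem_N hK ha
    have h1 := fixed_mono_mem_NK hK hn.1 n.2
    have hle : NK hK ≤ (Subgroup.closure {n : K | ∃ a < O.k, (n : GL D.Idx F) = mel hK a} ⊔
        (D.borelSubgroup F ⊓ K).subgroupOf K ⊓ (D.monomialSubgroup F ⊓ K).subgroupOf K).map
          K.subtype := by
      refine sup_le ((Subgroup.closure_le _).2 ?_) ?_
      · rintro g ⟨a, ha, rfl⟩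
        exact ⟨⟨_, mel_mem hK a⟩, Subgroup.mem_sup_left (Subgroup.subset_closure ⟨a, ha, rfl⟩), rfl⟩
      · rintro g ⟨hg, hgK⟩
        exact ⟨⟨g, hgK⟩, Subgroup.mem_sup_right
          ⟨⟨H_le_B hg, hgK⟩, ⟨Subgroup.mem_sup_left hg, hgK⟩⟩, rfl⟩
    obtain ⟨m, hm, e⟩ := hle h1
    rwa [show n = m from Subtype.ext e.symm]
  mul_mem_union := by
    rintro s ⟨a, ha, hs⟩ n hn b hb
    obtain ⟨x, hx, y, hy, h⟩ := mul_mem_union_K hK ha n.2 hn.1 b.2 hb.1
    rcases h with h | h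
    · exact Or.inl (DoubleCoset.mem_doubleCoset.2
        ⟨⟨x, hx.2⟩, hx, ⟨y, hy.2⟩, hy, Subtype.ext (by simpa [hs] using h)⟩)
    · exact Or.inr (DoubleCoset.mem_doubleCoset.2
        ⟨⟨x, hx.2⟩, hx, ⟨y, hy.2⟩, hy, Subtype.ext (by simpa [hs] using h)⟩)
  conj_ne := by
    rintro s ⟨a, ha, hs⟩ h
    obtain ⟨x, hxF, hx1, hxU⟩ := hne a ha
    obtain ⟨c, hc⟩ := mel_eq hK ha
    have hx := hxU c
    rw [← hc] at hx
    have hxB : (⟨x, Fx_le O hK hxF⟩ : K) ∈ (D.borelSubgroup F ⊓ K).subgroupOf K :=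
      ⟨Subgroup.mem_sup_left (Uminus_le_U hC _ hx), Fx_le O hK hxF⟩
    have h1 : s * ⟨x, Fx_le O hK hxF⟩ * s ∈
        ((D.borelSubgroup F ⊓ K).subgroupOf K : Set K) :=
      h ▸ Set.mem_image_of_mem (fun b => s * b * s) hxB
    have h2 : mel hK a * x * mel hK a ∈ D.borelSubgroup F := by
      have := h1.1
      simpa [hs] using this
    have h3 : mel hK a * x * (mel hK a)⁻¹ ∈ D.borelSubgroup F := by
      have h4 := mul_mem h2 (inv_mem (H_le_B (mel_sq hK ha)))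
      simpa [mul_assoc] using h4
    have h5 : mel hK a * x * (mel hK a)⁻¹ ∈ (⊥ : Subgroup (GL D.Idx F)) := by
      rw [← B_inf_V hC, Subgroup.mem_inf]; exact ⟨h3, conj_Uminus hC hx⟩
    rw [Subgroup.mem_bot, mul_inv_eq_one, mul_eq_left] at h5
    exact hx1 h5

end Cfsg.Agent.Chevalley.Twist
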