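import Cfsg.Agent.Lib.Chevalley.Twist.OrthGen
import Cfsg.Agent.Lib.Chevalley.Twist.Count
import Cfsg.Agent.Lib.Chevalley.Twist.BN
import Cfsg.Agent.Lib.Chevalley.Aut.Param
import Cfsg.Agent.Lib.BN.Parabolic

/-!
The frame of a fixed group with orthogonal orbits over a finite field: the fixed unipotent groups,
their normalisers, the orbit root subgroups, and what an automorphism can do to them.
-/

set_option autoImplicit false

open scoped Matrix Pointwise

namespace Cfsg.Agent.Chevalley.Twist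

open Cfsg.Lie Cfsg.Agent.Chevalley.Table Cfsg.Agent.Chevalley.Cert Cfsg.Agent.Chevalley.Group
  Cfsg.Agent.Chevalley.Weight Cfsg.Agent.Chevalley.Unip Cfsg.Agent.Chevalley.Borel
  Cfsg.Agent.Chevalley.Weyl Cfsg.Agent.Chevalley.Bruhat Cfsg.Agent.Chevalley.NormalForm
  Cfsg.Agent.Chevalley.AutThm

variable {D : ChevalleyDatum} {F : Type*} [Field F] {T : Tab} {hC : Certified D T} {S : Tw hC F}

/-! ### Commutation inside an orbit -/

section orbit

variable {π : ℕ → ℕ} {J : List ℕ} (hO : Orth hC π J)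
include hO

theorem onr_commute_x {i : ℕ} (hi : i ∈ J) {l : List ℕ} (hl : ∀ j ∈ l, j ∈ J ∧ i ≠ j) {a : ℕ}
    (ha : a = D.simple i ∨ a = D.neg (D.simple i)) (t : F) (f : ℕ → F) :
    Commute (xg hC a t) (onr hC l f) := by
  refine Commute.list_prod_right _ _ fun x hx => ?_
  obtain ⟨j, hj, rfl⟩ := List.mem_map.1 hx
  obtain ⟨hjJ, hne⟩ := hl j hj
  exact ((orth_commute hO hi hjJ hne ha (Or.inl rfl) t _).mul_right
    (orth_commute hO hi hjJ hne ha (Or.inr rfl) t _)).mul_right
    (orth_commute hO hi hjJ hne ha (Or.inl rfl) t _)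

/-- The monomial element of an orbit carries the positive part to the negative one. -/
theorem onr_mul_opr (f g : ℕ → F) (hf : ∀ i ∈ J, f i ≠ 0) :
    ∀ l : List ℕ, l.Nodup → (∀ i ∈ l, i ∈ J) →
    onr hC l f * opr hC D.simple l g =
      opr hC (fun i => D.neg (D.simple i)) l (fun i => -g i / f i ^ 2) * onr hC l f := by
  intro l
  induction l with
  | nil => intro _ _; simp [opr, onr]
  | cons i l ih =>
    intro hnd hl
    rw [List.nodup_cons] at hnd
    have hi := hl i List.mem_cons_self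
    have hlt : ∀ j ∈ l, j ∈ J ∧ i ≠ j := fun j hj =>
      ⟨hl j (List.mem_cons_of_mem i hj), fun e => hnd.1 (e ▸ hj)⟩
    have e := ih hnd.2 fun j hj => hl j (List.mem_cons_of_mem i hj)
    have h1 := congrArg Subtype.val
      (gn_conj (F := F) hC (hO.lt i hi) (hf i hi) (g i))
    simp only [Subgroup.coe_mul, coe_gn, coe_gx] at h1
    have c1 : Commute (xg hC (D.simple i) (g i)) (onr hC l f) :=
      onr_commute_x hO hi hlt (Or.inl rfl) _ _
    have c2 : Commute (ng hC (D.simple i) (f i))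
        (opr hC (fun i => D.neg (D.simple i)) l fun i => -g i / f i ^ 2) :=
      ((opr_commute hO (Or.inr rfl) hi hlt (Or.inl rfl) _ _).mul_left
        (opr_commute hO (Or.inr rfl) hi hlt (Or.inr rfl) _ _)).mul_left
        (opr_commute hO (Or.inr rfl) hi hlt (Or.inl rfl) _ _)
    simp only [opr, onr, List.map_cons, List.prod_cons] at e c1 c2 ⊢
    rw [mul_assoc (ng hC (D.simple i) (f i)), ← mul_assoc _ (xg hC (D.simple i) (g i)), ← c1.eq,
      mul_assoc (xg hC (D.simple i) (g i)), e, ← mul_assoc (ng hC (D.simple i) (f i)),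
      ← mul_assoc (ng hC (D.simple i) (f i) * xg hC (D.simple i) (g i)), h1,
      mul_assoc (xg hC (D.neg (D.simple i)) _) (ng hC (D.simple i) (f i)), c2.eq]
    simp only [mul_assoc]

theorem wL_orbit {j : ℕ} (hj : j ∈ J) : wL D J (D.simple j) = D.neg (D.simple j) := by
  have h := onr_mul_opr hO (fun _ => (1 : ℚ)) (fun k => if k = j then 1 else 0) (fun _ _ => one_ne_zero)
    J (orth_nodup hO) fun _ h => h
  have key : ∀ (rt : ℕ → ℕ) (v : ℚ) (l : List ℕ), l.Nodup →
      opr hC rt l (fun k => if k = j then v else 0) = if j ∈ l then xg hC (rt j) v else 1 := by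
    intro rt v l
    induction l with
    | nil => intro _; simp [opr]
    | cons a l ihl =>
      intro hnd
      rw [List.nodup_cons] at hnd
      have := ihl hnd.2
      simp only [opr, List.map_cons, List.prod_cons] at this ⊢
      rw [this]
      by_cases ha : a = j
      · subst ha
        simp [hnd.1]
      · simp [ha, Ne.symm ha, xg_zero hC]
  rw [key D.simple 1 J (orth_nodup hO), if_pos hj,
    show (fun i => -(if i = j then (1 : ℚ) else 0) / (1 : ℚ) ^ 2) = fun i => if i = j then -1 else 0 from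
      funext fun i => by split_ifs <;> simp,
    key _ (-1) J (orth_nodup hO), if_pos hj, onr_one, ← mul_inv_eq_iff_eq_mul] at h
  obtain ⟨η, hη, e⟩ := nL_conj_x (F := ℚ) hC hO.lt (hC.simple_lt (hO.lt j hj))
  rw [e, mul_one] at h
  exact xg_eq_xg hC (wL_lt hC hO.lt (hC.simple_lt (hO.lt j hj)))
    (hC.neg_lt (hC.simple_lt (hO.lt j hj))) hη h

end orbit

/-! ### The subgroups -/

variable (O : Orbits S) {K : Subgroup (GL D.Idx F)} (hK : GenData O K)

/-- The fixed positive unipotent subgroup, inside the fixed group. -/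
abbrev UK (D : ChevalleyDatum) (K : Subgroup (GL D.Idx F)) : Subgroup K :=
  (D.posUnipotent F).subgroupOf K

/-- The fixed negative unipotent subgroup, inside the fixed group. -/
abbrev VK (D : ChevalleyDatum) (K : Subgroup (GL D.Idx F)) : Subgroup K :=
  (D.negUnipotent F).subgroupOf K

/-- The fixed Borel subgroup, inside the fixed group. -/
abbrev BKg (D : ChevalleyDatum) (K : Subgroup (GL D.Idx F)) : Subgroup K :=
  (D.borelSubgroup F).subgroupOf K

/-- The fixed torus, inside the fixed group. -/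
abbrev HK (D : ChevalleyDatum) (K : Subgroup (GL D.Idx F)) : Subgroup K :=
  (D.diagonalSubgroup F).subgroupOf K

/-- The fixed functions on an orbit. -/
def FixF (S : Tw hC F) (J : List ℕ) (f : ℕ → F) : Prop := ∀ i ∈ J, f (S.π i) = S.hom i (f i)

theorem FixF.one (J : List ℕ) : FixF S J fun _ => (1 : F) := fun _ _ => (map_one _).symm

theorem FixF.neg {J : List ℕ} {f : ℕ → F} (h : FixF S J f) : FixF S J (-f) := fun i hi => by
  simp only [Pi.neg_apply, h i hi, map_neg]

theorem FixF.neg_inv {J : List ℕ} {f : ℕ → F} (h : FixF S J f) :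
    FixF S J fun i => -(f i)⁻¹ := fun i hi => by
  simp only [h i hi, map_neg, map_inv₀]

variable {π : ℕ → ℕ} (hπ : S.π = π) (hO : ∀ a < O.k, Orth hC π (O.J a))

/-- An orbit root subgroup, positive or negative. -/
def Xs (hπ : S.π = π) (hO : ∀ a < O.k, Orth hC π (O.J a)) (K : Subgroup (GL D.Idx F)) (neg : Bool)
    {a : ℕ} (ha : a < O.k) : Subgroup K where
  carrier := {g | ∃ f, FixF S (O.J a) f ∧
    (g : GL D.Idx F) = opr hC (fun i => if neg then D.neg (D.simple i) else D.simple i) (O.J a) f}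
  one_mem' := ⟨0, fun i _ => by simp, by rw [opr_zero]; rfl⟩
  mul_mem' := by
    rintro g h ⟨f, hf, e⟩ ⟨f', hf', e'⟩
    refine ⟨f + f', fun i hi => by simp only [Pi.add_apply, hf i hi, hf' i hi, map_add], ?_⟩
    rw [opr_add (hO a ha) (by cases neg <;> first | exact Or.inl rfl | exact Or.inr rfl) _
      (orth_nodup (hO a ha)) (fun _ h => h), ← e, ← e']
    rfl
  inv_mem' := by
    rintro g ⟨f, hf, e⟩
    refine ⟨-f, hf.neg, ?_⟩
    rw [← opr_inv (hO a ha) (by cases neg <;> first | exact Or.inl rfl | exact Or.inr rfl), ← e]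
    rfl

theorem mem_Xp {a : ℕ} (ha : a < O.k) {g : K} : g ∈ Xs O hπ hO K false ha ↔
    ∃ f, FixF S (O.J a) f ∧ (g : GL D.Idx F) = opr hC D.simple (O.J a) f := Iff.rfl

theorem mem_Xn {a : ℕ} (ha : a < O.k) {g : K} : g ∈ Xs O hπ hO K true ha ↔
    ∃ f, FixF S (O.J a) f ∧
      (g : GL D.Idx F) = opr hC (fun i => D.neg (D.simple i)) (O.J a) f := Iff.rfl

include hK hπ hO in
theorem opr_mem_K {rt : ℕ → ℕ} (hrt : Signed D rt) {a : ℕ} (ha : a < O.k) {f : ℕ → F}
    (hf : FixF S (O.J a) f) : opr hC rt (O.J a) f ∈ K :=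
  Fx_le O hK (opr_fixed (hO a ha) hπ hrt hf)

include hK hπ hO in
theorem onr_mem_K {a : ℕ} (ha : a < O.k) {f : ℕ → F} (hf : FixF S (O.J a) f) :
    onr hC (O.J a) f ∈ K :=
  onr_mem (hO a ha) (opr_mem_K O hK hπ hO (Or.inl rfl) ha hf)
    (opr_mem_K O hK hπ hO (Or.inr rfl) ha hf.neg_inv)

include hK hπ hO in
theorem nL_mem_K {a : ℕ} (ha : a < O.k) : nL hC F (O.J a) ∈ K := by
  rw [← onr_one (hC := hC)]; exact onr_mem_K O hK hπ hO ha (FixF.one _)

include hπ hO in
theorem Xp_le_U {a : ℕ} (ha : a < O.k) : Xs O hπ hO K false ha ≤ UK D K := by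
  rintro g ⟨f, -, e⟩
  rw [Subgroup.mem_subgroupOf, e]
  refine list_prod_mem fun x hx => ?_
  obtain ⟨i, hi, rfl⟩ := List.mem_map.1 hx
  exact xg_mem_U hC (hC.simple_lt (O.J_lt a ha i hi)) (hC.phi_simple (O.J_lt a ha i hi)) _

include hπ hO in
theorem Xn_le_V {a : ℕ} (ha : a < O.k) : Xs O hπ hO K true ha ≤ VK D K := by
  rintro g ⟨f, -, e⟩
  rw [Subgroup.mem_subgroupOf, e]
  refine list_prod_mem fun x hx => ?_
  obtain ⟨i, hi, rfl⟩ := List.mem_map.1 hx
  have hs := hC.simple_lt (O.J_lt a ha i hi)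
  refine xg_mem_V hC (hC.neg_lt hs) ?_ _
  rw [hC.phi_neg hs]
  have := hC.phi_simple (O.J_lt a ha i hi)
  omega

/-! ### Monomial elements and signs -/

include hO in
theorem orbit_pos {L : List ℕ} (hL : ∀ i ∈ L, i < D.rank) (hE : Equiv' S L) {a : ℕ} (ha : a < O.k)
    {i : ℕ} (hi : i ∈ O.J a) (s : ℤ)
    (h : 0 < s * T.phi (wL D L (D.simple i))) :
    ∀ j ∈ O.J a, 0 < s * T.phi (wL D L (D.simple j)) := by
  intro j hj
  obtain ⟨n, rfl⟩ := O.trans a ha i hi j hj
  clear hj
  induction n with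
  | zero => exact h
  | succ n ih =>
    have hin := π_iterate_lt (S := S) (O.J_lt a ha i hi) n
    rw [Function.iterate_succ', Function.comp_apply, ← S.ρ_simple _ hin, hE _ (hC.simple_lt hin)]
    have hw := wL_lt hC hL (hC.simple_lt hin)
    have h1 := ρ_pos_iff S hw
    have h2 := ρ_neg_iff S hw
    rcases pos_and_pos_or_neg_and_neg_of_mul_pos ih with ⟨hs, hp⟩ | ⟨hs, hp⟩
    · exact mul_pos hs (h1.2 hp)
    · exact mul_pos_of_neg_of_neg hs (h2.2 hp)

include hK hπ hO in
/-- A fixed monomial element keeps the sign of some nontrivial fixed unipotent element. -/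
theorem exists_signed {c : ℕ → Fˣ} {L : List ℕ} (hL : ∀ i ∈ L, i < D.rank)
    (hm : tor D c * nL hC F L ∈ K) {i : ℕ} (hi : i < D.rank) (s : ℤ)
    (h : 0 < s * T.phi (wL D L (D.simple i))) :
    ∃ x : K, x ∈ UK D K ∧ x ≠ 1 ∧
      (0 < s → (tor D c * nL hC F L) * (x : GL D.Idx F) * (tor D c * nL hC F L)⁻¹ ∈
        D.posUnipotent F) ∧
      (s < 0 → (tor D c * nL hC F L) * (x : GL D.Idx F) * (tor D c * nL hC F L)⁻¹ ∈
        D.negUnipotent F) := by
  obtain ⟨a, ha, hia⟩ := O.cover i hi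
  have hsig := orbit_pos O hO hL (equiv_of_fixed (S := S) hL (hK.le hm)) ha hia s h
  refine ⟨⟨_, opr_mem_K O hK hπ hO (Or.inl rfl) ha (FixF.one _)⟩,
    Xp_le_U O hπ hO ha ⟨_, FixF.one _, rfl⟩, fun e => ?_, ?_⟩
  · have e' := congrArg Subtype.val e
    simp only [OneMemClass.coe_one] at e'
    rw [← opr_zero (hC := hC) (rt := D.simple) (O.J a)] at e'
    exact one_ne_zero (opr_unique (hO a ha) e' i hia)
  constructor <;> intro hs <;>
    show MulAut.conj (tor D c * nL hC F L) (opr hC D.simple (O.J a) (fun _ => (1 : F))) ∈ _ <;>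
    rw [show opr hC D.simple (O.J a) (fun _ => (1 : F)) = ((O.J a).map fun i => xg hC (D.simple i) (1 : F)).prod from rfl, map_list_prod] <;>
    refine list_prod_mem fun x hx => ?_ <;>
    simp only [List.mem_map] at hx <;>
    obtain ⟨_, ⟨j, hj, rfl⟩, rfl⟩ := hx <;>
    obtain ⟨η, -, hη⟩ := NormalForm.conj_xg (F := F) hC hL c (hC.simple_lt (O.J_lt a ha j hj)) <;>
    rw [MulAut.conj_apply, hη]
  · exact xg_mem_U hC (wL_lt hC hL (hC.simple_lt (O.J_lt a ha j hj)))
      (pos_of_mul_pos_right (hsig j hj) hs.le) _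
  · exact xg_mem_V hC (wL_lt hC hL (hC.simple_lt (O.J_lt a ha j hj)))
      (neg_of_mul_pos_right (hsig j hj) hs.le) _

/-- Every fixed monomial element keeps the sign of some nontrivial fixed unipotent element, at every
fundamental root. -/
def HasSigned (D : ChevalleyDatum) (T : Tab) (hC : Certified D T) (K : Subgroup (GL D.Idx F)) :
    Prop :=
  ∀ {c : ℕ → Fˣ} {L : List ℕ}, (∀ i ∈ L, i < D.rank) → tor D c * nL hC F L ∈ K →
    ∀ {i : ℕ}, i < D.rank → ∀ s : ℤ, 0 < s * T.phi (wL D L (D.simple i)) →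
    ∃ x : K, x ∈ UK D K ∧ x ≠ 1 ∧
      (0 < s → (tor D c * nL hC F L) * (x : GL D.Idx F) * (tor D c * nL hC F L)⁻¹ ∈
        D.posUnipotent F) ∧
      (s < 0 → (tor D c * nL hC F L) * (x : GL D.Idx F) * (tor D c * nL hC F L)⁻¹ ∈
        D.negUnipotent F)

theorem longest_of_simple (hC : Certified D T) {L : List ℕ} (hL : ∀ i ∈ L, i < D.rank)
    (h : ∀ i < D.rank, T.phi (wL D L (D.simple i)) < 0) : IsLongest D T L := by
  refine ⟨hL, fun r hr hp => ?_⟩
  have h1 := sign_of_simple hC (f := fun r => - T.phi (wL D L r))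
    (fun i hi r hr => by
      have := phi_wL_additive hC hL i hi r hr
      linarith) (fun i hi => by have := h i hi; omega) r hr hp
  omega

theorem top_longest : IsLongest D T (O.top.flatMap O.J) :=
  longest_of_simple hC (flatMap_lt O O.top_lt) O.top_neg

include hK in
/-- A fixed element exchanging the fixed unipotent groups. -/
theorem exists_top : ∃ (n : K) (c : ℕ → Fˣ),
    (n : GL D.Idx F) = tor D c * nL hC F (O.top.flatMap O.J) := by
  obtain ⟨c, hc⟩ := top_mono_mem O hK O.top O.top_lt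
  exact ⟨⟨_, hc⟩, c, rfl⟩

theorem conj_subgroupOf {A A' : Subgroup (GL D.Idx F)} (g : K)
    (h : A.map (MulAut.conj (g : GL D.Idx F)).toMonoidHom = A') :
    (A.subgroupOf K).map (MulAut.conj g).toMonoidHom = A'.subgroupOf K := by
  subst h
  ext x
  simp only [Subgroup.mem_subgroupOf, Subgroup.mem_map, MulEquiv.coe_toMonoidHom,
    MulAut.conj_apply]
  constructor
  · rintro ⟨y, hy, rfl⟩
    exact ⟨y, hy, by simp⟩
  · rintro ⟨y, hy, e⟩
    have hyK : y ∈ K := by
      have : y = (g : GL D.Idx F)⁻¹ * x * g := by rw [← e]; group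
      rw [this]
      exact mul_mem (mul_mem (inv_mem g.2) x.2) g.2
    exact ⟨⟨y, hyK⟩, hy, Subtype.ext (by simpa using e)⟩

theorem longest_map_K (hC : Certified D T) {L : List ℕ} (hL : IsLongest D T L) {n : K} {c : ℕ → Fˣ}
    (hn : (n : GL D.Idx F) = tor D c * nL hC F L) :
    (UK D K).map (MulAut.conj n).toMonoidHom = VK D K ∧
      (VK D K).map (MulAut.conj n).toMonoidHom = UK D K :=
  ⟨conj_subgroupOf n (by rw [hn]; exact longest_map_U hC hL c),
    conj_subgroupOf n (by rw [hn]; exact longest_map_V hC hL c)⟩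

theorem U_inf_V_K (hC : Certified D T) {g : K} (h1 : g ∈ UK D K) (h2 : g ∈ VK D K) : g = 1 :=
  Subtype.ext (U_inf_V hC h1 h2)

/-! ### Normalisers -/

include hK in
theorem normalizer_UK_of (hs : HasSigned D T hC K) :
    Subgroup.normalizer (UK D K : Set K) = BKg D K := by
  have hUB : D.posUnipotent F ≤ D.borelSubgroup F := le_sup_left
  have hBnorm : D.borelSubgroup F ≤ Subgroup.normalizer (D.posUnipotent F : Set (GL D.Idx F)) :=
    sup_le Subgroup.le_normalizer (H_normalizes_U hC)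
  refine le_antisymm (fun g hg => ?_) fun g hg => ?_
  swap
  · rw [Subgroup.mem_normalizer_iff]
    intro x
    simpa [Subgroup.mem_subgroupOf] using
      (Subgroup.mem_normalizer_iff.1 (hBnorm hg) (x : GL D.Idx F))
  obtain ⟨v, hv, hvF, n, hn, hnF, u, hu, huF, e⟩ := fixed_form S (hK.le g.2)
  obtain ⟨c, L, hL, rfl⟩ := (mem_N_iff hC).1 hn
  obtain ⟨v', rfl⟩ : ∃ v' : K, (v' : GL D.Idx F) = v := ⟨⟨v, Fx_le O hK hvF⟩, rfl⟩
  obtain ⟨u', rfl⟩ : ∃ u' : K, (u' : GL D.Idx F) = u := ⟨⟨u, Fx_le O hK huF⟩, rfl⟩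
  obtain ⟨m, hm⟩ : ∃ m : K, (m : GL D.Idx F) = tor D c * nL hC F L := ⟨⟨_, Fx_le O hK hnF⟩, rfl⟩
  have hg' : g = v' * m * u' := Subtype.ext (by simp [e, hm])
  have hmN : m ∈ Subgroup.normalizer (UK D K : Set K) := by
    have hvN : v' ∈ Subgroup.normalizer (UK D K : Set K) := Subgroup.le_normalizer hv
    have huN : u' ∈ Subgroup.normalizer (UK D K : Set K) :=
      Subgroup.le_normalizer (Uminus_le_U hC _ hu)
    rw [show m = v'⁻¹ * g * u'⁻¹ by rw [hg']; group]
    exact mul_mem (mul_mem (inv_mem hvN) hg) (inv_mem huN)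
  have hpos : ∀ i < D.rank, 0 < T.phi (wL D L (D.simple i)) := fun i hi => by
    by_contra hcon
    have hne := hC.phi_ne_zero (wL_lt hC hL (hC.simple_lt hi))
    obtain ⟨x, hx, hx1, -, hxV⟩ := hs hL (hm ▸ m.2) hi (-1) (by omega)
    have h1 : m * x * m⁻¹ ∈ UK D K := (Subgroup.mem_normalizer_iff.1 hmN x).1 hx
    have h2 : m * x * m⁻¹ ∈ VK D K := by
      simpa [Subgroup.mem_subgroupOf, hm] using hxV (by norm_num)
    have := U_inf_V_K hC h1 h2
    rw [mul_inv_eq_one, mul_eq_left] at this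
    exact hx1 this
  obtain ⟨d, hd⟩ := exists_tor_of_pos (F := F) hC hL hpos
  rw [Subgroup.mem_subgroupOf, e]
  refine mul_mem (mul_mem (hUB hv) (H_le_B ?_)) (hUB (Uminus_le_U hC _ hu))
  rw [hd, tor_mul]
  exact tor_mem_H hC _

include hK in
/-- The intersection of the normalisers of the fixed unipotent groups is the fixed torus. -/
theorem normalizer_inf_K_of (hs : HasSigned D T hC K) :
    Subgroup.normalizer (UK D K : Set K) ⊓ Subgroup.normalizer (VK D K : Set K) = HK D K := by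
  obtain ⟨n, c, hn⟩ := exists_top O hK
  have hn1 := (longest_map_K hC (top_longest O) hn).1
  have hNV := map_normalizer (MulAut.conj n) hn1
  rw [normalizer_UK_of O hK hs] at hNV ⊢
  rw [← hNV]
  refine le_antisymm ?_ ?_
  · rintro g ⟨hgB, b, hb, rfl⟩
    rw [Subgroup.mem_subgroupOf, ← B_inf_VH (F := F) hC]
    refine ⟨hgB, ?_⟩
    show (n : GL D.Idx F) * (b : GL D.Idx F) * (n : GL D.Idx F)⁻¹ ∈
      D.negUnipotent F ⊔ D.diagonalSubgroup F
    obtain ⟨u, hu, h, hh, e⟩ := (mem_B_iff hC).1 (Subgroup.mem_subgroupOf.1 hb)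
    rw [e, show (n : GL D.Idx F) * (u * h) * (n : GL D.Idx F)⁻¹ =
      ((n : GL D.Idx F) * u * (n : GL D.Idx F)⁻¹) * (n * h * (n : GL D.Idx F)⁻¹) by group, hn]
    refine mul_mem (Subgroup.mem_sup_left ?_) (Subgroup.mem_sup_right
      (H_conj hC ((mem_N_iff hC).2 ⟨c, _, (top_longest O).1, rfl⟩) hh))
    rw [← longest_map_U hC (top_longest O) c]
    exact ⟨u, hu, rfl⟩
  · intro g hg
    rw [Subgroup.mem_subgroupOf] at hg
    refine ⟨Subgroup.mem_subgroupOf.2 (H_le_B hg), n⁻¹ * g * n, ?_, by simp [mul_assoc]⟩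
    refine Subgroup.mem_subgroupOf.2 (H_le_B ?_)
    have hnN : (n : GL D.Idx F) ∈ D.monomialSubgroup F :=
      hn ▸ (mem_N_iff hC).2 ⟨c, _, (top_longest O).1, rfl⟩
    have := H_conj hC (inv_mem hnN) hg
    rw [inv_inv] at this
    simpa using this

/-! ### The first normalisation -/

include hK in
/-- Every automorphism is inner up to one fixing both fixed unipotent groups. -/
theorem exists_fix_K_of (hs : HasSigned D T hC K) [Finite F] (p : ℕ) [Fact p.Prime]
    (hP : ∃ P : Sylow p K, (P : Subgroup K) = UK D K) (θ : K ≃* K) :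
    ∃ (x : K) (θ' : K ≃* K), (∀ y, θ y = x * θ' y * x⁻¹) ∧
      (UK D K).map θ'.toMonoidHom = UK D K ∧ (VK D K).map θ'.toMonoidHom = VK D K := by
  classical
  obtain ⟨P, hP⟩ := hP
  have conjugate : ∀ A : Subgroup K, Nat.card A = Nat.card (UK D K) →
      ∃ g : K, A = (UK D K).map (MulAut.conj g).toMonoidHom := by
    intro A hA
    have hc : Nat.card A = Nat.card (P : Subgroup K) := by rw [hP]; exact hA
    let Q : Sylow p K := Sylow.ofCard A (by rw [hc, P.card_eq_multiplicity])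
    obtain ⟨g, hg⟩ := MulAction.exists_smul_eq K P Q
    refine ⟨g, ?_⟩
    have h1 : ((g • P : Sylow p K) : Subgroup K) = A := by
      rw [hg]; exact Sylow.coe_ofCard A _
    rw [← h1, Sylow.coe_subgroup_smul, hP, Subgroup.pointwise_smul_def]
    rfl
  have hcard : ∀ (e : K ≃* K) (A : Subgroup K),
      Nat.card (A.map e.toMonoidHom) = Nat.card A := fun e A =>
    (Nat.card_congr (A.equivMapOfInjective e.toMonoidHom e.injective).toEquiv).symm
  obtain ⟨g₁, hg₁⟩ := conjugate _ (hcard θ (UK D K))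
  let θ₁ : K ≃* K := θ.trans (MulAut.conj g₁⁻¹)
  have hU₁ : (UK D K).map θ₁.toMonoidHom = UK D K := by
    rw [show θ₁.toMonoidHom = (MulAut.conj g₁⁻¹).toMonoidHom.comp θ.toMonoidHom from rfl,
      ← Subgroup.map_map, hg₁, AutThm.conj_map_trans, inv_mul_cancel, AutThm.conj_map_one]
  obtain ⟨n, c₀, hn₀⟩ := exists_top O hK
  have hVU := (longest_map_K hC (top_longest O) hn₀).2
  obtain ⟨g, hg⟩ := conjugate ((VK D K).map θ₁.toMonoidHom) (by rw [hcard, ← hVU, hcard])
  obtain ⟨v, hv, hvF, m₀, hm₀, hmF, u, hu, huF, he⟩ := fixed_form S (hK.le g.2)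
  obtain ⟨c, M, hM, rfl⟩ := (mem_N_iff hC).1 hm₀
  obtain ⟨v', rfl⟩ : ∃ v' : K, (v' : GL D.Idx F) = v := ⟨⟨v, Fx_le O hK hvF⟩, rfl⟩
  obtain ⟨u', rfl⟩ : ∃ u' : K, (u' : GL D.Idx F) = u := ⟨⟨u, Fx_le O hK huF⟩, rfl⟩
  obtain ⟨m, hmN⟩ : ∃ m : K, (m : GL D.Idx F) = tor D c * nL hC F M :=
    ⟨⟨_, Fx_le O hK hmF⟩, rfl⟩
  have hg' : g = v' * m * u' := Subtype.ext (by simp [he, hmN])
  have hstab : ∀ w : K, w ∈ UK D K → (UK D K).map (MulAut.conj w).toMonoidHom = UK D K := by
    intro w hw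
    refine le_antisymm ?_ fun x hx => ⟨w⁻¹ * x * w, ?_, by simp [mul_assoc]⟩
    · rintro _ ⟨x, hx, rfl⟩
      exact mul_mem (mul_mem hw hx) (inv_mem hw)
    · exact mul_mem (mul_mem (inv_mem hw) hx) hw
  have hgU : (UK D K).map (MulAut.conj g).toMonoidHom =
      ((UK D K).map (MulAut.conj m).toMonoidHom).map (MulAut.conj v').toMonoidHom := by
    conv_rhs => rw [← hstab u' (Uminus_le_U hC _ hu), AutThm.conj_map_trans, AutThm.conj_map_trans]
    rw [hg', mul_assoc]
  let θ₂ : K ≃* K := θ₁.trans (MulAut.conj v'⁻¹)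
  have hU₂ : (UK D K).map θ₂.toMonoidHom = UK D K := by
    rw [show θ₂.toMonoidHom = (MulAut.conj v'⁻¹).toMonoidHom.comp θ₁.toMonoidHom from rfl,
      ← Subgroup.map_map, hU₁, hstab _ (inv_mem hv)]
  have hV₂ : (VK D K).map θ₂.toMonoidHom = (UK D K).map (MulAut.conj m).toMonoidHom := by
    rw [show θ₂.toMonoidHom = (MulAut.conj v'⁻¹).toMonoidHom.comp θ₁.toMonoidHom from rfl,
      ← Subgroup.map_map, hg, hgU, AutThm.conj_map_trans, inv_mul_cancel, AutThm.conj_map_one]
  have hlong : IsLongest D T M := longest_of_simple hC hM fun i hi => by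
    by_contra hcon
    have hne := hC.phi_ne_zero (wL_lt hC hM (hC.simple_lt hi))
    obtain ⟨x, hx, hx1, hxU, -⟩ := hs hM (hmN ▸ m.2) hi 1 (by omega)
    have h1 : m * x * m⁻¹ ∈ UK D K := by
      simpa [Subgroup.mem_subgroupOf, hmN] using hxU one_pos
    have h2 : m * x * m⁻¹ ∈ (VK D K).map θ₂.toMonoidHom := hV₂ ▸ ⟨x, hx, rfl⟩
    obtain ⟨y, hy, hy'⟩ := h2
    have hyU : y ∈ UK D K := by
      rw [← hU₂] at h1
      obtain ⟨z, hz, hz'⟩ := h1
      rwa [show y = z from θ₂.injective (hy'.trans hz'.symm)]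
    rw [U_inf_V_K hC hyU hy, map_one, eq_comm, mul_inv_eq_one, mul_eq_left] at hy'
    exact hx1 hy'
  refine ⟨g₁ * v', θ₂, fun y => ?_, hU₂, ?_⟩
  · simp only [θ₂, θ₁, MulEquiv.trans_apply, MulAut.conj_apply]
    group
  · rw [hV₂, (longest_map_K hC hlong hmN).1]

/-! ### Orthogonal orbits -/

include hK hπ hO in
theorem hasSigned_orth : HasSigned D T hC K := fun {_ _} hL hm {_} hi s h =>
  exists_signed O hK hπ hO hL hm hi s h

include hK hπ hO in
theorem normalizer_UK : Subgroup.normalizer (UK D K : Set K) = BKg D K :=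
  normalizer_UK_of O hK (hasSigned_orth O hK hπ hO)

include hK hπ hO in
/-- The intersection of the normalisers of the fixed unipotent groups is the fixed torus. -/
theorem normalizer_inf_K :
    Subgroup.normalizer (UK D K : Set K) ⊓ Subgroup.normalizer (VK D K : Set K) = HK D K :=
  normalizer_inf_K_of O hK (hasSigned_orth O hK hπ hO)

include hK hπ hO in
/-- Every automorphism is inner up to one fixing both fixed unipotent groups. -/
theorem exists_fix_K [Finite F] (p : ℕ) [Fact p.Prime]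
    (hP : ∃ P : Sylow p K, (P : Subgroup K) = UK D K) (θ : K ≃* K) :
    ∃ (x : K) (θ' : K ≃* K), (∀ y, θ y = x * θ' y * x⁻¹) ∧
      (UK D K).map θ'.toMonoidHom = UK D K ∧ (VK D K).map θ'.toMonoidHom = VK D K :=
  exists_fix_K_of O hK (hasSigned_orth O hK hπ hO) p hP θ

end Cfsg.Agent.Chevalley.Twist
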