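import Cfsg.Agent.Lib.Chevalley.Twist.AutExt

/-!
The minimal parabolic subgroups of a fixed group, for orbits of any shape: an automorphism fixing
both fixed unipotent groups permutes the fixed unipotent groups of the orbits.
-/

set_option autoImplicit false

open scoped Matrix Pointwise

namespace Cfsg.Agent.Chevalley.Twist

open Cfsg.Lie Cfsg.Agent.Chevalley.Table Cfsg.Agent.Chevalley.Cert Cfsg.Agent.Chevalley.Group
  Cfsg.Agent.Chevalley.Weight Cfsg.Agent.Chevalley.Unip Cfsg.Agent.Chevalley.Borel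
  Cfsg.Agent.Chevalley.Weyl Cfsg.Agent.Chevalley.Bruhat Cfsg.Agent.Chevalley.NormalForm
  Cfsg.Agent.Chevalley.AutThm

variable {D : ChevalleyDatum} {F : Type*} [Field F] {T : Tab} {hC : Certified D T} {S : Tw hC F}
  (O : Orbits S) {K : Subgroup (GL D.Idx F)}

/-- A fixed monomial element positive on one root of an orbit is positive on all of the orbit. -/
theorem orbit_pos_inv {L : List ℕ} (hL : ∀ i ∈ L, i < D.rank) (hLe : Equiv' S L) {a : ℕ}
    (ha : a < O.k) {i : ℕ} (hi : i ∈ O.J a) (hn : 0 < T.phi (wL D L (D.simple i))) :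
    ∀ r < D.nroots, 0 < T.phi r → T.phi (wL D (O.J a) r) < 0 → 0 < T.phi (wL D L r) := by
  have hs : ∀ j ∈ O.J a, 0 < T.phi (wL D L (D.simple j)) := by
    intro j hj
    obtain ⟨n, rfl⟩ := O.trans a ha i hi j hj
    clear hj
    induction n with
    | zero => exact hn
    | succ n ih =>
      have hin := π_iterate_lt (S := S) (O.J_lt a ha i hi) n
      rw [Function.iterate_succ', Function.comp_apply, ← S.ρ_simple _ hin, hLe _ (hC.simple_lt hin),
        ρ_pos_iff S (wL_lt hC hL (hC.simple_lt hin))]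
      exact ih
  obtain ⟨f, hf⟩ := StUnip.exists_lin_gW hC (w := L) hL
  intro r
  induction r using Nat.strong_induction_on with
  | _ r ih =>
    intro hr hp hJ
    rcases O.decomp a ha r hr hp hJ with ⟨j, hj, rfl⟩ | ⟨x, y, q, hx, hy, hpx, hpy, hJx, hJy, hq, rfl⟩
    · exact hs j hj
    have h1 := StUnip.chain_linear hC hf hx hq
    simp only [StUnip.gW, Nat.cast_zero, zero_add, one_mul] at h1
    have h2 := StUnip.chain_linear (f := fun r => T.phi r) (a := 0) hC
      (fun r _ => by simp [Graded.lin]) hx hq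
    simp only [Nat.cast_zero, zero_add, one_mul] at h2
    have h3 := ih x ((hC.phi_lt_iff hx hr).1 (by omega)) hx hpx hJx
    have h4 := ih y ((hC.phi_lt_iff hy hr).1 (by omega)) hy hpy hJy
    omega

variable (hK : GenData O K)
  (hne : ∀ a < O.k, ∃ x ∈ Fx S, x ≠ 1 ∧ ∀ c : ℕ → Fˣ,
    x ∈ Uminus D F (tor D c * nL hC F (O.J a)))

include hK hne in
/-- The signs, for orbits of any shape. -/
theorem hasSigned_of_ne : HasSigned D T hC K := by
  intro c L hL hm i hi s h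
  obtain ⟨a, ha, hia⟩ := O.cover i hi
  obtain ⟨x, hxF, hx1, hxU⟩ := hne a ha
  have hE := equiv_of_fixed (S := S) hL (hK.le hm)
  have hU := hxU 1
  refine ⟨⟨x, Fx_le O hK hxF⟩, Uminus_le_U hC _ hU,
    fun e => hx1 (congrArg Subtype.val e), ?_⟩
  have hJ := O.J_lt a ha
  rw [Uminus_eq hC hJ 1] at hU
  have key : ∀ A : Subgroup (GL D.Idx F), (∀ r t, r ∈ invList D T (O.J a) →
      tor D c * nL hC F L * xg hC r t * (tor D c * nL hC F L)⁻¹ ∈ A) →
      tor D c * nL hC F L * x * (tor D c * nL hC F L)⁻¹ ∈ A := by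
    intro A hA
    have hle : Subgroup.closure {g : GL D.Idx F | ∃ (r : ℕ) (t : F),
        r ∈ invList D T (O.J a) ∧ g = xg hC r t} ≤
        A.comap (MulAut.conj (tor D c * nL hC F L)).toMonoidHom := by
      refine (Subgroup.closure_le _).2 ?_
      rintro _ ⟨r, t, hr, rfl⟩
      exact hA r t hr
    exact hle hU
  constructor <;> intro hs <;> refine key _ fun r t hr => ?_ <;>
    obtain ⟨h1, h2, h3⟩ := (mem_invList hC).1 hr <;>
    obtain ⟨η, -, e⟩ := NormalForm.conj_xg (F := F) hC hL c h1 <;>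
    rw [e]
  · exact xg_mem_U hC (wL_lt hC hL h1)
      (orbit_pos_inv O hL hE ha hia (pos_of_mul_pos_right h hs.le) r h1 h2 h3) _
  · exact xg_mem_V hC (wL_lt hC hL h1)
      (orbit_neg O hL hE ha hia (neg_of_mul_pos_right h hs.le) r h1 h2 h3) _

/-- The fixed unipotent group of an orbit, inside the fixed group. -/
abbrev XU (O : Orbits S) (K : Subgroup (GL D.Idx F)) (a : ℕ) : Subgroup K :=
  (Uw S (O.J a)).subgroupOf K

variable (hnJ : ∀ a < O.k, nL hC F (O.J a) ∈ K)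

/-- The longest element of an orbit, inside the fixed group. -/
abbrev nK {a : ℕ} (ha : a < O.k) : K := ⟨nL hC F (O.J a), hnJ a ha⟩

/-- The opposite fixed unipotent group of an orbit. -/
abbrev XV {a : ℕ} (ha : a < O.k) : Subgroup K :=
  (XU O K a).map (MulAut.conj (nK O hnJ ha)).toMonoidHom

theorem mem_XU {a : ℕ} (ha : a < O.k) {g : K} (c : ℕ → Fˣ) :
    g ∈ XU O K a ↔ (g : GL D.Idx F) ∈ Uminus D F (tor D c * nL hC F (O.J a)) ∧
      (g : GL D.Idx F) ∈ Fx S :=
  mem_Uw (O.J_lt a ha) c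

theorem XU_le_U {a : ℕ} (ha : a < O.k) : XU O K a ≤ UK D K := fun _ hg =>
  Uminus_le_U hC _ ((mem_XU O ha 1).1 hg).1

theorem XV_le_V {a : ℕ} (ha : a < O.k) : XV O hnJ ha ≤ VK D K := by
  rintro _ ⟨g, hg, rfl⟩
  have h := conj_Uminus hC ((mem_XU O ha 1).1 hg).1
  rw [tor_one, one_mul] at h
  exact h

theorem card_XV {a : ℕ} (ha : a < O.k) : Nat.card (XV O hnJ ha) = Nat.card (XU O K a) :=
  (Nat.card_congr (Subgroup.equivMapOfInjective _ _ (MulEquiv.injective _)).toEquiv).symm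

include hK in
theorem card_XU {a : ℕ} : Nat.card (XU O K a) = Nat.card (Uw S (O.J a)) :=
  Nat.card_congr (Subgroup.subgroupOfEquivOfLe
    (show Uw S (O.J a) ≤ K from fun _ hg => Fx_le O hK (Subgroup.mem_inf.1 hg).2)).toEquiv

/-- The minimal parabolic subgroup of an orbit. -/
noncomputable abbrev PG (a : ℕ) : Subgroup K := (bnK hK hne).parabolic {melK O hK a}

include hK hne

theorem melK_mem_BN {a : ℕ} (ha : a < O.k) : melK O hK a ∈ (bnK hK hne).S := ⟨a, ha, rfl⟩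

theorem mem_bnKB {g : K} :
    g ∈ (bnK hK hne).B ↔ (g : GL D.Idx F) ∈ D.borelSubgroup F :=
  ⟨fun h => h.1, fun h => ⟨h, g.2⟩⟩

theorem bnKB_eq : (bnK hK hne).B = BKg D K := Subgroup.ext fun _ => mem_bnKB O hK hne

theorem XV_le_PG {a : ℕ} (ha : a < O.k) : XV O hnJ ha ≤ PG O hK hne a := by
  rintro _ ⟨g, hg, rfl⟩
  have hn : nK O hnJ ha ∈ PG O hK hne a := by
    obtain ⟨c, hc⟩ := mel_eq hK ha
    rw [show nK O hnJ ha = nK O hnJ ha * (melK O hK a)⁻¹ * melK O hK a by group]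
    refine mul_mem (BN.Parabolic.B_le_parabolic _ ((mem_bnKB O hK hne).2 ?_))
      (BN.Parabolic.mem_parabolic_of_mem rfl)
    show nL hC F (O.J a) * (mel hK a)⁻¹ ∈ _
    rw [hc, mul_inv_rev, mul_inv_cancel_left]
    exact H_le_B (inv_mem (tor_mem_H hC _))
  have hg' : g ∈ PG O hK hne a := BN.Parabolic.B_le_parabolic _
    ((mem_bnKB O hK hne).2 (Subgroup.mem_sup_left (XU_le_U O ha hg)))
  exact mul_mem (mul_mem hn hg') (inv_mem hn)

include hnJ

/-- The minimal parabolic meets the negative unipotent group in the opposite group of the orbit. -/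
theorem PG_inf_V [Finite F] {a : ℕ} (ha : a < O.k) :
    PG O hK hne a ⊓ VK D K = XV O hnJ ha := by
  classical
  have hle : XV O hnJ ha ≤ PG O hK hne a ⊓ VK D K :=
    le_inf (XV_le_PG O hK hne hnJ ha) (XV_le_V O hnJ ha)
  let rep : Option (XU O K a) → K := fun o => o.elim 1 fun x => (x : K) * melK O hK a
  have hcell : ∀ g ∈ PG O hK hne a, ∃ o, (rep o)⁻¹ * g ∈ (bnK hK hne).B := by
    intro g hg
    have h := BN.Parabolic.parabolic_singleton
      (⟨melK O hK a, melK_mem_BN O hK hne ha⟩ : (bnK hK hne).S)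
    have hg' : g ∈ ((bnK hK hne).B : Set K) ∪ BN.Basic.dc (bnK hK hne) (melK O hK a) := h ▸ hg
    rcases hg' with hg' | hg'
    · exact ⟨none, by simpa [rep] using hg'⟩
    obtain ⟨b, hb, b', hb', rfl⟩ := BN.Basic.mem_dc.1 hg'
    obtain ⟨v, hv, hvF, n, hn, hnF, u, hu, huF, e⟩ := fixed_form S (hK.le b.2)
    have hnB : n ∈ D.borelSubgroup F := by
      rw [show n = v⁻¹ * (b : GL D.Idx F) * u⁻¹ by rw [e]; group]
      exact mul_mem (mul_mem (inv_mem (Subgroup.mem_sup_left hv)) ((mem_bnKB O hK hne).1 hb))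
        (inv_mem (Subgroup.mem_sup_left (Uminus_le_U hC _ hu)))
    have hnH : n ∈ D.diagonalSubgroup F := mem_H_of_inf hC hnB hn
    obtain ⟨w, hwdef⟩ : ∃ w : GL D.Idx F, w = v * (n * u * n⁻¹) := ⟨_, rfl⟩
    have hwU : w ∈ D.posUnipotent F := hwdef ▸ mul_mem hv
      ((Subgroup.mem_normalizer_iff.1 (H_normalizes_U hC hnH) u).1 (Uminus_le_U hC _ hu))
    have hwF : w ∈ Fx S := hwdef ▸ mul_mem hvF (mul_mem (mul_mem hnF huF) (inv_mem hnF))
    obtain ⟨d, hd⟩ := mel_eq hK ha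
    obtain ⟨A, B, hAB, -, hBF, -, hA', hB⟩ :=
      split_fixed O ha (hd ▸ hK.le (mel_mem hK a)) (inv_mem hwU) (inv_mem hwF)
    rw [← hd] at hA'
    have hx : (⟨B⁻¹, Fx_le O hK (inv_mem hBF)⟩ : K) ∈ XU O K a :=
      (mem_XU O ha d).2 ⟨inv_mem hB, inv_mem hBF⟩
    refine ⟨some ⟨_, hx⟩, (mem_bnKB O hK hne).2 ?_⟩
    show (B⁻¹ * mel hK a)⁻¹ * ((b : GL D.Idx F) * mel hK a * (b' : GL D.Idx F)) ∈ _
    have hb2 : (b : GL D.Idx F) = (A * B)⁻¹ * n := by
      rw [← hAB, inv_inv, e, hwdef]; group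
    rw [hb2, show (B⁻¹ * mel hK a)⁻¹ * ((A * B)⁻¹ * n * mel hK a * (b' : GL D.Idx F)) =
        (mel hK a * mel hK a)⁻¹ * (mel hK a * A⁻¹ * (mel hK a)⁻¹) * (mel hK a * mel hK a) *
          ((mel hK a)⁻¹ * n * mel hK a) * (b' : GL D.Idx F) by group]
    have hsq := mel_sq hK ha
    refine mul_mem (mul_mem (mul_mem (mul_mem (H_le_B (inv_mem hsq)) ?_) (H_le_B hsq))
      (H_le_B ?_)) ((mem_bnKB O hK hne).1 hb')
    · rw [← conj_inv]
      exact inv_mem (Subgroup.mem_sup_left hA')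
    · have := H_conj hC (inv_mem (mel_mem_N hK ha)) hnH
      rwa [inv_inv] at this
  choose f hf using hcell
  let f' : ↥(PG O hK hne a ⊓ VK D K) → Option (XU O K a) := fun g => f g g.2.1
  have hinj : Function.Injective f' := by
    intro g g' hgg
    simp only [f'] at hgg
    have h1 := hf _ g.2.1
    have h2 := hf _ g'.2.1
    rw [hgg] at h1
    have h3 := mul_mem (inv_mem h1) h2
    rw [show ((rep (f _ g'.2.1))⁻¹ * (g : K))⁻¹ * ((rep (f _ g'.2.1))⁻¹ * g') =
      (g : K)⁻¹ * g' by group] at h3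
    have h4 : ((g : K)⁻¹ * g' : K) ∈ VK D K := mul_mem (inv_mem g.2.2) g'.2.2
    have h5 : (((g : K)⁻¹ * g' : K) : GL D.Idx F) ∈
        D.borelSubgroup F ⊓ D.negUnipotent F :=
      ⟨(mem_bnKB O hK hne).1 h3, Subgroup.mem_subgroupOf.1 h4⟩
    rw [B_inf_V hC, Subgroup.mem_bot] at h5
    exact Subtype.ext (inv_mul_eq_one.1 (Subtype.ext h5))
  have hb : Nat.card ↥(PG O hK hne a ⊓ VK D K) ≤ Nat.card (XU O K a) + 1 := by
    refine (Nat.card_le_card_of_injective f' hinj).trans (le_of_eq ?_)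
    haveI := Fintype.ofFinite (XU O K a)
    rw [Nat.card_eq_fintype_card, Nat.card_eq_fintype_card, Fintype.card_option]
  have h2 : 2 ≤ Nat.card (XU O K a) := by
    refine (Subgroup.one_lt_card_iff_ne_bot _).2 fun hbot => ?_
    obtain ⟨x, hxF, hx1, hxU⟩ := hne a ha
    have h1 : (⟨x, Fx_le O hK hxF⟩ : K) ∈ XU O K a := (mem_XU O ha 1).2 ⟨hxU 1, hxF⟩
    rw [hbot, Subgroup.mem_bot] at h1
    exact hx1 (congrArg Subtype.val h1)
  obtain ⟨k, hk⟩ := Subgroup.card_dvd_of_le hle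
  rw [card_XV] at hk
  refine (Subgroup.eq_of_le_of_card_ge hle ?_).symm
  rw [card_XV]
  have hk1 : k ≤ 1 := by
    by_contra hk2
    have : Nat.card (XU O K a) * 2 ≤ Nat.card (XU O K a) * k := Nat.mul_le_mul_left _ (by omega)
    omega
  calc _ = Nat.card (XU O K a) * k := hk
    _ ≤ Nat.card (XU O K a) * 1 := Nat.mul_le_mul_left _ hk1
    _ = _ := mul_one _

omit hnJ in
theorem eq_of_melK_mem_PG {a b : ℕ} (ha : a < O.k) (hb : b < O.k)
    (h : melK O hK b ∈ PG O hK hne a) : b = a := by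
  have h' := (BN.Parabolic.mem_iff_mem_parabolic (P := bnK hK hne)
    (Set.singleton_subset_iff.2 (melK_mem_BN O hK hne ha)) (melK_mem_BN O hK hne hb)).1 h
  refine mel_inj hK hb ha ?_
  rw [show mel hK a = mel hK b from (congrArg Subtype.val (Set.mem_singleton_iff.1 h')).symm,
    inv_mul_cancel]
  exact one_mem _

omit hnJ in
theorem exists_melK_mem_PG {M : Subgroup K} (hM : (bnK hK hne).B ≤ M)
    (hnle : ¬ M ≤ (bnK hK hne).B) : ∃ b < O.k, melK O hK b ∈ M := by
  by_contra hcon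
  refine hnle ?_
  rw [BN.Parabolic.le_parabolic_mem hM]
  refine sup_le le_rfl ((Subgroup.closure_le _).2 ?_)
  rintro s ⟨⟨b, hb, hs⟩, hsM⟩
  exact absurd ⟨b, hb, (show melK O hK b = s from Subtype.ext hs.symm) ▸ hsM⟩ hcon

/-- The opposite groups of the orbits are permuted. -/
theorem exists_XV_map [Finite F] {θ : K ≃* K}
    (hU : (UK D K).map θ.toMonoidHom = UK D K) (hV : (VK D K).map θ.toMonoidHom = VK D K)
    {a : ℕ} (ha : a < O.k) : ∃ b, ∃ hb : b < O.k,
      (XV O hnJ ha).map θ.toMonoidHom = XV O hnJ hb := by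
  have hB : (bnK hK hne).B.map θ.toMonoidHom = (bnK hK hne).B := by
    have := map_normalizer θ hU
    rwa [normalizer_UK_of O hK (hasSigned_of_ne O hK hne), ← bnKB_eq O hK hne] at this
  obtain ⟨M, hM⟩ : ∃ M, M = (PG O hK hne a).map θ.toMonoidHom := ⟨_, rfl⟩
  have hBM : (bnK hK hne).B ≤ M := by
    rw [hM, ← hB]
    exact Subgroup.map_mono (BN.Parabolic.B_le_parabolic _)
  have hnotB : ∀ {c : ℕ}, c < O.k → melK O hK c ∉ (bnK hK hne).B := fun {c} hc h =>
    (Set.notMem_empty _) ((BN.Parabolic.mem_iff_mem_parabolic (P := bnK hK hne)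
      (Set.empty_subset _) (melK_mem_BN O hK hne hc)).1 (BN.Parabolic.B_le_parabolic _ h))
  obtain ⟨b, hb, hbM⟩ := exists_melK_mem_PG O hK hne hBM fun hle => by
    have : θ (melK O hK a) ∈ (bnK hK hne).B :=
      hle (hM ▸ ⟨_, BN.Parabolic.mem_parabolic_of_mem rfl, rfl⟩)
    rw [← hB] at this
    obtain ⟨x, hx, hxe⟩ := this
    exact hnotB ha (by rwa [θ.injective hxe] at hx)
  have hPM : PG O hK hne b ≤ M :=
    sup_le hBM ((Subgroup.closure_le _).2 (Set.singleton_subset_iff.2 hbM))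
  refine ⟨b, hb, ?_⟩
  suffices hmap : (PG O hK hne a).map θ.toMonoidHom = PG O hK hne b by
    rw [← PG_inf_V O hK hne hnJ ha, ← PG_inf_V O hK hne hnJ hb,
      Subgroup.map_inf _ _ _ θ.injective, hmap, hV]
  refine le_antisymm ?_ (hM ▸ hPM)
  obtain ⟨L, hL⟩ : ∃ L, L = (PG O hK hne b).comap θ.toMonoidHom := ⟨_, rfl⟩
  have hBL : (bnK hK hne).B ≤ L := fun x hx => by
    rw [hL, Subgroup.mem_comap]
    exact BN.Parabolic.B_le_parabolic _ (hB ▸ ⟨x, hx, rfl⟩)
  obtain ⟨c, hc, hcL⟩ := exists_melK_mem_PG O hK hne hBL fun hle => by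
    obtain ⟨y, hy⟩ : ∃ y, θ y = melK O hK b := ⟨_, θ.apply_symm_apply _⟩
    have hyB : y ∈ (bnK hK hne).B := hle (by
      rw [hL, Subgroup.mem_comap]
      exact BN.Parabolic.mem_parabolic_of_mem hy)
    exact hnotB hb (hB ▸ ⟨y, hyB, hy⟩)
  have hLa : L ≤ PG O hK hne a := fun x hx => by
    rw [hL, Subgroup.mem_comap] at hx
    have : θ x ∈ M := hPM hx
    rw [hM] at this
    obtain ⟨y, hy, hyx⟩ := this
    rwa [← θ.injective hyx]
  obtain rfl := eq_of_melK_mem_PG O hK hne ha hc (hLa hcL)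
  exact Subgroup.map_le_iff_le_comap.2
    (hL ▸ sup_le hBL ((Subgroup.closure_le _).2 (Set.singleton_subset_iff.2 hcL)))

/-- The top element carries the group of an orbit to the opposite one. -/
theorem map_top_XU [Finite F] {a : ℕ} (ha : a < O.k) {Lt : List ℕ} (hLt : IsLongest D T Lt)
    (htop : ∀ r ∈ invList D T (O.J a), 0 < T.phi (wL D (O.J a) (wL D Lt r)))
    {n : K} {c : ℕ → Fˣ} (hn : (n : GL D.Idx F) = tor D c * nL hC F (O.top.flatMap O.J)) :
    (XU O K a).map (MulAut.conj n).toMonoidHom = XV O hnJ ha := by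
  refine Subgroup.eq_of_le_of_card_ge ?_ ?_
  swap
  · rw [card_XV]
    exact (Nat.card_congr (Subgroup.equivMapOfInjective _ _ (MulEquiv.injective _)).toEquiv).le
  rintro _ ⟨g, hg, rfl⟩
  obtain ⟨m, hm⟩ : ∃ m : K, m = nK O hnJ ha := ⟨_, rfl⟩
  refine ⟨m⁻¹ * (n * g * n⁻¹) * m, (mem_XU O ha 1).2 ⟨?_, ?_⟩, ?_⟩
  · have hJ := O.J_lt a ha
    have h := ((mem_XU O ha 1).1 hg).1
    rw [Uminus_eq hC hJ 1] at h ⊢
    have hconj : ((m⁻¹ * (n * g * n⁻¹) * m : K) : GL D.Idx F) =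
        MulAut.conj ((m : GL D.Idx F)⁻¹ * n) (g : GL D.Idx F) := by
      simp only [Subgroup.coe_mul, Subgroup.coe_inv, MulAut.conj_apply]; group
    rw [hconj]
    suffices hle : Subgroup.closure {g : GL D.Idx F | ∃ (r : ℕ) (t : F),
        r ∈ invList D T (O.J a) ∧ g = xg hC r t} ≤ (Subgroup.closure {g : GL D.Idx F | ∃ (r : ℕ) (t : F),
        r ∈ invList D T (O.J a) ∧ g = xg hC r t}).comap
          (MulAut.conj ((m : GL D.Idx F)⁻¹ * n)).toMonoidHom from hle h
    refine (Subgroup.closure_le _).2 ?_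
    rintro _ ⟨r, t, hr, rfl⟩
    obtain ⟨h1, h2, h3⟩ := (mem_invList hC).1 hr
    obtain ⟨η, -, hη⟩ := NormalForm.conj_xg (F := F) hC (top_longest O).1 c h1
    have e0 := longest_unique hC (top_longest O) hLt h1
    obtain ⟨w, hw⟩ : ∃ w, w = wL D (O.top.flatMap O.J) r := ⟨_, rfl⟩
    have hwn : w < D.nroots := hw ▸ wL_lt hC (top_longest O).1 h1
    obtain ⟨s, hs⟩ : ∃ s, s = wL D (O.J a) w := ⟨_, rfl⟩
    have hsn : s < D.nroots := hs ▸ wL_lt hC hJ hwn
    obtain ⟨η', hη', e'⟩ := nL_conj_x (F := F) hC hJ hsn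
    refine Subgroup.subset_closure ⟨s, η'⁻¹ * (η * t), (mem_invList hC).2 ⟨hsn, ?_, ?_⟩, ?_⟩
    · rw [hs, hw, e0]; exact htop r hr
    · rw [hs, O.invol a ha w hwn, hw]
      exact (top_longest O).2 r h1 h2
    · have h4 := e' (η'⁻¹ * (η * t))
      rw [mul_inv_cancel_left₀ hη', show wL D (O.J a) s = w by rw [hs, O.invol a ha w hwn], hw,
        ← hη] at h4
      show (m : GL D.Idx F)⁻¹ * n * xg hC r t * ((m : GL D.Idx F)⁻¹ * n)⁻¹ = _
      rw [hm, hn]
      generalize xg hC s (η'⁻¹ * (η * t)) = z at h4 ⊢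
      rw [show (nK O hnJ ha : GL D.Idx F)⁻¹ * (tor D c * nL hC F (O.top.flatMap O.J)) * xg hC r t *
        ((nK O hnJ ha : GL D.Idx F)⁻¹ * (tor D c * nL hC F (O.top.flatMap O.J)))⁻¹ =
        (nL hC F (O.J a))⁻¹ * (tor D c * nL hC F (O.top.flatMap O.J) * xg hC r t *
        (tor D c * nL hC F (O.top.flatMap O.J))⁻¹) * nL hC F (O.J a) by group, ← h4]
      group
  · exact hK.le (m⁻¹ * (n * g * n⁻¹) * m).2
  · subst hm
    simp only [MulEquiv.coe_toMonoidHom, MulAut.conj_apply]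
    group

/-- An automorphism fixing both fixed unipotent groups fixes the groups of every orbit, when their
orders tell the orbits apart. -/
theorem maps_self_of_card [Finite F] {Lt : List ℕ} (hLt : IsLongest D T Lt)
    (htop : ∀ a < O.k, ∀ r ∈ invList D T (O.J a), 0 < T.phi (wL D (O.J a) (wL D Lt r)))
    (hcard : ∀ a < O.k, ∀ b < O.k, Nat.card (XU O K a) = Nat.card (XU O K b) → a = b)
    {θ : K ≃* K} (hU : (UK D K).map θ.toMonoidHom = UK D K)
    (hV : (VK D K).map θ.toMonoidHom = VK D K) {a : ℕ} (ha : a < O.k) :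
    (XU O K a).map θ.toMonoidHom = XU O K a ∧
      (XV O hnJ ha).map θ.toMonoidHom = XV O hnJ ha := by
  have key : ∀ θ : K ≃* K, (UK D K).map θ.toMonoidHom = UK D K →
      (VK D K).map θ.toMonoidHom = VK D K →
      (XV O hnJ ha).map θ.toMonoidHom = XV O hnJ ha := by
    intro θ hU hV
    obtain ⟨b, hb, e⟩ := exists_XV_map O hK hne hnJ hU hV ha
    have h := congrArg (fun A : Subgroup K => Nat.card A) e
    simp only [card_XV] at h
    rw [show Nat.card ((XV O hnJ ha).map θ.toMonoidHom) = Nat.card (XU O K a) by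
      rw [← card_XV O hnJ ha]
      exact (Nat.card_congr ((XV O hnJ ha).equivMapOfInjective θ.toMonoidHom θ.injective).toEquiv).symm] at h
    obtain rfl := hcard a ha b hb h
    exact e
  refine ⟨?_, key θ hU hV⟩
  obtain ⟨n, c, hn⟩ := exists_top O hK
  obtain ⟨hn1, hn2⟩ := longest_map_K hC (top_longest O) hn
  let ψ : K ≃* K := ((MulAut.conj n⁻¹).trans θ).trans (MulAut.conj n)
  have hψ : ∀ A : Subgroup K, A.map ψ.toMonoidHom =
      ((A.map (MulAut.conj n⁻¹).toMonoidHom).map θ.toMonoidHom).map (MulAut.conj n).toMonoidHom :=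
    fun A => by rw [Subgroup.map_map, Subgroup.map_map]; rfl
  have h := key ψ (by rw [hψ, AutThm.conj_map_inv hn2, hV, hn2])
    (by rw [hψ, AutThm.conj_map_inv hn1, hU, hn1])
  have ht := map_top_XU O hK hne hnJ ha hLt (htop a ha) hn
  rw [hψ, AutThm.conj_map_inv ht] at h
  refine Subgroup.map_injective (f := (MulAut.conj n).toMonoidHom) (MulEquiv.injective _) ?_
  rw [h, ht]

end Cfsg.Agent.Chevalley.Twist
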