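import Cfsg.Agent.Lib.Chevalley.Twist.AutRoots
import Cfsg.Agent.Lib.Chevalley.Aut.Main

/-!
Rank-one rigidity for an orbit of pairwise orthogonal fundamental roots of a fixed group, the torus
elements of the orbits, and generation by the orbit root subgroups.
-/

set_option autoImplicit false

open scoped Matrix Pointwise

namespace Cfsg.Agent.Chevalley.Twist

open Cfsg.Lie Cfsg.Agent.Chevalley.Table Cfsg.Agent.Chevalley.Cert Cfsg.Agent.Chevalley.Group
  Cfsg.Agent.Chevalley.Weight Cfsg.Agent.Chevalley.Unip Cfsg.Agent.Chevalley.Borel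
  Cfsg.Agent.Chevalley.Weyl Cfsg.Agent.Chevalley.Bruhat Cfsg.Agent.Chevalley.NormalForm
  Cfsg.Agent.Chevalley.AutThm

/-! ### Two by two matrices -/

theorem sl2_induction {F : Type*} [Field F] {P : Matrix.SpecialLinearGroup (Fin 2) F → Prop}
    (hx : ∀ t, P (SL2.sx t)) (hy : ∀ t, P (SL2.sy t)) (hm : ∀ g h, P g → P h → P (g * h)) :
    ∀ g, P g := by
  have hbig : ∀ g, SL2.el g 1 0 ≠ 0 → P g := fun g hc => by
    rw [SL2.decomp hc]; exact hm _ _ (hm _ _ (hx _) (hy _)) (hx _)
  intro g
  by_cases hc : SL2.el g 1 0 = 0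
  · have hd : SL2.el g 1 1 ≠ 0 := fun h => by
      have := SL2.el_det g
      rw [hc, h, mul_zero, mul_zero, sub_zero] at this
      exact one_ne_zero this.symm
    have hc' : SL2.el (g * SL2.sy 1) 1 0 ≠ 0 := by
      rw [SL2.el_mul]
      simp [SL2.el] at hc hd ⊢
      rw [hc, zero_add]
      exact hd
    have e : g = g * SL2.sy 1 * SL2.sy (-1) := by
      rw [mul_assoc, show SL2.sy (1 : F) * SL2.sy (-1) = 1 by
        ext a b; fin_cases a <;> fin_cases b <;> simp [Matrix.mul_apply, Fin.sum_univ_two], mul_one]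
    rw [e]
    exact hm _ _ (hbig _ hc') (hy _)
  · exact hbig g hc

variable {D : ChevalleyDatum} {F : Type*} [Field F] {T : Tab} {hC : Certified D T}

/-! ### The product of the rank-one maps of an orbit -/

section orbit

variable {π : ℕ → ℕ} {J : List ℕ} (hO : Orth hC π J)
include hO

/-- In an orbit, `x(s) y(u) x(s)` carries `x(1)` into the negative part only in the usual way. -/
theorem eq_of_conj_orth {s u d : ℕ → F}
    (h : opr hC D.simple J s * opr hC (fun i => D.neg (D.simple i)) J u * opr hC D.simple J s *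
        opr hC D.simple J (fun _ => (1 : F)) =
      opr hC (fun i => D.neg (D.simple i)) J d *
        (opr hC D.simple J s * opr hC (fun i => D.neg (D.simple i)) J u * opr hC D.simple J s)) :
    ∀ i ∈ J, 1 + s i * u i = 0 := by
  classical
  intro i hi
  choose φ hφx hφy hφk using fun (j : {j // j ∈ J}) => exists_rank1 (F := F) hC (hO.lt j.1 j.2)
  let φ' : ℕ → Matrix.SpecialLinearGroup (Fin 2) F →* D.group F :=
    fun j => if h : j ∈ J then φ ⟨j, h⟩ else 1
  have hx : ∀ j ∈ J, ∀ t, ((φ' j (SL2.sx t) : D.group F) : GL D.Idx F) = xg hC (D.simple j) t :=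
    fun j hj t => by simp [φ', hj, hφx]
  have hy : ∀ j ∈ J, ∀ t,
      ((φ' j (SL2.sy t) : D.group F) : GL D.Idx F) = xg hC (D.neg (D.simple j)) t :=
    fun j hj t => by simp [φ', hj, hφy]
  have hk : ∀ j ∈ J, ∀ g, φ' j g = 1 → IsSign g := fun j hj g hg => by
    simp only [φ', hj, dif_pos] at hg
    exact hφk _ g hg
  have hcomm : ∀ j ∈ J, ∀ l ∈ J, j ≠ l → ∀ g g', Commute (φ' j g) (φ' l g') := by
    intro j hj l hl hne g
    refine sl2_induction (P := fun g => ∀ g', Commute (φ' j g) (φ' l g')) ?_ ?_ ?_ g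
    · intro t
      refine sl2_induction (fun t' => ?_) (fun t' => ?_) fun a b ha hb => by
        rw [map_mul]; exact ha.mul_right hb
      · refine Subtype.ext ?_
        simp only [Subgroup.coe_mul, hx j hj, hx l hl]
        exact orth_commute hO hj hl hne (Or.inl rfl) (Or.inl rfl) t t'
      · refine Subtype.ext ?_
        simp only [Subgroup.coe_mul, hx j hj, hy l hl]
        exact orth_commute hO hj hl hne (Or.inl rfl) (Or.inr rfl) t t'
    · intro t
      refine sl2_induction (fun t' => ?_) (fun t' => ?_) fun a b ha hb => by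
        rw [map_mul]; exact ha.mul_right hb
      · refine Subtype.ext ?_
        simp only [Subgroup.coe_mul, hy j hj, hx l hl]
        exact orth_commute hO hj hl hne (Or.inr rfl) (Or.inl rfl) t t'
      · refine Subtype.ext ?_
        simp only [Subgroup.coe_mul, hy j hj, hy l hl]
        exact orth_commute hO hj hl hne (Or.inr rfl) (Or.inr rfl) t t'
    · intro a b ha hb g'
      rw [map_mul]
      exact (ha g').mul_left (hb g')
  let P : List ℕ → (ℕ → Matrix.SpecialLinearGroup (Fin 2) F) → D.group F :=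
    fun l k => (l.map fun j => φ' j (k j)).prod
  have hPmul : ∀ l : List ℕ, l.Nodup → (∀ j ∈ l, j ∈ J) → ∀ k k',
      P l (k * k') = P l k * P l k' := by
    intro l
    induction l with
    | nil => intro _ _ k k'; simp [P]
    | cons a l ih =>
      intro hnd hl k k'
      rw [List.nodup_cons] at hnd
      have e := ih hnd.2 (fun j hj => hl j (List.mem_cons_of_mem a hj)) k k'
      have hc : Commute (φ' a (k' a)) (P l k) := Commute.list_prod_right _ _ fun x hx' => by
        obtain ⟨j, hj, rfl⟩ := List.mem_map.1 hx'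
        exact hcomm a (hl a List.mem_cons_self) j (hl j (List.mem_cons_of_mem a hj))
          (fun e => hnd.1 (e ▸ hj)) _ _
      simp only [P, List.map_cons, List.prod_cons, Pi.mul_apply, map_mul] at e hc ⊢
      rw [e, mul_assoc (φ' a (k a)) (φ' a (k' a)), ← mul_assoc (φ' a (k' a)), hc.eq]
      simp only [mul_assoc]
  have hmul := hPmul J (orth_nodup hO) fun _ h => h
  have hone : P J 1 = 1 := List.prod_eq_one fun x hx' => by
    obtain ⟨j, -, rfl⟩ := List.mem_map.1 hx'
    exact map_one _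
  have hco : ∀ k, (P J k : GL D.Idx F) = (J.map fun j => (φ' j (k j) : GL D.Idx F)).prod := fun k => by
    show (D.group F).subtype (P J k) = _
    simp only [P, map_list_prod, List.map_map]
    rfl
  have hPx : ∀ f : ℕ → F, (P J (fun j => SL2.sx (f j)) : GL D.Idx F) = opr hC D.simple J f :=
    fun f => by
      rw [hco, opr]
      exact congrArg List.prod (List.map_congr_left fun j hj => hx j hj _)
  have hPy : ∀ f : ℕ → F, (P J (fun j => SL2.sy (f j)) : GL D.Idx F) =
      opr hC (fun i => D.neg (D.simple i)) J f := fun f => by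
    rw [hco, opr]
    exact congrArg List.prod (List.map_congr_left fun j hj => hy j hj _)
  obtain ⟨m, hm⟩ : ∃ m : ℕ → Matrix.SpecialLinearGroup (Fin 2) F,
      m = (fun j => SL2.sx (s j)) * (fun j => SL2.sy (u j)) * fun j => SL2.sx (s j) := ⟨_, rfl⟩
  obtain ⟨k, hk'⟩ : ∃ k : ℕ → Matrix.SpecialLinearGroup (Fin 2) F,
      k = (m * fun _ => SL2.sx (1 : F)) * ((fun j => SL2.sy (d j)) * m)⁻¹ := ⟨_, rfl⟩
  have hP : P J k = 1 := by
    have e : P J (m * fun _ => SL2.sx (1 : F)) = P J ((fun j => SL2.sy (d j)) * m) := by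
      refine Subtype.ext ?_
      simp only [hm, hmul, Subgroup.coe_mul, hPx, hPy]
      exact h
    rw [hk', hmul, e, ← hmul, mul_inv_cancel, hone]
  -- the component at `i` commutes with its own rank-one group
  have hcen : ∀ g, Commute (φ' i (k i)) (φ' i g) := by
    intro g
    have hk2 : k = (fun j => if j = i then k j else 1) * fun j => if j = i then 1 else k j := by
      funext j
      simp only [Pi.mul_apply]
      split_ifs <;> simp
    have hsingle : ∀ l : List ℕ, l.Nodup →
        P l (fun j => if j = i then k j else 1) = if i ∈ l then φ' i (k i) else 1 := by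
      intro l
      induction l with
      | nil => intro _; simp [P]
      | cons a l ihl =>
        intro hnd
        rw [List.nodup_cons] at hnd
        have := ihl hnd.2
        simp only [P, List.map_cons, List.prod_cons] at this ⊢
        rw [this]
        by_cases ha : a = i
        · subst ha
          simp [hnd.1]
        · simp [ha, Ne.symm ha]
    rw [hk2, hmul, hsingle J (orth_nodup hO), if_pos hi] at hP
    have hrest : Commute (φ' i g) (P J fun j => if j = i then 1 else k j) :=
      Commute.list_prod_right _ _ fun x hx' => by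
        obtain ⟨j, hj, rfl⟩ := List.mem_map.1 hx'
        show Commute _ (φ' j (if j = i then 1 else k j))
        by_cases hji : j = i
        · rw [if_pos hji, map_one]; exact Commute.one_right _
        · exact hcomm i hi j hj (Ne.symm hji) _ _
    rw [eq_inv_of_mul_eq_one_left hP]
    exact hrest.symm.inv_left
  obtain ⟨hk01, -, -⟩ := hk i hi (k i * SL2.sy 1 * (k i)⁻¹ * (SL2.sy 1)⁻¹) (by
    rw [map_mul, map_mul, map_mul, map_inv, map_inv, (hcen _).eq, mul_inv_cancel_right,
      mul_inv_cancel])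
  have hb : SL2.el (k i) 0 1 = 0 := by
    simp [SL2.el, Matrix.mul_apply, Fin.sum_univ_two, Matrix.SpecialLinearGroup.coe_inv,
      Matrix.adjugate_fin_two] at hk01 ⊢
    by_contra hne
    exact mul_ne_zero hne hne (by linear_combination -hk01)
  obtain ⟨M, hM⟩ : ∃ M, M = m i := ⟨_, rfl⟩
  obtain ⟨k₀, hk₀⟩ : ∃ k₀, k₀ = k i := ⟨_, rfl⟩
  rw [← hk₀] at hb
  have e : M * SL2.sx 1 = k₀ * SL2.sy (d i) * M := by
    rw [hk₀, hk', hM]
    simp only [Pi.mul_apply, Pi.inv_apply]
    group
  have e01 := congrArg (fun g : Matrix.SpecialLinearGroup (Fin 2) F => SL2.el g 0 1) e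
  have e00 := congrArg (fun g : Matrix.SpecialLinearGroup (Fin 2) F => SL2.el g 0 0) e
  simp only [SL2.el_mul] at e01 e00
  simp [SL2.el] at e01 e00 hb
  rw [hb] at e01 e00
  simp at e01 e00
  have hm00 : (M : Matrix (Fin 2) (Fin 2) F) 0 0 = 1 + s i * u i := by
    simp [hM, hm, Matrix.mul_apply, Fin.sum_univ_two]
  rw [← hm00]
  by_contra hne
  have hk00 : (k₀ : Matrix (Fin 2) (Fin 2) F) 0 0 = 1 := by
    refine mul_right_cancel₀ hne ?_
    rw [one_mul]
    linear_combination (-1 : F) * e00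
  rw [hk00, one_mul] at e01
  exact hne (by linear_combination e01)

theorem opr_unique_neg {f g : ℕ → F}
    (h : opr hC (fun i => D.neg (D.simple i)) J f = opr hC (fun i => D.neg (D.simple i)) J g) :
    ∀ i ∈ J, f i = g i := by
  have key : ∀ v : ℕ → F, opr hC (fun i => D.neg (D.simple i)) J v =
      onr hC J (fun _ => (1 : F)) * opr hC D.simple J (-v) * (onr hC J fun _ => (1 : F))⁻¹ := by
    intro v
    rw [onr_mul_opr hO _ _ (fun _ _ => one_ne_zero) _ (orth_nodup hO) fun _ h => h,
      mul_inv_cancel_right]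
    exact opr_congr fun i _ => by simp
  rw [key f, key g] at h
  intro i hi
  exact neg_inj.1 (opr_unique hO (mul_left_cancel (mul_right_cancel h)) i hi)

end orbit

/-! ### The parametrisation of an orbit -/

variable {S : Tw hC F} (O : Orbits S) {K : Subgroup (GL D.Idx F)} (hK : GenData O K) {π : ℕ → ℕ}
  (hπ : S.π = π) (hO : ∀ a < O.k, Orth hC π (O.J a))

/-- A parametrisation of the fixed functions on an orbit by a field. -/
structure Par (S : Tw hC F) (J : List ℕ) (E : Type*) [Field E] where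
  em : ℕ → E →+* F
  fix : ∀ i ∈ J, ∀ t, em (S.π i) t = S.hom i (em i t)
  surj : ∀ f, FixF S J f → ∃ t, ∀ i ∈ J, f i = em i t

variable {E : Type*} [Field E] {a : ℕ} (ha : a < O.k) (P : Par S (O.J a) E)

/-- The positive root element of an orbit. -/
def xp (t : E) : K :=
  ⟨opr hC D.simple (O.J a) fun i => P.em i t,
    opr_mem_K O hK hπ hO (Or.inl rfl) ha fun i hi => P.fix i hi t⟩

/-- The negative root element of an orbit. -/
def xn (t : E) : K :=
  ⟨opr hC (fun i => D.neg (D.simple i)) (O.J a) fun i => P.em i t,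
    opr_mem_K O hK hπ hO (Or.inr rfl) ha fun i hi => P.fix i hi t⟩

/-- The monomial element of an orbit. -/
def xw (t : E) : K :=
  xp O hK hπ hO ha P t * xn O hK hπ hO ha P (-t⁻¹) * xp O hK hπ hO ha P t

@[simp] theorem coe_xp (t : E) :
    (xp O hK hπ hO ha P t : GL D.Idx F) = opr hC D.simple (O.J a) fun i => P.em i t := rfl

@[simp] theorem coe_xn (t : E) : (xn O hK hπ hO ha P t : GL D.Idx F) =
    opr hC (fun i => D.neg (D.simple i)) (O.J a) fun i => P.em i t := rfl

theorem coe_xw (t : E) :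
    (xw O hK hπ hO ha P t : GL D.Idx F) = onr hC (O.J a) fun i => P.em i t := by
  rw [onr_eq (hO a ha) _ _ (orth_nodup (hO a ha)) fun _ h => h]
  simp only [xw, Subgroup.coe_mul, coe_xp, coe_xn, map_neg, map_inv₀]

include hK hπ hO ha in
theorem mem_Xp_iff {g : K} :
    g ∈ Xs O hπ hO K false ha ↔ ∃ t, xp O hK hπ hO ha P t = g := by
  constructor
  · rintro ⟨f, hf, e⟩
    replace e : (g : GL D.Idx F) = opr hC D.simple (O.J a) f := e
    obtain ⟨t, ht⟩ := P.surj f hf
    exact ⟨t, Subtype.ext ((opr_congr fun i hi => (ht i hi).symm).trans e.symm)⟩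
  · rintro ⟨t, rfl⟩
    exact ⟨_, fun i hi => P.fix i hi t, rfl⟩

include hK hπ hO ha in
theorem mem_Xn_iff {g : K} :
    g ∈ Xs O hπ hO K true ha ↔ ∃ t, xn O hK hπ hO ha P t = g := by
  constructor
  · rintro ⟨f, hf, e⟩
    replace e : (g : GL D.Idx F) = opr hC (fun i => D.neg (D.simple i)) (O.J a) f := e
    obtain ⟨t, ht⟩ := P.surj f hf
    exact ⟨t, Subtype.ext ((opr_congr fun i hi => (ht i hi).symm).trans e.symm)⟩
  · rintro ⟨t, rfl⟩
    exact ⟨_, fun i hi => P.fix i hi t, rfl⟩

include hK hπ hO in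
theorem xp_injective : Function.Injective (xp O hK hπ hO ha P) := fun t u h => by
  obtain ⟨i, hi⟩ := List.exists_mem_of_ne_nil _ (O.ne a ha)
  exact (P.em i).injective (opr_unique (hO a ha) (congrArg Subtype.val h) i hi)

include hK hπ hO in
theorem xn_injective : Function.Injective (xn O hK hπ hO ha P) := fun t u h => by
  obtain ⟨i, hi⟩ := List.exists_mem_of_ne_nil _ (O.ne a ha)
  exact (P.em i).injective (opr_unique_neg (hO a ha) (congrArg Subtype.val h) i hi)

theorem xp_add (t u : E) :
    xp O hK hπ hO ha P (t + u) = xp O hK hπ hO ha P t * xp O hK hπ hO ha P u := Subtype.ext (by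
  simp only [Subgroup.coe_mul, coe_xp]
  rw [← opr_add (hO a ha) (Or.inl rfl) _ (orth_nodup (hO a ha)) fun _ h => h]
  exact opr_congr fun i _ => map_add _ _ _)

theorem xn_add (t u : E) :
    xn O hK hπ hO ha P (t + u) = xn O hK hπ hO ha P t * xn O hK hπ hO ha P u := Subtype.ext (by
  simp only [Subgroup.coe_mul, coe_xn]
  rw [← opr_add (hO a ha) (Or.inr rfl) _ (orth_nodup (hO a ha)) fun _ h => h]
  exact opr_congr fun i _ => map_add _ _ _)

theorem xw_conj {t : E} (ht : t ≠ 0) (v : E) :
    xw O hK hπ hO ha P t * xp O hK hπ hO ha P v =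
      xn O hK hπ hO ha P (-v / t ^ 2) * xw O hK hπ hO ha P t := Subtype.ext (by
  simp only [Subgroup.coe_mul, coe_xw, coe_xp, coe_xn]
  rw [onr_mul_opr (hO a ha) _ _ (fun i _ => (map_ne_zero (P.em i)).2 ht) _ (orth_nodup (hO a ha))
    fun _ h => h]
  congr 1
  exact opr_congr fun i _ => by rw [map_div₀, map_neg, map_pow])

include hK hπ hO in
/-- An automorphism fixing the two root subgroups of an orbit and the parameter `1` acts on them
through a field automorphism. -/
theorem exists_field_K [Finite E] {θ : K ≃* K}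
    (hp : (Xs O hπ hO K false ha).map θ.toMonoidHom = Xs O hπ hO K false ha)
    (hn : (Xs O hπ hO K true ha).map θ.toMonoidHom = Xs O hπ hO K true ha)
    (h1 : θ (xp O hK hπ hO ha P 1) = xp O hK hπ hO ha P 1) :
    ∃ σ : E ≃+* E, ∀ t, θ (xp O hK hπ hO ha P t) = xp O hK hπ hO ha P (σ t) ∧
      θ (xn O hK hπ hO ha P t) = xn O hK hπ hO ha P (σ t) := by
  have hga : ∀ t : E, ∃ t', θ (xp O hK hπ hO ha P t) = xp O hK hπ hO ha P t' := fun t => by
    obtain ⟨t', ht'⟩ := (mem_Xp_iff O hK hπ hO ha P).1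
      (hp ▸ ⟨_, (mem_Xp_iff O hK hπ hO ha P).2 ⟨t, rfl⟩, rfl⟩ :
        θ (xp O hK hπ hO ha P t) ∈ Xs O hπ hO K false ha)
    exact ⟨t', ht'.symm⟩
  have hgb : ∀ t : E, ∃ t', θ (xn O hK hπ hO ha P t) = xn O hK hπ hO ha P t' := fun t => by
    obtain ⟨t', ht'⟩ := (mem_Xn_iff O hK hπ hO ha P).1
      (hn ▸ ⟨_, (mem_Xn_iff O hK hπ hO ha P).2 ⟨t, rfl⟩, rfl⟩ :
        θ (xn O hK hπ hO ha P t) ∈ Xs O hπ hO K true ha)
    exact ⟨t', ht'.symm⟩
  choose A hA using hga
  choose B hB using hgb
  have ipj := xp_injective O hK hπ hO ha P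
  have inj := xn_injective O hK hπ hO ha P
  have hadd : ∀ x y, A (x + y) = A x + A y := fun x y => ipj (by
    rw [← hA, xp_add, map_mul, hA, hA, xp_add])
  have hbadd : ∀ x y, B (x + y) = B x + B y := fun x y => inj (by
    rw [← hB, xn_add, map_mul, hB, hB, xn_add])
  have hainj : Function.Injective A := fun x y h => by
    refine ipj (θ.injective ?_)
    rw [hA, hA, h]
  have hbneg : ∀ x, B (-x) = -B x := fun x => by
    have h0 : B 0 = 0 := by simpa using hbadd 0 0
    exact eq_neg_of_add_eq_zero_left (by rw [← hbadd, neg_add_cancel, h0])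
  have ha0 : A 0 = 0 := by simpa using hadd 0 0
  have hat : ∀ t, t ≠ 0 → A t ≠ 0 := fun t ht h => ht (hainj (h.trans ha0.symm))
  have ha1 : A 1 = 1 := ipj ((hA 1).symm.trans h1)
  obtain ⟨i, hi⟩ := List.exists_mem_of_ne_nil _ (O.ne a ha)
  have hkey : ∀ t, t ≠ 0 → B (-t⁻¹) = -(A t)⁻¹ := by
    intro t ht
    have e := congrArg θ (xw_conj O hK hπ hO ha P ht 1)
    simp only [xw, map_mul, hA, hB, ha1] at e
    have e' := congrArg Subtype.val e
    simp only [Subgroup.coe_mul, coe_xp, coe_xn, map_one] at e'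
    have h := eq_of_conj_orth (hO a ha) e' i hi
    rw [← map_one (P.em i), ← map_mul, ← map_add, map_eq_zero] at h
    rw [eq_neg_iff_add_eq_zero]
    refine (mul_eq_zero.1 (show A t * (B (-t⁻¹) + (A t)⁻¹) = 0 by
      rw [mul_add, mul_inv_cancel₀ (hat t ht), add_comm]; exact h)).resolve_left (hat t ht)
  have hn1 : ∀ t, t ≠ 0 → θ (xw O hK hπ hO ha P t) = xw O hK hπ hO ha P (A t) := fun t ht => by
    simp only [xw, map_mul, hA, hB, hkey t ht]
  have h2 : ∀ t, t ≠ 0 → ∀ v, B (v / t ^ 2) = A v / A t ^ 2 := fun t ht v => by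
    have e := congrArg θ (xw_conj O hK hπ hO ha P ht v)
    rw [map_mul, map_mul, hn1 t ht, hA, hB, xw_conj O hK hπ hO ha P (hat t ht)] at e
    have := inj (mul_right_cancel e)
    rw [neg_div, neg_div, hbneg] at this
    exact (neg_inj.1 this).symm
  obtain ⟨hmul, hab⟩ := ringHom_of_rank1 (F := E) hadd ha1 h2 hat
  refine ⟨RingEquiv.ofBijective
    ({ toFun := A, map_one' := ha1, map_mul' := hmul, map_zero' := ha0, map_add' := hadd } : E →+* E)
    (Finite.injective_iff_bijective.1 hainj), fun t => ⟨hA t, ?_⟩⟩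
  rw [hB, hab]
  rfl

/-! ### Torus elements -/

/-- The torus element of an orbit. -/
def xh (t : E) : K := xw O hK hπ hO ha P t * xw O hK hπ hO ha P (-1)

include hK hπ hO in
/-- The action of a torus element on a positive orbit root subgroup. -/
theorem xh_conj {t : E} (ht : t ≠ 0) {b : ℕ} (hb : b < O.k) {E' : Type*} [Field E']
    (Q : Par S (O.J b) E') (v : E') :
    (xh O hK hπ hO ha P t * xp O hK hπ hO hb Q v * (xh O hK hπ hO ha P t)⁻¹ : GL D.Idx F) =
      opr hC D.simple (O.J b) fun j =>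
        (∏ i ∈ Finset.range D.rank with i ∈ O.J a, P.em i t ^ D.cartan i (D.simple j)) *
          Q.em j v := by
  classical
  let c : ℕ → Fˣ := fun i => Units.mk0 (P.em i t) ((map_ne_zero _).2 ht)
  obtain ⟨d, hd, e⟩ := onr_tor (hC := hC) (O.J a) (orth_nodup (hO a ha)) (O.J_lt a ha) c
  rw [hg_prod_eq (hO a ha) _ _ (orth_nodup (hO a ha)) fun _ h => h] at e
  have hh : (xh O hK hπ hO ha P t : GL D.Idx F) = tor D d := by
    rw [← e]
    simp only [xh, Subgroup.coe_mul, coe_xw, map_neg, map_one]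
    rfl
  rw [Subgroup.coe_inv, hh, coe_xp, opr, ← MulAut.conj_apply, map_list_prod, List.map_map, opr]
  refine congrArg List.prod (List.map_congr_left fun j hj => ?_)
  rw [Function.comp_apply, MulAut.conj_apply,
    tor_conj_x hC _ _ _ (hC.simple_lt (O.J_lt b hb j hj))]
  congr 2
  rw [torChar, Finset.prod_filter, Units.coe_prod]
  refine Finset.prod_congr rfl fun i _ => ?_
  rw [hd i]
  split_ifs
  · rw [Units.val_zpow_eq_zpow_val]; rfl
  · rw [one_zpow, Units.val_one]

/-! ### Generation -/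

include hK hπ hO in
/-- The fixed group is generated by the orbit root subgroups. -/
theorem le_of_opr_mem (hdisj : ∀ a < O.k, ∀ b < O.k, ∀ i ∈ O.J a, i ∈ O.J b → a = b)
    (hfix : ∀ c : ℕ → Fˣ, tor D c ∈ Fx S →
      ∃ c' : ℕ → Fˣ, tor D c' = tor D c ∧ ∀ i < D.rank, (c' (S.π i) : F) = S.hom i (c' i : F))
    {M : Subgroup (GL D.Idx F)}
    (h : ∀ a < O.k, ∀ f, FixF S (O.J a) f →
      opr hC D.simple (O.J a) f ∈ M ∧ opr hC (fun i => D.neg (D.simple i)) (O.J a) f ∈ M) :
    K ≤ M := by
  intro g hg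
  have hM : GenData O (M ⊓ K) := genData_of_orth O hπ hO hdisj
    (fun x hx => hK.le hx.2)
    (fun a ha f hf => ⟨⟨(h a ha f hf).1, opr_mem_K O hK hπ hO (Or.inl rfl) ha hf⟩,
      (h a ha f hf).2, opr_mem_K O hK hπ hO (Or.inr rfl) ha hf⟩) hfix
  exact (Fx_le O hM (hK.le hg)).1

end Cfsg.Agent.Chevalley.Twist
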