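import Cfsg.Agent.Lib.Chevalley.Twist.AutFrame

/-!
An automorphism of a fixed group fixing both fixed unipotent groups permutes the orbit root
subgroups.
-/

set_option autoImplicit false

open scoped Matrix Pointwise

namespace Cfsg.Agent.Chevalley.Twist

open Cfsg.Lie Cfsg.Agent.Chevalley.Table Cfsg.Agent.Chevalley.Cert Cfsg.Agent.Chevalley.Group
  Cfsg.Agent.Chevalley.Weight Cfsg.Agent.Chevalley.Unip Cfsg.Agent.Chevalley.Borel
  Cfsg.Agent.Chevalley.Weyl Cfsg.Agent.Chevalley.Bruhat Cfsg.Agent.Chevalley.NormalForm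
  Cfsg.Agent.Chevalley.AutThm

variable {D : ChevalleyDatum} {F : Type*} [Field F] {T : Tab} {hC : Certified D T} {S : Tw hC F}
  (O : Orbits S) {K : Subgroup (GL D.Idx F)} (hK : GenData O K) {π : ℕ → ℕ} (hπ : S.π = π)
  (hO : ∀ a < O.k, Orth hC π (O.J a))

/-- The (B, N)-pair of a fixed group with orthogonal orbits. -/
noncomputable abbrev bnO : Cfsg.BNPair ↥K := bnK hK fun _ ha => exists_unip_ne O hπ hO ha

/-- The monomial element of an orbit, inside the fixed group. -/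
noncomputable def melK (a : ℕ) : K := ⟨mel hK a, mel_mem hK a⟩

/-- The minimal parabolic subgroup of an orbit. -/
noncomputable abbrev PK (a : ℕ) : Subgroup K := (bnO O hK hπ hO).parabolic {melK O hK a}

include hK hπ hO

theorem melK_mem_S {a : ℕ} (ha : a < O.k) : melK O hK a ∈ (bnO O hK hπ hO).S := ⟨a, ha, rfl⟩

theorem mem_bnB {g : K} :
    g ∈ (bnO O hK hπ hO).B ↔ (g : GL D.Idx F) ∈ D.borelSubgroup F :=
  ⟨fun h => h.1, fun h => ⟨h, g.2⟩⟩

theorem bnB_eq : (bnO O hK hπ hO).B = BKg D K :=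
  Subgroup.ext fun _ => mem_bnB O hK hπ hO

theorem nL_eq_mel {a : ℕ} (ha : a < O.k) :
    ∃ h : K, h ∈ (bnO O hK hπ hO).B ∧
      (⟨nL hC F (O.J a), nL_mem_K O hK hπ hO ha⟩ : K) = h * melK O hK a := by
  obtain ⟨c, hc⟩ := mel_eq hK ha
  refine ⟨⟨nL hC F (O.J a), nL_mem_K O hK hπ hO ha⟩ * (melK O hK a)⁻¹,
    (mem_bnB O hK hπ hO).2 ?_, by group⟩
  show nL hC F (O.J a) * (mel hK a)⁻¹ ∈ _
  rw [hc, mul_inv_rev, mul_inv_cancel_left]
  exact H_le_B (inv_mem (tor_mem_H hC _))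

/-- The negative orbit group is the conjugate of the positive one. -/
theorem map_nL_Xp {a : ℕ} (ha : a < O.k) :
    (Xs O hπ hO K false ha).map
        (MulAut.conj (⟨nL hC F (O.J a), nL_mem_K O hK hπ hO ha⟩ : K)).toMonoidHom =
      Xs O hπ hO K true ha := by
  have key : ∀ f, nL hC F (O.J a) * opr hC D.simple (O.J a) f * (nL hC F (O.J a))⁻¹ =
      opr hC (fun i => D.neg (D.simple i)) (O.J a) (-f) := by
    intro f
    rw [← onr_one (hC := hC), onr_mul_opr (hO a ha) _ f (fun _ _ => one_ne_zero) _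
      (orth_nodup (hO a ha)) fun _ h => h, mul_inv_cancel_right]
    congr 1
    funext i
    simp
  refine le_antisymm ?_ fun g hg => ?_
  · rintro _ ⟨g, ⟨f, hf, e⟩, rfl⟩
    refine ⟨-f, hf.neg, ?_⟩
    replace e : (g : GL D.Idx F) = opr hC D.simple (O.J a) f := e
    simp only [if_true, MulEquiv.coe_toMonoidHom, MulAut.conj_apply, Subgroup.coe_mul,
      Subgroup.coe_inv, e, key]
  · obtain ⟨f, hf, e⟩ := hg
    replace e : (g : GL D.Idx F) = opr hC (fun i => D.neg (D.simple i)) (O.J a) f := e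
    refine ⟨⟨_, opr_mem_K O hK hπ hO (Or.inl rfl) ha hf.neg⟩, ⟨-f, hf.neg, rfl⟩, Subtype.ext ?_⟩
    simp only [MulEquiv.coe_toMonoidHom, MulAut.conj_apply, Subgroup.coe_mul, Subgroup.coe_inv,
      e, key, neg_neg]

theorem card_Xn {a : ℕ} (ha : a < O.k) :
    Nat.card (Xs O hπ hO K true ha) = Nat.card (Xs O hπ hO K false ha) := by
  rw [← map_nL_Xp O hK hπ hO ha]
  exact (Nat.card_congr (Subgroup.equivMapOfInjective _ _ (MulEquiv.injective _)).toEquiv).symm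

theorem Xn_le_PK {a : ℕ} (ha : a < O.k) : Xs O hπ hO K true ha ≤ PK O hK hπ hO a := by
  rw [← map_nL_Xp O hK hπ hO ha]
  rintro _ ⟨g, hg, rfl⟩
  obtain ⟨h, hh, e⟩ := nL_eq_mel O hK hπ hO ha
  have hn : (⟨nL hC F (O.J a), nL_mem_K O hK hπ hO ha⟩ : K) ∈ PK O hK hπ hO a := by
    rw [e]
    exact mul_mem (BN.Parabolic.B_le_parabolic _ hh) (BN.Parabolic.mem_parabolic_of_mem rfl)
  have hg' : g ∈ PK O hK hπ hO a := BN.Parabolic.B_le_parabolic _
    ((mem_bnB O hK hπ hO).2 (Subgroup.mem_sup_left (Xp_le_U O hπ hO ha hg)))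
  exact mul_mem (mul_mem hn hg') (inv_mem hn)

theorem mem_Xp_of_Uminus {a : ℕ} (ha : a < O.k) {c : ℕ → Fˣ} {g : K}
    (h : (g : GL D.Idx F) ∈ Uminus D F (tor D c * nL hC F (O.J a))) :
    g ∈ Xs O hπ hO K false ha := by
  obtain ⟨f, hf, e⟩ := fixed_Uminus (hO a ha) hπ (hK.le g.2) h
  exact ⟨f, hf, e⟩

/-- The minimal parabolic meets the negative unipotent group in the orbit root subgroup. -/
theorem PK_inf_V [Finite F] {a : ℕ} (ha : a < O.k) :
    PK O hK hπ hO a ⊓ VK D K = Xs O hπ hO K true ha := by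
  classical
  have hle : Xs O hπ hO K true ha ≤ PK O hK hπ hO a ⊓ VK D K :=
    le_inf (Xn_le_PK O hK hπ hO ha) (Xn_le_V O hπ hO ha)
  let rep : Option (Xs O hπ hO K false ha) → K := fun o =>
    o.elim 1 fun x => (x : K) * melK O hK a
  have hcell : ∀ g ∈ PK O hK hπ hO a, ∃ o, (rep o)⁻¹ * g ∈ (bnO O hK hπ hO).B := by
    intro g hg
    have h := BN.Parabolic.parabolic_singleton
      (⟨melK O hK a, melK_mem_S O hK hπ hO ha⟩ : (bnO O hK hπ hO).S)
    have hg' : g ∈ ((bnO O hK hπ hO).B : Set K) ∪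
        BN.Basic.dc (bnO O hK hπ hO) (melK O hK a) := h ▸ hg
    rcases hg' with hg' | hg'
    · exact ⟨none, by simpa [rep] using hg'⟩
    obtain ⟨b, hb, b', hb', rfl⟩ := BN.Basic.mem_dc.1 hg'
    obtain ⟨v, hv, hvF, n, hn, hnF, u, hu, huF, e⟩ := fixed_form S (hK.le b.2)
    -- the monomial part of an element of the Borel subgroup is in the torus
    have hnB : n ∈ D.borelSubgroup F := by
      rw [show n = v⁻¹ * (b : GL D.Idx F) * u⁻¹ by rw [e]; group]
      exact mul_mem (mul_mem (inv_mem (Subgroup.mem_sup_left hv)) ((mem_bnB O hK hπ hO).1 hb))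
        (inv_mem (Subgroup.mem_sup_left (Uminus_le_U hC _ hu)))
    have hnH : n ∈ D.diagonalSubgroup F := mem_H_of_inf hC hnB hn
    obtain ⟨w, hwdef⟩ : ∃ w : GL D.Idx F, w = v * (n * u * n⁻¹) := ⟨_, rfl⟩
    have hwU : w ∈ D.posUnipotent F := hwdef ▸ mul_mem hv
      ((Subgroup.mem_normalizer_iff.1 (H_normalizes_U hC hnH) u).1 (Uminus_le_U hC _ hu))
    have hwF : w ∈ Fx S := hwdef ▸ mul_mem hvF (mul_mem (mul_mem hnF huF) (inv_mem hnF))
    obtain ⟨d, hd⟩ := mel_eq hK ha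
    obtain ⟨A, B, hAB, hAF, hBF, hAU, hA', hB⟩ :=
      split_fixed O ha (hd ▸ hK.le (mel_mem hK a)) (inv_mem hwU) (inv_mem hwF)
    rw [← hd] at hA'
    have hx : (⟨B⁻¹, Fx_le O hK (inv_mem hBF)⟩ : K) ∈ Xs O hπ hO K false ha :=
      mem_Xp_of_Uminus O hK hπ hO ha (c := d) (inv_mem hB)
    refine ⟨some ⟨_, hx⟩, (mem_bnB O hK hπ hO).2 ?_⟩
    show (B⁻¹ * mel hK a)⁻¹ * ((b : GL D.Idx F) * mel hK a * (b' : GL D.Idx F)) ∈ _
    have hb2 : (b : GL D.Idx F) = (A * B)⁻¹ * n := by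
      rw [← hAB, inv_inv, e, hwdef]; group
    rw [hb2, show (B⁻¹ * mel hK a)⁻¹ * ((A * B)⁻¹ * n * mel hK a * (b' : GL D.Idx F)) =
        (mel hK a * mel hK a)⁻¹ * (mel hK a * A⁻¹ * (mel hK a)⁻¹) * (mel hK a * mel hK a) *
          ((mel hK a)⁻¹ * n * mel hK a) * (b' : GL D.Idx F) by group]
    have hsq := mel_sq hK ha
    refine mul_mem (mul_mem (mul_mem (mul_mem (H_le_B (inv_mem hsq)) ?_) (H_le_B hsq))
      (H_le_B ?_)) ((mem_bnB O hK hπ hO).1 hb')
    · rw [← conj_inv]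
      exact inv_mem (Subgroup.mem_sup_left hA')
    · have := H_conj hC (inv_mem (mel_mem_N hK ha)) hnH
      rwa [inv_inv] at this
  choose f hf using hcell
  let f' : ↥(PK O hK hπ hO a ⊓ VK D K) → Option (Xs O hπ hO K false ha) := fun g => f g g.2.1
  have hinj : Function.Injective f' := by
    intro g g' hgg
    simp only [f'] at hgg
    have h1 := hf _ g.2.1
    have h2 := hf _ g'.2.1
    rw [hgg] at h1
    have h3 := mul_mem (inv_mem h1) h2
    rw [show ((rep (f _ g'.2.1))⁻¹ * (g : K))⁻¹ * ((rep (f _ g'.2.1))⁻¹ * g') =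
      (g : K)⁻¹ * g' by group] at h3
    have h4 : ((g : K)⁻¹ * g' : K) ∈ VK D K := mul_mem (inv_mem g.2.2) g'.2.2
    have h5 : (((g : K)⁻¹ * g' : K) : GL D.Idx F) ∈
        D.borelSubgroup F ⊓ D.negUnipotent F :=
      ⟨(mem_bnB O hK hπ hO).1 h3, Subgroup.mem_subgroupOf.1 h4⟩
    rw [B_inf_V hC, Subgroup.mem_bot] at h5
    exact Subtype.ext (inv_mul_eq_one.1 (Subtype.ext h5))
  have hb : Nat.card ↥(PK O hK hπ hO a ⊓ VK D K) ≤ Nat.card (Xs O hπ hO K false ha) + 1 := by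
    refine (Nat.card_le_card_of_injective f' hinj).trans (le_of_eq ?_)
    haveI := Fintype.ofFinite (Xs O hπ hO K false ha)
    rw [Nat.card_eq_fintype_card, Nat.card_eq_fintype_card, Fintype.card_option]
  have hd := Subgroup.card_dvd_of_le hle
  rw [card_Xn O hK hπ hO ha] at hd
  have h2 : 2 ≤ Nat.card (Xs O hπ hO K false ha) := by
    refine (Subgroup.one_lt_card_iff_ne_bot _).2 fun hbot => ?_
    have h1 : (⟨_, opr_mem_K O hK hπ hO (Or.inl rfl) ha (FixF.one _)⟩ : K) ∈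
        Xs O hπ hO K false ha := ⟨_, FixF.one _, rfl⟩
    rw [hbot, Subgroup.mem_bot] at h1
    have e' := congrArg Subtype.val h1
    simp only [OneMemClass.coe_one] at e'
    rw [← opr_zero (hC := hC) (rt := D.simple) (O.J a)] at e'
    obtain ⟨i, hi⟩ := List.exists_mem_of_ne_nil _ (O.ne a ha)
    exact one_ne_zero (opr_unique (hO a ha) e' i hi)
  refine (Subgroup.eq_of_le_of_card_ge hle ?_).symm
  rw [card_Xn O hK hπ hO ha]
  obtain ⟨k, hk⟩ := hd
  have hk1 : k ≤ 1 := by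
    by_contra hk2
    have : Nat.card (Xs O hπ hO K false ha) * 2 ≤ Nat.card (Xs O hπ hO K false ha) * k :=
      Nat.mul_le_mul_left _ (by omega)
    omega
  calc _ = Nat.card (Xs O hπ hO K false ha) * k := hk
    _ ≤ Nat.card (Xs O hπ hO K false ha) * 1 := Nat.mul_le_mul_left _ hk1
    _ = _ := mul_one _

theorem eq_of_melK_mem {a b : ℕ} (ha : a < O.k) (hb : b < O.k)
    (h : melK O hK b ∈ PK O hK hπ hO a) : b = a := by
  have h' := (BN.Parabolic.mem_iff_mem_parabolic (P := bnO O hK hπ hO)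
    (Set.singleton_subset_iff.2 (melK_mem_S O hK hπ hO ha)) (melK_mem_S O hK hπ hO hb)).1 h
  refine mel_inj hK hb ha ?_
  rw [show mel hK a = mel hK b from (congrArg Subtype.val (Set.mem_singleton_iff.1 h')).symm,
    inv_mul_cancel]
  exact one_mem _

theorem exists_melK_mem {M : Subgroup K} (hM : (bnO O hK hπ hO).B ≤ M)
    (hne : ¬ M ≤ (bnO O hK hπ hO).B) : ∃ b < O.k, melK O hK b ∈ M := by
  by_contra hcon
  refine hne ?_
  rw [BN.Parabolic.le_parabolic_mem hM]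
  refine sup_le le_rfl ((Subgroup.closure_le _).2 ?_)
  rintro s ⟨⟨b, hb, hs⟩, hsM⟩
  exact absurd ⟨b, hb, (show melK O hK b = s from Subtype.ext hs.symm) ▸ hsM⟩ hcon

/-- The negative orbit root subgroups are permuted. -/
theorem exists_neg_map [Finite F] {θ : K ≃* K}
    (hU : (UK D K).map θ.toMonoidHom = UK D K) (hV : (VK D K).map θ.toMonoidHom = VK D K)
    {a : ℕ} (ha : a < O.k) : ∃ b, ∃ hb : b < O.k,
      (Xs O hπ hO K true ha).map θ.toMonoidHom = Xs O hπ hO K true hb := by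
  have hB : (bnO O hK hπ hO).B.map θ.toMonoidHom = (bnO O hK hπ hO).B := by
    have := map_normalizer θ hU
    rwa [normalizer_UK O hK hπ hO, ← bnB_eq O hK hπ hO] at this
  obtain ⟨M, hM⟩ : ∃ M, M = (PK O hK hπ hO a).map θ.toMonoidHom := ⟨_, rfl⟩
  have hBM : (bnO O hK hπ hO).B ≤ M := by
    rw [hM, ← hB]
    exact Subgroup.map_mono (BN.Parabolic.B_le_parabolic _)
  have hnotB : ∀ {c : ℕ}, c < O.k → melK O hK c ∉ (bnO O hK hπ hO).B := fun {c} hc h =>
    (Set.notMem_empty _) ((BN.Parabolic.mem_iff_mem_parabolic (P := bnO O hK hπ hO)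
      (Set.empty_subset _) (melK_mem_S O hK hπ hO hc)).1 (BN.Parabolic.B_le_parabolic _ h))
  obtain ⟨b, hb, hbM⟩ := exists_melK_mem O hK hπ hO hBM fun hle => by
    have : θ (melK O hK a) ∈ (bnO O hK hπ hO).B :=
      hle (hM ▸ ⟨_, BN.Parabolic.mem_parabolic_of_mem rfl, rfl⟩)
    rw [← hB] at this
    obtain ⟨x, hx, hxe⟩ := this
    exact hnotB ha (by rwa [θ.injective hxe] at hx)
  have hPM : PK O hK hπ hO b ≤ M :=
    sup_le hBM ((Subgroup.closure_le _).2 (Set.singleton_subset_iff.2 hbM))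
  refine ⟨b, hb, ?_⟩
  suffices hmap : (PK O hK hπ hO a).map θ.toMonoidHom = PK O hK hπ hO b by
    rw [← PK_inf_V O hK hπ hO ha, ← PK_inf_V O hK hπ hO hb, Subgroup.map_inf _ _ _ θ.injective,
      hmap, hV]
  refine le_antisymm ?_ (hM ▸ hPM)
  obtain ⟨L, hL⟩ : ∃ L, L = (PK O hK hπ hO b).comap θ.toMonoidHom := ⟨_, rfl⟩
  have hBL : (bnO O hK hπ hO).B ≤ L := fun x hx => by
    rw [hL, Subgroup.mem_comap]
    exact BN.Parabolic.B_le_parabolic _ (hB ▸ ⟨x, hx, rfl⟩)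
  obtain ⟨c, hc, hcL⟩ := exists_melK_mem O hK hπ hO hBL fun hle => by
    obtain ⟨y, hy⟩ : ∃ y, θ y = melK O hK b := ⟨_, θ.apply_symm_apply _⟩
    have hyB : y ∈ (bnO O hK hπ hO).B := hle (by
      rw [hL, Subgroup.mem_comap]
      exact BN.Parabolic.mem_parabolic_of_mem hy)
    exact hnotB hb (hB ▸ ⟨y, hyB, hy⟩)
  have hLa : L ≤ PK O hK hπ hO a := fun x hx => by
    rw [hL, Subgroup.mem_comap] at hx
    have : θ x ∈ M := hPM hx
    rw [hM] at this
    obtain ⟨y, hy, hyx⟩ := this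
    rwa [← θ.injective hyx]
  obtain rfl := eq_of_melK_mem O hK hπ hO ha hc (hLa hcL)
  exact Subgroup.map_le_iff_le_comap.2
    (hL ▸ sup_le hBL ((Subgroup.closure_le _).2 (Set.singleton_subset_iff.2 hcL)))

/-- The top element reverses an orbit root subgroup. -/
theorem map_top_Xp [Finite F] {a : ℕ} (ha : a < O.k)
    (htop : ∀ i ∈ O.J a, ∃ i' ∈ O.J a,
      wL D (O.top.flatMap O.J) (D.simple i) = D.neg (D.simple i'))
    {n : K} {c : ℕ → Fˣ} (hn : (n : GL D.Idx F) = tor D c * nL hC F (O.top.flatMap O.J)) :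
    (Xs O hπ hO K false ha).map (MulAut.conj n).toMonoidHom = Xs O hπ hO K true ha := by
  refine Subgroup.eq_of_le_of_card_ge ?_ ?_
  swap
  · rw [card_Xn O hK hπ hO ha]
    exact (Nat.card_congr (Subgroup.equivMapOfInjective _ _ (MulEquiv.injective _)).toEquiv).le
  rintro _ ⟨g, ⟨f, -, e⟩, rfl⟩
  replace e : (g : GL D.Idx F) = opr hC D.simple (O.J a) f := e
  obtain ⟨m, hm⟩ : ∃ m : K, (m : GL D.Idx F) = nL hC F (O.J a) :=
    ⟨⟨_, nL_mem_K O hK hπ hO ha⟩, rfl⟩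
  have hsimple : ∀ i ∈ O.J a, ∀ t : F, ∃ j ∈ O.J a, ∃ u : F,
      (m : GL D.Idx F)⁻¹ * ((n : GL D.Idx F) * xg hC (D.simple i) t * (n : GL D.Idx F)⁻¹) * m =
        xg hC (D.simple j) u := by
    intro i hi t
    obtain ⟨i', hi', hw⟩ := htop i hi
    obtain ⟨η, -, hη⟩ := NormalForm.conj_xg (F := F) hC (top_longest O).1 c
      (hC.simple_lt (O.J_lt a ha i hi))
    obtain ⟨η', hη', e'⟩ := nL_conj_x (F := F) hC (O.J_lt a ha) (hC.simple_lt (O.J_lt a ha i' hi'))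
    refine ⟨i', hi', η'⁻¹ * (η * t), ?_⟩
    have h1 := e' (η'⁻¹ * (η * t))
    rw [wL_orbit (hO a ha) hi', mul_inv_cancel_left₀ hη', ← hw] at h1
    rw [hn, hη, ← h1, hm]
    group
  have hmem : (m⁻¹ * (n * g * n⁻¹) * m : K) ∈ Xs O hπ hO K false ha := by
    refine mem_Xp_of_Uminus O hK hπ hO ha (c := 1) ?_
    show ((m⁻¹ * (n * g * n⁻¹) * m : K) : GL D.Idx F) ∈ _
    simp only [Subgroup.coe_mul, Subgroup.coe_inv, e]
    have hconj : (m : GL D.Idx F)⁻¹ * ((n : GL D.Idx F) * opr hC D.simple (O.J a) f *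
        (n : GL D.Idx F)⁻¹) * m =
        MulAut.conj ((m : GL D.Idx F)⁻¹ * n) ((O.J a).map fun i => xg hC (D.simple i) (f i)).prod := by
      simp only [opr, MulAut.conj_apply]; group
    rw [hconj, map_list_prod]
    refine list_prod_mem fun x hx => ?_
    simp only [List.mem_map] at hx
    obtain ⟨_, ⟨i, hi, rfl⟩, rfl⟩ := hx
    obtain ⟨j, hj, u, hu⟩ := hsimple i hi (f i)
    rw [MulAut.conj_apply, show (m : GL D.Idx F)⁻¹ * n * xg hC (D.simple i) (f i) *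
      ((m : GL D.Idx F)⁻¹ * n)⁻¹ = xg hC (D.simple j) u by rw [← hu]; group,
      Uminus_eq hC (O.J_lt a ha) 1]
    have hjr := O.J_lt a ha j hj
    exact Subgroup.subset_closure ⟨D.simple j, u, (mem_invList hC).2
      ⟨hC.simple_lt hjr, hC.phi_simple hjr, O.neg_simple a ha j hj⟩, rfl⟩
  have h := map_nL_Xp O hK hπ hO ha
  rw [← h]
  refine ⟨_, hmem, ?_⟩
  rw [show (⟨nL hC F (O.J a), nL_mem_K O hK hπ hO ha⟩ : K) = m from Subtype.ext hm.symm]
  simp only [MulEquiv.coe_toMonoidHom, MulAut.conj_apply]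
  group

/-- An automorphism fixing both fixed unipotent groups permutes the positive and the negative
orbit root subgroups. -/
theorem exists_maps [Finite F]
    (htop : ∀ a < O.k, ∀ i ∈ O.J a, ∃ i' ∈ O.J a,
      wL D (O.top.flatMap O.J) (D.simple i) = D.neg (D.simple i'))
    {θ : K ≃* K} (hU : (UK D K).map θ.toMonoidHom = UK D K)
    (hV : (VK D K).map θ.toMonoidHom = VK D K) {a : ℕ} (ha : a < O.k) :
    (∃ b, ∃ hb : b < O.k,
      (Xs O hπ hO K true ha).map θ.toMonoidHom = Xs O hπ hO K true hb) ∧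
    ∃ b, ∃ hb : b < O.k,
      (Xs O hπ hO K false ha).map θ.toMonoidHom = Xs O hπ hO K false hb := by
  refine ⟨exists_neg_map O hK hπ hO hU hV ha, ?_⟩
  obtain ⟨n, c, hn⟩ := exists_top O hK
  obtain ⟨hn1, hn2⟩ := longest_map_K hC (top_longest O) hn
  let ψ : K ≃* K := ((MulAut.conj n⁻¹).trans θ).trans (MulAut.conj n)
  have hψ : ∀ A : Subgroup K, A.map ψ.toMonoidHom =
      ((A.map (MulAut.conj n⁻¹).toMonoidHom).map θ.toMonoidHom).map (MulAut.conj n).toMonoidHom :=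
    fun A => by rw [Subgroup.map_map, Subgroup.map_map]; rfl
  obtain ⟨b, hb, h⟩ := exists_neg_map O hK hπ hO (θ := ψ)
    (by rw [hψ, AutThm.conj_map_inv hn2, hV, hn2]) (by rw [hψ, AutThm.conj_map_inv hn1, hU, hn1]) ha
  refine ⟨b, hb, Subgroup.map_injective (f := (MulAut.conj n).toMonoidHom) (MulEquiv.injective _) ?_⟩
  show ((Xs O hπ hO K false ha).map θ.toMonoidHom).map (MulAut.conj n).toMonoidHom =
    (Xs O hπ hO K false hb).map (MulAut.conj n).toMonoidHom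
  rw [map_top_Xp O hK hπ hO hb (htop b hb) hn, ← h, hψ,
    AutThm.conj_map_inv (map_top_Xp O hK hπ hO ha (htop a ha) hn)]

end Cfsg.Agent.Chevalley.Twist
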