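import Cfsg.Agent.Lib.Chevalley.GraphAut
import Cfsg.Agent.Lib.Chevalley.NormalForm

/-!
An endomorphism of a Chevalley group permuting the root subgroups, and its fixed group.
-/

set_option autoImplicit false

open scoped Matrix

namespace Cfsg.Agent.Chevalley.Twist

open Cfsg.Lie Cfsg.Agent.Chevalley.Table Cfsg.Agent.Chevalley.Cert Cfsg.Agent.Chevalley.Group
  Cfsg.Agent.Chevalley.Weight Cfsg.Agent.Chevalley.Unip Cfsg.Agent.Chevalley.Borel
  Cfsg.Agent.Chevalley.Weyl Cfsg.Agent.Chevalley.Bruhat Cfsg.Agent.Chevalley.NormalForm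

variable {D : ChevalleyDatum} {F : Type*} [Field F] {T : Tab}

/-- An endomorphism `x_r(t) ↦ x_{ρ r}(act_r t)` that on the fundamental roots follows `π`. -/
structure Tw (hC : Certified D T) (F : Type*) [Field F] where
  sig : D.group F →* D.group F
  sig_inj : Function.Injective sig
  ρ : ℕ → ℕ
  π : ℕ → ℕ
  hom : ℕ → F →+* F
  act : ℕ → F → F
  ρ_lt : ∀ r < D.nroots, ρ r < D.nroots
  π_lt : ∀ i < D.rank, π i < D.rank
  ρ_simple : ∀ i < D.rank, ρ (D.simple i) = D.simple (π i)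
  ρ_neg_simple : ∀ i < D.rank, ρ (D.neg (D.simple i)) = D.neg (D.simple (π i))
  sig_x : ∀ r, ∀ hr : r < D.nroots, ∀ t : F,
    ((sig ⟨xg hC r t, xg_mem_group hC hr t⟩ : D.group F) : GL D.Idx F) = xg hC (ρ r) (act r t)
  act_simple : ∀ i < D.rank, ∀ t, act (D.simple i) t = hom i t
  act_neg_simple : ∀ i < D.rank, ∀ t, act (D.neg (D.simple i)) t = hom i t
  act_surj : ∀ r < D.nroots, Function.Surjective (act r)

variable {hC : Certified D T} (S : Tw hC F)

/-- `g'` is the image of `g`. -/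
def Img (g g' : GL D.Idx F) : Prop :=
  ∃ h : g ∈ D.group F, ((S.sig ⟨g, h⟩ : D.group F) : GL D.Idx F) = g'

namespace Img

variable {S}

theorem mem {g g' : GL D.Idx F} (h : Img S g g') : g ∈ D.group F := h.1

theorem mem' {g g' : GL D.Idx F} (h : Img S g g') : g' ∈ D.group F := h.2 ▸ (S.sig _).2

theorem unique {g a b : GL D.Idx F} (h : Img S g a) (h' : Img S g b) : a = b := h.2.symm.trans h'.2

theorem injective {a b g' : GL D.Idx F} (h : Img S a g') (h' : Img S b g') : a = b :=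
  congrArg Subtype.val (S.sig_inj (Subtype.ext (h.2.trans h'.2.symm)))

theorem one : Img S (1 : GL D.Idx F) 1 :=
  ⟨one_mem _, by rw [show (⟨1, one_mem _⟩ : D.group F) = 1 from rfl, map_one, Subgroup.coe_one]⟩

theorem mul {g g' k k' : GL D.Idx F} (h : Img S g g') (h' : Img S k k') : Img S (g * k) (g' * k') :=
  ⟨mul_mem h.1 h'.1, by
    rw [show (⟨g * k, mul_mem h.1 h'.1⟩ : D.group F) = ⟨g, h.1⟩ * ⟨k, h'.1⟩ from rfl, map_mul,
      Subgroup.coe_mul, h.2, h'.2]⟩

theorem inv {g g' : GL D.Idx F} (h : Img S g g') : Img S g⁻¹ g'⁻¹ :=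
  ⟨inv_mem h.1, by
    rw [show (⟨g⁻¹, inv_mem h.1⟩ : D.group F) = ⟨g, h.1⟩⁻¹ from rfl, map_inv, Subgroup.coe_inv, h.2]⟩

theorem exists_of_mem {g : GL D.Idx F} (h : g ∈ D.group F) : ∃ g', Img S g g' := ⟨_, h, rfl⟩

theorem closure {A B : Set (GL D.Idx F)}
    (hAB : ∀ x ∈ A, ∃ y ∈ Subgroup.closure B, Img S x y) {g g' : GL D.Idx F}
    (hg : g ∈ Subgroup.closure A) (h : Img S g g') : g' ∈ Subgroup.closure B := by
  suffices key : ∃ y ∈ Subgroup.closure B, Img S g y by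
    obtain ⟨y, hy, hy'⟩ := key
    rwa [h.unique hy']
  clear h
  induction hg using Subgroup.closure_induction with
  | mem x hx => exact hAB x hx
  | one => exact ⟨1, one_mem _, one⟩
  | mul x y _ _ hx hy =>
    obtain ⟨a, ha, hxa⟩ := hx
    obtain ⟨b, hb, hyb⟩ := hy
    exact ⟨_, mul_mem ha hb, hxa.mul hyb⟩
  | inv x _ hx =>
    obtain ⟨a, ha, hxa⟩ := hx
    exact ⟨_, inv_mem ha, hxa.inv⟩

end Img

theorem img_xg {r : ℕ} (hr : r < D.nroots) (t : F) :
    Img S (xg hC r t) (xg hC (S.ρ r) (S.act r t)) :=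
  ⟨xg_mem_group hC hr t, S.sig_x r hr t⟩

theorem act_add {r : ℕ} (hr : r < D.nroots) (t u : F) :
    S.act r (t + u) = S.act r t + S.act r u := by
  have h := img_xg S hr (t + u)
  rw [xg_add hC] at h
  have h2 := h.unique ((img_xg S hr t).mul (img_xg S hr u))
  rw [← xg_add hC] at h2
  exact xg_injective hC (S.ρ_lt r hr) h2

theorem act_zero {r : ℕ} (hr : r < D.nroots) : S.act r 0 = 0 := by
  have h := act_add S hr 0 0
  rw [add_zero] at h
  exact (add_eq_left.1 h.symm)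

theorem act_inj {r : ℕ} (hr : r < D.nroots) : Function.Injective (S.act r) := fun t u h => by
  have h2 := img_xg S hr u
  rw [← h] at h2
  exact xg_injective hC hr ((img_xg S hr t).injective h2)

theorem act_ne_zero {r : ℕ} (hr : r < D.nroots) {t : F} (ht : t ≠ 0) : S.act r t ≠ 0 :=
  fun h => ht (act_inj S hr (h.trans (act_zero S hr).symm))

theorem ρ_inj {r s : ℕ} (hr : r < D.nroots) (hs : s < D.nroots) (h : S.ρ r = S.ρ s) : r = s := by
  obtain ⟨t, ht⟩ := S.act_surj s hs (S.act r 1)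
  have h1 := img_xg S hs t
  rw [ht, ← h] at h1
  exact xg_eq_xg hC hr hs one_ne_zero ((img_xg S hr 1).injective h1)

theorem img_ng_simple {i : ℕ} (hi : i < D.rank) (c : F) :
    Img S (ng hC (D.simple i) c) (ng hC (D.simple (S.π i)) (S.hom i c)) := by
  have hp := hC.simple_lt hi
  have h1 := img_xg S hp c
  have h2 := img_xg S (hC.neg_lt hp) (-c⁻¹)
  rw [S.ρ_simple i hi, S.act_simple i hi] at h1
  rw [S.ρ_neg_simple i hi, S.act_neg_simple i hi, map_neg, map_inv₀] at h2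
  exact (h1.mul h2).mul h1

theorem img_n1 {i : ℕ} (hi : i < D.rank) :
    Img S (ng hC (D.simple i) (1 : F)) (ng hC (D.simple (S.π i)) 1) := by
  have h := img_ng_simple S hi 1
  rwa [map_one] at h

theorem ρ_reflect {i r : ℕ} (hi : i < D.rank) (hr : r < D.nroots) :
    S.ρ (D.reflectRoot i r) = D.reflectRoot (S.π i) (S.ρ r) := by
  obtain ⟨η, hη, he⟩ := eta_field (F := F) (i := i) (r := r) hC
  obtain ⟨η', hη', he'⟩ := eta_field (F := F) (i := S.π i) (r := S.ρ r) hC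
  have h1 := ((img_n1 S hi).mul (img_xg S hr 1)).mul (img_n1 S hi).inv
  rw [ng_conj_x hC hi hr, ← he, mul_one, ng_conj_x hC (S.π_lt i hi) (S.ρ_lt r hr), ← he'] at h1
  exact xg_eq_xg hC (S.ρ_lt _ (hC.reflect_lt hi hr))
    (hC.reflect_lt (S.π_lt i hi) (S.ρ_lt r hr))
    (act_ne_zero S (hC.reflect_lt hi hr) hη) ((img_xg S (hC.reflect_lt hi hr) η).unique h1)

theorem ρ_pos : ∀ r, r < D.nroots → 0 < T.phi r → 0 < T.phi (S.ρ r) := by
  intro r
  induction r using Nat.strong_induction_on with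
  | _ r ih =>
    intro hr hp
    obtain ⟨i, hi, h | h⟩ := hC.descent hr hp
    · rw [h, S.ρ_simple i hi]; exact hC.phi_simple (S.π_lt i hi)
    · by_cases hri : r = D.simple i
      · rw [hri, S.ρ_simple i hi]; exact hC.phi_simple (S.π_lt i hi)
      have hr' := hC.reflect_lt hi hr
      have h0 := hC.phi_reflect hi hr
      have h0' := mul_pos h (hC.phi_simple hi)
      have hlt := (hC.phi_lt_iff hr' hr).1 (by omega)
      have hp' := hC.reflect_pos hi hr hri hp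
      have h1 := ih _ hlt hr' hp'
      have h2 := ρ_reflect S hi hr'
      rw [hC.reflect_reflect hi hr] at h2
      rw [h2]
      refine hC.reflect_pos (S.π_lt i hi) (S.ρ_lt _ hr') (fun e => ?_) h1
      rw [← S.ρ_simple i hi] at e
      have h3 := congrArg (D.reflectRoot i) (ρ_inj S hr' (hC.simple_lt hi) e)
      rw [hC.reflect_reflect hi hr, hC.reflect_simple hi] at h3
      rw [h3, hC.phi_neg (hC.simple_lt hi)] at hp
      have := hC.phi_simple hi
      omega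

theorem ρ_wL {L : List ℕ} (hL : ∀ i ∈ L, i < D.rank) {r : ℕ} (hr : r < D.nroots) :
    S.ρ (wL D L r) = wL D (L.map S.π) (S.ρ r) := by
  induction L with
  | nil => rfl
  | cons i L ih =>
    have hL' : ∀ j ∈ L, j < D.rank := fun j hj => hL j (List.mem_cons_of_mem i hj)
    show S.ρ (D.reflectRoot i (wL D L r)) = D.reflectRoot (S.π i) (wL D (L.map S.π) (S.ρ r))
    rw [ρ_reflect S (hL i List.mem_cons_self) (wL_lt hC hL' hr), ih hL']

theorem π_map_lt {L : List ℕ} (hL : ∀ i ∈ L, i < D.rank) : ∀ i ∈ L.map S.π, i < D.rank := by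
  intro i hi
  obtain ⟨j, hj, rfl⟩ := List.mem_map.1 hi
  exact S.π_lt j (hL j hj)

theorem ρ_neg : ∀ r < D.nroots, S.ρ (D.neg r) = D.neg (S.ρ r) := by
  refine Root.simple_induction hC (fun i hi => ?_) fun r hr i hi ih => ?_
  · rw [S.ρ_neg_simple i hi, S.ρ_simple i hi]
  · rw [← hC.reflect_neg hi hr, ρ_reflect S hi (hC.neg_lt hr), ih, ρ_reflect S hi hr,
      hC.reflect_neg (S.π_lt i hi) (S.ρ_lt r hr)]

theorem ρ_pos_iff {r : ℕ} (hr : r < D.nroots) : 0 < T.phi (S.ρ r) ↔ 0 < T.phi r := by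
  refine ⟨fun h => ?_, ρ_pos S r hr⟩
  by_contra hn
  have h1 := ρ_pos S (D.neg r) (hC.neg_lt hr)
    (by have := hC.phi_ne_zero hr; rw [hC.phi_neg hr]; omega)
  rw [ρ_neg S r hr, hC.phi_neg (S.ρ_lt r hr)] at h1
  omega

theorem ρ_neg_iff {r : ℕ} (hr : r < D.nroots) : T.phi (S.ρ r) < 0 ↔ T.phi r < 0 := by
  have := hC.phi_ne_zero hr
  have := hC.phi_ne_zero (S.ρ_lt r hr)
  have := ρ_pos_iff S hr
  omega

theorem ρ_surj {k : ℕ} (hk : k < D.nroots) : ∃ r < D.nroots, S.ρ r = k := by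
  classical
  have hinj : Set.InjOn S.ρ (Finset.range D.nroots : Set ℕ) := fun a ha b hb h =>
    ρ_inj S (Finset.mem_range.1 ha) (Finset.mem_range.1 hb) h
  have h := Finset.surj_on_of_inj_on_of_card_le (s := Finset.range D.nroots)
    (t := Finset.range D.nroots) (fun a _ => S.ρ a)
    (fun a ha => Finset.mem_range.2 (S.ρ_lt a (Finset.mem_range.1 ha)))
    (fun a b ha hb h => hinj ha hb h) le_rfl k (Finset.mem_range.2 hk)
  obtain ⟨a, ha, rfl⟩ := h
  exact ⟨a, Finset.mem_range.1 ha, rfl⟩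

theorem img_nL {L : List ℕ} (hL : ∀ i ∈ L, i < D.rank) :
    Img S (nL hC F L) (nL hC F (L.map S.π)) := by
  induction L with
  | nil => simpa [nL] using Img.one (S := S)
  | cons i L ih =>
    rw [List.map_cons, nL_cons, nL_cons]
    exact (img_n1 S (hL i List.mem_cons_self)).mul (ih fun j hj => hL j (List.mem_cons_of_mem i hj))

theorem img_H {h h' : GL D.Idx F} (hh : h ∈ D.diagonalSubgroup F) (hi : Img S h h') :
    h' ∈ D.diagonalSubgroup F := by
  obtain ⟨c, rfl⟩ := (mem_H_iff hC).1 hh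
  rw [tor_eq_prod hC] at hi
  suffices key : ∀ l : List ℕ, (∀ i ∈ l, i < D.rank) → ∀ h',
      Img S ((l.map fun i => hg hC (D.simple i) (c i : F)).prod) h' →
      h' ∈ D.diagonalSubgroup F from key _ (fun i hi => List.mem_range.1 hi) h' hi
  intro l
  induction l with
  | nil =>
    intro _ h' hi
    rw [List.map_nil, List.prod_nil] at hi
    rw [hi.unique Img.one]; exact one_mem _
  | cons i l ih =>
    intro hl h' hi
    have hil := hl i List.mem_cons_self
    rw [List.map_cons, List.prod_cons] at hi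
    obtain ⟨b, hb⟩ := Img.exists_of_mem (S := S) (g := (l.map fun i => hg hC (D.simple i) (c i : F)).prod)
      (list_prod_mem fun x hx => by
        obtain ⟨j, hj, rfl⟩ := List.mem_map.1 hx
        exact mul_mem (ng_mem_group hC (hC.simple_lt (hl j (List.mem_cons_of_mem i hj))) _)
          (ng_mem_group hC (hC.simple_lt (hl j (List.mem_cons_of_mem i hj))) _))
    have h1 : Img S (hg hC (D.simple i) (c i : F)) (hg hC (D.simple (S.π i)) (S.hom i (c i : F))) := by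
      have := (img_ng_simple S hil (c i : F)).mul (img_ng_simple S hil (-1))
      rwa [map_neg, map_one] at this
    rw [hi.unique (h1.mul hb)]
    refine mul_mem ?_ (ih (fun j hj => hl j (List.mem_cons_of_mem i hj)) b hb)
    have hne : S.hom i (c i : F) ≠ 0 := (map_ne_zero _).2 (c i).ne_zero
    rw [show S.hom i (c i : F) = ((Units.mk0 _ hne : Fˣ) : F) from rfl,
      hg_eq_tor hC (hC.simple_lt (S.π_lt i hil))]
    exact tor_mem_H hC _

theorem img_U {u u' : GL D.Idx F} (hu : u ∈ D.posUnipotent F) (h : Img S u u') :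
    u' ∈ D.posUnipotent F := by
  rw [U_eq_closure hC] at hu ⊢
  refine Img.closure (fun x hx => ?_) hu h
  obtain ⟨r, t, hr, hp, rfl⟩ := hx
  exact ⟨_, Subgroup.subset_closure ⟨_, _, S.ρ_lt r hr, ρ_pos S r hr hp, rfl⟩, img_xg S hr t⟩

theorem img_V {u u' : GL D.Idx F} (hu : u ∈ D.negUnipotent F) (h : Img S u u') :
    u' ∈ D.negUnipotent F := by
  rw [V_eq_closure hC] at hu ⊢
  refine Img.closure (fun x hx => ?_) hu h
  obtain ⟨r, t, hr, hp, rfl⟩ := hx
  exact ⟨_, Subgroup.subset_closure ⟨_, _, S.ρ_lt r hr, (ρ_neg_iff S hr).2 hp, rfl⟩, img_xg S hr t⟩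

theorem img_B {u u' : GL D.Idx F} (hu : u ∈ D.borelSubgroup F) (h : Img S u u') :
    u' ∈ D.borelSubgroup F := by
  obtain ⟨v, hv, k, hk, rfl⟩ := (mem_B_iff hC).1 hu
  obtain ⟨v', hv'⟩ := Img.exists_of_mem (S := S) (B_le_group hC (Subgroup.mem_sup_left hv))
  obtain ⟨k', hk'⟩ := Img.exists_of_mem (S := S) (H_le_group hC hk)
  rw [h.unique (hv'.mul hk')]
  exact mul_mem (Subgroup.mem_sup_left (img_U S hv hv')) (Subgroup.mem_sup_right (img_H S hk hk'))

theorem img_N {n n' : GL D.Idx F} (hn : n ∈ D.monomialSubgroup F) (h : Img S n n') :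
    n' ∈ D.monomialSubgroup F := by
  obtain ⟨c, L, hL, rfl⟩ := (mem_N_iff hC).1 hn
  obtain ⟨k', hk'⟩ := Img.exists_of_mem (S := S) (H_le_group hC (tor_mem_H (F := F) hC c))
  rw [h.unique (hk'.mul (img_nL S hL))]
  exact mul_mem (Subgroup.mem_sup_left (img_H S (tor_mem_H hC c) hk'))
    (nL_mem_N hC (π_map_lt S hL))

/-- The fixed group. -/
def Fx : Subgroup (GL D.Idx F) where
  carrier := {g | Img S g g}
  one_mem' := Img.one
  mul_mem' := fun ha hb => ha.mul hb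
  inv_mem' := fun ha => ha.inv

theorem mem_Fx {g : GL D.Idx F} : g ∈ Fx S ↔ Img S g g := Iff.rfl

theorem Fx_le_group : Fx S ≤ D.group F := fun _ hg => Img.mem hg

/-- The subgroup of `U` that `m` sends into `V`. -/
theorem mem_Uminus_iff (hC : Certified D T) {m u : GL D.Idx F} (hm : m ∈ D.monomialSubgroup F) :
    u ∈ Uminus D F m ↔ u ∈ D.posUnipotent F ∧ m * u * m⁻¹ ∈ D.negUnipotent F := by
  refine ⟨fun h => ⟨Uminus_le_U hC m h, conj_Uminus hC h⟩, fun ⟨hu, hv⟩ => ?_⟩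
  obtain ⟨c, L, hL, rfl⟩ := (mem_N_iff hC).1 hm
  obtain ⟨v, w, hvU, hw, rfl⟩ := U_decomp hC hL c hu
  have h1 : tor D c * nL hC F L * v * (tor D c * nL hC F L)⁻¹ ∈ D.negUnipotent F := by
    rw [show tor D c * nL hC F L * v * (tor D c * nL hC F L)⁻¹ =
      tor D c * nL hC F L * (v * w) * (tor D c * nL hC F L)⁻¹ *
        (tor D c * nL hC F L * w * (tor D c * nL hC F L)⁻¹)⁻¹ by group]
    exact mul_mem hv (inv_mem (conj_Uminus hC hw))
  have h2 := U_inf_V hC hvU h1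
  rw [mul_inv_eq_one] at h2
  rw [mul_eq_left.1 h2, one_mul]
  exact hw

/-- A fixed element has fixed Bruhat components. -/
theorem fixed_form {g : GL D.Idx F} (hg : g ∈ Fx S) :
    ∃ v ∈ D.posUnipotent F, v ∈ Fx S ∧ ∃ n ∈ D.monomialSubgroup F, n ∈ Fx S ∧
      ∃ u ∈ Uminus D F n, u ∈ Fx S ∧ g = v * n * u := by
  obtain ⟨b, hb, n₀, hn₀, u, hu, rfl⟩ := exists_form hC (Fx_le_group S hg)
  obtain ⟨v, hv, k, hk, rfl⟩ := (mem_B_iff hC).1 hb
  obtain ⟨n, hn_def⟩ : ∃ n, n = k * n₀ := ⟨_, rfl⟩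
  have hn : n ∈ D.monomialSubgroup F := hn_def ▸ mul_mem (Subgroup.mem_sup_left hk) hn₀
  have hun : u ∈ Uminus D F n := by
    obtain ⟨h1, h2⟩ := (mem_Uminus_iff hC hn₀).1 hu
    refine (mem_Uminus_iff hC hn).2 ⟨h1, ?_⟩
    have := (Subgroup.mem_normalizer_iff.1 (H_normalizes_V hC hk) _).1 h2
    rw [hn_def]
    simpa [mul_assoc] using this
  rw [show v * k * n₀ * u = v * n * u by rw [hn_def]; group] at hg ⊢
  clear hu hn_def hn₀ hb
  have hUB : D.posUnipotent F ≤ D.borelSubgroup F := le_sup_left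
  obtain ⟨v', hv'⟩ := Img.exists_of_mem (S := S) (B_le_group hC (hUB hv))
  obtain ⟨n', hn'⟩ := Img.exists_of_mem (S := S) (N_le_group hC hn)
  obtain ⟨u', hu'⟩ := Img.exists_of_mem (S := S) (B_le_group hC (hUB (Uminus_le_U hC n hun)))
  have e : v' * n' * u' = v * n * u := ((hv'.mul hn').mul hu').unique hg
  have hv'U := img_U S hv hv'
  have hn'N := img_N S hn hn'
  have hu'M : u' ∈ Uminus D F n' := by
    obtain ⟨h1, h2⟩ := (mem_Uminus_iff hC hn).1 hun
    refine (mem_Uminus_iff hC hn'N).2 ⟨img_U S h1 hu', ?_⟩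
    exact img_V S h2 ((hn'.mul hu').mul hn'.inv)
  obtain ⟨h0, -⟩ := unique_form hC (hUB hv'U) (hUB hv) hn'N hn hu'M hun e
  obtain ⟨d, hd_def⟩ : ∃ d, d = n * n'⁻¹ := ⟨_, rfl⟩
  have hd : d ∈ D.diagonalSubgroup F := by
    rw [hd_def, show n * n'⁻¹ = n' * (n'⁻¹ * n) * n'⁻¹ by group]
    exact H_conj hC hn'N h0
  have hu'M2 : u' ∈ Uminus D F n := by
    obtain ⟨h1, h2⟩ := (mem_Uminus_iff hC hn'N).1 hu'M
    refine (mem_Uminus_iff hC hn).2 ⟨h1, ?_⟩
    have := (Subgroup.mem_normalizer_iff.1 (H_normalizes_V hC hd) _).1 h2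
    simpa [hd_def, mul_assoc] using this
  have e2 : v' * d⁻¹ * n * u' = v * n * u := by rw [← e, hd_def]; group
  obtain ⟨hb1, hu1⟩ := (unique_form hC (mul_mem (hUB hv'U) (Subgroup.mem_sup_right (inv_mem hd)))
    (hUB hv) hn hn hu'M2 hun e2).2 rfl
  have hd1 : d⁻¹ ∈ (⊥ : Subgroup (GL D.Idx F)) := by
    rw [← U_inf_H (F := F) hC, Subgroup.mem_inf]
    refine ⟨?_, inv_mem hd⟩
    rw [show d⁻¹ = v'⁻¹ * v by rw [← hb1]; group]
    exact mul_mem (inv_mem hv'U) hv
  rw [Subgroup.mem_bot, inv_eq_one] at hd1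
  rw [hd1, inv_one, mul_one] at hb1
  rw [hd1] at hd_def
  have hnn : n' = n := (mul_inv_eq_one.1 hd_def.symm).symm
  subst hb1 hu1 hnn
  exact ⟨v', hv, hv', n', hn, hn', u', hun, hu', rfl⟩

/-- Fixed monomial elements commute with `ρ` on the roots. -/
theorem fixed_equivariant {c : ℕ → Fˣ} {L : List ℕ} (hL : ∀ i ∈ L, i < D.rank)
    (h : tor D c * nL hC F L ∈ Fx S) {r : ℕ} (hr : r < D.nroots) :
    wL D L (S.ρ r) = S.ρ (wL D L r) := by
  obtain ⟨η, hη, e⟩ := conj_xg (F := F) hC hL c hr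
  obtain ⟨η', hη', e'⟩ := conj_xg (F := F) hC hL c (S.ρ_lt r hr)
  have h1 := ((mem_Fx S).1 h).mul (img_xg S hr 1) |>.mul ((mem_Fx S).1 h).inv
  rw [e, e'] at h1
  have hw := wL_lt hC hL hr
  exact (xg_eq_xg hC (S.ρ_lt _ hw) (wL_lt hC hL (S.ρ_lt r hr))
    (act_ne_zero S hw (mul_ne_zero hη one_ne_zero)) ((img_xg S hw _).unique h1)).symm

end Cfsg.Agent.Chevalley.Twist
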