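import Cfsg.Agent.Lib.Chevalley.Twist.Wild

/-!
Relations in characteristic two: signs disappear.
-/

set_option autoImplicit false

open scoped Matrix

namespace Cfsg.Agent.Chevalley.Twist.CharTwo

open Cfsg.Lie Cfsg.Agent.Chevalley.Table Cfsg.Agent.Chevalley.Check Cfsg.Agent.Chevalley.Cert
  Cfsg.Agent.Chevalley.Group Cfsg.Agent.Chevalley.Unip Cfsg.Agent.Chevalley.Borel
  Cfsg.Agent.Chevalley.Perfect Cfsg.Agent.Chevalley.Weyl Cfsg.Agent.Chevalley.Bruhat

variable {D : ChevalleyDatum} {F : Type*} [Field F] [CharP F 2] {T : Tab} {hC : Certified D T}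

theorem neg_eq (x : F) : -x = x := _root_.CharTwo.neg_eq x

theorem cast_unit {z : ℤ} (h : isUnit1 z = true) : (z : F) = 1 := by
  rcases Int.natAbs_eq_iff.1 (Nat.eq_of_beq_eq_true h) with e | e <;> simp [e, neg_eq]

theorem eta_one (i r : ℕ) : (T.eta i r : F) = 1 := by
  rcases Certified.eta_cases (T := T) i r with e | e <;> simp [e, neg_eq]

theorem xg_inv_self (r : ℕ) (t : F) : (xg hC r t)⁻¹ = xg hC r t := by rw [xg_inv hC, neg_eq]

theorem xg_sq (r : ℕ) (t : F) : xg hC r t * xg hC r t = 1 := by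
  rw [← xg_add hC, _root_.CharTwo.add_self_eq_zero, xg_zero hC]

theorem ng_inv_self (r : ℕ) (t : F) : (ng hC r t)⁻¹ = ng hC r t := by rw [ng_inv hC, neg_eq]

theorem ng_sq_one (r : ℕ) (t : F) : ng hC r t * ng hC r t = 1 := by
  conv_lhs => arg 2; rw [← ng_inv_self (hC := hC) r t]
  exact mul_inv_cancel _

/-- A negative root element through its reflection. -/
theorem xg_neg_eq (r : ℕ) : xg hC (D.neg r) (1 : F) = xg hC r 1 * ng hC r 1 * xg hC r 1 := by
  rw [ng, inv_one, neg_eq]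
  calc xg hC (D.neg r) (1 : F)
      = xg hC r 1 * xg hC r 1 * xg hC (D.neg r) 1 * (xg hC r 1 * xg hC r 1) := by
        rw [xg_sq]; simp
    _ = _ := by group

theorem nL_conj {L : List ℕ} (hL : ∀ i ∈ L, i < D.rank) {r : ℕ} (hr : r < D.nroots) (t : F) :
    nL hC F L * xg hC r t * (nL hC F L)⁻¹ = xg hC (wL D L r) t := by
  induction L with
  | nil => simp [nL, wL]
  | cons i L ih =>
    have hL' : ∀ j ∈ L, j < D.rank := fun j hj => hL j (List.mem_cons_of_mem i hj)
    rw [nL_cons, mul_inv_rev]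
    calc _ = ng hC (D.simple i) 1 * (nL hC F L * xg hC r t * (nL hC F L)⁻¹) *
          (ng hC (D.simple i) (1 : F))⁻¹ := by simp only [mul_assoc]
      _ = _ := by
        rw [ih hL', ng_conj_x hC (hL i List.mem_cons_self) (wL_lt hC hL' hr), eta_one, one_mul]
        rfl

/-- A monomial element moves past a root element. -/
theorem nL_mul_xg {L : List ℕ} (hL : ∀ i ∈ L, i < D.rank) {r s : ℕ} (hr : r < D.nroots)
    (hs : wL D L r = s) (t : F) : nL hC F L * xg hC r t = xg hC s t * nL hC F L := by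
  rw [← hs, ← nL_conj (hC := hC) hL hr t, inv_mul_cancel_right]

theorem nL_conj_ng {L : List ℕ} (hL : ∀ i ∈ L, i < D.rank) {r : ℕ} (hr : r < D.nroots) (t : F) :
    nL hC F L * ng hC r t * (nL hC F L)⁻¹ = ng hC (wL D L r) t := by
  induction L with
  | nil => simp [nL, wL]
  | cons i L ih =>
    have hL' : ∀ j ∈ L, j < D.rank := fun j hj => hL j (List.mem_cons_of_mem i hj)
    rw [nL_cons, mul_inv_rev]
    calc _ = ng hC (D.simple i) 1 * (nL hC F L * ng hC r t * (nL hC F L)⁻¹) *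
          (ng hC (D.simple i) (1 : F))⁻¹ := by simp only [mul_assoc]
      _ = _ := by
        rw [ih hL', ng_conj_ng hC (hL i List.mem_cons_self) (wL_lt hC hL' hr), eta_one, one_mul]
        rfl

theorem nL_conj_hg {L : List ℕ} (hL : ∀ i ∈ L, i < D.rank) {r : ℕ} (hr : r < D.nroots) (t : F) :
    nL hC F L * hg hC r t * (nL hC F L)⁻¹ = hg hC (wL D L r) t := by
  rw [hg, hg, ← nL_conj_ng hL hr, ← nL_conj_ng hL hr]
  group

/-- The relations of a class of type B2 modulo two. -/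
noncomputable def b2Chk (T : Tab) (a b p q : ℕ) : Bool :=
  (!Nat.beq b a && !Nat.beq b (T.neg a)) &&
  List.rec false (fun c L _ => ((Nat.beq c.1 p && isUnit1 c.2.1) && (Nat.beq c.2.2.1 1 && Nat.beq c.2.2.2 1)) &&
    List.rec false (fun d L' _ => ((Nat.beq d.1 q && isUnit1 d.2.1) &&
      (Nat.beq d.2.2.1 2 && Nat.beq d.2.2.2 1)) && List.rec true (fun _ _ _ => false) L') L)
    (commOf T.E a b)

/-- A pair whose commutator terms vanish modulo two. -/
noncomputable def evenChk (T : Tab) (r s : ℕ) : Bool :=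
  (!Nat.beq s r && !Nat.beq s (T.neg r)) && allL (fun c => Nat.beq (c.2.1.natAbs % 2) 0) (commOf T.E r s)

theorem b2_comm {a b p q : ℕ} (ha : a < D.nroots) (hb : b < D.nroots) (h : b2Chk T a b p q = true)
    (S T' : F) :
    xg hC b T' * xg hC a S = xg hC a S * xg hC b T' * (xg hC p (S * T') * xg hC q (S ^ 2 * T')) := by
  simp only [b2Chk, Bool.and_eq_true, Bool.not_eq_true', hC.neg_eq ha, commOf_eq hC ha hb] at h
  obtain ⟨⟨h1, h2⟩, h3⟩ := h
  rw [xg_comm (F := F) hC ha hb (Nat.ne_of_beq_eq_false h1) (Nat.ne_of_beq_eq_false h2) S T']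
  cases hc : D.commTerms a b with
  | nil => rw [hc] at h3; simp at h3
  | cons c L =>
    rw [hc] at h3
    simp only [Bool.and_eq_true] at h3
    obtain ⟨⟨⟨hp, hu⟩, hi, hj⟩, h4⟩ := h3
    cases L with
    | nil => simp at h4
    | cons d L' =>
      simp only [Bool.and_eq_true] at h4
      obtain ⟨⟨⟨hq, hu'⟩, hi', hj'⟩, h5⟩ := h4
      cases L' with
      | cons e L'' => simp at h5
      | nil =>
        simp only [ChevalleyDatum.commWord, hc, List.map_cons, List.map_nil, List.prod_cons,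
          List.prod_nil, mul_one, Nat.eq_of_beq_eq_true hp, Nat.eq_of_beq_eq_true hq,
          Nat.eq_of_beq_eq_true hi, Nat.eq_of_beq_eq_true hj, Nat.eq_of_beq_eq_true hi',
          Nat.eq_of_beq_eq_true hj', cast_unit hu, cast_unit hu', neg_eq, one_mul, pow_one]

theorem even_comm {r s : ℕ} (hr : r < D.nroots) (hs : s < D.nroots) (h : evenChk T r s = true)
    (t u : F) : Commute (xg hC s u) (xg hC r t) := by
  simp only [evenChk, Bool.and_eq_true, Bool.not_eq_true', hC.neg_eq hr, commOf_eq hC hr hs] at h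
  obtain ⟨⟨h1, h2⟩, h3⟩ := h
  have hx := xg_comm (F := F) hC hr hs (Nat.ne_of_beq_eq_false h1) (Nat.ne_of_beq_eq_false h2) t u
  rw [List.prod_eq_one, mul_one] at hx
  · exact hx
  intro x hxm
  obtain ⟨p, hp, rfl⟩ := List.mem_map.1 hxm
  obtain ⟨c, hc, rfl⟩ := List.mem_map.1 hp
  have h4 := of_allL h3 c hc
  have h5 : ((c.2.1 : ℤ) : F) = 0 := by
    rw [CharP.intCast_eq_zero_iff F 2, ← Int.natAbs_dvd_natAbs]
    exact Nat.dvd_of_mod_eq_zero (Nat.eq_of_beq_eq_true h4)
  rw [show ((c.2.1 : F) * (-t) ^ c.2.2.1 * u ^ c.2.2.2) = 0 by rw [h5]; ring]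
  exact xg_zero hC _

end Cfsg.Agent.Chevalley.Twist.CharTwo
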