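import Cfsg.Agent.Lib.Chevalley.Twist.CharTwo
import Cfsg.Agent.Lib.Chevalley.Twist.AutD4

/-!
Collection in the unipotent group of type D4 in characteristic two.
-/

set_option autoImplicit false
set_option linter.unusedSimpArgs false

namespace Cfsg.Agent.Chevalley.Twist.D4.Collect

open Cfsg.Lie Cfsg.Agent.Chevalley Cfsg.Agent.Chevalley.Table Cfsg.Agent.Chevalley.Cert
  Cfsg.Agent.Chevalley.Group Cfsg.Agent.Chevalley.Unip Cfsg.Agent.Chevalley.Borel
  Cfsg.Agent.Chevalley.Check Cfsg.Agent.Chevalley.Perfect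

variable {K : Type*} [Field K] [CharP K 2]

local notation "Xr" => xg (F := K) hC

theorem three_eq : (3 : K) = 1 := by linear_combination (_root_.CharTwo.two_eq_zero (R := K))

theorem four_eq : (4 : K) = 0 := by linear_combination 2 * (_root_.CharTwo.two_eq_zero (R := K))

theorem five_eq : (5 : K) = 1 := by linear_combination 2 * (_root_.CharTwo.two_eq_zero (R := K))

theorem six_eq : (6 : K) = 0 := by linear_combination 3 * (_root_.CharTwo.two_eq_zero (R := K))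

theorem seven_eq : (7 : K) = 1 := by linear_combination 3 * (_root_.CharTwo.two_eq_zero (R := K))

theorem comm_ok : ∀ p ∈ [(14, 19), (14, 16), (14, 15), (14, 17), (14, 20), (14, 21), (14, 23), (18, 13), (18, 12), (18, 19), (18, 20), (18, 21), (18, 22), (18, 23), (13, 12), (13, 16), (13, 17), (13, 21), (13, 22), (13, 23), (12, 15), (12, 17), (12, 20), (12, 22), (12, 23), (19, 16), (19, 15), (19, 20), (19, 21), (19, 22), (19, 23), (16, 15), (16, 17), (16, 21), (16, 22), (16, 23), (15, 17), (15, 20), (15, 22), (15, 23), (17, 20), (17, 21), (17, 22), (17, 23), (20, 21), (20, 22), (20, 23), (21, 22), (21, 23), (22, 23)], p.1 < chevD4.nroots ∧ p.2 < chevD4.nroots ∧ p.2 ≠ p.1 ∧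
    p.2 ≠ chevD4.neg p.1 ∧ chevD4.commTerms p.1 p.2 = [] := by decide +kernel

theorem single_ok' : ∀ p ∈ [(14, (18, 19)), (14, (13, 16)), (14, (12, 15)), (14, (22, 23)), (18, (16, 21)), (18, (15, 20)), (18, (17, 22)), (13, (19, 21)), (13, (15, 17)), (13, (20, 22)), (12, (19, 20)), (12, (16, 17)), (12, (21, 22)), (19, (17, 23)), (16, (20, 23)), (15, (21, 23))], p.1 < chevD4.nroots ∧
    p.2.1 < chevD4.nroots ∧ p.2.1 ≠ p.1 ∧ p.2.1 ≠ chevD4.neg p.1 ∧
    (chevD4.commTerms p.1 p.2.1 = [(p.2.2, 1, 1, 1)] ∨ chevD4.commTerms p.1 p.2.1 = [(p.2.2, -1, 1, 1)]) := by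
  decide +kernel

theorem sw0 {r s : ℕ} (h : r < chevD4.nroots ∧ s < chevD4.nroots ∧ s ≠ r ∧ s ≠ chevD4.neg r ∧
    chevD4.commTerms r s = []) (t u : K) : Xr s u * Xr r t = Xr r t * Xr s u := by
  obtain ⟨hr, hs, h1, h2, h3⟩ := h
  rw [xg_comm hC hr hs h1 h2]
  simp [ChevalleyDatum.commWord, h3]

theorem sw1 {r s k : ℕ} (h : r < chevD4.nroots ∧ s < chevD4.nroots ∧ s ≠ r ∧ s ≠ chevD4.neg r ∧
    (chevD4.commTerms r s = [(k, 1, 1, 1)] ∨ chevD4.commTerms r s = [(k, -1, 1, 1)])) (t u : K) :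
    Xr s u * Xr r t = Xr r t * (Xr s u * Xr k (t * u)) := by
  obtain ⟨hr, hs, h1, h2, h3⟩ := h
  rw [xg_comm hC hr hs h1 h2, mul_assoc]
  rcases h3 with h3 | h3 <;> simp [ChevalleyDatum.commWord, h3, _root_.CharTwo.neg_eq]

theorem assoc_of {G : Type*} [Semigroup G] {a b c : G} (h : a * b = c) (R : G) :
    a * (b * R) = c * R := by
  rw [← mul_assoc, h]

theorem w19_14 (t u : K) : Xr 19 u * Xr 14 t = Xr 14 t * Xr 19 u :=
  sw0 (comm_ok (14, 19) (by simp)) t u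

theorem w19_14' (t u : K) (R : GL chevD4.Idx K) :
    Xr 19 u * (Xr 14 t * R) = Xr 14 t * (Xr 19 u * R) :=
  (assoc_of (w19_14 t u) R).trans (mul_assoc _ _ _)

theorem w16_14 (t u : K) : Xr 16 u * Xr 14 t = Xr 14 t * Xr 16 u :=
  sw0 (comm_ok (14, 16) (by simp)) t u

theorem w16_14' (t u : K) (R : GL chevD4.Idx K) :
    Xr 16 u * (Xr 14 t * R) = Xr 14 t * (Xr 16 u * R) :=
  (assoc_of (w16_14 t u) R).trans (mul_assoc _ _ _)

theorem w15_14 (t u : K) : Xr 15 u * Xr 14 t = Xr 14 t * Xr 15 u :=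
  sw0 (comm_ok (14, 15) (by simp)) t u

theorem w15_14' (t u : K) (R : GL chevD4.Idx K) :
    Xr 15 u * (Xr 14 t * R) = Xr 14 t * (Xr 15 u * R) :=
  (assoc_of (w15_14 t u) R).trans (mul_assoc _ _ _)

theorem w17_14 (t u : K) : Xr 17 u * Xr 14 t = Xr 14 t * Xr 17 u :=
  sw0 (comm_ok (14, 17) (by simp)) t u

theorem w17_14' (t u : K) (R : GL chevD4.Idx K) :
    Xr 17 u * (Xr 14 t * R) = Xr 14 t * (Xr 17 u * R) :=
  (assoc_of (w17_14 t u) R).trans (mul_assoc _ _ _)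

theorem w20_14 (t u : K) : Xr 20 u * Xr 14 t = Xr 14 t * Xr 20 u :=
  sw0 (comm_ok (14, 20) (by simp)) t u

theorem w20_14' (t u : K) (R : GL chevD4.Idx K) :
    Xr 20 u * (Xr 14 t * R) = Xr 14 t * (Xr 20 u * R) :=
  (assoc_of (w20_14 t u) R).trans (mul_assoc _ _ _)

theorem w21_14 (t u : K) : Xr 21 u * Xr 14 t = Xr 14 t * Xr 21 u :=
  sw0 (comm_ok (14, 21) (by simp)) t u

theorem w21_14' (t u : K) (R : GL chevD4.Idx K) :
    Xr 21 u * (Xr 14 t * R) = Xr 14 t * (Xr 21 u * R) :=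
  (assoc_of (w21_14 t u) R).trans (mul_assoc _ _ _)

theorem w23_14 (t u : K) : Xr 23 u * Xr 14 t = Xr 14 t * Xr 23 u :=
  sw0 (comm_ok (14, 23) (by simp)) t u

theorem w23_14' (t u : K) (R : GL chevD4.Idx K) :
    Xr 23 u * (Xr 14 t * R) = Xr 14 t * (Xr 23 u * R) :=
  (assoc_of (w23_14 t u) R).trans (mul_assoc _ _ _)

theorem w13_18 (t u : K) : Xr 13 u * Xr 18 t = Xr 18 t * Xr 13 u :=
  sw0 (comm_ok (18, 13) (by simp)) t u

theorem w13_18' (t u : K) (R : GL chevD4.Idx K) :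
    Xr 13 u * (Xr 18 t * R) = Xr 18 t * (Xr 13 u * R) :=
  (assoc_of (w13_18 t u) R).trans (mul_assoc _ _ _)

theorem w12_18 (t u : K) : Xr 12 u * Xr 18 t = Xr 18 t * Xr 12 u :=
  sw0 (comm_ok (18, 12) (by simp)) t u

theorem w12_18' (t u : K) (R : GL chevD4.Idx K) :
    Xr 12 u * (Xr 18 t * R) = Xr 18 t * (Xr 12 u * R) :=
  (assoc_of (w12_18 t u) R).trans (mul_assoc _ _ _)

theorem w19_18 (t u : K) : Xr 19 u * Xr 18 t = Xr 18 t * Xr 19 u :=
  sw0 (comm_ok (18, 19) (by simp)) t u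

theorem w19_18' (t u : K) (R : GL chevD4.Idx K) :
    Xr 19 u * (Xr 18 t * R) = Xr 18 t * (Xr 19 u * R) :=
  (assoc_of (w19_18 t u) R).trans (mul_assoc _ _ _)

theorem w20_18 (t u : K) : Xr 20 u * Xr 18 t = Xr 18 t * Xr 20 u :=
  sw0 (comm_ok (18, 20) (by simp)) t u

theorem w20_18' (t u : K) (R : GL chevD4.Idx K) :
    Xr 20 u * (Xr 18 t * R) = Xr 18 t * (Xr 20 u * R) :=
  (assoc_of (w20_18 t u) R).trans (mul_assoc _ _ _)

theorem w21_18 (t u : K) : Xr 21 u * Xr 18 t = Xr 18 t * Xr 21 u :=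
  sw0 (comm_ok (18, 21) (by simp)) t u

theorem w21_18' (t u : K) (R : GL chevD4.Idx K) :
    Xr 21 u * (Xr 18 t * R) = Xr 18 t * (Xr 21 u * R) :=
  (assoc_of (w21_18 t u) R).trans (mul_assoc _ _ _)

theorem w22_18 (t u : K) : Xr 22 u * Xr 18 t = Xr 18 t * Xr 22 u :=
  sw0 (comm_ok (18, 22) (by simp)) t u

theorem w22_18' (t u : K) (R : GL chevD4.Idx K) :
    Xr 22 u * (Xr 18 t * R) = Xr 18 t * (Xr 22 u * R) :=
  (assoc_of (w22_18 t u) R).trans (mul_assoc _ _ _)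

theorem w23_18 (t u : K) : Xr 23 u * Xr 18 t = Xr 18 t * Xr 23 u :=
  sw0 (comm_ok (18, 23) (by simp)) t u

theorem w23_18' (t u : K) (R : GL chevD4.Idx K) :
    Xr 23 u * (Xr 18 t * R) = Xr 18 t * (Xr 23 u * R) :=
  (assoc_of (w23_18 t u) R).trans (mul_assoc _ _ _)

theorem w12_13 (t u : K) : Xr 12 u * Xr 13 t = Xr 13 t * Xr 12 u :=
  sw0 (comm_ok (13, 12) (by simp)) t u

theorem w12_13' (t u : K) (R : GL chevD4.Idx K) :
    Xr 12 u * (Xr 13 t * R) = Xr 13 t * (Xr 12 u * R) :=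
  (assoc_of (w12_13 t u) R).trans (mul_assoc _ _ _)

theorem w16_13 (t u : K) : Xr 16 u * Xr 13 t = Xr 13 t * Xr 16 u :=
  sw0 (comm_ok (13, 16) (by simp)) t u

theorem w16_13' (t u : K) (R : GL chevD4.Idx K) :
    Xr 16 u * (Xr 13 t * R) = Xr 13 t * (Xr 16 u * R) :=
  (assoc_of (w16_13 t u) R).trans (mul_assoc _ _ _)

theorem w17_13 (t u : K) : Xr 17 u * Xr 13 t = Xr 13 t * Xr 17 u :=
  sw0 (comm_ok (13, 17) (by simp)) t u

theorem w17_13' (t u : K) (R : GL chevD4.Idx K) :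
    Xr 17 u * (Xr 13 t * R) = Xr 13 t * (Xr 17 u * R) :=
  (assoc_of (w17_13 t u) R).trans (mul_assoc _ _ _)

theorem w21_13 (t u : K) : Xr 21 u * Xr 13 t = Xr 13 t * Xr 21 u :=
  sw0 (comm_ok (13, 21) (by simp)) t u

theorem w21_13' (t u : K) (R : GL chevD4.Idx K) :
    Xr 21 u * (Xr 13 t * R) = Xr 13 t * (Xr 21 u * R) :=
  (assoc_of (w21_13 t u) R).trans (mul_assoc _ _ _)

theorem w22_13 (t u : K) : Xr 22 u * Xr 13 t = Xr 13 t * Xr 22 u :=
  sw0 (comm_ok (13, 22) (by simp)) t u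

theorem w22_13' (t u : K) (R : GL chevD4.Idx K) :
    Xr 22 u * (Xr 13 t * R) = Xr 13 t * (Xr 22 u * R) :=
  (assoc_of (w22_13 t u) R).trans (mul_assoc _ _ _)

theorem w23_13 (t u : K) : Xr 23 u * Xr 13 t = Xr 13 t * Xr 23 u :=
  sw0 (comm_ok (13, 23) (by simp)) t u

theorem w23_13' (t u : K) (R : GL chevD4.Idx K) :
    Xr 23 u * (Xr 13 t * R) = Xr 13 t * (Xr 23 u * R) :=
  (assoc_of (w23_13 t u) R).trans (mul_assoc _ _ _)

theorem w15_12 (t u : K) : Xr 15 u * Xr 12 t = Xr 12 t * Xr 15 u :=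
  sw0 (comm_ok (12, 15) (by simp)) t u

theorem w15_12' (t u : K) (R : GL chevD4.Idx K) :
    Xr 15 u * (Xr 12 t * R) = Xr 12 t * (Xr 15 u * R) :=
  (assoc_of (w15_12 t u) R).trans (mul_assoc _ _ _)

theorem w17_12 (t u : K) : Xr 17 u * Xr 12 t = Xr 12 t * Xr 17 u :=
  sw0 (comm_ok (12, 17) (by simp)) t u

theorem w17_12' (t u : K) (R : GL chevD4.Idx K) :
    Xr 17 u * (Xr 12 t * R) = Xr 12 t * (Xr 17 u * R) :=
  (assoc_of (w17_12 t u) R).trans (mul_assoc _ _ _)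

theorem w20_12 (t u : K) : Xr 20 u * Xr 12 t = Xr 12 t * Xr 20 u :=
  sw0 (comm_ok (12, 20) (by simp)) t u

theorem w20_12' (t u : K) (R : GL chevD4.Idx K) :
    Xr 20 u * (Xr 12 t * R) = Xr 12 t * (Xr 20 u * R) :=
  (assoc_of (w20_12 t u) R).trans (mul_assoc _ _ _)

theorem w22_12 (t u : K) : Xr 22 u * Xr 12 t = Xr 12 t * Xr 22 u :=
  sw0 (comm_ok (12, 22) (by simp)) t u

theorem w22_12' (t u : K) (R : GL chevD4.Idx K) :
    Xr 22 u * (Xr 12 t * R) = Xr 12 t * (Xr 22 u * R) :=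
  (assoc_of (w22_12 t u) R).trans (mul_assoc _ _ _)

theorem w23_12 (t u : K) : Xr 23 u * Xr 12 t = Xr 12 t * Xr 23 u :=
  sw0 (comm_ok (12, 23) (by simp)) t u

theorem w23_12' (t u : K) (R : GL chevD4.Idx K) :
    Xr 23 u * (Xr 12 t * R) = Xr 12 t * (Xr 23 u * R) :=
  (assoc_of (w23_12 t u) R).trans (mul_assoc _ _ _)

theorem w16_19 (t u : K) : Xr 16 u * Xr 19 t = Xr 19 t * Xr 16 u :=
  sw0 (comm_ok (19, 16) (by simp)) t u

theorem w16_19' (t u : K) (R : GL chevD4.Idx K) :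
    Xr 16 u * (Xr 19 t * R) = Xr 19 t * (Xr 16 u * R) :=
  (assoc_of (w16_19 t u) R).trans (mul_assoc _ _ _)

theorem w15_19 (t u : K) : Xr 15 u * Xr 19 t = Xr 19 t * Xr 15 u :=
  sw0 (comm_ok (19, 15) (by simp)) t u

theorem w15_19' (t u : K) (R : GL chevD4.Idx K) :
    Xr 15 u * (Xr 19 t * R) = Xr 19 t * (Xr 15 u * R) :=
  (assoc_of (w15_19 t u) R).trans (mul_assoc _ _ _)

theorem w20_19 (t u : K) : Xr 20 u * Xr 19 t = Xr 19 t * Xr 20 u :=
  sw0 (comm_ok (19, 20) (by simp)) t u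

theorem w20_19' (t u : K) (R : GL chevD4.Idx K) :
    Xr 20 u * (Xr 19 t * R) = Xr 19 t * (Xr 20 u * R) :=
  (assoc_of (w20_19 t u) R).trans (mul_assoc _ _ _)

theorem w21_19 (t u : K) : Xr 21 u * Xr 19 t = Xr 19 t * Xr 21 u :=
  sw0 (comm_ok (19, 21) (by simp)) t u

theorem w21_19' (t u : K) (R : GL chevD4.Idx K) :
    Xr 21 u * (Xr 19 t * R) = Xr 19 t * (Xr 21 u * R) :=
  (assoc_of (w21_19 t u) R).trans (mul_assoc _ _ _)

theorem w22_19 (t u : K) : Xr 22 u * Xr 19 t = Xr 19 t * Xr 22 u :=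
  sw0 (comm_ok (19, 22) (by simp)) t u

theorem w22_19' (t u : K) (R : GL chevD4.Idx K) :
    Xr 22 u * (Xr 19 t * R) = Xr 19 t * (Xr 22 u * R) :=
  (assoc_of (w22_19 t u) R).trans (mul_assoc _ _ _)

theorem w23_19 (t u : K) : Xr 23 u * Xr 19 t = Xr 19 t * Xr 23 u :=
  sw0 (comm_ok (19, 23) (by simp)) t u

theorem w23_19' (t u : K) (R : GL chevD4.Idx K) :
    Xr 23 u * (Xr 19 t * R) = Xr 19 t * (Xr 23 u * R) :=
  (assoc_of (w23_19 t u) R).trans (mul_assoc _ _ _)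

theorem w15_16 (t u : K) : Xr 15 u * Xr 16 t = Xr 16 t * Xr 15 u :=
  sw0 (comm_ok (16, 15) (by simp)) t u

theorem w15_16' (t u : K) (R : GL chevD4.Idx K) :
    Xr 15 u * (Xr 16 t * R) = Xr 16 t * (Xr 15 u * R) :=
  (assoc_of (w15_16 t u) R).trans (mul_assoc _ _ _)

theorem w17_16 (t u : K) : Xr 17 u * Xr 16 t = Xr 16 t * Xr 17 u :=
  sw0 (comm_ok (16, 17) (by simp)) t u

theorem w17_16' (t u : K) (R : GL chevD4.Idx K) :
    Xr 17 u * (Xr 16 t * R) = Xr 16 t * (Xr 17 u * R) :=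
  (assoc_of (w17_16 t u) R).trans (mul_assoc _ _ _)

theorem w21_16 (t u : K) : Xr 21 u * Xr 16 t = Xr 16 t * Xr 21 u :=
  sw0 (comm_ok (16, 21) (by simp)) t u

theorem w21_16' (t u : K) (R : GL chevD4.Idx K) :
    Xr 21 u * (Xr 16 t * R) = Xr 16 t * (Xr 21 u * R) :=
  (assoc_of (w21_16 t u) R).trans (mul_assoc _ _ _)

theorem w22_16 (t u : K) : Xr 22 u * Xr 16 t = Xr 16 t * Xr 22 u :=
  sw0 (comm_ok (16, 22) (by simp)) t u

theorem w22_16' (t u : K) (R : GL chevD4.Idx K) :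
    Xr 22 u * (Xr 16 t * R) = Xr 16 t * (Xr 22 u * R) :=
  (assoc_of (w22_16 t u) R).trans (mul_assoc _ _ _)

theorem w23_16 (t u : K) : Xr 23 u * Xr 16 t = Xr 16 t * Xr 23 u :=
  sw0 (comm_ok (16, 23) (by simp)) t u

theorem w23_16' (t u : K) (R : GL chevD4.Idx K) :
    Xr 23 u * (Xr 16 t * R) = Xr 16 t * (Xr 23 u * R) :=
  (assoc_of (w23_16 t u) R).trans (mul_assoc _ _ _)

theorem w17_15 (t u : K) : Xr 17 u * Xr 15 t = Xr 15 t * Xr 17 u :=
  sw0 (comm_ok (15, 17) (by simp)) t u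

theorem w17_15' (t u : K) (R : GL chevD4.Idx K) :
    Xr 17 u * (Xr 15 t * R) = Xr 15 t * (Xr 17 u * R) :=
  (assoc_of (w17_15 t u) R).trans (mul_assoc _ _ _)

theorem w20_15 (t u : K) : Xr 20 u * Xr 15 t = Xr 15 t * Xr 20 u :=
  sw0 (comm_ok (15, 20) (by simp)) t u

theorem w20_15' (t u : K) (R : GL chevD4.Idx K) :
    Xr 20 u * (Xr 15 t * R) = Xr 15 t * (Xr 20 u * R) :=
  (assoc_of (w20_15 t u) R).trans (mul_assoc _ _ _)

theorem w22_15 (t u : K) : Xr 22 u * Xr 15 t = Xr 15 t * Xr 22 u :=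
  sw0 (comm_ok (15, 22) (by simp)) t u

theorem w22_15' (t u : K) (R : GL chevD4.Idx K) :
    Xr 22 u * (Xr 15 t * R) = Xr 15 t * (Xr 22 u * R) :=
  (assoc_of (w22_15 t u) R).trans (mul_assoc _ _ _)

theorem w23_15 (t u : K) : Xr 23 u * Xr 15 t = Xr 15 t * Xr 23 u :=
  sw0 (comm_ok (15, 23) (by simp)) t u

theorem w23_15' (t u : K) (R : GL chevD4.Idx K) :
    Xr 23 u * (Xr 15 t * R) = Xr 15 t * (Xr 23 u * R) :=
  (assoc_of (w23_15 t u) R).trans (mul_assoc _ _ _)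

theorem w20_17 (t u : K) : Xr 20 u * Xr 17 t = Xr 17 t * Xr 20 u :=
  sw0 (comm_ok (17, 20) (by simp)) t u

theorem w20_17' (t u : K) (R : GL chevD4.Idx K) :
    Xr 20 u * (Xr 17 t * R) = Xr 17 t * (Xr 20 u * R) :=
  (assoc_of (w20_17 t u) R).trans (mul_assoc _ _ _)

theorem w21_17 (t u : K) : Xr 21 u * Xr 17 t = Xr 17 t * Xr 21 u :=
  sw0 (comm_ok (17, 21) (by simp)) t u

theorem w21_17' (t u : K) (R : GL chevD4.Idx K) :
    Xr 21 u * (Xr 17 t * R) = Xr 17 t * (Xr 21 u * R) :=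
  (assoc_of (w21_17 t u) R).trans (mul_assoc _ _ _)

theorem w22_17 (t u : K) : Xr 22 u * Xr 17 t = Xr 17 t * Xr 22 u :=
  sw0 (comm_ok (17, 22) (by simp)) t u

theorem w22_17' (t u : K) (R : GL chevD4.Idx K) :
    Xr 22 u * (Xr 17 t * R) = Xr 17 t * (Xr 22 u * R) :=
  (assoc_of (w22_17 t u) R).trans (mul_assoc _ _ _)

theorem w23_17 (t u : K) : Xr 23 u * Xr 17 t = Xr 17 t * Xr 23 u :=
  sw0 (comm_ok (17, 23) (by simp)) t u

theorem w23_17' (t u : K) (R : GL chevD4.Idx K) :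
    Xr 23 u * (Xr 17 t * R) = Xr 17 t * (Xr 23 u * R) :=
  (assoc_of (w23_17 t u) R).trans (mul_assoc _ _ _)

theorem w21_20 (t u : K) : Xr 21 u * Xr 20 t = Xr 20 t * Xr 21 u :=
  sw0 (comm_ok (20, 21) (by simp)) t u

theorem w21_20' (t u : K) (R : GL chevD4.Idx K) :
    Xr 21 u * (Xr 20 t * R) = Xr 20 t * (Xr 21 u * R) :=
  (assoc_of (w21_20 t u) R).trans (mul_assoc _ _ _)

theorem w22_20 (t u : K) : Xr 22 u * Xr 20 t = Xr 20 t * Xr 22 u :=
  sw0 (comm_ok (20, 22) (by simp)) t u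

theorem w22_20' (t u : K) (R : GL chevD4.Idx K) :
    Xr 22 u * (Xr 20 t * R) = Xr 20 t * (Xr 22 u * R) :=
  (assoc_of (w22_20 t u) R).trans (mul_assoc _ _ _)

theorem w23_20 (t u : K) : Xr 23 u * Xr 20 t = Xr 20 t * Xr 23 u :=
  sw0 (comm_ok (20, 23) (by simp)) t u

theorem w23_20' (t u : K) (R : GL chevD4.Idx K) :
    Xr 23 u * (Xr 20 t * R) = Xr 20 t * (Xr 23 u * R) :=
  (assoc_of (w23_20 t u) R).trans (mul_assoc _ _ _)

theorem w22_21 (t u : K) : Xr 22 u * Xr 21 t = Xr 21 t * Xr 22 u :=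
  sw0 (comm_ok (21, 22) (by simp)) t u

theorem w22_21' (t u : K) (R : GL chevD4.Idx K) :
    Xr 22 u * (Xr 21 t * R) = Xr 21 t * (Xr 22 u * R) :=
  (assoc_of (w22_21 t u) R).trans (mul_assoc _ _ _)

theorem w23_21 (t u : K) : Xr 23 u * Xr 21 t = Xr 21 t * Xr 23 u :=
  sw0 (comm_ok (21, 23) (by simp)) t u

theorem w23_21' (t u : K) (R : GL chevD4.Idx K) :
    Xr 23 u * (Xr 21 t * R) = Xr 21 t * (Xr 23 u * R) :=
  (assoc_of (w23_21 t u) R).trans (mul_assoc _ _ _)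

theorem w23_22 (t u : K) : Xr 23 u * Xr 22 t = Xr 22 t * Xr 23 u :=
  sw0 (comm_ok (22, 23) (by simp)) t u

theorem w23_22' (t u : K) (R : GL chevD4.Idx K) :
    Xr 23 u * (Xr 22 t * R) = Xr 22 t * (Xr 23 u * R) :=
  (assoc_of (w23_22 t u) R).trans (mul_assoc _ _ _)

theorem w18_14 (t u : K) : Xr 18 u * Xr 14 t = Xr 14 t * (Xr 18 u * Xr 19 (t * u)) :=
  sw1 (single_ok' (14, (18, 19)) (by simp)) t u

theorem w18_14' (t u : K) (R : GL chevD4.Idx K) :
    Xr 18 u * (Xr 14 t * R) = Xr 14 t * (Xr 18 u * (Xr 19 (t * u) * R)) :=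
  (assoc_of (w18_14 t u) R).trans (by simp only [mul_assoc])

theorem w13_14 (t u : K) : Xr 13 u * Xr 14 t = Xr 14 t * (Xr 13 u * Xr 16 (t * u)) :=
  sw1 (single_ok' (14, (13, 16)) (by simp)) t u

theorem w13_14' (t u : K) (R : GL chevD4.Idx K) :
    Xr 13 u * (Xr 14 t * R) = Xr 14 t * (Xr 13 u * (Xr 16 (t * u) * R)) :=
  (assoc_of (w13_14 t u) R).trans (by simp only [mul_assoc])

theorem w12_14 (t u : K) : Xr 12 u * Xr 14 t = Xr 14 t * (Xr 12 u * Xr 15 (t * u)) :=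
  sw1 (single_ok' (14, (12, 15)) (by simp)) t u

theorem w12_14' (t u : K) (R : GL chevD4.Idx K) :
    Xr 12 u * (Xr 14 t * R) = Xr 14 t * (Xr 12 u * (Xr 15 (t * u) * R)) :=
  (assoc_of (w12_14 t u) R).trans (by simp only [mul_assoc])

theorem w22_14 (t u : K) : Xr 22 u * Xr 14 t = Xr 14 t * (Xr 22 u * Xr 23 (t * u)) :=
  sw1 (single_ok' (14, (22, 23)) (by simp)) t u

theorem w22_14' (t u : K) (R : GL chevD4.Idx K) :
    Xr 22 u * (Xr 14 t * R) = Xr 14 t * (Xr 22 u * (Xr 23 (t * u) * R)) :=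
  (assoc_of (w22_14 t u) R).trans (by simp only [mul_assoc])

theorem w16_18 (t u : K) : Xr 16 u * Xr 18 t = Xr 18 t * (Xr 16 u * Xr 21 (t * u)) :=
  sw1 (single_ok' (18, (16, 21)) (by simp)) t u

theorem w16_18' (t u : K) (R : GL chevD4.Idx K) :
    Xr 16 u * (Xr 18 t * R) = Xr 18 t * (Xr 16 u * (Xr 21 (t * u) * R)) :=
  (assoc_of (w16_18 t u) R).trans (by simp only [mul_assoc])

theorem w15_18 (t u : K) : Xr 15 u * Xr 18 t = Xr 18 t * (Xr 15 u * Xr 20 (t * u)) :=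
  sw1 (single_ok' (18, (15, 20)) (by simp)) t u

theorem w15_18' (t u : K) (R : GL chevD4.Idx K) :
    Xr 15 u * (Xr 18 t * R) = Xr 18 t * (Xr 15 u * (Xr 20 (t * u) * R)) :=
  (assoc_of (w15_18 t u) R).trans (by simp only [mul_assoc])

theorem w17_18 (t u : K) : Xr 17 u * Xr 18 t = Xr 18 t * (Xr 17 u * Xr 22 (t * u)) :=
  sw1 (single_ok' (18, (17, 22)) (by simp)) t u

theorem w17_18' (t u : K) (R : GL chevD4.Idx K) :
    Xr 17 u * (Xr 18 t * R) = Xr 18 t * (Xr 17 u * (Xr 22 (t * u) * R)) :=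
  (assoc_of (w17_18 t u) R).trans (by simp only [mul_assoc])

theorem w19_13 (t u : K) : Xr 19 u * Xr 13 t = Xr 13 t * (Xr 19 u * Xr 21 (t * u)) :=
  sw1 (single_ok' (13, (19, 21)) (by simp)) t u

theorem w19_13' (t u : K) (R : GL chevD4.Idx K) :
    Xr 19 u * (Xr 13 t * R) = Xr 13 t * (Xr 19 u * (Xr 21 (t * u) * R)) :=
  (assoc_of (w19_13 t u) R).trans (by simp only [mul_assoc])

theorem w15_13 (t u : K) : Xr 15 u * Xr 13 t = Xr 13 t * (Xr 15 u * Xr 17 (t * u)) :=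
  sw1 (single_ok' (13, (15, 17)) (by simp)) t u

theorem w15_13' (t u : K) (R : GL chevD4.Idx K) :
    Xr 15 u * (Xr 13 t * R) = Xr 13 t * (Xr 15 u * (Xr 17 (t * u) * R)) :=
  (assoc_of (w15_13 t u) R).trans (by simp only [mul_assoc])

theorem w20_13 (t u : K) : Xr 20 u * Xr 13 t = Xr 13 t * (Xr 20 u * Xr 22 (t * u)) :=
  sw1 (single_ok' (13, (20, 22)) (by simp)) t u

theorem w20_13' (t u : K) (R : GL chevD4.Idx K) :
    Xr 20 u * (Xr 13 t * R) = Xr 13 t * (Xr 20 u * (Xr 22 (t * u) * R)) :=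
  (assoc_of (w20_13 t u) R).trans (by simp only [mul_assoc])

theorem w19_12 (t u : K) : Xr 19 u * Xr 12 t = Xr 12 t * (Xr 19 u * Xr 20 (t * u)) :=
  sw1 (single_ok' (12, (19, 20)) (by simp)) t u

theorem w19_12' (t u : K) (R : GL chevD4.Idx K) :
    Xr 19 u * (Xr 12 t * R) = Xr 12 t * (Xr 19 u * (Xr 20 (t * u) * R)) :=
  (assoc_of (w19_12 t u) R).trans (by simp only [mul_assoc])

theorem w16_12 (t u : K) : Xr 16 u * Xr 12 t = Xr 12 t * (Xr 16 u * Xr 17 (t * u)) :=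
  sw1 (single_ok' (12, (16, 17)) (by simp)) t u

theorem w16_12' (t u : K) (R : GL chevD4.Idx K) :
    Xr 16 u * (Xr 12 t * R) = Xr 12 t * (Xr 16 u * (Xr 17 (t * u) * R)) :=
  (assoc_of (w16_12 t u) R).trans (by simp only [mul_assoc])

theorem w21_12 (t u : K) : Xr 21 u * Xr 12 t = Xr 12 t * (Xr 21 u * Xr 22 (t * u)) :=
  sw1 (single_ok' (12, (21, 22)) (by simp)) t u

theorem w21_12' (t u : K) (R : GL chevD4.Idx K) :
    Xr 21 u * (Xr 12 t * R) = Xr 12 t * (Xr 21 u * (Xr 22 (t * u) * R)) :=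
  (assoc_of (w21_12 t u) R).trans (by simp only [mul_assoc])

theorem w17_19 (t u : K) : Xr 17 u * Xr 19 t = Xr 19 t * (Xr 17 u * Xr 23 (t * u)) :=
  sw1 (single_ok' (19, (17, 23)) (by simp)) t u

theorem w17_19' (t u : K) (R : GL chevD4.Idx K) :
    Xr 17 u * (Xr 19 t * R) = Xr 19 t * (Xr 17 u * (Xr 23 (t * u) * R)) :=
  (assoc_of (w17_19 t u) R).trans (by simp only [mul_assoc])

theorem w20_16 (t u : K) : Xr 20 u * Xr 16 t = Xr 16 t * (Xr 20 u * Xr 23 (t * u)) :=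
  sw1 (single_ok' (16, (20, 23)) (by simp)) t u

theorem w20_16' (t u : K) (R : GL chevD4.Idx K) :
    Xr 20 u * (Xr 16 t * R) = Xr 16 t * (Xr 20 u * (Xr 23 (t * u) * R)) :=
  (assoc_of (w20_16 t u) R).trans (by simp only [mul_assoc])

theorem w21_15 (t u : K) : Xr 21 u * Xr 15 t = Xr 15 t * (Xr 21 u * Xr 23 (t * u)) :=
  sw1 (single_ok' (15, (21, 23)) (by simp)) t u

theorem w21_15' (t u : K) (R : GL chevD4.Idx K) :
    Xr 21 u * (Xr 15 t * R) = Xr 15 t * (Xr 21 u * (Xr 23 (t * u) * R)) :=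
  (assoc_of (w21_15 t u) R).trans (by simp only [mul_assoc])

theorem merge (r : ℕ) (t u : K) : Xr r t * Xr r u = Xr r (t + u) := (xg_add hC r t u).symm

theorem merge' (r : ℕ) (t u : K) (R : GL chevD4.Idx K) :
    Xr r t * (Xr r u * R) = Xr r (t + u) * R := by rw [← mul_assoc, merge]

/-- The general element of the unipotent group. -/
def P (b a0 a2 a3 c0 c2 c3 d0 d2 d3 e f : K) : GL chevD4.Idx K :=
  Xr 14 b * (Xr 18 a0 * (Xr 13 a2 * (Xr 12 a3 * (Xr 19 c0 * (Xr 16 c2 * (Xr 15 c3 * (Xr 17 d0 * (Xr 20 d2 * (Xr 21 d3 * (Xr 22 e * (Xr 23 f)))))))))))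

theorem P_mul14 (b a0 a2 a3 c0 c2 c3 d0 d2 d3 e f t : K) : P b a0 a2 a3 c0 c2 c3 d0 d2 d3 e f * Xr 14 t =
    P (b + t) (a0) (a2) (a3) (c0 + t * a0) (c2 + t * a2) (c3 + t * a3) (d0 + t * a2 * a3) (d2 + t * a0 * a3) (d3 + t * a0 * a2) (e + t * a0 * a2 * a3) (f + t * e + t * a0 * a2 * c3 + t * a0 * a3 * c2 + t * a2 * a3 * c0) := by
  simp only [P, mul_assoc, merge, merge', w19_14, w19_14', w16_14, w16_14', w15_14, w15_14', w17_14, w17_14', w20_14, w20_14', w21_14, w21_14', w23_14, w23_14', w13_18, w13_18', w12_18, w12_18', w19_18, w19_18', w20_18, w20_18', w21_18, w21_18', w22_18, w22_18', w23_18, w23_18', w12_13, w12_13', w16_13, w16_13', w17_13, w17_13', w21_13, w21_13', w22_13, w22_13', w23_13, w23_13', w15_12, w15_12', w17_12, w17_12', w20_12, w20_12', w22_12, w22_12', w23_12, w23_12', w16_19, w16_19', w15_19, w15_19', w20_19, w20_19', w21_19, w21_19', w22_19, w22_19', w23_19, w23_19', w15_16, w15_16',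 w17_16, w17_16', w21_16, w21_16', w22_16, w22_16', w23_16, w23_16', w17_15, w17_15', w20_15, w20_15', w22_15, w22_15', w23_15, w23_15', w20_17, w20_17', w21_17, w21_17', w22_17, w22_17', w23_17, w23_17', w21_20, w21_20', w22_20, w22_20', w23_20, w23_20', w22_21, w22_21', w23_21, w23_21', w23_22, w23_22', w18_14, w18_14', w13_14, w13_14', w12_14, w12_14', w22_14, w22_14', w16_18, w16_18', w15_18, w15_18', w17_18, w17_18', w19_13, w19_13', w15_13, w15_13', w20_13, w20_13', w19_12, w19_12', w16_12, w16_12', w21_12, w21_12', w17_19, w17_19', w20_16, w20_16', w21_15, w21_15']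
  all_goals ring_nf
  all_goals simp [_root_.CharTwo.two_eq_zero, three_eq, four_eq, five_eq, six_eq, seven_eq]

theorem P_mul18 (b a0 a2 a3 c0 c2 c3 d0 d2 d3 e f t : K) : P b a0 a2 a3 c0 c2 c3 d0 d2 d3 e f * Xr 18 t =
    P (b) (t + a0) (a2) (a3) (c0) (c2) (c3) (d0) (d2 + t * c3) (d3 + t * c2) (e + t * d0) (f + t * c2 * c3) := by
  simp only [P, mul_assoc, merge, merge', w19_14, w19_14', w16_14, w16_14', w15_14, w15_14', w17_14, w17_14', w20_14, w20_14', w21_14, w21_14', w23_14, w23_14', w13_18, w13_18', w12_18, w12_18', w19_18, w19_18', w20_18, w20_18', w21_18, w21_18', w22_18, w22_18', w23_18, w23_18', w12_13, w12_13', w16_13, w16_13', w17_13, w17_13', w21_13, w21_13', w22_13, w22_13', w23_13, w23_13', w15_12, w15_12', w17_12, w17_12', w20_12, w20_12', w22_12, w22_12', w23_12, w23_12', w16_19, w16_19', w15_19, w15_19', w20_19, w20_19', w21_19, w21_19', w22_19, w22_19', w23_19, w23_19', w15_16, w15_16',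 w17_16, w17_16', w21_16, w21_16', w22_16, w22_16', w23_16, w23_16', w17_15, w17_15', w20_15, w20_15', w22_15, w22_15', w23_15, w23_15', w20_17, w20_17', w21_17, w21_17', w22_17, w22_17', w23_17, w23_17', w21_20, w21_20', w22_20, w22_20', w23_20, w23_20', w22_21, w22_21', w23_21, w23_21', w23_22, w23_22', w18_14, w18_14', w13_14, w13_14', w12_14, w12_14', w22_14, w22_14', w16_18, w16_18', w15_18, w15_18', w17_18, w17_18', w19_13, w19_13', w15_13, w15_13', w20_13, w20_13', w19_12, w19_12', w16_12, w16_12', w21_12, w21_12', w17_19, w17_19', w20_16, w20_16', w21_15, w21_15']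
  all_goals ring_nf
  all_goals simp [_root_.CharTwo.two_eq_zero, three_eq, four_eq, five_eq, six_eq, seven_eq]

theorem P_mul13 (b a0 a2 a3 c0 c2 c3 d0 d2 d3 e f t : K) : P b a0 a2 a3 c0 c2 c3 d0 d2 d3 e f * Xr 13 t =
    P (b) (a0) (t + a2) (a3) (c0) (c2) (c3) (d0 + t * c3) (d2) (d3 + t * c0) (e + t * d2) (f + t * c0 * c3) := by
  simp only [P, mul_assoc, merge, merge', w19_14, w19_14', w16_14, w16_14', w15_14, w15_14', w17_14, w17_14', w20_14, w20_14', w21_14, w21_14', w23_14, w23_14', w13_18, w13_18', w12_18, w12_18', w19_18, w19_18', w20_18, w20_18', w21_18, w21_18', w22_18, w22_18', w23_18, w23_18', w12_13, w12_13', w16_13, w16_13', w17_13, w17_13', w21_13, w21_13', w22_13, w22_13', w23_13, w23_13', w15_12, w15_12', w17_12, w17_12', w20_12, w20_12', w22_12, w22_12', w23_12, w23_12', w16_19, w16_19', w15_19, w15_19', w20_19, w20_19', w21_19, w21_19', w22_19, w22_19', w23_19, w23_19', w15_16, w15_16',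 w17_16, w17_16', w21_16, w21_16', w22_16, w22_16', w23_16, w23_16', w17_15, w17_15', w20_15, w20_15', w22_15, w22_15', w23_15, w23_15', w20_17, w20_17', w21_17, w21_17', w22_17, w22_17', w23_17, w23_17', w21_20, w21_20', w22_20, w22_20', w23_20, w23_20', w22_21, w22_21', w23_21, w23_21', w23_22, w23_22', w18_14, w18_14', w13_14, w13_14', w12_14, w12_14', w22_14, w22_14', w16_18, w16_18', w15_18, w15_18', w17_18, w17_18', w19_13, w19_13', w15_13, w15_13', w20_13, w20_13', w19_12, w19_12', w16_12, w16_12', w21_12, w21_12', w17_19, w17_19', w20_16, w20_16', w21_15, w21_15']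
  all_goals ring_nf
  all_goals simp [_root_.CharTwo.two_eq_zero, three_eq, four_eq, five_eq, six_eq, seven_eq]

theorem P_mul12 (b a0 a2 a3 c0 c2 c3 d0 d2 d3 e f t : K) : P b a0 a2 a3 c0 c2 c3 d0 d2 d3 e f * Xr 12 t =
    P (b) (a0) (a2) (t + a3) (c0) (c2) (c3) (d0 + t * c2) (d2 + t * c0) (d3) (e + t * d3) (f + t * c0 * c2) := by
  simp only [P, mul_assoc, merge, merge', w19_14, w19_14', w16_14, w16_14', w15_14, w15_14', w17_14, w17_14', w20_14, w20_14', w21_14, w21_14', w23_14, w23_14', w13_18, w13_18', w12_18, w12_18', w19_18, w19_18', w20_18, w20_18', w21_18, w21_18', w22_18, w22_18', w23_18, w23_18', w12_13, w12_13', w16_13, w16_13', w17_13, w17_13', w21_13, w21_13', w22_13, w22_13', w23_13, w23_13', w15_12, w15_12', w17_12, w17_12', w20_12, w20_12', w22_12, w22_12', w23_12, w23_12', w16_19, w16_19', w15_19, w15_19', w20_19, w20_19', w21_19, w21_19', w22_19, w22_19', w23_19, w23_19', w15_16, w15_16',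 w17_16, w17_16', w21_16, w21_16', w22_16, w22_16', w23_16, w23_16', w17_15, w17_15', w20_15, w20_15', w22_15, w22_15', w23_15, w23_15', w20_17, w20_17', w21_17, w21_17', w22_17, w22_17', w23_17, w23_17', w21_20, w21_20', w22_20, w22_20', w23_20, w23_20', w22_21, w22_21', w23_21, w23_21', w23_22, w23_22', w18_14, w18_14', w13_14, w13_14', w12_14, w12_14', w22_14, w22_14', w16_18, w16_18', w15_18, w15_18', w17_18, w17_18', w19_13, w19_13', w15_13, w15_13', w20_13, w20_13', w19_12, w19_12', w16_12, w16_12', w21_12, w21_12', w17_19, w17_19', w20_16, w20_16', w21_15, w21_15']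
  all_goals ring_nf
  all_goals simp [_root_.CharTwo.two_eq_zero, three_eq, four_eq, five_eq, six_eq, seven_eq]

theorem P_mul19 (b a0 a2 a3 c0 c2 c3 d0 d2 d3 e f t : K) : P b a0 a2 a3 c0 c2 c3 d0 d2 d3 e f * Xr 19 t =
    P (b) (a0) (a2) (a3) (t + c0) (c2) (c3) (d0) (d2) (d3) (e) (f + t * d0) := by
  simp only [P, mul_assoc, merge, merge', w19_14, w19_14', w16_14, w16_14', w15_14, w15_14', w17_14, w17_14', w20_14, w20_14', w21_14, w21_14', w23_14, w23_14', w13_18, w13_18', w12_18, w12_18', w19_18, w19_18', w20_18, w20_18', w21_18, w21_18', w22_18, w22_18', w23_18, w23_18', w12_13, w12_13', w16_13, w16_13', w17_13, w17_13', w21_13, w21_13', w22_13, w22_13', w23_13, w23_13', w15_12, w15_12', w17_12, w17_12', w20_12, w20_12', w22_12, w22_12', w23_12, w23_12', w16_19, w16_19', w15_19, w15_19', w20_19, w20_19', w21_19, w21_19', w22_19, w22_19', w23_19, w23_19', w15_16, w15_16', w17_16, w17_16', w21_16, w21_16',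 w22_16, w22_16', w23_16, w23_16', w17_15, w17_15', w20_15, w20_15', w22_15, w22_15', w23_15, w23_15', w20_17, w20_17', w21_17, w21_17', w22_17, w22_17', w23_17, w23_17', w21_20, w21_20', w22_20, w22_20', w23_20, w23_20', w22_21, w22_21', w23_21, w23_21', w23_22, w23_22', w18_14, w18_14', w13_14, w13_14', w12_14, w12_14', w22_14, w22_14', w16_18, w16_18', w15_18, w15_18', w17_18, w17_18', w19_13, w19_13', w15_13, w15_13', w20_13, w20_13', w19_12, w19_12', w16_12, w16_12', w21_12, w21_12', w17_19, w17_19', w20_16, w20_16', w21_15, w21_15']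
  all_goals ring_nf
  all_goals simp [_root_.CharTwo.two_eq_zero, three_eq, four_eq, five_eq, six_eq, seven_eq]

theorem P_mul16 (b a0 a2 a3 c0 c2 c3 d0 d2 d3 e f t : K) : P b a0 a2 a3 c0 c2 c3 d0 d2 d3 e f * Xr 16 t =
    P (b) (a0) (a2) (a3) (c0) (t + c2) (c3) (d0) (d2) (d3) (e) (f + t * d2) := by
  simp only [P, mul_assoc, merge, merge', w19_14, w19_14', w16_14, w16_14', w15_14, w15_14', w17_14, w17_14', w20_14, w20_14', w21_14, w21_14', w23_14, w23_14', w13_18, w13_18', w12_18, w12_18', w19_18, w19_18', w20_18, w20_18', w21_18, w21_18', w22_18, w22_18', w23_18, w23_18', w12_13, w12_13', w16_13, w16_13', w17_13, w17_13', w21_13, w21_13', w22_13, w22_13', w23_13, w23_13', w15_12, w15_12', w17_12, w17_12', w20_12, w20_12', w22_12, w22_12', w23_12, w23_12', w16_19, w16_19', w15_19, w15_19', w20_19, w20_19', w21_19, w21_19', w22_19, w22_19', w23_19, w23_19', w15_16, w15_16', w17_16, w17_16', w21_16, w21_16',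 w22_16, w22_16', w23_16, w23_16', w17_15, w17_15', w20_15, w20_15', w22_15, w22_15', w23_15, w23_15', w20_17, w20_17', w21_17, w21_17', w22_17, w22_17', w23_17, w23_17', w21_20, w21_20', w22_20, w22_20', w23_20, w23_20', w22_21, w22_21', w23_21, w23_21', w23_22, w23_22', w18_14, w18_14', w13_14, w13_14', w12_14, w12_14', w22_14, w22_14', w16_18, w16_18', w15_18, w15_18', w17_18, w17_18', w19_13, w19_13', w15_13, w15_13', w20_13, w20_13', w19_12, w19_12', w16_12, w16_12', w21_12, w21_12', w17_19, w17_19', w20_16, w20_16', w21_15, w21_15']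
  all_goals ring_nf
  all_goals simp [_root_.CharTwo.two_eq_zero, three_eq, four_eq, five_eq, six_eq, seven_eq]

theorem P_mul15 (b a0 a2 a3 c0 c2 c3 d0 d2 d3 e f t : K) : P b a0 a2 a3 c0 c2 c3 d0 d2 d3 e f * Xr 15 t =
    P (b) (a0) (a2) (a3) (c0) (c2) (t + c3) (d0) (d2) (d3) (e) (f + t * d3) := by
  simp only [P, mul_assoc, merge, merge', w19_14, w19_14', w16_14, w16_14', w15_14, w15_14', w17_14, w17_14', w20_14, w20_14', w21_14, w21_14', w23_14, w23_14', w13_18, w13_18', w12_18, w12_18', w19_18, w19_18', w20_18, w20_18', w21_18, w21_18', w22_18, w22_18', w23_18, w23_18', w12_13, w12_13', w16_13, w16_13', w17_13, w17_13', w21_13, w21_13', w22_13, w22_13', w23_13, w23_13', w15_12, w15_12', w17_12, w17_12', w20_12, w20_12', w22_12, w22_12', w23_12, w23_12', w16_19, w16_19', w15_19, w15_19', w20_19, w20_19', w21_19, w21_19', w22_19, w22_19', w23_19, w23_19', w15_16, w15_16', w17_16, w17_16', w21_16, w21_16',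 w22_16, w22_16', w23_16, w23_16', w17_15, w17_15', w20_15, w20_15', w22_15, w22_15', w23_15, w23_15', w20_17, w20_17', w21_17, w21_17', w22_17, w22_17', w23_17, w23_17', w21_20, w21_20', w22_20, w22_20', w23_20, w23_20', w22_21, w22_21', w23_21, w23_21', w23_22, w23_22', w18_14, w18_14', w13_14, w13_14', w12_14, w12_14', w22_14, w22_14', w16_18, w16_18', w15_18, w15_18', w17_18, w17_18', w19_13, w19_13', w15_13, w15_13', w20_13, w20_13', w19_12, w19_12', w16_12, w16_12', w21_12, w21_12', w17_19, w17_19', w20_16, w20_16', w21_15, w21_15']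
  all_goals ring_nf
  all_goals simp [_root_.CharTwo.two_eq_zero, three_eq, four_eq, five_eq, six_eq, seven_eq]

theorem P_mul17 (b a0 a2 a3 c0 c2 c3 d0 d2 d3 e f t : K) : P b a0 a2 a3 c0 c2 c3 d0 d2 d3 e f * Xr 17 t =
    P (b) (a0) (a2) (a3) (c0) (c2) (c3) (t + d0) (d2) (d3) (e) (f) := by
  simp only [P, mul_assoc, merge, merge', w19_14, w19_14', w16_14, w16_14', w15_14, w15_14', w17_14, w17_14', w20_14, w20_14', w21_14, w21_14', w23_14, w23_14', w13_18, w13_18', w12_18, w12_18', w19_18, w19_18', w20_18, w20_18', w21_18, w21_18', w22_18, w22_18', w23_18, w23_18', w12_13, w12_13', w16_13, w16_13', w17_13, w17_13', w21_13, w21_13', w22_13, w22_13', w23_13, w23_13', w15_12, w15_12', w17_12, w17_12', w20_12, w20_12', w22_12, w22_12', w23_12, w23_12', w16_19, w16_19', w15_19, w15_19', w20_19, w20_19', w21_19, w21_19', w22_19, w22_19', w23_19, w23_19', w15_16, w15_16', w17_16, w17_16', w21_16, w21_16', w22_16,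 w22_16', w23_16, w23_16', w17_15, w17_15', w20_15, w20_15', w22_15, w22_15', w23_15, w23_15', w20_17, w20_17', w21_17, w21_17', w22_17, w22_17', w23_17, w23_17', w21_20, w21_20', w22_20, w22_20', w23_20, w23_20', w22_21, w22_21', w23_21, w23_21', w23_22, w23_22', w18_14, w18_14', w13_14, w13_14', w12_14, w12_14', w22_14, w22_14', w16_18, w16_18', w15_18, w15_18', w17_18, w17_18', w19_13, w19_13', w15_13, w15_13', w20_13, w20_13', w19_12, w19_12', w16_12, w16_12', w21_12, w21_12', w17_19, w17_19', w20_16, w20_16', w21_15, w21_15']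
  all_goals ring_nf
  all_goals simp [_root_.CharTwo.two_eq_zero, three_eq, four_eq, five_eq, six_eq, seven_eq]

theorem P_mul20 (b a0 a2 a3 c0 c2 c3 d0 d2 d3 e f t : K) : P b a0 a2 a3 c0 c2 c3 d0 d2 d3 e f * Xr 20 t =
    P (b) (a0) (a2) (a3) (c0) (c2) (c3) (d0) (t + d2) (d3) (e) (f) := by
  simp only [P, mul_assoc, merge, merge', w19_14, w19_14', w16_14, w16_14', w15_14, w15_14', w17_14, w17_14', w20_14, w20_14', w21_14, w21_14', w23_14, w23_14', w13_18, w13_18', w12_18, w12_18', w19_18, w19_18', w20_18, w20_18', w21_18, w21_18', w22_18, w22_18', w23_18, w23_18', w12_13, w12_13', w16_13, w16_13', w17_13, w17_13', w21_13, w21_13', w22_13, w22_13', w23_13, w23_13', w15_12, w15_12', w17_12, w17_12', w20_12, w20_12', w22_12, w22_12', w23_12, w23_12', w16_19, w16_19', w15_19, w15_19', w20_19, w20_19', w21_19, w21_19', w22_19, w22_19', w23_19, w23_19', w15_16, w15_16', w17_16, w17_16', w21_16, w21_16', w22_16,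 w22_16', w23_16, w23_16', w17_15, w17_15', w20_15, w20_15', w22_15, w22_15', w23_15, w23_15', w20_17, w20_17', w21_17, w21_17', w22_17, w22_17', w23_17, w23_17', w21_20, w21_20', w22_20, w22_20', w23_20, w23_20', w22_21, w22_21', w23_21, w23_21', w23_22, w23_22', w18_14, w18_14', w13_14, w13_14', w12_14, w12_14', w22_14, w22_14', w16_18, w16_18', w15_18, w15_18', w17_18, w17_18', w19_13, w19_13', w15_13, w15_13', w20_13, w20_13', w19_12, w19_12', w16_12, w16_12', w21_12, w21_12', w17_19, w17_19', w20_16, w20_16', w21_15, w21_15']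
  all_goals ring_nf
  all_goals simp [_root_.CharTwo.two_eq_zero, three_eq, four_eq, five_eq, six_eq, seven_eq]

theorem P_mul21 (b a0 a2 a3 c0 c2 c3 d0 d2 d3 e f t : K) : P b a0 a2 a3 c0 c2 c3 d0 d2 d3 e f * Xr 21 t =
    P (b) (a0) (a2) (a3) (c0) (c2) (c3) (d0) (d2) (t + d3) (e) (f) := by
  simp only [P, mul_assoc, merge, merge', w19_14, w19_14', w16_14, w16_14', w15_14, w15_14', w17_14, w17_14', w20_14, w20_14', w21_14, w21_14', w23_14, w23_14', w13_18, w13_18', w12_18, w12_18', w19_18, w19_18', w20_18, w20_18', w21_18, w21_18', w22_18, w22_18', w23_18, w23_18', w12_13, w12_13', w16_13, w16_13', w17_13, w17_13', w21_13, w21_13', w22_13, w22_13', w23_13, w23_13', w15_12, w15_12', w17_12, w17_12', w20_12, w20_12', w22_12, w22_12', w23_12, w23_12', w16_19, w16_19', w15_19, w15_19', w20_19, w20_19', w21_19, w21_19', w22_19, w22_19', w23_19, w23_19', w15_16, w15_16', w17_16, w17_16', w21_16, w21_16', w22_16,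 w22_16', w23_16, w23_16', w17_15, w17_15', w20_15, w20_15', w22_15, w22_15', w23_15, w23_15', w20_17, w20_17', w21_17, w21_17', w22_17, w22_17', w23_17, w23_17', w21_20, w21_20', w22_20, w22_20', w23_20, w23_20', w22_21, w22_21', w23_21, w23_21', w23_22, w23_22', w18_14, w18_14', w13_14, w13_14', w12_14, w12_14', w22_14, w22_14', w16_18, w16_18', w15_18, w15_18', w17_18, w17_18', w19_13, w19_13', w15_13, w15_13', w20_13, w20_13', w19_12, w19_12', w16_12, w16_12', w21_12, w21_12', w17_19, w17_19', w20_16, w20_16', w21_15, w21_15']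
  all_goals ring_nf
  all_goals simp [_root_.CharTwo.two_eq_zero, three_eq, four_eq, five_eq, six_eq, seven_eq]

theorem P_mul22 (b a0 a2 a3 c0 c2 c3 d0 d2 d3 e f t : K) : P b a0 a2 a3 c0 c2 c3 d0 d2 d3 e f * Xr 22 t =
    P (b) (a0) (a2) (a3) (c0) (c2) (c3) (d0) (d2) (d3) (e + t) (f) := by
  simp only [P, mul_assoc, merge, merge', w19_14, w19_14', w16_14, w16_14', w15_14, w15_14', w17_14, w17_14', w20_14, w20_14', w21_14, w21_14', w23_14, w23_14', w13_18, w13_18', w12_18, w12_18', w19_18, w19_18', w20_18, w20_18', w21_18, w21_18', w22_18, w22_18', w23_18, w23_18', w12_13, w12_13', w16_13, w16_13', w17_13, w17_13', w21_13, w21_13', w22_13, w22_13', w23_13, w23_13', w15_12, w15_12', w17_12, w17_12', w20_12, w20_12', w22_12, w22_12', w23_12, w23_12', w16_19, w16_19', w15_19, w15_19', w20_19, w20_19', w21_19, w21_19', w22_19, w22_19', w23_19, w23_19', w15_16, w15_16', w17_16, w17_16', w21_16, w21_16', w22_16,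 w22_16', w23_16, w23_16', w17_15, w17_15', w20_15, w20_15', w22_15, w22_15', w23_15, w23_15', w20_17, w20_17', w21_17, w21_17', w22_17, w22_17', w23_17, w23_17', w21_20, w21_20', w22_20, w22_20', w23_20, w23_20', w22_21, w22_21', w23_21, w23_21', w23_22, w23_22', w18_14, w18_14', w13_14, w13_14', w12_14, w12_14', w22_14, w22_14', w16_18, w16_18', w15_18, w15_18', w17_18, w17_18', w19_13, w19_13', w15_13, w15_13', w20_13, w20_13', w19_12, w19_12', w16_12, w16_12', w21_12, w21_12', w17_19, w17_19', w20_16, w20_16', w21_15, w21_15']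
  all_goals ring_nf
  all_goals simp [_root_.CharTwo.two_eq_zero, three_eq, four_eq, five_eq, six_eq, seven_eq]

theorem P_mul23 (b a0 a2 a3 c0 c2 c3 d0 d2 d3 e f t : K) : P b a0 a2 a3 c0 c2 c3 d0 d2 d3 e f * Xr 23 t =
    P (b) (a0) (a2) (a3) (c0) (c2) (c3) (d0) (d2) (d3) (e) (f + t) := by
  simp only [P, mul_assoc, merge, merge', w19_14, w19_14', w16_14, w16_14', w15_14, w15_14', w17_14, w17_14', w20_14, w20_14', w21_14, w21_14', w23_14, w23_14', w13_18, w13_18', w12_18, w12_18', w19_18, w19_18', w20_18, w20_18', w21_18, w21_18', w22_18, w22_18', w23_18, w23_18', w12_13, w12_13', w16_13, w16_13', w17_13, w17_13', w21_13, w21_13', w22_13, w22_13', w23_13, w23_13', w15_12, w15_12', w17_12, w17_12', w20_12, w20_12', w22_12, w22_12', w23_12, w23_12', w16_19, w16_19', w15_19, w15_19', w20_19, w20_19', w21_19, w21_19', w22_19, w22_19', w23_19, w23_19', w15_16, w15_16', w17_16, w17_16', w21_16, w21_16', w22_16,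 w22_16', w23_16, w23_16', w17_15, w17_15', w20_15, w20_15', w22_15, w22_15', w23_15, w23_15', w20_17, w20_17', w21_17, w21_17', w22_17, w22_17', w23_17, w23_17', w21_20, w21_20', w22_20, w22_20', w23_20, w23_20', w22_21, w22_21', w23_21, w23_21', w23_22, w23_22', w18_14, w18_14', w13_14, w13_14', w12_14, w12_14', w22_14, w22_14', w16_18, w16_18', w15_18, w15_18', w17_18, w17_18', w19_13, w19_13', w15_13, w15_13', w20_13, w20_13', w19_12, w19_12', w16_12, w16_12', w21_12, w21_12', w17_19, w17_19', w20_16, w20_16', w21_15, w21_15']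
  all_goals ring_nf
  all_goals simp [_root_.CharTwo.two_eq_zero, three_eq, four_eq, five_eq, six_eq, seven_eq]

omit [CharP K 2] in
theorem P_zero : P (0 : K) 0 0 0 0 0 0 0 0 0 0 0 = 1 := by simp [P, xg_zero hC]

omit [CharP K 2] in
theorem mul_P (Q : GL chevD4.Idx K) (b a0 a2 a3 c0 c2 c3 d0 d2 d3 e f : K) : Q * P b a0 a2 a3 c0 c2 c3 d0 d2 d3 e f =
    Q * Xr 14 b * Xr 18 a0 * Xr 13 a2 * Xr 12 a3 * Xr 19 c0 * Xr 16 c2 * Xr 15 c3 * Xr 17 d0 * Xr 20 d2 * Xr 21 d3 * Xr 22 e * Xr 23 f := by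
  simp only [P, mul_assoc]

theorem sq_full (b a0 a2 a3 c0 c2 c3 d0 d2 d3 e f : K) : P b a0 a2 a3 c0 c2 c3 d0 d2 d3 e f * P b a0 a2 a3 c0 c2 c3 d0 d2 d3 e f =
    P (0 : K) (0 : K) (0 : K) (0 : K) (b * a0 : K) (b * a2 : K) (b * a3 : K) (a2 * c3 + a3 * c2 + b * a2 * a3 : K) (a0 * c3 + a3 * c0 + b * a0 * a3 : K) (a0 * c2 + a2 * c0 + b * a0 * a2 : K) (a0 * d0 + a2 * d2 + a3 * d3 + a0 * a2 * c3 + a0 * a3 * c2 + a2 * a3 * c0 + b * a0 * a2 * a3 : K) (b * e + c0 * d0 + c2 * d2 + c3 * d3 + a0 * c2 * c3 + a2 * c0 * c3 + a3 * c0 * c2 + b ^ 2 * a0 * a2 * a3 : K) := by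
  rw [mul_P]
  simp only [P_mul14, P_mul18, P_mul13, P_mul12, P_mul19, P_mul16, P_mul15, P_mul17, P_mul20, P_mul21, P_mul22, P_mul23]
  congr 1
  all_goals ring_nf
  all_goals simp [_root_.CharTwo.two_eq_zero, three_eq, four_eq, five_eq, six_eq, seven_eq]

theorem conjA_BlZ (b c0 c2 c3 d0 d2 d3 e f s0 s2 s3 : K) : P (0 : K) s0 s2 s3 (0 : K) (0 : K) (0 : K) (0 : K) (0 : K) (0 : K) (0 : K) (0 : K) * P b (0 : K) (0 : K) (0 : K) c0 c2 c3 d0 d2 d3 e f * P (0 : K) s0 s2 s3 (0 : K) (0 : K) (0 : K) (0 : K) (0 : K) (0 : K) (0 : K) (0 : K) =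
    P (b : K) (0 : K) (0 : K) (0 : K) (c0 + s0 * b : K) (c2 + s2 * b : K) (c3 + s3 * b : K) (d0 + s2 * c3 + s3 * c2 + s2 * s3 * b : K) (d2 + s0 * c3 + s3 * c0 + s0 * s3 * b : K) (d3 + s0 * c2 + s2 * c0 + s0 * s2 * b : K) (e + s0 * d0 + s2 * d2 + s3 * d3 + s0 * s2 * c3 + s0 * s3 * c2 + s2 * s3 * c0 + s0 * s2 * s3 * b : K) (f + s0 * c2 * c3 + s2 * c0 * c3 + s3 * c0 * c2 + s0 * s2 * b * c3 + s0 * s3 * b * c2 + s2 * s3 * b * c0 + s0 * s2 * s3 * b ^ 2 : K) := by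
  rw [mul_P, mul_P]
  simp only [P_mul14, P_mul18, P_mul13, P_mul12, P_mul19, P_mul16, P_mul15, P_mul17, P_mul20, P_mul21, P_mul22, P_mul23]
  congr 1
  all_goals ring_nf
  all_goals simp [_root_.CharTwo.two_eq_zero, three_eq, four_eq, five_eq, six_eq, seven_eq]

theorem conjD_BlZ (b c0 c2 c3 d0 d2 d3 e f s0 : K) : P (0 : K) (0 : K) (0 : K) (0 : K) (0 : K) (0 : K) (0 : K) (0 : K) (0 : K) (0 : K) s0 (0 : K) * P b (0 : K) (0 : K) (0 : K) c0 c2 c3 d0 d2 d3 e f * P (0 : K) (0 : K) (0 : K) (0 : K) (0 : K) (0 : K) (0 : K) (0 : K) (0 : K) (0 : K) s0 (0 : K) =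
    P (b : K) (0 : K) (0 : K) (0 : K) (c0 : K) (c2 : K) (c3 : K) (d0 : K) (d2 : K) (d3 : K) (e : K) (f + s0 * b : K) := by
  rw [mul_P, mul_P]
  simp only [P_mul14, P_mul18, P_mul13, P_mul12, P_mul19, P_mul16, P_mul15, P_mul17, P_mul20, P_mul21, P_mul22, P_mul23]
  congr 1
  all_goals ring_nf
  all_goals simp [_root_.CharTwo.two_eq_zero, three_eq, four_eq, five_eq, six_eq, seven_eq]

theorem conjBl_AZ (a0 a2 a3 c0 c2 c3 d0 d2 d3 e f s0 : K) : P s0 (0 : K) (0 : K) (0 : K) (0 : K) (0 : K) (0 : K) (0 : K) (0 : K) (0 : K) (0 : K) (0 : K) * P (0 : K) a0 a2 a3 c0 c2 c3 d0 d2 d3 e f * P s0 (0 : K) (0 : K) (0 : K) (0 : K) (0 : K) (0 : K) (0 : K) (0 : K) (0 : K) (0 : K) (0 : K) =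
    P (0 : K) (a0 : K) (a2 : K) (a3 : K) (c0 + s0 * a0 : K) (c2 + s0 * a2 : K) (c3 + s0 * a3 : K) (d0 + s0 * a2 * a3 : K) (d2 + s0 * a0 * a3 : K) (d3 + s0 * a0 * a2 : K) (e + s0 * a0 * a2 * a3 : K) (f + s0 * e + s0 * a0 * a2 * c3 + s0 * a0 * a3 * c2 + s0 * a2 * a3 * c0 : K) := by
  rw [mul_P, mul_P]
  simp only [P_mul14, P_mul18, P_mul13, P_mul12, P_mul19, P_mul16, P_mul15, P_mul17, P_mul20, P_mul21, P_mul22, P_mul23]
  congr 1
  all_goals ring_nf
  all_goals simp [_root_.CharTwo.two_eq_zero, three_eq, four_eq, five_eq, six_eq, seven_eq]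

theorem conjB_AW (a0 a2 a3 d0 d2 d3 e f s0 s2 s3 : K) : P (0 : K) (0 : K) (0 : K) (0 : K) s0 s2 s3 (0 : K) (0 : K) (0 : K) (0 : K) (0 : K) * P (0 : K) a0 a2 a3 (0 : K) (0 : K) (0 : K) d0 d2 d3 e f * P (0 : K) (0 : K) (0 : K) (0 : K) s0 s2 s3 (0 : K) (0 : K) (0 : K) (0 : K) (0 : K) =
    P (0 : K) (a0 : K) (a2 : K) (a3 : K) (0 : K) (0 : K) (0 : K) (d0 + s2 * a3 + s3 * a2 : K) (d2 + s0 * a3 + s3 * a0 : K) (d3 + s0 * a2 + s2 * a0 : K) (e + s0 * a2 * a3 + s2 * a0 * a3 + s3 * a0 * a2 : K) (f + s0 * d0 + s2 * d2 + s3 * d3 + s0 * s2 * a3 + s0 * s3 * a2 + s2 * s3 * a0 : K) := by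
  rw [mul_P, mul_P]
  simp only [P_mul14, P_mul18, P_mul13, P_mul12, P_mul19, P_mul16, P_mul15, P_mul17, P_mul20, P_mul21, P_mul22, P_mul23]
  congr 1
  all_goals ring_nf
  all_goals simp [_root_.CharTwo.two_eq_zero, three_eq, four_eq, five_eq, six_eq, seven_eq]

theorem conjC_AW (a0 a2 a3 d0 d2 d3 e f s0 s2 s3 : K) : P (0 : K) (0 : K) (0 : K) (0 : K) (0 : K) (0 : K) (0 : K) s0 s2 s3 (0 : K) (0 : K) * P (0 : K) a0 a2 a3 (0 : K) (0 : K) (0 : K) d0 d2 d3 e f * P (0 : K) (0 : K) (0 : K) (0 : K) (0 : K) (0 : K) (0 : K) s0 s2 s3 (0 : K) (0 : K) =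
    P (0 : K) (a0 : K) (a2 : K) (a3 : K) (0 : K) (0 : K) (0 : K) (d0 : K) (d2 : K) (d3 : K) (e + s0 * a0 + s2 * a2 + s3 * a3 : K) (f : K) := by
  rw [mul_P, mul_P]
  simp only [P_mul14, P_mul18, P_mul13, P_mul12, P_mul19, P_mul16, P_mul15, P_mul17, P_mul20, P_mul21, P_mul22, P_mul23]
  congr 1
  all_goals ring_nf
  all_goals simp [_root_.CharTwo.two_eq_zero, three_eq, four_eq, five_eq, six_eq, seven_eq]

theorem conjA_Z (c0 c2 c3 d0 d2 d3 e f s0 s2 s3 : K) : P (0 : K) s0 s2 s3 (0 : K) (0 : K) (0 : K) (0 : K) (0 : K) (0 : K) (0 : K) (0 : K) * P (0 : K) (0 : K) (0 : K) (0 : K) c0 c2 c3 d0 d2 d3 e f * P (0 : K) s0 s2 s3 (0 : K) (0 : K) (0 : K) (0 : K) (0 : K) (0 : K) (0 : K) (0 : K) =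
    P (0 : K) (0 : K) (0 : K) (0 : K) (c0 : K) (c2 : K) (c3 : K) (d0 + s2 * c3 + s3 * c2 : K) (d2 + s0 * c3 + s3 * c0 : K) (d3 + s0 * c2 + s2 * c0 : K) (e + s0 * d0 + s2 * d2 + s3 * d3 + s0 * s2 * c3 + s0 * s3 * c2 + s2 * s3 * c0 : K) (f + s0 * c2 * c3 + s2 * c0 * c3 + s3 * c0 * c2 : K) := by
  rw [mul_P, mul_P]
  simp only [P_mul14, P_mul18, P_mul13, P_mul12, P_mul19, P_mul16, P_mul15, P_mul17, P_mul20, P_mul21, P_mul22, P_mul23]
  congr 1
  all_goals ring_nf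
  all_goals simp [_root_.CharTwo.two_eq_zero, three_eq, four_eq, five_eq, six_eq, seven_eq]

theorem conjB_Z (c0 c2 c3 d0 d2 d3 e f s0 s2 s3 : K) : P (0 : K) (0 : K) (0 : K) (0 : K) s0 s2 s3 (0 : K) (0 : K) (0 : K) (0 : K) (0 : K) * P (0 : K) (0 : K) (0 : K) (0 : K) c0 c2 c3 d0 d2 d3 e f * P (0 : K) (0 : K) (0 : K) (0 : K) s0 s2 s3 (0 : K) (0 : K) (0 : K) (0 : K) (0 : K) =
    P (0 : K) (0 : K) (0 : K) (0 : K) (c0 : K) (c2 : K) (c3 : K) (d0 : K) (d2 : K) (d3 : K) (e : K) (f + s0 * d0 + s2 * d2 + s3 * d3 : K) := by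
  rw [mul_P, mul_P]
  simp only [P_mul14, P_mul18, P_mul13, P_mul12, P_mul19, P_mul16, P_mul15, P_mul17, P_mul20, P_mul21, P_mul22, P_mul23]
  congr 1
  all_goals ring_nf
  all_goals simp [_root_.CharTwo.two_eq_zero, three_eq, four_eq, five_eq, six_eq, seven_eq]

theorem conjC_Z (c0 c2 c3 d0 d2 d3 e f s0 s2 s3 : K) : P (0 : K) (0 : K) (0 : K) (0 : K) (0 : K) (0 : K) (0 : K) s0 s2 s3 (0 : K) (0 : K) * P (0 : K) (0 : K) (0 : K) (0 : K) c0 c2 c3 d0 d2 d3 e f * P (0 : K) (0 : K) (0 : K) (0 : K) (0 : K) (0 : K) (0 : K) s0 s2 s3 (0 : K) (0 : K) =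
    P (0 : K) (0 : K) (0 : K) (0 : K) (c0 : K) (c2 : K) (c3 : K) (d0 : K) (d2 : K) (d3 : K) (e : K) (f + s0 * c0 + s2 * c2 + s3 * c3 : K) := by
  rw [mul_P, mul_P]
  simp only [P_mul14, P_mul18, P_mul13, P_mul12, P_mul19, P_mul16, P_mul15, P_mul17, P_mul20, P_mul21, P_mul22, P_mul23]
  congr 1
  all_goals ring_nf
  all_goals simp [_root_.CharTwo.two_eq_zero, three_eq, four_eq, five_eq, six_eq, seven_eq]

theorem conjBl_Z (c0 c2 c3 d0 d2 d3 e f s0 : K) : P s0 (0 : K) (0 : K) (0 : K) (0 : K) (0 : K) (0 : K) (0 : K) (0 : K) (0 : K) (0 : K) (0 : K) * P (0 : K) (0 : K) (0 : K) (0 : K) c0 c2 c3 d0 d2 d3 e f * P s0 (0 : K) (0 : K) (0 : K) (0 : K) (0 : K) (0 : K) (0 : K) (0 : K) (0 : K) (0 : K) (0 : K) =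
    P (0 : K) (0 : K) (0 : K) (0 : K) (c0 : K) (c2 : K) (c3 : K) (d0 : K) (d2 : K) (d3 : K) (e : K) (f + s0 * e : K) := by
  rw [mul_P, mul_P]
  simp only [P_mul14, P_mul18, P_mul13, P_mul12, P_mul19, P_mul16, P_mul15, P_mul17, P_mul20, P_mul21, P_mul22, P_mul23]
  congr 1
  all_goals ring_nf
  all_goals simp [_root_.CharTwo.two_eq_zero, three_eq, four_eq, five_eq, six_eq, seven_eq]

/-- The coordinates in the increasing order. -/
def coord (b a0 a2 a3 c0 c2 c3 d0 d2 d3 e f : K) (r : ℕ) : K :=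
  if r = 12 then a3
  else if r = 13 then a2
  else if r = 14 then b
  else if r = 15 then c3 + b * a3
  else if r = 16 then c2 + b * a2
  else if r = 17 then d0 + b * a2 * a3
  else if r = 18 then a0
  else if r = 19 then c0
  else if r = 20 then d2 + a0 * c3
  else if r = 21 then d3 + a0 * c2
  else if r = 22 then e + a0 * d0
  else f + c0 * d0 + a0 * c2 * c3

theorem P_eq_prodX (b a0 a2 a3 c0 c2 c3 d0 d2 d3 e f : K) : P b a0 a2 a3 c0 c2 c3 d0 d2 d3 e f =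
    prodX hC [12, 13, 14, 15, 16, 17, 18, 19, 20, 21, 22, 23] (coord b a0 a2 a3 c0 c2 c3 d0 d2 d3 e f) := by
  rw [← one_mul (prodX hC _ _), ← P_zero]
  simp only [prodX, List.map_cons, List.map_nil, List.prod_cons, List.prod_nil, mul_one, ← mul_assoc]
  simp only [P_mul14, P_mul18, P_mul13, P_mul12, P_mul19, P_mul16, P_mul15, P_mul17, P_mul20, P_mul21, P_mul22, P_mul23]
  simp only [coord]
  norm_num
  congr 1
  all_goals ring_nf
  all_goals simp [_root_.CharTwo.two_eq_zero, three_eq, four_eq, five_eq, six_eq, seven_eq]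

end Cfsg.Agent.Chevalley.Twist.D4.Collect

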