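import Cfsg.Prelude.Def_LieTwisted
import Cfsg.Agent.Lib.Chevalley.Twist.CharTwo
import Cfsg.Agent.Lib.Chevalley.Twist.Build
import Cfsg.Agent.Lib.Chevalley.Types.GAut
import Cfsg.Agent.Lib.Chevalley.Types.OrderF4

/-!
The twisted groups of type F4 are fixed groups.
-/

set_option autoImplicit false

open scoped Matrix

namespace Cfsg.Agent.Chevalley.Twist.F4

open Cfsg.Lie Cfsg.Agent.Chevalley Cfsg.Agent.Chevalley.Table Cfsg.Agent.Chevalley.Cert
  Cfsg.Agent.Chevalley.Group Cfsg.Agent.Chevalley.Unip Cfsg.Agent.Chevalley.GraphAut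
  Cfsg.Agent.Chevalley.TorusCard Cfsg.Agent.Chevalley.NormalForm Cfsg.Agent.Chevalley.Borel
  Cfsg.Agent.Chevalley.Bruhat Cfsg.Agent.Chevalley.Weyl

abbrev hC : Certified chevF4 Data.F4.tab := Types.F4.certified

theorem hT : StKernel.HasCerts Data.F4.tab :=
  ⟨⟨_, Types.CoefF4.coef_ok⟩, ⟨_, Types.StCerts.conj_F4⟩⟩

/-- The node images with exponents. -/
abbrev L : List (ℕ × ℕ) := [(3, 2), (2, 2), (1, 1), (0, 1)]

/-- The orbits. -/
abbrev Js : List (List ℕ) := [[3, 0], [1, 2, 1, 2]]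

/-- A word for the longest element. -/
abbrev top : List ℕ := [0, 1, 0, 1, 0, 1, 0, 1]

/-- The inverse of the transposed Cartan matrix. -/
abbrev adj : Matrix (Fin chevF4.rank) (Fin chevF4.rank) ℤ :=
  (!![2, 3, 2, 1; 3, 6, 4, 2; 4, 8, 6, 3; 2, 4, 3, 2] : Matrix (Fin 4) (Fin 4) ℤ)

theorem orbits_ok : orbitsChk Data.F4.tab Types.GAut.tabF4 (nodePi L) Js top = true := by
  decide +kernel

theorem orth_ok : orthChk Data.F4.tab (nodePi L) [3, 0] = true := by decide +kernel

theorem adj_ok : adj * cartanMat chevF4 = (1 : ℤ) • (1 : Matrix (Fin chevF4.rank) (Fin chevF4.rank) ℤ) := by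
  decide +kernel

theorem disjoint_ok : ∀ a < 2, ∀ b < 2, ∀ i ∈ Js.getD a [], i ∈ Js.getD b [] → a = b := by
  decide +kernel

theorem eps_ok : ∀ r < 48, Types.GAut.tabF4.ε r = 1 := by decide +kernel

theorem inv_ok : invT Data.F4.tab [1, 2, 1, 2] = [25, 27, 28, 30] := by decide +kernel

theorem b2_pos : CharTwo.b2Chk Data.F4.tab 27 25 28 30 = true := by decide +kernel

theorem b2_neg : CharTwo.b2Chk Data.F4.tab 20 22 19 17 = true := by decide +kernel

theorem even_ok : ∀ rs ∈ [(27, 28), (27, 30), (25, 28), (25, 30), (28, 30), (19, 17)],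
    CharTwo.evenChk Data.F4.tab rs.1 rs.2 = true := by decide +kernel

theorem roots_ok : chevF4.simple 0 = 33 ∧ chevF4.simple 1 = 27 ∧ chevF4.simple 2 = 25 ∧
    chevF4.simple 3 = 24 ∧ chevF4.neg 27 = 20 ∧ chevF4.neg 25 = 22 ∧ chevF4.neg 28 = 19 ∧
    chevF4.neg 30 = 17 ∧ chevF4.neg 33 = 14 ∧ chevF4.neg 24 = 23 ∧ chevF4.nroots = 48 := by
  decide +kernel

theorem wl_ok : wL chevF4 [2] 27 = 28 ∧ wL chevF4 [1] 25 = 30 ∧ wL chevF4 [2, 1, 2] 30 = 22 ∧
    wL chevF4 [1, 2, 1] 20 = 28 ∧ wL chevF4 [2, 1, 2, 1, 2, 1] 30 = 25 ∧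
    wL chevF4 [2, 2, 1, 2, 1, 2, 1] 27 = 27 ∧ wL chevF4 [1, 2, 1, 2] 33 = 37 ∧
    wL chevF4 [1, 2, 1, 2] 24 = 32 := by decide +kernel

theorem cor_ok : ∀ i < 4, cor chevF4 37 i = [1, 2, 2, 0].getD i 0 ∧
    cor chevF4 32 i = [0, 1, 2, 1].getD i 0 := by decide +kernel

variable {K : Type*} [Field K] [Fintype K] {m : ℕ}

/-- The pair word. -/
def pw (e : ℕ) (r rbar : ℕ) (t : K) : GL chevF4.Idx K := xg hC r (t ^ e) * xg hC rbar t

/-- The class word. -/
def cw (e : ℕ) (a b p q : ℕ) (t u : K) : GL chevF4.Idx K :=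
  xg hC a (t ^ e) * xg hC b t * (xg hC p (t ^ (e + 1) + u) * xg hC q (u ^ (2 * e)))

theorem wordGL_cw (e : ℕ) (a b p q : ℕ) (t u : K) :
    wordGL hC (b2ClassWord e a b p q t u) = cw e a b p q t u := by
  simp [wordGL, b2ClassWord, cw, mul_assoc]

/-- The sorted normal form of a class element. -/
def sf (c : Fin 4 → K) : GL chevF4.Idx K :=
  xg hC 25 (c 0) * xg hC 27 (c 1) * (xg hC 28 (c 2) * xg hC 30 (c 3))

theorem sf_inj {c c' : Fin 4 → K} (h : sf c = sf c') : c = c' := by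
  let f : (Fin 4 → K) → ℕ → K := fun c r =>
    if r = 25 then c 0 else if r = 27 then c 1 else if r = 28 then c 2 else c 3
  have e : ∀ c : Fin 4 → K, sf c = prodX hC [25, 27, 28, 30] (f c) := fun c => by
    simp [sf, prodX, f, mul_assoc]
  rw [e, e] at h
  have hpos : ∀ r ∈ [25, 27, 28, 30], r < chevF4.nroots ∧ 0 < Data.F4.tab.phi r := by decide +kernel
  have h1 := prodX_inj hC (L := [25, 27, 28, 30]) (by decide) hpos h
  funext j
  fin_cases j
  exacts [h1 25 (by simp), h1 27 (by simp), h1 28 (by simp), h1 30 (by simp)]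

variable [CharP K 2]

theorem comm_pos (S T : K) : xg hC 25 T * xg hC 27 S =
    xg hC 27 S * xg hC 25 T * (xg hC 28 (S * T) * xg hC 30 (S ^ 2 * T)) :=
  CharTwo.b2_comm (by decide +kernel) (by decide +kernel) b2_pos S T

theorem comm_neg (S T : K) : xg hC 22 T * xg hC 20 S =
    xg hC 20 S * xg hC 22 T * (xg hC 19 (S * T) * xg hC 17 (S ^ 2 * T)) :=
  CharTwo.b2_comm (by decide +kernel) (by decide +kernel) b2_neg S T

theorem comm_even {r s : ℕ} (h : (r, s) ∈ [(27, 28), (27, 30), (25, 28), (25, 30), (28, 30), (19, 17)])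
    (t u : K) : xg hC s u * xg hC r t = xg hC r t * xg hC s u := by
  have hlt : ∀ rs ∈ [(27, 28), (27, 30), (25, 28), (25, 30), (28, 30), (19, 17)],
      rs.1 < chevF4.nroots ∧ rs.2 < chevF4.nroots := by decide +kernel
  exact CharTwo.even_comm (hlt _ h).1 (hlt _ h).2 (even_ok _ h) t u

theorem comm_pos' (S T : K) : xg hC 27 S * xg hC 25 T =
    xg hC 25 T * xg hC 27 S * (xg hC 28 (S * T) * xg hC 30 (S ^ 2 * T)) := by
  rw [comm_pos]
  obtain ⟨P, hP⟩ : ∃ P, P = xg hC 28 (S * T) * xg hC 30 (S ^ 2 * T) := ⟨_, rfl⟩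
  rw [← hP]
  have hsq : P * P = 1 := by
    rw [hP]
    calc xg hC 28 (S * T) * xg hC 30 (S ^ 2 * T) * (xg hC 28 (S * T) * xg hC 30 (S ^ 2 * T))
        = xg hC 28 (S * T) * (xg hC 30 (S ^ 2 * T) * xg hC 28 (S * T)) * xg hC 30 (S ^ 2 * T) := by group
      _ = xg hC 28 (S * T) * (xg hC 28 (S * T) * xg hC 30 (S ^ 2 * T)) * xg hC 30 (S ^ 2 * T) := by
        rw [comm_even (by simp)]
      _ = xg hC 28 (S * T) * xg hC 28 (S * T) * (xg hC 30 (S ^ 2 * T) * xg hC 30 (S ^ 2 * T)) := by group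
      _ = 1 := by rw [CharTwo.xg_sq, CharTwo.xg_sq, one_mul]
  rw [mul_assoc _ P P, hsq, mul_one]

/-- A class word in sorted form. -/
theorem cw_eq_sf (e : ℕ) (t u : K) :
    cw e 27 25 28 30 t u = sf ![t, t ^ e, u, (t ^ e) ^ 2 * t + u ^ (2 * e)] := by
  rw [cw, sf]
  simp only [Matrix.cons_val_zero, Matrix.cons_val_one, Matrix.cons_val]
  rw [comm_pos']
  simp only [mul_assoc]
  congr 2
  rw [← mul_assoc (xg hC 30 ((t ^ e) ^ 2 * t)), comm_even (r := 28) (s := 30) (by simp), mul_assoc,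
    ← xg_add hC, ← mul_assoc, ← xg_add hC, ← pow_succ, ← add_assoc, _root_.CharTwo.add_self_eq_zero,
    zero_add]

/-- The longest element of the class is a product of generators. -/
theorem nJ_eq : nL hC K [1, 2, 1, 2] =
    (xg hC 27 (1 : K) * xg hC 25 1 * xg hC 30 1)⁻¹ * (xg hC 19 1 * xg hC 17 1) *
      (xg hC 27 (1 : K) * xg hC 25 1 * xg hC 28 1)⁻¹ := by
  obtain ⟨-, h1, h2, -, h20, h22, h19, h17, -, -, -⟩ := roots_ok
  obtain ⟨w1, w2, w3, w4, w5, w6, -, -⟩ := wl_ok
  have hn : ∀ r, r < 48 → r < chevF4.nroots := by intro r hr; rwa [roots_ok.2.2.2.2.2.2.2.2.2.2]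
  have n25 : ng hC 25 (1 : K) = nL hC K [2] := by rw [nL_singleton, h2]
  have n27 : ng hC 27 (1 : K) = nL hC K [1] := by rw [nL_singleton, h1]
  have n28 : ng hC 28 (1 : K) = nL hC K [2, 1, 2] := by
    rw [← w1, ← CharTwo.nL_conj_ng (by decide) (hn 27 (by omega)), nL_singleton, CharTwo.ng_inv_self,
      n27, ← nL_singleton (F := K) hC 2, ← nL_append, ← nL_append]
    rfl
  have n30 : ng hC 30 (1 : K) = nL hC K [1, 2, 1] := by
    rw [← w2, ← CharTwo.nL_conj_ng (by decide) (hn 25 (by omega)), nL_singleton, CharTwo.ng_inv_self,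
      n25, ← nL_singleton (F := K) hC 1, ← nL_append, ← nL_append]
    rfl
  have hsq : ∀ i, nL hC K [i] * nL hC K [i] = 1 := fun i => by
    rw [nL_singleton, CharTwo.ng_sq_one]
  have e19 : xg hC 19 (1 : K) = xg hC 28 1 * nL hC K [2, 1, 2] * xg hC 28 1 := by
    rw [← n28, ← CharTwo.xg_neg_eq, h19]
  have e17 : xg hC 17 (1 : K) = xg hC 30 1 * nL hC K [1, 2, 1] * xg hC 30 1 := by
    rw [← n30, ← CharTwo.xg_neg_eq, h17]
  have e22 : xg hC 22 (1 : K) = xg hC 25 1 * nL hC K [2] * xg hC 25 1 := by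
    rw [← n25, ← CharTwo.xg_neg_eq, h22]
  have e20 : xg hC 20 (1 : K) = xg hC 27 1 * nL hC K [1] * xg hC 27 1 := by
    rw [← n27, ← CharTwo.xg_neg_eq, h20]
  have m1 : nL hC K [2, 1, 2] * xg hC 30 (1 : K) = xg hC 22 1 * nL hC K [2, 1, 2] :=
    CharTwo.nL_mul_xg (by decide) (hn 30 (by omega)) w3 1
  have m2 : xg hC 28 (1 : K) * nL hC K [1, 2, 1] = nL hC K [1, 2, 1] * xg hC 20 1 :=
    (CharTwo.nL_mul_xg (by decide) (hn 20 (by omega)) w4 1).symm
  have m3 : xg hC 25 (1 : K) * nL hC K [2, 1, 2, 1, 2, 1] =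
      nL hC K [2, 1, 2, 1, 2, 1] * xg hC 30 1 :=
    (CharTwo.nL_mul_xg (by decide) (hn 30 (by omega)) w5 1).symm
  have m4 : nL hC K [2, 2, 1, 2, 1, 2, 1] * xg hC 27 (1 : K) =
      xg hC 27 1 * nL hC K [2, 2, 1, 2, 1, 2, 1] :=
    CharTwo.nL_mul_xg (by decide) (hn 27 (by omega)) w6 1
  have m5 : xg hC 30 (1 : K) * nL hC K [1] = nL hC K [1] * xg hC 25 1 :=
    (CharTwo.nL_mul_xg (by decide) (hn 25 (by omega)) w2 1).symm
  have m6 : xg hC 30 (1 : K) * xg hC 27 1 = xg hC 27 1 * xg hC 30 1 := comm_even (by simp) _ _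
  have hword : nL hC K [2, 2, 1, 2, 1, 2, 1] * nL hC K [1] = nL hC K [1, 2, 1, 2] := by
    have e1 : nL hC K [2, 2, 1, 2, 1, 2, 1] =
        nL hC K [2] * (nL hC K [2] * nL hC K [1, 2, 1, 2, 1]) := by
      rw [← nL_append (hC := hC) [2] [1, 2, 1, 2, 1]]
      exact nL_append (hC := hC) [2] [2, 1, 2, 1, 2, 1]
    have e2 : nL hC K [1, 2, 1, 2, 1] = nL hC K [1, 2, 1, 2] * nL hC K [1] :=
      nL_append (hC := hC) [1, 2, 1, 2] [1]
    rw [e1, e2, ← mul_assoc (nL hC K [2]) (nL hC K [2]), hsq, one_mul, mul_assoc, hsq, mul_one]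
  -- the element `n` between two positive parts
  have hv : xg hC 19 (1 : K) * xg hC 17 1 =
      xg hC 28 1 * xg hC 25 1 * xg hC 27 1 * nL hC K [1, 2, 1, 2] *
        (xg hC 25 1 * xg hC 27 1 * xg hC 30 1) := by
    calc xg hC 19 (1 : K) * xg hC 17 1
        = xg hC 28 1 * nL hC K [2, 1, 2] * (xg hC 28 1 * xg hC 30 1) * nL hC K [1, 2, 1] *
            xg hC 30 1 := by rw [e19, e17]; group
      _ = xg hC 28 1 * (nL hC K [2, 1, 2] * xg hC 30 1) * (xg hC 28 1 * nL hC K [1, 2, 1]) *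
            xg hC 30 1 := by rw [← comm_even (r := 28) (s := 30) (by simp)]; group
      _ = xg hC 28 1 * (xg hC 22 1 * nL hC K [2, 1, 2]) * (nL hC K [1, 2, 1] * xg hC 20 1) *
            xg hC 30 1 := by rw [m1, m2]
      _ = xg hC 28 1 * xg hC 25 1 * nL hC K [2] *
            (xg hC 25 1 * nL hC K [2, 1, 2, 1, 2, 1]) *
            xg hC 27 1 * nL hC K [1] * xg hC 27 1 * xg hC 30 1 := by
        rw [e22, e20, show nL hC K [2, 1, 2, 1, 2, 1] = nL hC K [2, 1, 2] * nL hC K [1, 2, 1] from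
          nL_append (hC := hC) [2, 1, 2] [1, 2, 1]]
        group
      _ = xg hC 28 1 * xg hC 25 1 * (nL hC K [2] * nL hC K [2, 1, 2, 1, 2, 1]) *
            (xg hC 30 1 * xg hC 27 1) * nL hC K [1] * xg hC 27 1 * xg hC 30 1 := by rw [m3]; group
      _ = xg hC 28 1 * xg hC 25 1 * (nL hC K [2, 2, 1, 2, 1, 2, 1] * xg hC 27 1) *
            (xg hC 30 1 * nL hC K [1]) * xg hC 27 1 * xg hC 30 1 := by
        rw [m6, show nL hC K [2, 2, 1, 2, 1, 2, 1] = nL hC K [2] * nL hC K [2, 1, 2, 1, 2, 1] from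
          nL_append (hC := hC) [2] [2, 1, 2, 1, 2, 1]]
        group
      _ = xg hC 28 1 * xg hC 25 1 * xg hC 27 1 *
            (nL hC K [2, 2, 1, 2, 1, 2, 1] * nL hC K [1]) *
            (xg hC 25 1 * xg hC 27 1 * xg hC 30 1) := by rw [m4, m5]; group
      _ = _ := by
        rw [hword]
  have hl : xg hC 28 (1 : K) * xg hC 25 1 * xg hC 27 1 = xg hC 27 1 * xg hC 25 1 * xg hC 30 1 := by
    calc xg hC 28 (1 : K) * xg hC 25 1 * xg hC 27 1
        = xg hC 28 1 * xg hC 27 1 * xg hC 25 1 * (xg hC 28 1 * xg hC 30 1) := by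
          rw [mul_assoc (xg hC 28 (1 : K)), comm_pos, one_pow, mul_one]; group
      _ = xg hC 27 1 * (xg hC 28 1 * xg hC 25 1) * (xg hC 28 1 * xg hC 30 1) := by
          rw [comm_even (r := 27) (s := 28) (by simp)]; group
      _ = xg hC 27 1 * xg hC 25 1 * (xg hC 28 1 * xg hC 28 1) * xg hC 30 1 := by
          rw [comm_even (r := 25) (s := 28) (by simp)]; group
      _ = _ := by rw [CharTwo.xg_sq, mul_one]
  have hr : xg hC 25 (1 : K) * xg hC 27 1 * xg hC 30 1 = xg hC 27 1 * xg hC 25 1 * xg hC 28 1 := by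
    rw [comm_pos, one_pow, mul_one, mul_assoc, mul_assoc (xg hC 28 (1 : K)), CharTwo.xg_sq, mul_one]
  rw [hv, hl, hr]
  group

/-- The data of the twisted group. -/
structure Setup (hK : Fintype.card K = 2 ^ (2 * m + 1)) where
  S : Tw hC K
  O : Orbits S
  π_eq : S.π = nodePi L
  hom_eq : ∀ i < 4, ∀ t, S.hom i t = (t ^ (L.getD i (0, 1)).2) ^ 2 ^ m
  act_eq : ∀ r < 48, ∀ t, S.act r t = (t ^ Types.GAut.tabF4.e r) ^ 2 ^ m
  ρ_eq : S.ρ = Types.GAut.tabF4.ρ
  k_eq : O.k = 2
  J_eq : ∀ a, O.J a = Js.getD a []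
  gen : GenData O (twistedF4 K (2 ^ m))
  fix : ∀ c : ℕ → Kˣ, tor chevF4 c ∈ Fx S → ∃ c' : ℕ → Kˣ, tor chevF4 c' = tor chevF4 c ∧
    ∀ i < chevF4.rank, (c' (S.π i) : K) = S.hom i (c' i : K)
  cls : ∀ u : GL chevF4.Idx K, u ∈ Uw S [1, 2, 1, 2] ↔
    ∃ t v : K, u = cw (2 ^ m) 27 25 28 30 t v
  cls_mem : ∀ t v : K, cw (2 ^ m) 27 25 28 30 t v ∈ twistedF4 K (2 ^ m) ∧
    cw (2 ^ m) 20 22 19 17 t v ∈ twistedF4 K (2 ^ m)

omit [CharP K 2] in
theorem pow_q (hK : Fintype.card K = 2 ^ (2 * m + 1)) (t : K) : t ^ (2 * (2 ^ m * 2 ^ m)) = t := by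
  rw [show 2 * (2 ^ m * 2 ^ m) = 2 ^ (2 * m + 1) by ring, ← hK, FiniteField.pow_card]

omit [CharP K 2] in
theorem charTwo (hK : Fintype.card K = 2 ^ (2 * m + 1)) : CharP K 2 := by
  haveI : Fact (Nat.Prime 2) := ⟨Nat.prime_two⟩
  obtain ⟨p, hp⟩ := CharP.exists K
  haveI := hp
  obtain ⟨k, hppr, hcard⟩ := FiniteField.card K p
  have h1 : p ∣ 2 ^ (2 * m + 1) := by rw [← hK, hcard]; exact dvd_pow_self p k.ne_zero
  exact ((Nat.prime_dvd_prime_iff_eq hppr Nat.prime_two).1 (hppr.dvd_of_dvd_pow h1)) ▸ hp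

theorem add_pow_e (x y : K) : (x + y) ^ 2 ^ m = x ^ 2 ^ m + y ^ 2 ^ m := by
  haveI : Fact (Nat.Prime 2) := ⟨Nat.prime_two⟩
  exact add_pow_char_pow x y 2 m

theorem sq_add (x y : K) : (x + y) ^ 2 = x ^ 2 + y ^ 2 := _root_.CharTwo.add_sq x y

set_option maxHeartbeats 1000000 in
theorem exists_setup (hK : Fintype.card K = 2 ^ (2 * m + 1)) : Nonempty (Setup (K := K) hK) := by
  classical
  haveI : Fact (Nat.Prime 2) := ⟨Nat.prime_two⟩
  have hp : CharOK K 2 := Or.inr ⟨Nat.prime_two, inferInstance,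
    fun x => ⟨x ^ 2 ^ (2 * m), by rw [← pow_mul, ← pow_succ, ← hK, FiniteField.pow_card]⟩⟩
  obtain ⟨S, hρ, hπ, hhom, hact⟩ := exists_tw (hC := hC) hT hp Types.GAut.rel_F4 Types.GAut.onto_F4
    Types.GAut.simple_F4 (iterateFrobenius K 2 m)
  obtain ⟨O, hk, hJ, -⟩ := exists_orbits (S := S) hρ (Js := Js) (top := top)
    (by rw [hπ]; exact orbits_ok)
  replace hk : O.k = 2 := hk
  obtain ⟨E, hE⟩ : ∃ E, E = 2 ^ m := ⟨_, rfl⟩
  have hθ : ∀ t : K, iterateFrobenius K 2 m t = t ^ E := fun t => by rw [hE, iterateFrobenius_def]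
  have hact' : ∀ r < 48, ∀ t, S.act r t = (t ^ Types.GAut.tabF4.e r) ^ E := fun r hr t => by
    rw [hact]
    show (Types.GAut.tabF4.ε r : K) * _ = _
    rw [eps_ok r hr, Int.cast_one, one_mul, hθ]
  have hhom' : ∀ i < 4, ∀ t, S.hom i t = (t ^ (L.getD i (0, 1)).2) ^ E := fun i hi t => by
    rw [hhom i hi, hθ]
  have hπ' : ∀ i, S.π i = nodePi L i := fun i => by rw [hπ]
  have hq : ∀ t : K, t ^ (2 * (E * E)) = t := hE ▸ pow_q hK
  have hnr : chevF4.nroots = 48 := roots_ok.2.2.2.2.2.2.2.2.2.2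
  have himg : ∀ r < 48, ∀ t : K,
      Img S (xg hC r t) (xg hC (Types.GAut.tabF4.ρ r) ((t ^ Types.GAut.tabF4.e r) ^ E)) := by
    intro r hr t
    rw [← hact' r hr t, ← hρ]
    exact img_xg S (hnr ▸ hr) t
  have hadd : ∀ x y : K, (x + y) ^ E = x ^ E + y ^ E := hE ▸ add_pow_e (m := m)
  -- the class words are fixed
  have hfix4 : ∀ a b p q : ℕ, a < 48 → b < 48 → p < 48 → q < 48 →
      Types.GAut.tabF4.ρ a = b → Types.GAut.tabF4.ρ b = a → Types.GAut.tabF4.ρ p = q →
      Types.GAut.tabF4.ρ q = p → Types.GAut.tabF4.e a = 2 → Types.GAut.tabF4.e b = 1 →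
      Types.GAut.tabF4.e p = 2 → Types.GAut.tabF4.e q = 1 →
      (∀ S T : K, xg hC b T * xg hC a S = xg hC a S * xg hC b T * (xg hC p (S * T) * xg hC q (S ^ 2 * T))) →
      (∀ x y : K, xg hC q y * xg hC p x = xg hC p x * xg hC q y) →
      ∀ t u : K, cw E a b p q t u ∈ Fx S := by
    intro a b p q ha hb hp' hq' r1 r2 r3 r4 e1 e2 e3 e4 hcomm hpq t u
    rw [mem_Fx]
    have h := (((himg a ha (t ^ E)).mul (himg b hb t)).mul
      ((himg p hp' (t ^ (E + 1) + u)).mul (himg q hq' (u ^ (2 * E)))))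
    rw [r1, r2, r3, r4, e1, e2, e3, e4] at h
    unfold cw
    convert h using 1
    simp only [pow_one]
    rw [hcomm, hpq]
    have c1 : ((t ^ E) ^ 2) ^ E = t := by
      rw [← pow_mul, ← pow_mul, show E * (2 * E) = 2 * (E * E) by ring, hq]
    have c2 : (u ^ (2 * E)) ^ E = u := by
      rw [← pow_mul, show 2 * E * E = 2 * (E * E) by ring, hq]
    have c3 : ((t ^ (E + 1) + u) ^ 2) ^ E = (t ^ E) ^ 2 * t + u ^ (2 * E) := by
      rw [sq_add, hadd, ← pow_mul, ← pow_mul, ← pow_mul, ← pow_mul,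
        show (E + 1) * (2 * E) = 2 * (E * E) + E * 2 by ring, pow_add, hq, mul_comm t]
    rw [c1, c2, c3]
    simp only [mul_assoc]
    congr 2
    rw [← mul_assoc (xg hC q _) (xg hC p u), hpq, mul_assoc, ← xg_add hC, ← mul_assoc,
      ← xg_add hC, pow_succ, ← add_assoc, _root_.CharTwo.add_self_eq_zero, zero_add]
  have hcpos : ∀ t u : K, cw E 27 25 28 30 t u ∈ Fx S :=
    hfix4 27 25 28 30 (by decide) (by decide) (by decide) (by decide) (by decide +kernel)
      (by decide +kernel) (by decide +kernel) (by decide +kernel) (by decide +kernel)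
      (by decide +kernel) (by decide +kernel) (by decide +kernel) comm_pos
      (fun x y => comm_even (by simp) x y)
  have hcneg : ∀ t u : K, cw E 20 22 19 17 t u ∈ Fx S :=
    hfix4 20 22 19 17 (by decide) (by decide) (by decide) (by decide) (by decide +kernel)
      (by decide +kernel) (by decide +kernel) (by decide +kernel) (by decide +kernel)
      (by decide +kernel) (by decide +kernel) (by decide +kernel) comm_neg
      (fun x y => comm_even (by simp) x y)
  -- membership of the class words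
  have hcmem : ∀ t u : K, cw E 27 25 28 30 t u ∈ twistedF4 K E ∧
      cw E 20 22 19 17 t u ∈ twistedF4 K E := fun t u =>
    ⟨wordGL_cw (K := K) E 27 25 28 30 t u ▸ wordGL_mem (Or.inr ⟨t, u, Or.inl rfl⟩),
      wordGL_cw (K := K) E 20 22 19 17 t u ▸ wordGL_mem (Or.inr ⟨t, u, Or.inr rfl⟩)⟩
  -- the pair orbit
  have hO0 : Orth hC (nodePi L) [3, 0] := orth_of_chk hC orth_ok
  have hpair : ∀ rt : ℕ → ℕ, Signed chevF4 rt → ∀ f : ℕ → K,
      wordGL hC [(rt 0, f 0), (rt 3, f 3)] = opr hC rt [3, 0] f := fun rt hrt f => by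
    rw [← opr_perm hO0 hrt (List.Perm.swap 3 0 []) f]; rfl
  have hfpair : ∀ f : ℕ → K, (∀ i ∈ [3, 0], f (S.π i) = S.hom i (f i)) ↔ f 0 = f 3 ^ E := by
    intro f
    constructor
    · intro h
      have h3 := h 3 (by simp)
      rw [hπ', hhom' 3 (by decide)] at h3
      simpa [nodePi] using h3
    · intro h i hi
      simp only [List.mem_cons, List.not_mem_nil, or_false] at hi
      rcases hi with rfl | rfl
      · rw [hπ', hhom' 3 (by decide)]; simpa [nodePi] using h
      · rw [hπ', hhom' 0 (by decide)]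
        show f 3 = ((f 0) ^ 2) ^ E
        rw [h, ← pow_mul, ← pow_mul, show E * (2 * E) = 2 * (E * E) by ring, hq]
  have hle : twistedF4 K E ≤ Fx S := by
    rw [twistedF4, genSubgroup_eq hC, Subgroup.closure_le]
    rintro g ⟨w, hw, rfl⟩
    have hgen : ∀ rt : ℕ → ℕ, Signed chevF4 rt → ∀ t : K,
        wordGL hC [(rt 0, t ^ E), (rt 3, t)] ∈ Fx S := by
      intro rt hrt t
      have hh := hpair rt hrt (fun k => if k = 0 then t ^ E else t)
      simp only [show (3 : ℕ) ≠ 0 by decide, ↓reduceIte] at hh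
      rw [hh]
      exact opr_fixed hO0 hπ hrt ((hfpair (fun k => if k = 0 then t ^ E else t)).2 (by
        simp only [show (3 : ℕ) ≠ 0 by decide, ↓reduceIte]))
    rcases hw with ⟨t, rfl | rfl⟩ | ⟨t, u, rfl | rfl⟩
    · exact hgen chevF4.simple (Or.inl rfl) t
    · exact hgen (fun i => chevF4.neg (chevF4.simple i)) (Or.inr rfl) t
    · rw [wordGL_cw]; exact hcpos t u
    · rw [wordGL_cw]; exact hcneg t u
  have hmem0 : ∀ f : ℕ → K, (∀ i ∈ [3, 0], f (S.π i) = S.hom i (f i)) →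
      opr hC chevF4.simple [3, 0] f ∈ twistedF4 K E ∧
        opr hC (fun i => chevF4.neg (chevF4.simple i)) [3, 0] f ∈ twistedF4 K E := by
    intro f hf
    rw [← hpair _ (Or.inl rfl) f, ← hpair _ (Or.inr rfl) f, (hfpair f).1 hf]
    exact ⟨wordGL_mem (Or.inl ⟨f 3, Or.inl rfl⟩), wordGL_mem (Or.inl ⟨f 3, Or.inr rfl⟩)⟩
  -- the class in sorted form
  have hcls : ∀ u : GL chevF4.Idx K, u ∈ Uw S [1, 2, 1, 2] ↔
      ∃ t v : K, u = cw E 27 25 28 30 t v := by
    intro u
    have hJlt : ∀ i ∈ [1, 2, 1, 2], i < chevF4.rank := by decide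
    have hlist : invList chevF4 Data.F4.tab [1, 2, 1, 2] = [25, 27, 28, 30] := by
      rw [invList_eq_invT hC hJlt, inv_ok]
    constructor
    · intro hu
      obtain ⟨f, hf⟩ := exists_prodX_Uminus hC hJlt 1 hu.1
      rw [hlist] at hf
      have hu' : u = sf ![f 25, f 27, f 28, f 30] := by rw [hf]; simp [sf, prodX, mul_assoc]
      have h := (((himg 25 (by decide) (f 25)).mul (himg 27 (by decide) (f 27))).mul
        ((himg 28 (by decide) (f 28)).mul (himg 30 (by decide) (f 30))))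
      rw [show Types.GAut.tabF4.ρ 25 = 27 by decide +kernel, show Types.GAut.tabF4.ρ 27 = 25 by decide +kernel,
        show Types.GAut.tabF4.ρ 28 = 30 by decide +kernel, show Types.GAut.tabF4.ρ 30 = 28 by decide +kernel,
        show Types.GAut.tabF4.e 25 = 1 by decide +kernel, show Types.GAut.tabF4.e 27 = 2 by decide +kernel,
        show Types.GAut.tabF4.e 28 = 2 by decide +kernel, show Types.GAut.tabF4.e 30 = 1 by decide +kernel,
        pow_one, pow_one] at h
      have hu2 : Img S (xg hC 25 (f 25) * xg hC 27 (f 27) * (xg hC 28 (f 28) * xg hC 30 (f 30))) u := by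
        rw [show xg hC 25 (f 25) * xg hC 27 (f 27) * (xg hC 28 (f 28) * xg hC 30 (f 30)) = u from
          (by rw [hu']; rfl)]
        exact hu.2
      have e1 := hu2.unique h
      obtain ⟨X, hX⟩ : ∃ X, X = f 25 ^ E := ⟨_, rfl⟩
      obtain ⟨Y, hY⟩ : ∃ Y, Y = (f 27 ^ 2) ^ E := ⟨_, rfl⟩
      rw [← hX, ← hY] at e1
      have e2 : u = sf ![Y, X, X * Y + f 30 ^ E, X ^ 2 * Y + (f 28 ^ 2) ^ E] := by
        rw [e1, comm_pos', sf]
        simp only [Matrix.cons_val_zero, Matrix.cons_val_one, Matrix.cons_val]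
        simp only [mul_assoc]
        congr 2
        rw [comm_even (r := 28) (s := 30) (by simp), ← mul_assoc (xg hC 30 (X ^ 2 * Y)),
          comm_even (r := 28) (s := 30) (by simp), mul_assoc, ← xg_add hC, ← mul_assoc, ← xg_add hC]
      have e3 := sf_inj (hu'.symm.trans e2)
      have g2 : f 28 = X * Y + f 30 ^ E := congrFun e3 2
      have g1 : f 27 = X := congrFun e3 1
      have g0 : f 25 = Y := congrFun e3 0
      have g3 : f 30 = X ^ 2 * Y + (f 28 ^ 2) ^ E := congrFun e3 3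
      refine ⟨f 25, f 28, ?_⟩
      rw [cw_eq_sf, hu']
      congr 1
      funext j
      fin_cases j
      · rfl
      · exact g1.trans hX
      · rfl
      · show f 30 = (f 25 ^ E) ^ 2 * f 25 + f 28 ^ (2 * E)
        rw [g3, ← hX, g0, pow_mul (f 28) 2 E]
    · rintro ⟨t, v, rfl⟩
      refine ⟨?_, hcpos t v⟩
      rw [cw_eq_sf, Uminus_eq hC hJlt 1, hlist, sf]
      refine mul_mem (mul_mem ?_ ?_) (mul_mem ?_ ?_) <;>
        exact Subgroup.subset_closure ⟨_, _, by simp, rfl⟩
  have hnJ : nL hC K [1, 2, 1, 2] ∈ twistedF4 K E := by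
    have h10 : cw E 27 25 28 30 (1 : K) 0 = xg hC 27 1 * xg hC 25 1 * xg hC 28 1 := by
      have hE0 : E ≠ 0 := hE ▸ pow_ne_zero m two_ne_zero
      simp [cw, zero_pow (Nat.mul_ne_zero two_ne_zero hE0), xg_zero hC]
    have h11 : cw E 27 25 28 30 (1 : K) 1 = xg hC 27 1 * xg hC 25 1 * xg hC 30 1 := by
      simp [cw, _root_.CharTwo.add_self_eq_zero, xg_zero hC]
    have hv : cw E 20 22 19 17 (0 : K) 1 = xg hC 19 1 * xg hC 17 1 := by
      have hE0 : E ≠ 0 := hE ▸ pow_ne_zero m two_ne_zero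
      simp [cw, zero_pow hE0, xg_zero hC]
    rw [nJ_eq, ← h10, ← h11, ← hv]
    exact mul_mem (mul_mem (inv_mem (hcmem 1 1).1) (hcmem 0 1).2) (inv_mem (hcmem 1 0).1)
  have hfix : ∀ c : ℕ → Kˣ, tor chevF4 c ∈ Fx S → ∃ c' : ℕ → Kˣ, tor chevF4 c' = tor chevF4 c ∧
      ∀ i < chevF4.rank, (c' (S.π i) : K) = S.hom i (c' i : K) := by
    intro c hc
    refine exists_fixed_param S (πi := nodePi L) (by decide)
      (fun j hj => by rw [hπ']; revert j; decide) (fun d hd => ?_) hc
    have hinj : ∀ x y : Fin chevF4.rank → Kˣ, torHom chevF4 K x = torHom chevF4 K y → x = y := by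
      intro x y h
      have h1 : x * y⁻¹ ∈ (torHom chevF4 K).ker := by
        rw [MonoidHom.mem_ker, map_mul, map_inv, h, mul_inv_cancel]
      rw [ker_torHom hC, MonoidHom.mem_ker] at h1
      have h2 := congrArg (matHom adj) h1
      rw [← matHom_mul, adj_ok, one_smul, matHom_one, map_one, mul_inv_eq_one] at h2
      exact h2
    exact ⟨1, one_mem _, by rw [mul_one]; exact hinj _ _ hd⟩
  have hJ0 : O.J 0 = [3, 0] := hJ 0
  have hJ1 : O.J 1 = [1, 2, 1, 2] := hJ 1
  have hgen : GenData O (twistedF4 K E) := by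
    refine ⟨hle, fun c hc => ?_, fun a ha => ?_, fun a ha u hu c hU => ?_⟩
    · obtain ⟨c', e, hc'⟩ := hfix c hc
      rw [← e]
      -- the pair component
      have hcomp0 : ∀ d : ℕ → Kˣ, (∀ i ∈ [3, 0], (d (S.π i) : K) = S.hom i (d i : K)) →
          ([3, 0].map fun i => hg hC (chevF4.simple i) (d i : K)).prod ∈ twistedF4 K E := by
        intro d hd
        rw [hg_prod_eq hO0 (fun i => (d i : K)) _ (orth_nodup hO0) fun _ h => h]
        refine mul_mem (onr_mem hO0 (hmem0 _ hd).1 (hmem0 _ fun i hi => ?_).2)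
          (onr_mem hO0 (hmem0 _ fun i _ => ?_).1 (hmem0 _ fun i _ => ?_).2)
        · simp only [map_neg, map_inv₀, hd i hi]
        · simp
        · simp
      have hpairtor : ∀ x : Kˣ, tor chevF4 (fun i => if i ∈ [3, 0] then (if i = 0 then x ^ E else x) else 1) ∈
          twistedF4 K E ∧ tor chevF4 (fun i => if i ∈ [1, 2, 1, 2] then
            (if i = 1 then (x ^ (2 * (E + 1))) ^ E else x ^ (2 * (E + 1))) else 1) ∈ twistedF4 K E := by
        intro x
        let d : ℕ → Kˣ := fun i => if i = 0 then x ^ E else x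
        have hd : ∀ i ∈ [3, 0], (d (S.π i) : K) = S.hom i (d i : K) :=
          (hfpair fun i => (d i : K)).2 (by simp [d])
        have h0 := hcomp0 d hd
        obtain ⟨d', hd', e'⟩ := onr_tor (hC := hC) [3, 0] (orth_nodup hO0) hO0.lt d
        have hd'' : (fun i => if i ∈ [3, 0] then (if i = 0 then x ^ E else x) else 1) = d' :=
          funext fun i => (hd' i).symm
        have h0' : tor chevF4 d' ∈ twistedF4 K E := e' ▸ h0
        refine ⟨hd'' ▸ h0', ?_⟩
        -- conjugate by the longest element of the class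
        have h1 := mul_mem (mul_mem hnJ h0) (inv_mem hnJ)
        obtain ⟨hs0, -, -, hs3, -⟩ := roots_ok
        obtain ⟨-, -, -, -, -, -, w7, w8⟩ := wl_ok
        rw [List.map_cons, List.map_cons, List.map_nil, List.prod_cons, List.prod_cons,
          List.prod_nil, mul_one, hs0, hs3] at h1
        have e1 : nL hC K [1, 2, 1, 2] * (hg hC 24 (d 3 : K) * hg hC 33 (d 0 : K)) *
            (nL hC K [1, 2, 1, 2])⁻¹ = hg hC 32 (d 3 : K) * hg hC 37 (d 0 : K) := by
          rw [← w8, ← w7, ← CharTwo.nL_conj_hg (by decide) (by decide +kernel),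
            ← CharTwo.nL_conj_hg (by decide) (by decide +kernel)]
          group
        rw [e1, hg_eq_tor hC (by decide +kernel), hg_eq_tor hC (by decide +kernel), tor_mul] at h1
        have h2 := mul_mem h1 (inv_mem h0')
        rw [tor_inv, tor_mul] at h2
        have e2 : tor chevF4 (fun i => if i ∈ [1, 2, 1, 2] then
            (if i = 1 then (x ^ (2 * (E + 1))) ^ E else x ^ (2 * (E + 1))) else 1) =
            tor chevF4 (((fun i => d 3 ^ cor chevF4 32 i) * fun i => d 0 ^ cor chevF4 37 i) * d'⁻¹) := by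
          refine dg_congr fun s _ => Finset.prod_congr rfl fun i hi => ?_
          have hi4 : i < 4 := Finset.mem_range.1 hi
          obtain ⟨c37, c32⟩ := cor_ok i hi4
          simp only [Pi.mul_apply, Pi.inv_apply, hd', c37, c32]
          congr 1
          have hxq : x ^ (2 * (E * E)) = x := Units.ext (by rw [Units.val_pow_eq_pow_val, hq])
          interval_cases i
          · simp [d]
          · simp only [List.getD_cons_zero, List.getD_cons_succ, d]
            simp only [List.mem_cons, List.not_mem_nil, show (1 : ℕ) ≠ 3 by decide,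
              show (1 : ℕ) ≠ 0 by decide, show (3 : ℕ) ≠ 0 by decide, or_false, false_or, or_true,
              true_or, if_true, if_false, inv_one, mul_one, zpow_one, zpow_ofNat]
            rw [← pow_mul, ← pow_mul, show 2 * (E + 1) * E = 2 * (E * E) + E * 2 by ring, pow_add,
              hxq, pow_one]
          · simp only [List.getD_cons_zero, List.getD_cons_succ, d]
            simp only [List.mem_cons, List.not_mem_nil, show (2 : ℕ) ≠ 3 by decide,
              show (2 : ℕ) ≠ 0 by decide, show (2 : ℕ) ≠ 1 by decide, show (3 : ℕ) ≠ 0 by decide,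
              or_false, false_or, or_true, true_or, if_true, if_false, inv_one, mul_one, zpow_ofNat]
            rw [← pow_mul, ← pow_add]
            ring_nf
          · simp [d]
        rw [e2]; exact h2
      refine tor_mem_of_orbits S O (fun a ha b hb i h1 h2 => disjoint_ok a (hk ▸ ha) b (hk ▸ hb) i
        (hJ a ▸ h1) (hJ b ▸ h2)) (fun a ha d hd => ?_) hc'
      rw [hJ]
      rw [hk] at ha
      interval_cases a
      · show tor chevF4 (fun i => if i ∈ [3, 0] then d i else 1) ∈ twistedF4 K E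
        have e3 : (fun i => if i ∈ [3, 0] then d i else 1) =
            fun i => if i ∈ [3, 0] then (if i = 0 then (d 3) ^ E else d 3) else 1 := by
          funext i
          by_cases hi : i ∈ [3, 0]
          · rw [if_pos hi, if_pos hi]
            simp only [List.mem_cons, List.not_mem_nil, or_false] at hi
            rcases hi with rfl | rfl
            · simp
            · have h := hd 3 (by decide)
              rw [hπ', hhom' 3 (by decide)] at h
              refine Units.ext ?_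
              rw [if_pos rfl, Units.val_pow_eq_pow_val]
              simpa [nodePi] using h
          · rw [if_neg hi, if_neg hi]
        rw [e3]
        exact (hpairtor (d 3)).1
      · show tor chevF4 (fun i => if i ∈ [1, 2, 1, 2] then d i else 1) ∈ twistedF4 K E
        obtain ⟨x, hx⟩ : ∃ x : Kˣ, x ^ (2 * (E + 1)) = d 2 := by
          refine ⟨((d 2) ^ (E - 1))⁻¹, ?_⟩
          have hE1 : 1 ≤ E := hE ▸ Nat.one_le_two_pow
          have hxq : (d 2) ^ (2 * (E * E)) = d 2 := Units.ext (by rw [Units.val_pow_eq_pow_val, hq])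
          have h2 : (d 2) ^ (2 * ((E - 1) * (E + 1))) * (d 2) ^ 2 = d 2 := by
            rw [← pow_add]
            refine Eq.trans ?_ hxq
            congr 1
            obtain ⟨E', rfl⟩ : ∃ E', E = E' + 1 := ⟨E - 1, by omega⟩
            rw [Nat.add_sub_cancel]
            ring
          rw [inv_pow, ← pow_mul, inv_eq_iff_mul_eq_one,
            show (E - 1) * (2 * (E + 1)) = 2 * ((E - 1) * (E + 1)) by ring]
          rw [sq, ← mul_assoc] at h2
          exact mul_eq_right.1 h2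
        have e3 : (fun i => if i ∈ [1, 2, 1, 2] then d i else 1) =
            fun i => if i ∈ [1, 2, 1, 2] then
              (if i = 1 then (x ^ (2 * (E + 1))) ^ E else x ^ (2 * (E + 1))) else 1 := by
          funext i
          by_cases hi : i ∈ [1, 2, 1, 2]
          · rw [if_pos hi, if_pos hi, hx]
            have hi' : i = 1 ∨ i = 2 := by
              simp only [List.mem_cons, List.not_mem_nil, or_false] at hi; omega
            rcases hi' with rfl | rfl
            · have h := hd 2 (by decide)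
              rw [hπ', hhom' 2 (by decide)] at h
              refine Units.ext ?_
              rw [if_pos rfl, Units.val_pow_eq_pow_val]
              simpa [nodePi] using h
            · simp
          · rw [if_neg hi, if_neg hi]
        rw [e3]
        exact (hpairtor x).2
    · rw [hk] at ha
      refine ⟨1, ?_⟩
      rw [tor_one, one_mul, hJ]
      interval_cases a
      · show nL hC K [3, 0] ∈ twistedF4 K E
        rw [← onr_one (hC := hC)]
        exact onr_mem hO0 (hmem0 _ fun i _ => (map_one _).symm).1 (hmem0 _ fun i _ => by simp).2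
      · exact hnJ
    · rw [hk] at ha
      rw [hJ] at hU
      interval_cases a
      · obtain ⟨f, hf, rfl⟩ := fixed_Uminus hO0 hπ hu hU
        exact (hmem0 f hf).1
      · obtain ⟨t, v, rfl⟩ := (hcls u).1 ((mem_Uw (by decide) c).2 ⟨hU, hu⟩)
        exact (hcmem t v).1
  subst hE
  exact ⟨⟨S, O, hπ, hhom', hact', hρ, hk, hJ, hgen, hfix, hcls, hcmem⟩⟩

end Cfsg.Agent.Chevalley.Twist.F4
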