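import Cfsg.Agent.Lib.Chevalley.Twist.BN
import Cfsg.Agent.Lib.Chevalley.WeylGroup
import Cfsg.Agent.Lib.BN.Parabolic
import Cfsg.Agent.Lib.BN.Matsumoto

/-!
The quotient of the fixed monomial group by the fixed torus as a Coxeter group.
-/

set_option autoImplicit false

open scoped Matrix

namespace Cfsg.Agent.Chevalley.Twist

open Cfsg.Lie Cfsg.Agent.Chevalley.Table Cfsg.Agent.Chevalley.Cert Cfsg.Agent.Chevalley.Group
  Cfsg.Agent.Chevalley.Borel Cfsg.Agent.Chevalley.Weyl Cfsg.Agent.Chevalley.Bruhat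
  Cfsg.Agent.Chevalley.NormalForm Cfsg.Agent.Chevalley.WeylGroup
open Cfsg.Agent.BN.Basic

variable {D : ChevalleyDatum} {F : Type*} [Field F] {T : Tab} {hC : Certified D T}
variable {S : Tw hC F} {O : Orbits S} {K : Subgroup (GL D.Idx F)} (hK : GenData O K)
include hK

set_option maxHeartbeats 800000 in
/-- `N¹ / H¹` is the Coxeter group of the orders of the products of two orbit involutions. -/
theorem exists_coxeter_hom (hne : ∀ a < O.k, ∃ x ∈ Fx S, x ≠ 1 ∧ ∀ c : ℕ → Fˣ,
      x ∈ Uminus D F (tor D c * nL hC F (O.J a))) {k : ℕ} (hk : O.k = k)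
    (M : CoxeterMatrix (Fin k))
    (hord : ∀ a b : Fin k, wordOrdChk T (O.J a ++ O.J b) (M a b) = true) :
    ∃ φ : ↥(D.monomialSubgroup F ⊓ K) →* M.Group, Function.Surjective φ ∧
      φ.ker = (D.diagonalSubgroup F ⊓ K).subgroupOf (D.monomialSubgroup F ⊓ K) := by
  classical
  subst hk
  let P := bnK hK hne
  obtain ⟨ψ, -, hψker, hψ⟩ := exists_hom_N (F := F) hC
  let g : Fin O.k → P.S := fun a => ⟨⟨mel hK a, mel_mem hK a⟩, a, a.2, rfl⟩
  have hgN : ∀ a : Fin O.k, mel hK a ∈ D.monomialSubgroup F := fun a => mel_mem_N hK a.2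
  have hgb : Function.Bijective g := by
    constructor
    · intro a b h
      refine Fin.ext (mel_inj hK a.2 b.2 ?_)
      have h' : mel hK a = mel hK b := congrArg (fun s : P.S => ((s : K) : GL D.Idx F)) h
      rw [h', inv_mul_cancel]
      exact one_mem _
    · rintro ⟨s, a, ha, e⟩
      exact ⟨⟨a, ha⟩, Subtype.ext (Subtype.ext e.symm)⟩
  let e : Fin O.k ≃ P.S := Equiv.ofBijective g hgb
  have he : ∀ a, e a = g a := fun _ => rfl
  -- the image of a representative in the Weyl group
  have hψmel : ∀ a : Fin O.k, ∃ L : List (Fin D.rank), L.map Fin.val = O.J a ∧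
      ψ ⟨mel hK a, hgN a⟩ = wordG hC L := by
    intro a
    obtain ⟨c, hc⟩ := mel_eq hK a.2
    refine ⟨(O.J a).pmap (fun i h => (⟨i, h⟩ : Fin D.rank)) (O.J_lt a a.2),
      by simp [List.map_pmap], ?_⟩
    have key : ∀ (L : List (Fin D.rank)) (h : nL hC F (L.map Fin.val) ∈ D.monomialSubgroup F),
        ψ ⟨_, h⟩ = wordG hC L := by
      intro L
      induction L with
      | nil => intro h; exact (congrArg ψ (Subtype.ext rfl)).trans (map_one ψ)
      | cons i L ih =>
        intro h
        have h1 : ng hC (D.simple i) (1 : F) ∈ D.monomialSubgroup F := ng_mem_N hC i.2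
        have h2 : nL hC F (L.map Fin.val) ∈ D.monomialSubgroup F := nL_mem_N hC (valid hC L)
        rw [show (⟨_, h⟩ : D.monomialSubgroup F) = ⟨_, h1⟩ * ⟨_, h2⟩ from Subtype.ext (nL_cons hC _ _),
          map_mul, hψ i _ rfl, ih h2]
        simp [wordG]
    have hmap : ((O.J a).pmap (fun i h => (⟨i, h⟩ : Fin D.rank)) (O.J_lt a a.2)).map Fin.val =
        O.J a := by simp [List.map_pmap]
    have h1 : tor D c ∈ D.monomialSubgroup F := Subgroup.mem_sup_left (tor_mem_H hC c)
    have h2 : nL hC F (((O.J a).pmap (fun i h => (⟨i, h⟩ : Fin D.rank)) (O.J_lt a a.2)).map Fin.val) ∈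
        D.monomialSubgroup F := nL_mem_N hC (valid hC _)
    have h3 : ψ ⟨_, h1⟩ = 1 := MonoidHom.mem_ker.1 (by rw [hψker]; exact tor_mem_H hC c)
    rw [show (⟨mel hK a, hgN a⟩ : D.monomialSubgroup F) = ⟨_, h1⟩ * ⟨_, h2⟩ from
      Subtype.ext (show mel hK a = _ * nL hC F _ by rw [hc, hmap]), map_mul, h3, one_mul, key]
  -- the order of a product of two involutions
  have horder : ∀ a b : Fin O.k, orderOf (gen (e a) * gen (e b)) = M a b := by
    intro a b
    obtain ⟨La, hLa, ha⟩ := hψmel a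
    obtain ⟨Lb, hLb, hb⟩ := hψmel b
    have h1 : orderOf (wordG hC (La ++ Lb)) = M a b :=
      orderOf_word hC (by rw [List.map_append, hLa, hLb]; exact hord a b)
    rw [← h1]
    refine orderOf_eq_orderOf_iff.2 fun n => ?_
    obtain ⟨x, hx⟩ : ∃ x : D.monomialSubgroup F, x = ⟨mel hK a, hgN a⟩ * ⟨mel hK b, hgN b⟩ := ⟨_, rfl⟩
    have e1 : wordG hC (La ++ Lb) = ψ x := by
      rw [hx, map_mul, ha, hb]; simp [wordG]
    have e2 : gen (e a) * gen (e b) = mkW (mul_mem (P.subset (e a).2) (P.subset (e b).2)) := by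
      rw [gen, gen, mkW_mul]
    rw [e1, e2, ← map_pow, ← MonoidHom.mem_ker, hψker, Subgroup.mem_subgroupOf, mkW,
      ← QuotientGroup.mk_pow, QuotientGroup.eq_one_iff, Subgroup.mem_subgroupOf]
    have e3 : (((((⟨_, mul_mem (P.subset (e a).2) (P.subset (e b).2)⟩ : P.N) ^ n : P.N)) : K) :
        GL D.Idx F) = ((x ^ n : D.monomialSubgroup F) : GL D.Idx F) := by
      rw [hx]; simp [he, g]
    constructor
    · rintro ⟨hB, hN⟩
      rw [← e3]
      exact mem_H_of_inf hC hB.1 hN.1
    · intro h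
      exact ⟨⟨(congrArg (· ∈ D.borelSubgroup F) e3).mpr (H_le_B h),
        ((((⟨_, mul_mem (P.subset (e a).2) (P.subset (e b).2)⟩ : P.N) ^ n : P.N) : K)).2⟩,
        ((⟨_, mul_mem (P.subset (e a).2) (P.subset (e b).2)⟩ : P.N) ^ n : P.N).2⟩
  have hexch : Cfsg.Agent.BN.Matsumoto.Exchange (gen (P := P)) := by
    intro s L hr hn
    have hred : ∀ L : List P.S, Cfsg.Agent.BN.Matsumoto.Red (gen (P := P)) L ↔
        len (wordW L) = L.length := by
      intro L
      constructor
      · intro h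
        obtain ⟨L', hl, hw⟩ := exists_reduced (wordW L)
        have h1 := h L' hw
        have h2 := len_wordW_le L
        omega
      · intro h L' hL'
        have h1 := len_wordW_le L'
        have h2 : wordW L' = wordW L := hL'
        rw [h2, h] at h1
        exact h1
    refine exchange ((hred L).1 hr) ?_
    have h1 := (hred L).1 hr
    have h2 : len (gen s * wordW L) ≠ L.length + 1 := fun h =>
      hn ((hred (s :: L)).2 (by rw [wordW_cons, List.length_cons, h]))
    have h3 := len_gen_mul_le s (wordW L)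
    have h4 := len_gen_mul_ne s (wordW L)
    omega
  obtain ⟨M', cs, hcs⟩ := Cfsg.Agent.BN.Matsumoto.exists_coxeterSystem gen_injective gen_ne_one
    (fun w => exists_word w) hexch gen_mul_self
  have hlift : M.IsLiftable fun a => gen (e a) := fun a b => by
    rw [← horder a b]; exact pow_orderOf_eq_one _
  have hlift' : M'.IsLiftable fun s => M.toCoxeterSystem.simple (e.symm s) := fun s t => by
    have h2 : (gen s * gen t) ^ M' s t = 1 := by
      rw [← hcs, ← hcs]; exact cs.simple_mul_simple_pow s t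
    obtain ⟨c, hc⟩ := orderOf_dvd_of_pow_eq_one h2
    have h3 := horder (e.symm s) (e.symm t)
    rw [Equiv.apply_symm_apply, Equiv.apply_symm_apply] at h3
    rw [hc, h3, pow_mul, M.toCoxeterSystem.simple_mul_simple_pow, one_pow]
  let f : W P →* M.Group := cs.lift ⟨_, hlift'⟩
  let f' : M.Group →* W P := M.toCoxeterSystem.lift ⟨_, hlift⟩
  have hf : ∀ s, f (gen s) = M.toCoxeterSystem.simple (e.symm s) := fun s => by
    rw [← hcs]; exact cs.lift_apply_simple hlift' s
  have hf' : ∀ a, f' (M.toCoxeterSystem.simple a) = gen (e a) := fun a =>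
    M.toCoxeterSystem.lift_apply_simple hlift a
  have h12 : f.comp f' = MonoidHom.id _ := M.toCoxeterSystem.ext_simple fun a => by
    rw [MonoidHom.comp_apply, hf', hf, Equiv.symm_apply_apply]; rfl
  have h21 : f'.comp f = MonoidHom.id _ := cs.ext_simple fun s => by
    rw [MonoidHom.comp_apply, hcs, hf, hf', Equiv.apply_symm_apply]; rfl
  let i : W P ≃* M.Group := MonoidHom.toMulEquiv f f' h21 h12
  let j : ↥(D.monomialSubgroup F ⊓ K) ≃* P.N :=
    (Subgroup.subgroupOfEquivOfLe (inf_le_right : D.monomialSubgroup F ⊓ K ≤ K)).symm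
  refine ⟨(i.toMonoidHom.comp (QuotientGroup.mk' (Cfsg.Agent.BN.Basic.T P))).comp j.toMonoidHom,
    (i.surjective.comp (QuotientGroup.mk'_surjective _)).comp j.surjective, ?_⟩
  ext n
  rw [MonoidHom.mem_ker, Subgroup.mem_subgroupOf]
  show i (QuotientGroup.mk (j n)) = 1 ↔ _
  rw [map_eq_one_iff i i.injective, QuotientGroup.eq_one_iff, Subgroup.mem_subgroupOf]
  constructor
  · rintro ⟨hB, -⟩
    exact ⟨mem_H_of_inf hC hB.1 n.2.1, n.2.2⟩
  · intro h
    exact ⟨⟨H_le_B h.1, h.2⟩, (j n).2⟩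

end Cfsg.Agent.Chevalley.Twist
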