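import Cfsg.Agent.Lib.Chevalley.Twist.Coxeter
import Cfsg.Agent.Lib.Chevalley.Twist.E6
import Cfsg.Agent.Lib.Chevalley.Twist.D4

/-!
The Weyl groups of the twisted groups of types E6 and D4.
-/

set_option autoImplicit false

open scoped Matrix

namespace Cfsg.Agent.Chevalley.Twist

open Cfsg.Lie Cfsg.Agent.Chevalley Cfsg.Agent.Chevalley.WeylGroup

/-- The Coxeter matrix of type F4 as a list. -/
abbrev mF4 (a b : ℕ) : ℕ :=
  (([[1, 3, 2, 2], [3, 1, 4, 2], [2, 4, 1, 3], [2, 2, 3, 1]] : List (List ℕ)).getD a []).getD b 0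

theorem mF4_eq : ∀ a b : Fin 4, CoxeterMatrix.F₄ a b = mF4 a b := by
  intro a b; fin_cases a <;> fin_cases b <;> rfl

theorem e6_ord : ∀ a < 4, ∀ b < 4,
    wordOrdChk Data.E6.tab (E6.Js.getD a [] ++ E6.Js.getD b []) (mF4 a b) = true := by decide +kernel

/-- The Coxeter matrix of type G2 as a list. -/
abbrev mG2 (a b : ℕ) : ℕ := if a = b then 1 else 6

theorem mG2_eq : ∀ a b : Fin 2, CoxeterMatrix.G₂ a b = mG2 a b := by
  intro a b; fin_cases a <;> fin_cases b <;> rfl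

theorem d4_ord : ∀ a < 2, ∀ b < 2,
    wordOrdChk Data.D4.tab (D4.Js.getD a [] ++ D4.Js.getD b []) (mG2 a b) = true := by decide +kernel

variable {K : Type*} [Field K] [Fintype K] {q : ℕ}

theorem E6.coxeter {hK : Fintype.card K = q ^ 2} (X : E6.Setup (K := K) hK) :
    ∃ φ : ↥(chevE6.monomialSubgroup K ⊓ twistedE6 K q) →* (CoxeterMatrix.F₄).Group,
      Function.Surjective φ ∧ φ.ker = (chevE6.diagonalSubgroup K ⊓ twistedE6 K q).subgroupOf
        (chevE6.monomialSubgroup K ⊓ twistedE6 K q) := by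
  refine exists_coxeter_hom X.gen (fun a ha => exists_unip_ne X.O X.π_eq
    (fun b hb => by rw [X.J_eq]; exact orth_of_chk E6.hC (E6.orth_ok b (X.k_eq ▸ hb))) ha)
    X.k_eq _ fun a b => ?_
  rw [X.J_eq, X.J_eq, mF4_eq]
  exact e6_ord a a.2 b b.2

theorem D4.coxeter {hK : Fintype.card K = q ^ 3} (X : D4.Setup (K := K) hK) :
    ∃ φ : ↥(chevD4.monomialSubgroup K ⊓ twistedD4 K q) →* (CoxeterMatrix.G₂).Group,
      Function.Surjective φ ∧ φ.ker = (chevD4.diagonalSubgroup K ⊓ twistedD4 K q).subgroupOf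
        (chevD4.monomialSubgroup K ⊓ twistedD4 K q) := by
  refine exists_coxeter_hom X.gen (fun a ha => exists_unip_ne X.O X.π_eq
    (fun b hb => by rw [X.J_eq]; exact orth_of_chk D4.hC (D4.orth_ok b (X.k_eq ▸ hb))) ha)
    X.k_eq _ fun a b => ?_
  rw [X.J_eq, X.J_eq, mG2_eq]
  exact d4_ord a a.2 b b.2

end Cfsg.Agent.Chevalley.Twist
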