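import Mathlib.GroupTheory.Coxeter.Basic
import Mathlib.GroupTheory.SpecificGroups.Dihedral

/-!
The Coxeter group of rank two as a dihedral group.
-/

set_option autoImplicit false

namespace Cfsg.Agent.Chevalley.Twist

/-- The rank two Coxeter group with order `n` maps isomorphically onto the dihedral group. -/
theorem exists_dihedral_equiv {n : ℕ} [NeZero n] (M : CoxeterMatrix (Fin 2)) (h : M 0 1 = n) :
    Nonempty (M.Group ≃* DihedralGroup n) := by
  obtain ⟨g, hg⟩ : ∃ g : Fin 2 → DihedralGroup n, g = fun a => DihedralGroup.sr (a.val : ZMod n) :=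
    ⟨_, rfl⟩
  have hlift : M.IsLiftable g := by
    intro a b
    subst hg
    rw [DihedralGroup.sr_mul_sr]
    by_cases hab : a = b
    · subst hab
      rw [M.diagonal, pow_one, sub_self, DihedralGroup.one_def]
    · have hM : M a b = n := by
        fin_cases a <;> fin_cases b
        · exact absurd rfl hab
        · exact h
        · exact (M.symmetric _ _).trans h
        · exact absurd rfl hab
      rw [hM, DihedralGroup.r_pow, ZMod.natCast_self, mul_zero, DihedralGroup.one_def]
  let cs := M.toCoxeterSystem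
  let f : M.Group →* DihedralGroup n := cs.lift ⟨g, hlift⟩
  have hf : ∀ a, f (cs.simple a) = g a := fun a => cs.lift_apply_simple hlift a
  obtain ⟨x, hx⟩ : ∃ x, x = cs.simple 0 * cs.simple 1 := ⟨_, rfl⟩
  have hxn : x ^ n = 1 := by
    rw [hx, ← h]; exact cs.simple_mul_simple_pow 0 1
  have hfx : f x = DihedralGroup.r 1 := by
    rw [hx, map_mul, hf, hf, hg, DihedralGroup.sr_mul_sr]; simp
  have hnorm : ∀ w : M.Group, ∃ i < n, w = x ^ i ∨ w = cs.simple 0 * x ^ i := by
    intro w
    have hn : 0 < n := Nat.pos_of_ne_zero (NeZero.ne n)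
    have hred : ∀ k : ℕ, x ^ k = x ^ (k % n) := fun k => by
      conv_lhs => rw [← Nat.mod_add_div k n, pow_add, pow_mul, hxn, one_pow, mul_one]
    have h1 : cs.simple 1 = cs.simple 0 * x := by
      rw [hx, cs.simple_mul_simple_cancel_left]
    have hx0 : x * cs.simple 0 = cs.simple 0 * x⁻¹ := by
      rw [hx, mul_inv_rev, cs.inv_simple, cs.inv_simple, mul_assoc]
    have hinv : ∀ k : ℕ, x⁻¹ * x ^ k = x ^ (k + (n - 1)) := fun k => by
      rw [inv_mul_eq_iff_eq_mul, ← pow_succ', show k + (n - 1) + 1 = k + n by omega, pow_add, hxn,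
        mul_one]
    induction w using cs.simple_induction_left with
    | one => exact ⟨0, hn, Or.inl (pow_zero x).symm⟩
    | mul_simple_left w a ih =>
      obtain ⟨i, hi, rfl | rfl⟩ := ih <;> fin_cases a
      · exact ⟨i, hi, Or.inr rfl⟩
      · refine ⟨(i + 1) % n, Nat.mod_lt _ hn, Or.inr ?_⟩
        show cs.simple 1 * x ^ i = _
        rw [← hred, h1, mul_assoc, ← pow_succ']
      · exact ⟨i, hi, Or.inl (cs.simple_mul_simple_cancel_left 0)⟩
      · refine ⟨(i + (n - 1)) % n, Nat.mod_lt _ hn, Or.inl ?_⟩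
        show cs.simple 1 * (cs.simple 0 * x ^ i) = _
        rw [← hred, ← hinv, h1, ← mul_assoc, mul_assoc (cs.simple 0), hx0,
          cs.simple_mul_simple_cancel_left]
  have hr : ∀ i : ℕ, f (x ^ i) = DihedralGroup.r (i : ZMod n) := fun i => by
    rw [map_pow, hfx, DihedralGroup.r_one_pow]
  refine ⟨MulEquiv.ofBijective f ⟨(injective_iff_map_eq_one f).2 fun w hw => ?_, fun d => ?_⟩⟩
  · obtain ⟨i, hi, rfl | rfl⟩ := hnorm w
    · rw [hr, DihedralGroup.one_def] at hw
      have h0 : (i : ZMod n) = 0 := DihedralGroup.r.inj hw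
      have h2 := congrArg ZMod.val h0
      rw [ZMod.val_natCast, Nat.mod_eq_of_lt hi, ZMod.val_zero] at h2
      rw [h2, pow_zero]
    · rw [map_mul, hr, hf, hg, DihedralGroup.sr_mul_r, DihedralGroup.one_def] at hw
      cases hw
  · cases d with
    | r i => exact ⟨x ^ i.val, by rw [hr, ZMod.natCast_zmod_val]⟩
    | sr i =>
      exact ⟨cs.simple 0 * x ^ i.val, by
        rw [map_mul, hr, ZMod.natCast_zmod_val, hf, hg, DihedralGroup.sr_mul_r]; simp⟩

end Cfsg.Agent.Chevalley.Twist
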