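import Cfsg.Agent.Lib.Chevalley.Twist.Coxeter
import Cfsg.Agent.Lib.Chevalley.Twist.Dihedral
import Cfsg.Agent.Lib.Chevalley.Twist.SimpleF4

/-!
The Weyl group of the twisted groups of type F4.
-/

set_option autoImplicit false

open scoped Matrix

namespace Cfsg.Agent.Chevalley.Twist.F4

open Cfsg.Lie Cfsg.Agent.Chevalley Cfsg.Agent.Chevalley.WeylGroup

/-- The Coxeter matrix of the dihedral group of order sixteen. -/
abbrev m16 (a b : ℕ) : ℕ := if a = b then 1 else 8

theorem m16_eq : ∀ a b : Fin 2, (CoxeterMatrix.I 6) a b = m16 a b := by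
  intro a b; fin_cases a <;> fin_cases b <;> rfl

theorem ord_ok : ∀ a < 2, ∀ b < 2,
    wordOrdChk Data.F4.tab (Js.getD a [] ++ Js.getD b []) (m16 a b) = true := by decide +kernel

variable {K : Type*} [Field K] [Fintype K] [CharP K 2] {m : ℕ}
  {hK : Fintype.card K = 2 ^ (2 * m + 1)} (X : Setup (K := K) hK)
include X

theorem coxeter :
    ∃ φ : ↥(chevF4.monomialSubgroup K ⊓ twistedF4 K (2 ^ m)) →* DihedralGroup 8,
      Function.Surjective φ ∧ φ.ker = (chevF4.diagonalSubgroup K ⊓ twistedF4 K (2 ^ m)).subgroupOf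
        (chevF4.monomialSubgroup K ⊓ twistedF4 K (2 ^ m)) := by
  obtain ⟨φ, hφ, hker⟩ := exists_coxeter_hom X.gen (hne X) X.k_eq ((CoxeterMatrix.I 6)) fun a b => by
    rw [X.J_eq, X.J_eq, m16_eq]
    exact ord_ok a a.2 b b.2
  obtain ⟨e⟩ := exists_dihedral_equiv (n := 8) ((CoxeterMatrix.I 6)) rfl
  refine ⟨e.toMonoidHom.comp φ, e.surjective.comp hφ, ?_⟩
  rw [← hker]
  ext x
  simp [MonoidHom.mem_ker]

end Cfsg.Agent.Chevalley.Twist.F4
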