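import Cfsg.Agent.Lib.Chevalley.Twist.Count

/-!
Transversals of the fixed Weyl group from data, validated by a finite check: every entry is an earlier
one times an orbit word on the right, the entries are closed under orbit words, and their keys increase.
-/

set_option autoImplicit false

namespace Cfsg.Agent.Chevalley.Twist

open Cfsg.Lie Cfsg.Agent.Chevalley.Eval Cfsg.Agent.Chevalley.Table Cfsg.Agent.Chevalley.Check
  Cfsg.Agent.Chevalley.Cert Cfsg.Agent.Chevalley.Group Cfsg.Agent.Chevalley.Weyl
  Cfsg.Agent.Chevalley.WeylEnum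

/-- An entry of the data, stored in blocks of 32. -/
noncomputable def nth2 (C : List (List Rep)) (k : ℕ) : Rep :=
  nth (nth C [] (Nat.div k 32)) noRep (Nat.mod k 32)

/-- The images of the fundamental roots, packed. -/
noncomputable def keyOf (T : Tab) (d : Rep) : ℕ :=
  Nat.rec 0 (fun i ih => Nat.add (Nat.mul ih 256) (d.act (T.simple i))) T.l

/-- The checks on one entry. -/
noncomputable def wRepChk (T : Tab) (Js : List (List ℕ)) (C : List (List Rep)) (n k : ℕ) : Bool :=
  ((bif Nat.beq (nth2 C k).len 0 then allR T.n fun r => Nat.beq ((nth2 C k).act r) r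
    else Nat.blt (nth2 C k).par n && (Nat.blt (nth2 C (nth2 C k).par).len (nth2 C k).len &&
      (Nat.blt (nth2 C k).letter (cnt Js) && allR T.n fun r => Nat.beq ((nth2 C k).act r)
        ((nth2 C (nth2 C k).par).act (applyW T (nth Js [] (nth2 C k).letter) r))))) &&
  Nat.beq (nth2 C k).len (invCount T (nth2 C k))) &&
  ((allR (cnt Js) fun a => Nat.blt ((nth2 C k).next a) n && allR T.l fun i =>
      Nat.beq ((nth2 C ((nth2 C k).next a)).act (T.simple i))
        ((nth2 C k).act (applyW T (nth Js [] a) (T.simple i)))) &&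
  (!Nat.blt (Nat.add k 1) n || Nat.blt (keyOf T (nth2 C k)) (keyOf T (nth2 C (Nat.add k 1)))))

/-- The checks on a range of entries. -/
noncomputable def rangeChk (T : Tab) (Js : List (List ℕ)) (C : List (List Rep)) (n lo m : ℕ) : Bool :=
  allR m fun j => wRepChk T Js C n (Nat.add lo j)

/-- The lengths of the entries. -/
noncomputable def lensOf (C : List (List Rep)) (n : ℕ) : List ℕ :=
  Nat.rec [] (fun k ih => (nth2 C k).len :: ih) n

theorem range_ok {T : Tab} {Js : List (List ℕ)} {C : List (List Rep)} {n lo m : ℕ}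
    (h : rangeChk T Js C n lo m = true) {k : ℕ} (h1 : lo ≤ k) (h2 : k < lo + m) :
    wRepChk T Js C n k = true := by
  have h3 := Eval.of_allR h (k - lo) (by omega)
  rwa [show Nat.add lo (k - lo) = k from by show lo + (k - lo) = k; omega] at h3

theorem lensOf_eq (C : List (List Rep)) : ∀ n : ℕ,
    lensOf C n = ((List.range n).reverse).map fun k => (nth2 C k).len
  | 0 => rfl
  | n + 1 => by
    rw [List.range_succ, List.reverse_append, List.reverse_singleton, List.singleton_append,
      List.map_cons, ← lensOf_eq C n]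
    rfl

variable {D : ChevalleyDatum} {F : Type*} [Field F] {T : Tab} {hC : Certified D T} {S : Tw hC F}

/-- A checked table gives a transversal, with the lengths. -/
theorem exists_transversal (O : Orbits S) {Js : List (List ℕ)} (hk : O.k = Js.length)
    (hJ : ∀ a, O.J a = Js.getD a []) {C : List (List Rep)} {n : ℕ}
    (hall : ∀ k < n, wRepChk T Js C n k = true) {k₀ : ℕ} (hk₀ : k₀ < n)
    (hlen₀ : (nth2 C k₀).len = 0) :
    ∃ E : List (List ℕ), (∀ e ∈ E, ∀ a ∈ e, a < O.k) ∧
      (∀ w : List ℕ, (∀ a ∈ w, a < O.k) → ∃ e ∈ E, Eqv D (w.flatMap O.J) (e.flatMap O.J)) ∧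
      E.Pairwise (fun e e' => ¬ Eqv D (e.flatMap O.J) (e'.flatMap O.J)) ∧
      E.map (fun e => (invSet D T (e.flatMap O.J)).card) = lensOf C n := by
  classical
  have hJn : ∀ a, nth Js [] a = O.J a := fun a => by rw [nth_eq, hJ]
  have hW : ∀ {L : List ℕ}, (∀ i ∈ L, i < D.rank) → ∀ {r}, r < D.nroots →
      applyW T L r = wL D L r := fun hL _ hr => StConj.actT_foldr hC hL hr
  -- words for the entries
  have hword : ∀ m : ℕ, ∀ k < n, (nth2 C k).len = m → ∃ e : List ℕ, (∀ a ∈ e, a < O.k) ∧
      ∀ r < D.nroots, wL D (e.flatMap O.J) r = (nth2 C k).act r := by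
    intro m
    induction m using Nat.strong_induction_on with
    | _ m ih =>
      intro k hkn hm
      have h := hall k hkn
      simp only [wRepChk, Bool.and_eq_true] at h
      have h1 := h.1.1
      by_cases h0 : (nth2 C k).len = 0
      · rw [h0, Nat.beq_refl, cond_true] at h1
        refine ⟨[], by simp, fun r hr => ?_⟩
        exact (Nat.eq_of_beq_eq_true (Eval.of_allR h1 r (by rw [hC.n_eq]; exact hr))).symm
      rw [Bool.eq_false_iff.2 (fun hb => h0 (Nat.eq_of_beq_eq_true hb)), cond_false] at h1
      simp only [Bool.and_eq_true, Nat.blt_eq, cnt_eq] at h1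
      obtain ⟨hp, hlt, hlet, hact⟩ := h1
      obtain ⟨e, he, hee⟩ := ih _ (hm ▸ hlt) _ hp rfl
      have ha : (nth2 C k).letter < O.k := hk ▸ hlet
      refine ⟨e ++ [(nth2 C k).letter], fun a h' => (List.mem_append.1 h').elim (he a)
        fun h' => by rw [List.mem_singleton.1 h']; exact ha, fun r hr => ?_⟩
      have h2 := Nat.eq_of_beq_eq_true (Eval.of_allR hact r (by rw [hC.n_eq]; exact hr))
      rw [hJn, hW (O.J_lt _ ha) hr] at h2
      rw [h2, List.flatMap_append, List.flatMap_singleton, wL_append,
        hee _ (wL_lt hC (O.J_lt _ ha) hr)]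
  have hword' : ∀ k : ℕ, ∃ e : List ℕ, k < n → (∀ a ∈ e, a < O.k) ∧
      ∀ r < D.nroots, wL D (e.flatMap O.J) r = (nth2 C k).act r := fun k => by
    by_cases hkn : k < n
    · obtain ⟨e, he⟩ := hword _ k hkn rfl
      exact ⟨e, fun _ => he⟩
    · exact ⟨[], fun h => absurd h hkn⟩
  choose wd hwd using hword'
  have hmem : ∀ {k}, k < n → wd k ∈ ((List.range n).reverse).map wd := fun hkn =>
    List.mem_map.2 ⟨_, List.mem_reverse.2 (List.mem_range.2 hkn), rfl⟩
  refine ⟨((List.range n).reverse).map wd, fun e he => ?_, ?_, ?_, ?_⟩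
  · obtain ⟨k, hkn, rfl⟩ := List.mem_map.1 he
    exact (hwd k (List.mem_range.1 (List.mem_reverse.1 hkn))).1
  · intro w
    induction w using List.reverseRecOn with
    | nil =>
      intro _
      refine ⟨_, hmem hk₀, fun r hr => ?_⟩
      have h := hall k₀ hk₀
      simp only [wRepChk, Bool.and_eq_true, hlen₀, Nat.beq_refl, cond_true] at h
      rw [(hwd k₀ hk₀).2 r hr]
      exact (Nat.eq_of_beq_eq_true (Eval.of_allR h.1.1 r (by rw [hC.n_eq]; exact hr))).symm
    | append_singleton w a ih =>
      intro hw
      have ha : a < O.k := hw a (List.mem_append_right _ List.mem_cons_self)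
      obtain ⟨e, he, hwe⟩ := ih fun b hb => hw b (List.mem_append_left _ hb)
      obtain ⟨k, hkn, rfl⟩ := List.mem_map.1 he
      rw [List.mem_reverse, List.mem_range] at hkn
      have h := hall k hkn
      simp only [wRepChk, Bool.and_eq_true] at h
      have h2 := Eval.of_allR h.2.1 a (by rw [cnt_eq, ← hk]; exact ha)
      simp only [Bool.and_eq_true, Nat.blt_eq] at h2
      obtain ⟨hnx, hs⟩ := h2
      refine ⟨_, hmem hnx, fun r hr => ?_⟩
      have hJa := O.J_lt a ha
      have hk1 := flatMap_lt O (hwd k hkn).1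
      have hk2 := flatMap_lt O (hwd _ hnx).1
      have h3 : Eqv D ((wd k).flatMap O.J ++ O.J a) ((wd ((nth2 C k).next a)).flatMap O.J) := by
        refine eqv_of_simple hC (fun i hi => (List.mem_append.1 hi).elim (hk1 i) (hJa i)) hk2
          fun i hi => ?_
        have h4 := Nat.eq_of_beq_eq_true (Eval.of_allR hs i (by rw [hC.l_eq]; exact hi))
        rw [hC.simple_eq hi, hJn, hW hJa (hC.simple_lt hi)] at h4
        rw [wL_append, (hwd k hkn).2 _ (wL_lt hC hJa (hC.simple_lt hi)),
          (hwd _ hnx).2 _ (hC.simple_lt hi), h4]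
      rw [List.flatMap_append, List.flatMap_singleton, wL_append, hwe _ (wL_lt hC hJa hr),
        ← wL_append]
      exact h3 r hr
  · have hkey : ∀ j, j < n → ∀ i < j, keyOf T (nth2 C i) < keyOf T (nth2 C j) := by
      intro j
      induction j with
      | zero => intro _ i hi; exact absurd hi (Nat.not_lt_zero i)
      | succ j ih =>
        intro hj i hi
        have h := hall j (Nat.lt_of_succ_lt hj)
        simp only [wRepChk, Bool.and_eq_true] at h
        have h2 := h.2.2
        rw [show Nat.blt (Nat.add j 1) n = true from Nat.blt_eq.mpr hj] at h2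
        simp only [Bool.not_true, Bool.false_or, Nat.blt_eq] at h2
        rcases Nat.lt_or_ge i j with hij | hij
        · exact lt_trans (ih (Nat.lt_of_succ_lt hj) i hij) h2
        · rw [show i = j by omega]; exact h2
    have hne : ∀ {i j}, i < n → j < n → i < j →
        ¬ Eqv D ((wd i).flatMap O.J) ((wd j).flatMap O.J) := by
      intro i j hi hj hij heq
      refine (hkey j hj i hij).ne ?_
      have hs : ∀ l < T.l, (nth2 C i).act (T.simple l) = (nth2 C j).act (T.simple l) := fun l hl => by
        rw [hC.l_eq] at hl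
        rw [hC.simple_eq hl, ← (hwd i hi).2 _ (hC.simple_lt hl), ← (hwd j hj).2 _ (hC.simple_lt hl)]
        exact heq _ (hC.simple_lt hl)
      have : ∀ m ≤ T.l, (Nat.rec 0 (fun l ih => Nat.add (Nat.mul ih 256) ((nth2 C i).act (T.simple l))) m : ℕ) =
          Nat.rec 0 (fun l ih => Nat.add (Nat.mul ih 256) ((nth2 C j).act (T.simple l))) m := by
        intro m
        induction m with
        | zero => intro _; rfl
        | succ m ih =>
          intro hm
          show Nat.add (Nat.mul _ 256) ((nth2 C i).act (T.simple m)) =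
            Nat.add (Nat.mul _ 256) ((nth2 C j).act (T.simple m))
          rw [ih (by omega), hs m (by omega)]
      exact this T.l le_rfl
    rw [List.pairwise_map, List.pairwise_reverse]
    refine List.pairwise_lt_range.imp_of_mem fun {i j} hi hj hij h => ?_
    exact hne (List.mem_range.1 hi) (List.mem_range.1 hj) hij fun r hr => (h r hr).symm
  · rw [lensOf_eq, List.map_map]
    refine List.map_congr_left fun k hk' => ?_
    rw [List.mem_reverse, List.mem_range] at hk'
    have h := hall k hk'
    simp only [wRepChk, Bool.and_eq_true] at h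
    rw [Function.comp_apply, Nat.eq_of_beq_eq_true h.1.2, invSet, invCount, hC.n_eq]
    have key : ∀ m ≤ D.nroots,
        ((Finset.range m).filter fun r => 0 < T.phi r ∧ T.phi (wL D ((wd k).flatMap O.J) r) < 0).card =
          (Nat.rec 0 (fun r ih =>
            bif iblt 0 (T.phi r) && iblt (T.phi ((nth2 C k).act r)) 0 then Nat.add ih 1 else ih) m : ℕ) := by
      intro m
      induction m with
      | zero => intro _; rfl
      | succ m ih =>
        intro hm
        have e := ih (Nat.le_of_succ_le hm)
        rw [Finset.range_add_one, Finset.filter_insert]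
        show _ = bif iblt 0 (T.phi m) && iblt (T.phi ((nth2 C k).act m)) 0 then Nat.add _ 1 else _
        have hact := (hwd k hk').2 m (Nat.lt_of_succ_le hm)
        by_cases hcnd : 0 < T.phi m ∧ T.phi (wL D ((wd k).flatMap O.J) m) < 0
        · rw [if_pos hcnd, Finset.card_insert_of_notMem (by simp), e,
            (iblt_iff _ _).2 hcnd.1, ← hact, (iblt_iff _ _).2 hcnd.2]
          rfl
        · have hb : (iblt 0 (T.phi m) && iblt (T.phi ((nth2 C k).act m)) 0) = false := by
            rw [Bool.eq_false_iff]
            intro hb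
            rw [Bool.and_eq_true, iblt_iff, iblt_iff, ← hact] at hb
            exact hcnd hb
          rw [if_neg hcnd, e, hb, cond_false]
    exact key D.nroots le_rfl

/-- The sum over a transversal of the orders of the fixed unipotent groups. -/
theorem sum_Uw {O : Orbits S} {K : Subgroup (GL D.Idx F)} (hK : GenData O K) {Q : ℕ}
    (hcard : ∀ a < O.k, Nat.card (Uw S (O.J a)) ^ 1 = Q ^ (invSet D T (O.J a)).card)
    {E : List (List ℕ)} (hE : ∀ e ∈ E, ∀ a ∈ e, a < O.k) {lens : List ℕ}
    (hlens : E.map (fun e => (invSet D T (e.flatMap O.J)).card) = lens) :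
    (E.map fun e => Nat.card (Uw S (e.flatMap O.J))).sum = (lens.map fun l => Q ^ l).sum := by
  rw [← hlens, List.map_map]
  congr 1
  refine List.map_congr_left fun e he => ?_
  rw [Function.comp_apply, ← card_Uw hK 1 Q hcard (flatMap_lt O (hE e he))
    (equiv_flatMap O e (hE e he)), pow_one]

end Cfsg.Agent.Chevalley.Twist
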