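import Cfsg.Agent.Lib.Chevalley.Twist.CountF4

/-! Alternating sections of the large Ree groups. -/

set_option autoImplicit false
set_option linter.unusedSectionVars false
set_option maxRecDepth 100000

namespace Cfsg.Agent.Chevalley.Twist.F4Alt

open Cfsg.Lie Cfsg.Agent.Chevalley Cfsg.Agent.Chevalley.Table Cfsg.Agent.Chevalley.Cert
  Cfsg.Agent.Chevalley.Group Cfsg.Agent.Chevalley.Unip Cfsg.Agent.Chevalley.Borel
  Cfsg.Agent.Chevalley.Weyl Cfsg.Agent.Chevalley.Bruhat Cfsg.Agent.Chevalley.TorusCard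
  Cfsg.Agent.Chevalley.WeylEnum Cfsg.Agent.Chevalley.NormalForm

section general

variable {D : ChevalleyDatum} {F : Type*} [Field F] {T : Tab} (hC : Certified D T)
include hC

/-- An element in normal form conjugates torus elements as its monomial part does. -/
theorem conj_form {v m u h₁ h₂ : GL D.Idx F} (hv : v ∈ D.posUnipotent F)
    (hmN : m ∈ D.monomialSubgroup F) (hu : u ∈ Uminus D F m) (h1 : h₁ ∈ D.diagonalSubgroup F)
    (h2 : h₂ ∈ D.diagonalSubgroup F) (hc : v * m * u * h₁ * (v * m * u)⁻¹ = h₂) :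
    m * h₁ * m⁻¹ = h₂ := by
  have e1 : v * m * u * h₁ = h₂ * v * m * u := by
    have : v * m * u * h₁ = h₂ * (v * m * u) := by rw [← hc]; group
    simpa [mul_assoc] using this
  -- both sides in normal form for the monomial elements `m h₁` and `h₂ m`
  have hH1 : h₁⁻¹ ∈ Subgroup.normalizer (Uminus D F (m * h₁) : Set (GL D.Idx F)) := by
    obtain ⟨c, L, hL, hmc⟩ := (mem_N_iff hC).1 (mul_mem hmN (Subgroup.mem_sup_left h1))
    rw [hmc, Uminus_eq hC hL c]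
    have := H_le_normalizer (F := F) (P := fun r => r ∈ invList D T L) hC (inv_mem h1)
    convert this using 4
    ext g
    simp only [Set.mem_setOf_eq]
    exact ⟨fun ⟨r, t, hr, e⟩ => ⟨r, t, ((mem_invList hC).1 hr).1, hr, e⟩,
      fun ⟨r, t, _, hr, e⟩ => ⟨r, t, hr, e⟩⟩
  have hu1 : h₁⁻¹ * u * h₁ ∈ Uminus D F (m * h₁) := by
    have h5 : u ∈ Uminus D F (m * h₁) := by
      refine Subgroup.closure_mono ?_ hu
      rintro x ⟨r, t, hr, hmap, hx⟩
      refine ⟨r, t, hr, ?_, hx⟩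
      rintro _ ⟨y, hy, rfl⟩
      show m * h₁ * y * (m * h₁)⁻¹ ∈ D.negUnipotent F
      obtain ⟨t', rfl⟩ := (mem_rootSubgroup hC).1 hy
      obtain ⟨c, rfl⟩ := (mem_H_iff hC).1 h1
      rw [show m * tor D c * xg hC r t' * (m * tor D c)⁻¹ =
        m * (tor D c * xg hC r t' * (tor D c)⁻¹) * m⁻¹ by group, tor_conj_x hC _ _ _ hr.1]
      exact hmap ⟨_, (mem_rootSubgroup hC).2 ⟨_, rfl⟩, rfl⟩
    simpa using (Subgroup.mem_normalizer_iff.1 hH1 u).1 h5
  have hh2m : h₂ * m ∈ D.monomialSubgroup F := mul_mem (Subgroup.mem_sup_left h2) hmN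
  have hu2 : u ∈ Uminus D F (h₂ * m) := by
    refine Subgroup.closure_mono ?_ hu
    rintro x ⟨r, t, hr, hmap, hx⟩
    refine ⟨r, t, hr, ?_, hx⟩
    rintro _ ⟨y, hy, rfl⟩
    have h4 := (Subgroup.mem_normalizer_iff.1 (H_normalizes_V hC h2) _).1 (hmap ⟨y, hy, rfl⟩)
    show h₂ * m * y * (h₂ * m)⁻¹ ∈ D.negUnipotent F
    simpa [mul_assoc] using h4
  have hUB : D.posUnipotent F ≤ D.borelSubgroup F := le_sup_left
  have hv2 : h₂ * v * h₂⁻¹ ∈ D.posUnipotent F :=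
    (Subgroup.mem_normalizer_iff.1 (H_normalizes_U hC h2) v).1 hv
  have e2 : v * (m * h₁) * (h₁⁻¹ * u * h₁) = h₂ * v * h₂⁻¹ * (h₂ * m) * u :=
    calc _ = v * m * u * h₁ := by group
      _ = h₂ * v * m * u := e1
      _ = _ := by group
  obtain ⟨d, hd⟩ := (mem_H_iff hC).1
    (unique_form hC (hUB hv) (hUB hv2) (mul_mem hmN (Subgroup.mem_sup_left h1)) hh2m hu1 hu2 e2).1
  -- the torus factor is trivial: it lies in `U`
  have hH : m * tor D d * m⁻¹ ∈ D.diagonalSubgroup F := H_conj hC hmN (tor_mem_H hC d)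
  obtain ⟨k', hk'⟩ : ∃ k', k' = m * h₁ * tor D d * (m * h₁)⁻¹ := ⟨_, rfl⟩
  have hk'H : k' ∈ D.diagonalSubgroup F :=
    hk' ▸ H_conj hC (mul_mem hmN (Subgroup.mem_sup_left h1)) (tor_mem_H hC d)
  have hd' : h₂ * m = k' * (m * h₁) := by
    rw [hk', ← hd]; group
  have hb2 : h₂ * v * h₂⁻¹ * k' ∈ D.borelSubgroup F :=
    mul_mem (hUB hv2) (Subgroup.mem_sup_right hk'H)
  have e3 : v * (m * h₁) * (h₁⁻¹ * u * h₁) = h₂ * v * h₂⁻¹ * k' * (m * h₁) * u := by
    rw [e2, hd']; group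
  have hu3 : u ∈ Uminus D F (m * h₁) := by
    have := (Subgroup.mem_normalizer_iff.1 (inv_mem hH1) _).1 hu1
    simpa [mul_assoc] using this
  have hmN1 : m * h₁ ∈ D.monomialSubgroup F := mul_mem hmN (Subgroup.mem_sup_left h1)
  have hb3 := ((unique_form hC (hUB hv) hb2 hmN1 hmN1 hu1 hu3 e3).2 rfl).1
  have hk1 : k' = 1 := by
    have h6 : k' ∈ D.posUnipotent F := by
      have : k' = (h₂ * v * h₂⁻¹)⁻¹ * v := eq_inv_mul_of_mul_eq hb3.symm
      rw [this]; exact mul_mem (inv_mem hv2) hv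
    exact UT_inf_H hC (U_le_UT hC h6) hk'H
  rw [hk1, one_mul] at hd'
  rw [← hd']
  group



end general

variable {K : Type*} [Field K] [Fintype K] [CharP K 2] {m : ℕ}
  {hK : Fintype.card K = 2 ^ (2 * m + 1)} (X : F4.Setup (m := m) hK)

/-- Words in the two orbit reflections. -/
def words : List (List ℕ) := [[], [0], [1], [0, 1], [1, 0], [0, 1, 0], [1, 0, 1], [0, 1, 0, 1],
  [1, 0, 1, 0], [0, 1, 0, 1, 0], [1, 0, 1, 0, 1], [0, 1, 0, 1, 0, 1], [1, 0, 1, 0, 1, 0],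
  [0, 1, 0, 1, 0, 1, 0], [1, 0, 1, 0, 1, 0, 1], [0, 1, 0, 1, 0, 1, 0, 1]]

/-- The simple reflections of a word in the orbit reflections. -/
def wJ (w : List ℕ) : List ℕ := w.flatMap fun a => F4.Js.getD a []

theorem wJ_lt {w : List ℕ} : ∀ i ∈ wJ w, i < chevF4.rank := by
  intro i hi
  obtain ⟨a, -, hia⟩ := List.mem_flatMap.1 hi
  by_cases ha : a < 2
  · have h : ∀ a < 2, ∀ i ∈ F4.Js.getD a [], i < chevF4.rank := by decide +kernel
    exact h a ha i hia
  · rw [List.getD_eq_default _ _ (by simp [F4.Js]; omega)] at hia; simp at hia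

theorem step_tab : ((List.range 2).all fun a => words.all fun e => words.any fun e' =>
    (List.range 48).all fun r => Nat.beq (applyW Data.F4.tab (wJ (a :: e)) r)
      (applyW Data.F4.tab (wJ e') r)) = true := by decide +kernel

theorem pow_tab : (words.all fun e => (List.range 48).all fun r =>
    Nat.beq (applyW Data.F4.tab (List.replicate 16 (wJ e)).flatten r) r) = true := by decide +kernel

theorem nroots_eq : chevF4.nroots = 48 := by decide +kernel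

theorem words_step : ∀ a < 2, ∀ e ∈ words, ∃ e' ∈ words, ∀ r < chevF4.nroots,
    wL chevF4 (wJ (a :: e)) r = wL chevF4 (wJ e') r := by
  intro a ha e he
  obtain ⟨e', he', h⟩ := List.any_eq_true.1
    (List.all_eq_true.1 (List.all_eq_true.1 step_tab a (List.mem_range.2 ha)) e he)
  refine ⟨e', he', fun r hr => ?_⟩
  rw [← StConj.actT_foldr F4.hC wJ_lt hr, ← StConj.actT_foldr F4.hC wJ_lt hr]
  exact Nat.eq_of_beq_eq_true (List.all_eq_true.1 h r (List.mem_range.2 (nroots_eq ▸ hr)))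

theorem words_pow : ∀ e ∈ words, ∀ r < chevF4.nroots,
    wL chevF4 (List.replicate 16 (wJ e)).flatten r = r := by
  intro e he r hr
  have hl : ∀ i ∈ (List.replicate 16 (wJ e)).flatten, i < chevF4.rank := fun i hi => by
    obtain ⟨l, hl, hil⟩ := List.mem_flatten.1 hi
    rw [(List.eq_of_mem_replicate hl)] at hil
    exact wJ_lt i hil
  rw [← StConj.actT_foldr F4.hC hl hr]
  exact Nat.eq_of_beq_eq_true (List.all_eq_true.1 (List.all_eq_true.1 pow_tab e he) r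
    (List.mem_range.2 (nroots_eq ▸ hr)))

theorem word_cover : ∀ w : List ℕ, (∀ a ∈ w, a < 2) → ∃ e ∈ words, Eqv chevF4 (wJ w) (wJ e)
  | [], _ => ⟨[], by simp [words], fun _ _ => rfl⟩
  | a :: w, h => by
    obtain ⟨e, he, hwe⟩ := word_cover w fun b hb => h b (List.mem_cons_of_mem a hb)
    obtain ⟨e', he', hee⟩ := words_step a (h a List.mem_cons_self) e he
    refine ⟨e', he', fun r hr => ?_⟩
    rw [← hee r hr]
    simp only [wJ, List.flatMap_cons, wL_append] at hwe ⊢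
    rw [hwe r hr]

include X

theorem pow16_mem_H {n : GL chevF4.Idx K} (hn : n ∈ chevF4.monomialSubgroup K) (hF : n ∈ Fx X.S) :
    n ^ 16 ∈ chevF4.diagonalSubgroup K := by
  obtain ⟨c, L, hL, rfl⟩ := (mem_N_iff F4.hC).1 hn
  obtain ⟨w, hw, hLw⟩ := exists_orbit_word (O := X.O) hL (equiv_of_fixed (S := X.S) hL hF)
  have hw2 : ∀ a ∈ w, a < 2 := fun a ha => X.k_eq ▸ hw a ha
  have hwJ : w.flatMap X.O.J = wJ w := by rw [wJ]; congr 1; funext a; exact X.J_eq a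
  obtain ⟨e, he, hwe⟩ := word_cover w hw2
  have hLl : ∀ k : ℕ, ∀ i ∈ (List.replicate k L).flatten, i < chevF4.rank := fun k i hi => by
    obtain ⟨l, hl, hil⟩ := List.mem_flatten.1 hi
    rw [(List.eq_of_mem_replicate hl)] at hil
    exact hL i hil
  have hpow : ∀ k : ℕ, ∃ c' : ℕ → Kˣ, (tor chevF4 c * nL F4.hC K L) ^ k =
      tor chevF4 c' * nL F4.hC K (List.replicate k L).flatten := by
    intro k
    induction k with
    | zero => exact ⟨1, by simp [tor_one, nL]⟩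
    | succ k ih =>
      obtain ⟨c', hc'⟩ := ih
      obtain ⟨d, hd⟩ := nL_conj_tor (F := K) F4.hC hL c'
      refine ⟨c * d, ?_⟩
      rw [pow_succ', hc', List.replicate_succ, List.flatten_cons, nL_append, ← tor_mul,
        show tor chevF4 c * nL F4.hC K L * (tor chevF4 c' * nL F4.hC K (List.replicate k L).flatten) =
          tor chevF4 c * (nL F4.hC K L * tor chevF4 c') * nL F4.hC K (List.replicate k L).flatten by
            group, hd]
      group
  have hLe : Eqv chevF4 L (wJ e) := fun r hr => ((hwJ ▸ hLw) r hr).trans (hwe r hr)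
  have heL : ∀ i ∈ wJ e, i < chevF4.rank := wJ_lt
  have hk : ∀ k : ℕ, ∀ r < chevF4.nroots, wL chevF4 (List.replicate k L).flatten r =
      wL chevF4 (List.replicate k (wJ e)).flatten r := by
    intro k
    induction k with
    | zero => intro r _; rfl
    | succ k ih =>
      intro r hr
      rw [List.replicate_succ, List.replicate_succ, List.flatten_cons, List.flatten_cons,
        wL_append, wL_append, ih r hr, hLe _ (wL_lt F4.hC (fun i hi => ?_) hr)]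
      obtain ⟨l, hl, hil⟩ := List.mem_flatten.1 hi
      rw [(List.eq_of_mem_replicate hl)] at hil
      exact heL i hil
  obtain ⟨c', hc'⟩ := hpow 16
  obtain ⟨d, hd⟩ := exists_tor_of_pos (F := K) F4.hC (hLl 16) fun i hi => by
    rw [hk 16 _ (F4.hC.simple_lt hi), words_pow e he _ (F4.hC.simple_lt hi)]
    exact F4.hC.phi_simple hi
  rw [hc', hd, tor_mul]
  exact tor_mem_H F4.hC _

/-- A conjugation of a subset of the torus into the torus has trivial sixteenth power. -/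
theorem conj16 {g : GL chevF4.Idx K} (hg : g ∈ twistedF4 K (2 ^ m)) {P : Subgroup (GL chevF4.Idx K)}
    (hP : P ≤ chevF4.diagonalSubgroup K) (hgP : ∀ x ∈ P, g * x * g⁻¹ ∈ P) :
    ∀ x ∈ P, g ^ 16 * x * (g ^ 16)⁻¹ = x := by
  obtain ⟨v, hv, -, n, hn, hnF, u, hu, -, rfl⟩ := fixed_form X.S (X.gen.le hg)
  have key : ∀ k : ℕ, ∀ x ∈ P, (v * n * u) ^ k * x * ((v * n * u) ^ k)⁻¹ ∈ P ∧
      n ^ k * x * (n ^ k)⁻¹ = (v * n * u) ^ k * x * ((v * n * u) ^ k)⁻¹ := by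
    intro k
    induction k with
    | zero => intro x hx; simp [hx]
    | succ k ih =>
      intro x hx
      obtain ⟨h1, h2⟩ := ih x hx
      have h3 := hgP _ h1
      have h4 := conj_form F4.hC hv hn hu (hP h1) (hP h3) rfl
      have e : (v * n * u) ^ (k + 1) * x * ((v * n * u) ^ (k + 1))⁻¹ =
          v * n * u * ((v * n * u) ^ k * x * ((v * n * u) ^ k)⁻¹) * (v * n * u)⁻¹ := by
        simp only [pow_succ', mul_inv_rev, mul_assoc]
      refine ⟨e ▸ h3, ?_⟩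
      rw [e, ← h4, ← h2]
      simp only [pow_succ', mul_inv_rev, mul_assoc]
  intro x hx
  rw [← (key 16 x hx).2, H_comm F4.hC (pow16_mem_H X hn hnF) (hP hx), mul_inv_cancel_right]

theorem seven_cases : (2 ^ (2 * m + 1)) % 7 = 1 ∨ ¬ 7 ∣ Nat.card (twistedF4 K (2 ^ m)) := by
  rw [F4.card_group X]
  obtain ⟨q, hq⟩ : ∃ q, q = 2 ^ (2 * m + 1) := ⟨_, rfl⟩
  rw [← hq]
  have h7 : q % 7 = 1 ∨ q % 7 = 2 ∨ q % 7 = 4 := by
    rw [hq]
    have h : ∀ j : ℕ, 2 ^ j % 7 = 1 ∨ 2 ^ j % 7 = 2 ∨ 2 ^ j % 7 = 4 := by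
      intro j
      induction j with
      | zero => simp
      | succ j ih => rw [pow_succ, Nat.mul_mod]; rcases ih with h | h | h <;> rw [h] <;> norm_num
    exact h _
  rcases h7 with h | h
  · exact Or.inl h
  refine Or.inr fun hd => ?_
  have hz : ((q ^ 12 * (q - 1) * (q ^ 3 + 1) * (q ^ 4 - 1) * (q ^ 6 + 1) : ℕ) : ZMod 7) = 0 :=
    (ZMod.natCast_eq_zero_iff _ _).2 hd
  have h1 : 1 ≤ q := hq ▸ Nat.one_le_two_pow
  push_cast [Nat.cast_sub h1, Nat.cast_sub (Nat.one_le_pow 4 q h1)] at hz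
  rw [← ZMod.natCast_mod q 7] at hz
  rcases h with h | h <;> rw [h] at hz <;> revert hz <;> decide

/-- The torus contains a Sylow 7-subgroup. -/
theorem exists_conj_torus (h7 : (2 ^ (2 * m + 1)) % 7 = 1) {Q : Subgroup (twistedF4 K (2 ^ m))}
    (hQ : IsPGroup 7 Q) : ∃ g : twistedF4 K (2 ^ m),
      ∀ x ∈ Q, ((g * x * g⁻¹ : twistedF4 K (2 ^ m)) : GL chevF4.Idx K) ∈ chevF4.diagonalSubgroup K := by
  classical
  haveI : Fact (Nat.Prime 7) := ⟨by norm_num⟩
  haveI : Finite (twistedF4 K (2 ^ m)) := Finite.of_injective _ Subtype.val_injective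
  obtain ⟨H, hH⟩ : ∃ H, H = (chevF4.diagonalSubgroup K).subgroupOf (twistedF4 K (2 ^ m)) := ⟨_, rfl⟩
  have hHc : Nat.card H = (2 ^ (2 * m + 1) - 1) ^ 2 := by
    have e := Nat.card_congr (Subgroup.subgroupOfEquivOfLe
      (inf_le_right : chevF4.diagonalSubgroup K ⊓ twistedF4 K (2 ^ m) ≤ twistedF4 K (2 ^ m))).toEquiv
    rw [Subgroup.inf_subgroupOf_right, ← hH] at e
    exact e.trans (F4.card_H X)
  have hidx : ¬ 7 ∣ H.index := by
    intro h
    have hc := F4.card_group X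
    rw [← Subgroup.card_mul_index H, hHc] at hc
    obtain ⟨q, hq⟩ : ∃ q, q = 2 ^ (2 * m + 1) := ⟨_, rfl⟩
    rw [← hq] at hc h7
    have h1 : 1 ≤ q := hq ▸ Nat.one_le_two_pow
    have h2 : 2 ≤ q := hq ▸ Nat.le_self_pow (by omega) 2
    obtain ⟨a, rfl⟩ : ∃ a, q = a + 1 := ⟨q - 1, by omega⟩
    simp only [Nat.add_sub_cancel] at hc
    rw [show (a + 1) ^ 4 - 1 = a * ((a + 2) * ((a + 1) ^ 2 + 1)) from
      Nat.sub_eq_of_eq_add (by ring)] at hc
    have e : H.index = (a + 1) ^ 12 * ((a + 1) ^ 3 + 1) * ((a + 1) ^ 6 + 1) *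
        ((a + 2) * ((a + 1) ^ 2 + 1)) := by
      refine Nat.eq_of_mul_eq_mul_left (pow_pos (show 0 < a by omega) 2) (hc.trans ?_)
      ring
    have ha : ((a : ℕ) : ZMod 7) = 0 := (ZMod.natCast_eq_zero_iff _ _).2 (by omega)
    have hz := (ZMod.natCast_eq_zero_iff _ _).2 h
    rw [e] at hz
    push_cast [ha] at hz
    norm_num at hz
    exact absurd ((ZMod.natCast_eq_zero_iff 16 7).1 (by exact_mod_cast hz)) (by decide)
  obtain ⟨P⟩ : Nonempty (Sylow 7 H) := inferInstance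
  obtain ⟨S, hS⟩ := IsPGroup.exists_le_sylow hQ
  have hP' : IsPGroup 7 ((P : Subgroup H).map H.subtype) := P.2.map _
  obtain ⟨S', hS'⟩ := IsPGroup.exists_le_sylow hP'
  have hidx' : ¬ 7 ∣ ((P : Subgroup H).map H.subtype).index := by
    rw [Subgroup.index_map_subtype]
    exact Nat.Prime.not_dvd_mul Fact.out P.not_dvd_index hidx
  have hS'eq : (S' : Subgroup _) = (P : Subgroup H).map H.subtype :=
    (hP'.toSylow hidx').3 S'.2 hS'
  obtain ⟨g, hg⟩ := MulAction.exists_smul_eq (twistedF4 K (2 ^ m)) S S'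
  refine ⟨g, fun x hx => ?_⟩
  have : g * x * g⁻¹ ∈ (S' : Subgroup _) := by
    rw [← hg, Sylow.coe_subgroup_smul]
    exact ⟨x, hS hx, rfl⟩
  rw [hS'eq] at this
  obtain ⟨y, -, hy⟩ := this
  rw [← hy]
  have := y.2
  simp only [hH, Subgroup.mem_subgroupOf] at this
  exact this

theorem alt_bound {r : ℕ} (H : Subgroup (twistedF4 K (2 ^ m))) (N : Subgroup H) [N.Normal]
    (h : Nonempty (H ⧸ N ≃* alternatingGroup (Fin r))) : r ≤ 6 := by
  classical
  haveI : Finite (twistedF4 K (2 ^ m)) := Finite.of_injective _ Subtype.val_injective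
  haveI : Fact (Nat.Prime 7) := ⟨by norm_num⟩
  by_contra hr
  obtain ⟨φe⟩ := h
  obtain ⟨φ, hφ⟩ : ∃ φ : H →* alternatingGroup (Fin r),
      φ = φe.toMonoidHom.comp (QuotientGroup.mk' N) := ⟨_, rfl⟩
  have hsurj : Function.Surjective φ := hφ ▸ φe.surjective.comp (QuotientGroup.mk'_surjective N)
  obtain ⟨ι, hι⟩ : ∃ ι : Fin 7 ↪ Fin r, ι = Fin.castLEEmb (by omega) := ⟨_, rfl⟩
  obtain ⟨s, t, hs, ht, hst, hs7, hs1⟩ : ∃ s t : Equiv.Perm (Fin 7), Equiv.Perm.sign s = 1 ∧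
      Equiv.Perm.sign t = 1 ∧ t * s * t⁻¹ = s ^ 2 ∧ s ^ 7 = 1 ∧ s ≠ 1 :=
    ⟨c[0, 1, 2, 3, 4, 5, 6], c[1, 2, 4] * c[3, 6, 5], by decide, by decide, by decide, by decide,
      by decide⟩
  obtain ⟨f, hf⟩ : ∃ f : Equiv.Perm (Fin 7) →* Equiv.Perm (Fin r),
      f = Equiv.Perm.viaEmbeddingHom ι := ⟨_, rfl⟩
  have hsign : ∀ p, Equiv.Perm.sign (f p) = Equiv.Perm.sign p := fun p => by
    rw [hf, Equiv.Perm.viaEmbeddingHom_apply, Equiv.Perm.viaEmbedding, Equiv.Perm.sign_extendDomain]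
  obtain ⟨c, hc⟩ : ∃ c : alternatingGroup (Fin r), c = ⟨f s, (hsign s).trans hs⟩ := ⟨_, rfl⟩
  obtain ⟨a, ha⟩ : ∃ a : alternatingGroup (Fin r), a = ⟨f t, (hsign t).trans ht⟩ := ⟨_, rfl⟩
  have hca : a * c * a⁻¹ = c ^ 2 := Subtype.ext (by
    rw [hc, ha]
    show f t * f s * (f t)⁻¹ = f s ^ 2
    rw [← map_inv, ← map_mul, ← map_mul, hst, map_pow])
  have hc7 : orderOf c = 7 := by
    refine orderOf_eq_prime (Subtype.ext (by rw [hc]; show f s ^ 7 = 1; rw [← map_pow, hs7, map_one]))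
      fun e => hs1 ?_
    refine (hf ▸ Equiv.Perm.viaEmbeddingHom_injective ι) ?_
    rw [hc] at e
    exact (congrArg Subtype.val e).trans (map_one _).symm
  rcases seven_cases X with h7 | h7
  swap
  · refine h7 ?_
    calc 7 = orderOf c := hc7.symm
      _ ∣ Nat.card (alternatingGroup (Fin r)) := orderOf_dvd_natCard c
      _ ∣ Nat.card H := Subgroup.card_dvd_of_surjective φ hsurj
      _ ∣ _ := Subgroup.card_subgroup_dvd_card H
  obtain ⟨Z, hZ⟩ : ∃ Z, Z = Subgroup.zpowers c := ⟨_, rfl⟩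
  obtain ⟨L, hL⟩ : ∃ L, L = Z.comap φ := ⟨_, rfl⟩
  obtain ⟨P⟩ : Nonempty (Sylow 7 L) := inferInstance
  obtain ⟨Q, hQdef⟩ : ∃ Q, Q = (P : Subgroup L).map L.subtype := ⟨_, rfl⟩
  -- the Sylow subgroup maps onto the cyclic group
  have hQc : c ∈ Q.map φ := by
    have hle : Q.map φ ≤ Z := by
      rintro _ ⟨x, hx, rfl⟩
      rw [hQdef] at hx
      obtain ⟨y, -, rfl⟩ := hx
      have := y.2
      simp only [hL, Subgroup.mem_comap] at this
      exact this
    haveI : Fact (Nat.card Z).Prime := ⟨by rw [hZ, Nat.card_zpowers, hc7]; norm_num⟩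
    rcases ((Q.map φ).subgroupOf Z).eq_bot_or_eq_top_of_prime_card with e | e
    · exfalso
      rw [Subgroup.subgroupOf_eq_bot] at e
      have hbot : Q.map φ = ⊥ := le_bot_iff.1 fun x hx => e.le_bot ⟨hx, hle hx⟩
      obtain ⟨M, hM⟩ : ∃ M, M = φ.ker.subgroupOf L := ⟨_, rfl⟩
      have hPM : (P : Subgroup L) ≤ M := fun x hx => by
        rw [hM, Subgroup.mem_subgroupOf, MonoidHom.mem_ker]
        have h1 : φ (x : H) ∈ Q.map φ := ⟨x, hQdef ▸ ⟨x, hx, rfl⟩, rfl⟩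
        rwa [hbot, Subgroup.mem_bot] at h1
      refine P.not_dvd_index (Dvd.dvd.trans ?_ (Subgroup.index_dvd_of_le hPM))
      have h2 : M.index = Nat.card Z := by
        rw [hM, ← Subgroup.relIndex, Subgroup.relIndex_ker, hL, Subgroup.map_comap_eq_self_of_surjective hsurj]
      rw [h2, hZ, Nat.card_zpowers, hc7]
    · exact Subgroup.subgroupOf_eq_top.1 e (hZ ▸ Subgroup.mem_zpowers c)
  obtain ⟨h0, hh0⟩ := hsurj a
  have hnormZ : ∀ z ∈ Z, a * z * a⁻¹ ∈ Z := by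
    intro z hz
    rw [hZ, Subgroup.mem_zpowers_iff] at hz
    obtain ⟨k, rfl⟩ := hz
    rw [← conj_zpow, hca, hZ]
    exact zpow_mem (pow_mem (Subgroup.mem_zpowers c) 2) k
  -- the conjugate Sylow subgroup
  obtain ⟨N', hN'⟩ : ∃ N', N' = Subgroup.normalizer (L : Set H) := ⟨_, rfl⟩
  have hh0L : h0 ∈ N' := by
    rw [hN', Subgroup.mem_normalizer_iff]
    intro x
    simp only [SetLike.mem_coe, hL, Subgroup.mem_comap, map_mul, map_inv, hh0]
    refine ⟨hnormZ _, fun hx => ?_⟩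
    have h3 : φ x = a⁻¹ * (a * φ x * a⁻¹) * a := by group
    rw [h3, hZ]
    rw [hZ, Subgroup.mem_zpowers_iff] at hx
    obtain ⟨k, hk⟩ := hx
    rw [← hk]
    have hca4 : a⁻¹ * c * a = c ^ 4 := by
      have hcc : c ^ 8 = c := by
        rw [← pow_mod_orderOf, hc7]; norm_num
      have : a * c ^ 4 * a⁻¹ = c := by rw [← conj_pow, hca, ← pow_mul, hcc]
      calc a⁻¹ * c * a = a⁻¹ * (a * c ^ 4 * a⁻¹) * a := by rw [this]
        _ = c ^ 4 := by group
    rw [show a⁻¹ * c ^ k * a = (a⁻¹ * c * a) ^ k by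
      simpa using (conj_zpow (a := a⁻¹) (b := c) (i := k)).symm, hca4]
    exact zpow_mem (pow_mem (Subgroup.mem_zpowers c) 4) k
  haveI : (L.subgroupOf N').Normal := hN' ▸ Subgroup.normal_in_normalizer
  have hPN : ∃ l ∈ L, ∀ x ∈ Q, l * h0 * x * (l * h0)⁻¹ ∈ Q := by
    obtain ⟨b, hb⟩ : ∃ b : MulAut L, ∀ x : L, ((b x : L) : H) = h0 * x * h0⁻¹ := by
      have hm := fun x : H => (Subgroup.mem_normalizer_iff.1 (hN' ▸ hh0L) x)
      exact ⟨
        { toFun := fun x => ⟨h0 * x * h0⁻¹, (hm x).1 x.2⟩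
          invFun := fun x => ⟨h0⁻¹ * x * h0, (hm _).2 (by simpa [mul_assoc] using x.2)⟩
          left_inv := fun x => Subtype.ext (by simp [mul_assoc])
          right_inv := fun x => Subtype.ext (by simp [mul_assoc])
          map_mul' := fun x y => Subtype.ext (by simp [mul_assoc]) }, fun x => rfl⟩
    obtain ⟨l, hl⟩ := MulAction.exists_smul_eq L (b • P) P
    refine ⟨l, l.2, fun x hx => ?_⟩
    rw [hQdef] at hx ⊢
    obtain ⟨y, hy, rfl⟩ := hx
    refine ⟨l * b y * l⁻¹, ?_, ?_⟩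
    · have h1 : b y ∈ ((b • P : Sylow 7 L) : Subgroup L) := ⟨y, hy, rfl⟩
      have h2 : l * b y * l⁻¹ ∈ ((l • (b • P) : Sylow 7 L) : Subgroup L) := by
        rw [Sylow.coe_subgroup_smul]; exact ⟨b y, h1, rfl⟩
      rwa [hl] at h2
    · simp [hb, mul_assoc]
  obtain ⟨l, hl, hlQ⟩ := hPN
  obtain ⟨y, hy⟩ : ∃ y, y = l * h0 := ⟨_, rfl⟩
  rw [← hy] at hlQ
  -- conjugate into the torus
  have hQp : IsPGroup 7 (Q.map H.subtype) := (hQdef ▸ P.2.map _ : IsPGroup 7 Q).map _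
  obtain ⟨g, hg⟩ := exists_conj_torus X h7 hQp
  obtain ⟨W, hW⟩ : ∃ W : Subgroup (GL chevF4.Idx K), W = (Q.map H.subtype).map
      ((twistedF4 K (2 ^ m)).subtype.comp (MulAut.conj g).toMonoidHom) := ⟨_, rfl⟩
  have hWT : W ≤ chevF4.diagonalSubgroup K := by
    rw [hW]
    rintro _ ⟨x, hx, rfl⟩
    exact hg x hx
  obtain ⟨z, hz⟩ : ∃ z : twistedF4 K (2 ^ m), z = g * (y : twistedF4 K (2 ^ m)) * g⁻¹ := ⟨_, rfl⟩
  have hzW : ∀ x ∈ W, (z : GL chevF4.Idx K) * x * (z : GL chevF4.Idx K)⁻¹ ∈ W := by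
    rw [hW]
    rintro _ ⟨x, hx, rfl⟩
    obtain ⟨x', hx', rfl⟩ := hx
    refine ⟨(y * x' * y⁻¹ : H), ⟨_, hlQ x' hx', rfl⟩, ?_⟩
    simp [hz, mul_assoc]
  have h16 := conj16 X z.2 hWT hzW
  obtain ⟨x, hx, hxc⟩ := hQc
  have h1 : y ^ 16 * x * (y ^ 16)⁻¹ = x := by
    have e := h16 _ (hW ▸ ⟨(x : twistedF4 K (2 ^ m)), ⟨x, hx, rfl⟩, rfl⟩ :
      ((g * x * g⁻¹ : twistedF4 K (2 ^ m)) : GL chevF4.Idx K) ∈ W)
    rw [← Subgroup.coe_pow, ← Subgroup.coe_inv, ← Subgroup.coe_mul, ← Subgroup.coe_mul] at e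
    have e' := Subtype.ext e
    rw [hz, conj_pow] at e'
    refine Subtype.ext ((MulAut.conj g).injective ?_)
    simpa [MulAut.conj_apply, mul_assoc] using e'
  have hl' : φ l ∈ Z := by rw [hL, Subgroup.mem_comap] at hl; exact hl
  rw [hZ, Subgroup.mem_zpowers_iff] at hl'
  obtain ⟨i, hi⟩ := hl'
  have hyc : φ y * c * (φ y)⁻¹ = c ^ 2 := by
    rw [hy, map_mul, hh0, ← hi]
    rw [show c ^ i * a * c * (c ^ i * a)⁻¹ = c ^ i * (a * c * a⁻¹) * (c ^ i)⁻¹ by group, hca]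
    group
  have hk : ∀ k : ℕ, φ y ^ k * c * (φ y ^ k)⁻¹ = c ^ 2 ^ k := by
    intro k
    induction k with
    | zero => simp
    | succ k ih =>
      rw [pow_succ', show φ y * φ y ^ k * c * (φ y * φ y ^ k)⁻¹ =
        φ y * (φ y ^ k * c * (φ y ^ k)⁻¹) * (φ y)⁻¹ by group, ih, ← conj_pow, hyc, ← pow_mul,
        pow_succ']
  have e16 := congrArg φ h1
  rw [map_mul, map_mul, map_inv, map_pow, hxc, hk 16] at e16
  have : c ^ (2 ^ 16 - 1) = 1 := by
    rw [pow_sub _ (Nat.one_le_two_pow), e16, pow_one, mul_inv_cancel]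
  have := orderOf_dvd_of_pow_eq_one this
  rw [hc7] at this
  norm_num at this

end Cfsg.Agent.Chevalley.Twist.F4Alt
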