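import Cfsg.Agent.Lib.Chevalley.Twist.G2Rels
import Cfsg.Agent.Lib.Chevalley.Twist.Build
import Cfsg.Agent.Lib.Chevalley.Types.GAut

/-!
The twisted groups of type G2 are fixed groups.
-/

set_option autoImplicit false

open scoped Matrix

namespace Cfsg.Agent.Chevalley.Twist.G2

open Cfsg.Lie Cfsg.Agent.Chevalley Cfsg.Agent.Chevalley.Table Cfsg.Agent.Chevalley.Cert
  Cfsg.Agent.Chevalley.Group Cfsg.Agent.Chevalley.Unip Cfsg.Agent.Chevalley.GraphAut
  Cfsg.Agent.Chevalley.TorusCard Cfsg.Agent.Chevalley.NormalForm Cfsg.Agent.Chevalley.Borel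
  Cfsg.Agent.Chevalley.Bruhat Cfsg.Agent.Chevalley.Weyl Cfsg.Agent.Chevalley.Eval

theorem hT : StKernel.HasCerts Data.G2.tab :=
  ⟨⟨_, Types.CoefG2.coef_ok⟩, ⟨_, Types.StCerts.conj_G2⟩⟩

/-- The node images with exponents. -/
abbrev L : List (ℕ × ℕ) := [(1, 3), (0, 1)]

/-- The orbit. -/
abbrev J : List ℕ := [0, 1, 0, 1, 0, 1]

/-- The inverse of the transposed Cartan matrix. -/
abbrev adj : Matrix (Fin chevG2.rank) (Fin chevG2.rank) ℤ :=
  (!![2, 1; 3, 2] : Matrix (Fin 2) (Fin 2) ℤ)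

theorem orbits_ok : orbitsChk Data.G2.tab Types.GAut.tabG2 (nodePi L) [J] [0] = true := by
  decide +kernel

theorem adj_ok : adj * cartanMat chevG2 = (1 : ℤ) • (1 : Matrix (Fin chevG2.rank) (Fin chevG2.rank) ℤ) := by
  decide +kernel

theorem inv_ok : invT Data.G2.tab J = [6, 7, 8, 9, 10, 11] := by decide +kernel

theorem roots_ok : chevG2.simple 0 = 7 ∧ chevG2.simple 1 = 6 ∧ chevG2.neg 8 = 3 ∧ chevG2.neg 10 = 1 ∧
    chevG2.nroots = 12 ∧ wL chevG2 [1] (chevG2.simple 0) = 8 ∧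
    wL chevG2 [0] (chevG2.simple 1) = 10 := by decide +kernel

theorem negIdx_ok : ∀ i < 6, chevG2.negIdx.getD (P.getD i 0) 0 = N.getD i 0 := by decide +kernel

theorem pair_word_ok : ∀ i < chevG2.rank,
    wL chevG2 (([1] ++ [0] ++ [1].reverse) ++ ([0] ++ [1] ++ [0].reverse)) (chevG2.simple i) =
      wL chevG2 J (chevG2.simple i) := by decide +kernel

theorem cor_ok : ∀ i < 2, cor chevG2 8 i = [1, 3].getD i 0 ∧ cor chevG2 10 i = [1, 1].getD i 0 := by
  decide +kernel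

theorem rho_ok : ∀ i < 6,
    Types.GAut.tabG2.ρ (P.getD i 0) = P.getD ([1, 0, 4, 5, 2, 3].getD i 0) 0 ∧
    Types.GAut.tabG2.ρ (N.getD i 0) = N.getD ([1, 0, 4, 5, 2, 3].getD i 0) 0 ∧
    Types.GAut.tabG2.e (P.getD i 0) = [3, 1, 3, 3, 1, 1].getD i 0 ∧
    Types.GAut.tabG2.e (N.getD i 0) = [3, 1, 3, 3, 1, 1].getD i 0 := by decide +kernel

theorem eps_ok : ∀ r < 12, Types.GAut.tabG2.ε r = 1 := by decide +kernel

/-- The letters of the word identity giving the central involution of the torus. -/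
abbrev invWordL : List Letter :=
  [⟨7, 0, 0, 0⟩, ⟨6, 0, 0, 0⟩, ⟨8, 0, 0, 1⟩, ⟨9, 0, 0, 1⟩, ⟨10, 0, 0, 1⟩, ⟨11, 0, 0, 1⟩,
   ⟨4, 0, 0, 1⟩, ⟨5, 0, 0, 1⟩, ⟨3, 0, 0, -2⟩, ⟨2, 0, 0, 0⟩, ⟨1, 0, 0, -1⟩, ⟨0, 0, 0, -1⟩,
   ⟨7, 0, 0, 0⟩, ⟨6, 0, 0, 0⟩, ⟨8, 0, 0, -1⟩, ⟨9, 0, 0, 1⟩, ⟨10, 0, 0, -1⟩, ⟨11, 0, 0, 1⟩,
   ⟨10, 0, 0, -1⟩, ⟨1, 0, 0, 1⟩, ⟨10, 0, 0, -1⟩,
   ⟨8, 0, 0, -1⟩, ⟨3, 0, 0, 1⟩, ⟨8, 0, 0, -1⟩]

/-- The letters of the torus element. -/
abbrev invWordR : List Letter :=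
  [⟨10, 0, 0, -1⟩, ⟨1, 0, 0, 1⟩, ⟨10, 0, 0, -1⟩, ⟨10, 0, 0, -1⟩, ⟨1, 0, 0, 1⟩, ⟨10, 0, 0, -1⟩]

theorem inv_word_ok : Mod3.sameWords Data.G2.tab.col (chevG2.rank + chevG2.nroots) invWordL invWordR = true := by
  decide +kernel

variable {K : Type*} [Field K] [Fintype K] {m : ℕ}

/-- A fixed positive element with parameters `t, u, v`. -/
def wU (e : ℕ) (t u v : K) : GL chevG2.Idx K :=
  wd yP (t ^ e) t (t ^ (e + 1) + u ^ e) (t ^ (2 * e + 1) + v ^ e) u v

/-- A fixed negative element with parameters `t, u, v`. -/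
def wV (e : ℕ) (t u v : K) : GL chevG2.Idx K :=
  wd yN (t ^ e) t (t ^ (e + 1) + u ^ e) (t ^ (2 * e + 1) + v ^ e) u v

theorem wordGL_U (e : ℕ) (t u v : K) : wordGL hC (reeWordU e t u v) = wU e t u v := by
  simp [wordGL, reeWordU, wU, wd, yP, g2a, g2b, g2ab, g2aab, g2aaab, g2aaabb, mul_assoc]

theorem wordGL_V (e : ℕ) (t u v : K) : wordGL hC (reeWordV e t u v) = wV e t u v := by
  obtain ⟨a0, a1, a2, a3, a4, a5⟩ : chevG2.negIdx.getD 7 0 = 4 ∧ chevG2.negIdx.getD 6 0 = 5 ∧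
      chevG2.negIdx.getD 8 0 = 3 ∧ chevG2.negIdx.getD 9 0 = 2 ∧ chevG2.negIdx.getD 10 0 = 1 ∧
      chevG2.negIdx.getD 11 0 = 0 :=
    ⟨negIdx_ok 0 (by decide), negIdx_ok 1 (by decide), negIdx_ok 2 (by decide),
      negIdx_ok 3 (by decide), negIdx_ok 4 (by decide), negIdx_ok 5 (by decide)⟩
  simp only [wordGL, reeWordV, ChevalleyDatum.negWord, reeWordU, g2a, g2b, g2ab, g2aab, g2aaab,
    g2aaabb, List.map_cons, List.map_nil, List.prod_cons, List.prod_nil, mul_one, a0, a1, a2, a3, a4, a5]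
  simp [wV, wd, yN, mul_assoc]

/-- The sorted normal form of a positive element. -/
def sf (c : Fin 6 → K) : GL chevG2.Idx K :=
  prodX hC [6, 7, 8, 9, 10, 11] fun r =>
    if r = 7 then c 0 else if r = 6 then c 1 else if r = 8 then c 2 else if r = 9 then c 3
    else if r = 10 then c 4 else c 5

theorem sf_inj {c c' : Fin 6 → K} (h : sf c = sf c') : c = c' := by
  have hpos : ∀ r ∈ [6, 7, 8, 9, 10, 11], r < chevG2.nroots ∧ 0 < Data.G2.tab.phi r := by decide +kernel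
  have h1 := prodX_inj hC (L := [6, 7, 8, 9, 10, 11]) (by decide) hpos h
  funext j
  fin_cases j
  exacts [h1 7 (by simp), h1 6 (by simp), h1 8 (by simp), h1 9 (by simp), h1 10 (by simp),
    h1 11 (by simp)]

variable [CharP K 3]

theorem wd_eq_sf (a b c d e f : K) : wd yP a b c d e f =
    sf ![a, b, c - a * b, d - a ^ 2 * b, e + a ^ 3 * b, f + a ^ 3 * b ^ 2] := by
  have R := rels_pos (K := K)
  obtain ⟨Z, hZ⟩ : ∃ Z : K → K → K → K → GL chevG2.Idx K,
      ∀ c d e f, Z c d e f = yP 2 c * (yP 3 d * (yP 4 e * yP 5 f)) := ⟨_, fun _ _ _ _ => rfl⟩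
  have hzero : Z 0 0 0 0 = 1 := by simp [hZ, R.zero]
  have h1 : yP 0 a * yP 1 b = yP 1 b * yP 0 a *
      Z (-(a * b)) (-(a ^ 2 * b)) (a ^ 3 * b) (a ^ 3 * b ^ 2) := by
    rw [R.ba, ← hZ, mul_assoc (yP 0 a * yP 1 b), hZ, hZ, R.zmul, ← hZ, add_neg_cancel,
      add_neg_cancel, neg_add_cancel, neg_add_cancel, hzero, mul_one]
  have h2 : sf ![a, b, c - a * b, d - a ^ 2 * b, e + a ^ 3 * b, f + a ^ 3 * b ^ 2] =
      yP 1 b * yP 0 a * Z (c - a * b) (d - a ^ 2 * b) (e + a ^ 3 * b) (f + a ^ 3 * b ^ 2) := by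
    simp [sf, prodX, hZ, yP, mul_assoc]
  rw [h2, wd, h1, hZ, mul_assoc (yP 1 b * yP 0 a), R.zmul, ← hZ]
  congr 2 <;> ring

theorem wd_inj {a b c d e f a' b' c' d' e' f' : K}
    (h : wd yP a b c d e f = wd yP a' b' c' d' e' f') :
    a = a' ∧ b = b' ∧ c = c' ∧ d = d' ∧ e = e' ∧ f = f' := by
  rw [wd_eq_sf, wd_eq_sf] at h
  have h1 := sf_inj h
  have ea : a = a' := congrFun h1 0
  have eb : b = b' := congrFun h1 1
  subst ea eb
  exact ⟨rfl, rfl, sub_left_injective (congrFun h1 2), sub_left_injective (congrFun h1 3),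
    add_left_injective _ (congrFun h1 4), add_left_injective _ (congrFun h1 5)⟩

/-- The data of the twisted group. -/
structure Setup (hK : Fintype.card K = 3 ^ (2 * m + 1)) where
  S : Tw hC K
  O : Orbits S
  π_eq : S.π = nodePi L
  hom_eq : ∀ i < 2, ∀ t, S.hom i t = (t ^ (L.getD i (0, 1)).2) ^ 3 ^ m
  k_eq : O.k = 1
  J_eq : O.J 0 = J
  Js_eq : ∀ a, O.J a = [J].getD a []
  gen : GenData O (twistedG2 K (3 ^ m))
  fix : ∀ c : ℕ → Kˣ, tor chevG2 c ∈ Fx S → ∃ c' : ℕ → Kˣ, tor chevG2 c' = tor chevG2 c ∧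
    ∀ i < chevG2.rank, (c' (S.π i) : K) = S.hom i (c' i : K)
  cls : ∀ g : GL chevG2.Idx K, g ∈ Uw S J ↔ ∃ t u v : K, g = wU (3 ^ m) t u v
  cls_mem : ∀ t u v : K, wU (3 ^ m) t u v ∈ twistedG2 K (3 ^ m) ∧
    wV (3 ^ m) t u v ∈ twistedG2 K (3 ^ m)

omit [CharP K 3] in
theorem pow_q (hK : Fintype.card K = 3 ^ (2 * m + 1)) (t : K) : t ^ (3 * (3 ^ m * 3 ^ m)) = t := by
  rw [show 3 * (3 ^ m * 3 ^ m) = 3 ^ (2 * m + 1) by ring, ← hK, FiniteField.pow_card]

omit [CharP K 3] in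
theorem charThree (hK : Fintype.card K = 3 ^ (2 * m + 1)) : CharP K 3 := by
  haveI : Fact (Nat.Prime 3) := ⟨Nat.prime_three⟩
  obtain ⟨p, hp⟩ := CharP.exists K
  haveI := hp
  obtain ⟨k, hppr, hcard⟩ := FiniteField.card K p
  have h1 : p ∣ 3 ^ (2 * m + 1) := by rw [← hK, hcard]; exact dvd_pow_self p k.ne_zero
  exact ((Nat.prime_dvd_prime_iff_eq hppr Nat.prime_three).1 (hppr.dvd_of_dvd_pow h1)) ▸ hp

theorem add_pow_e (x y : K) : (x + y) ^ 3 ^ m = x ^ 3 ^ m + y ^ 3 ^ m := by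
  haveI : Fact (Nat.Prime 3) := ⟨Nat.prime_three⟩
  exact add_pow_char_pow x y 3 m

theorem cube_add (x y : K) : (x + y) ^ 3 = x ^ 3 + y ^ 3 := by
  haveI : Fact (Nat.Prime 3) := ⟨Nat.prime_three⟩
  exact add_pow_char x y 3

omit [Fintype K] in
/-- The reflection in a pair of orthogonal roots from the words. -/
theorem pair_eq (a b : K) : ng hC 8 a * ng hC 10 b =
    xg hC 8 a * xg hC 10 b * (xg hC 3 (-a⁻¹) * xg hC 1 (-b⁻¹)) * (xg hC 8 a * xg hC 10 b) := by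
  obtain ⟨-, -, n8, n10, -, -, -⟩ := roots_ok
  obtain ⟨v1, v2, v3, v4⟩ := vanish_pair
  have h1 := (comm_vanish (K := K) (by decide) (by decide) v1 a (-b⁻¹)).eq
  have h2 := (comm_vanish (K := K) (by decide) (by decide) v2 b (-a⁻¹)).eq
  have h3 := (comm_vanish (K := K) (by decide) (by decide) v3 a b).eq
  rw [ng, ng, n8, n10]
  calc xg hC 8 a * xg hC 3 (-a⁻¹) * xg hC 8 a * (xg hC 10 b * xg hC 1 (-b⁻¹) * xg hC 10 b)
      = xg hC 8 a * xg hC 3 (-a⁻¹) * (xg hC 8 a * xg hC 10 b) * xg hC 1 (-b⁻¹) * xg hC 10 b := by group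
    _ = xg hC 8 a * (xg hC 3 (-a⁻¹) * xg hC 10 b) * (xg hC 8 a * xg hC 1 (-b⁻¹)) * xg hC 10 b := by
      rw [← h3]; group
    _ = xg hC 8 a * xg hC 10 b * (xg hC 3 (-a⁻¹) * xg hC 1 (-b⁻¹)) * (xg hC 8 a * xg hC 10 b) := by
      rw [h2, ← h1]; group

omit [Fintype K] in
theorem pair_comm (a b : K) : Commute (ng hC 10 b) (ng hC 8 a) := by
  obtain ⟨-, -, n8, n10, -, -, -⟩ := roots_ok
  obtain ⟨v1, v2, v3, v4⟩ := vanish_pair
  have c1 : ∀ x y, Commute (xg hC 10 x : GL chevG2.Idx K) (xg hC 8 y) := fun x y =>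
    comm_vanish (by decide) (by decide) v3 y x
  have c2 : ∀ x y, Commute (xg hC 10 x : GL chevG2.Idx K) (xg hC 3 y) := fun x y =>
    (comm_vanish (by decide) (by decide) v2 x y).symm
  have c3 : ∀ x y, Commute (xg hC 1 x : GL chevG2.Idx K) (xg hC 8 y) := fun x y =>
    comm_vanish (by decide) (by decide) v1 y x
  have c4 : ∀ x y, Commute (xg hC 1 x : GL chevG2.Idx K) (xg hC 3 y) := fun x y =>
    comm_vanish (by decide) (by decide) v4 y x
  rw [ng, ng, n8, n10]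
  exact Commute.mul_right
    (Commute.mul_right (((c1 b a).mul_left (c3 (-b⁻¹) a)).mul_left (c1 b a))
      (((c2 b (-a⁻¹)).mul_left (c4 (-b⁻¹) (-a⁻¹))).mul_left (c2 b (-a⁻¹))))
    (((c1 b a).mul_left (c3 (-b⁻¹) a)).mul_left (c1 b a))

set_option maxHeartbeats 1000000 in
theorem exists_setup (hK : Fintype.card K = 3 ^ (2 * m + 1)) : Nonempty (Setup (K := K) hK) := by
  classical
  haveI : Fact (Nat.Prime 3) := ⟨Nat.prime_three⟩
  have hp : CharOK K 3 := Or.inr ⟨Nat.prime_three, inferInstance,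
    fun x => ⟨x ^ 3 ^ (2 * m), by rw [← pow_mul, ← pow_succ, ← hK, FiniteField.pow_card]⟩⟩
  obtain ⟨S, hρ, hπ, hhom, hact⟩ := exists_tw (hC := hC) hT hp Types.GAut.rel_G2 Types.GAut.onto_G2
    Types.GAut.simple_G2 (iterateFrobenius K 3 m)
  obtain ⟨O, hk, hJ, -⟩ := exists_orbits (S := S) hρ (Js := [J]) (top := [0])
    (by rw [hπ]; exact orbits_ok)
  replace hk : O.k = 1 := hk
  have hJ0 : O.J 0 = J := hJ 0
  obtain ⟨E, hE⟩ : ∃ E, E = 3 ^ m := ⟨_, rfl⟩
  have hEodd : Odd E := hE ▸ (show Odd 3 by decide).pow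
  have hE0 : E ≠ 0 := hE ▸ pow_ne_zero m (by norm_num)
  have hθ : ∀ t : K, iterateFrobenius K 3 m t = t ^ E := fun t => by rw [hE, iterateFrobenius_def]
  have hnr : chevG2.nroots = 12 := roots_ok.2.2.2.2.1
  have hhom' : ∀ i < 2, ∀ t, S.hom i t = (t ^ (L.getD i (0, 1)).2) ^ E := fun i hi t => by
    rw [hhom i hi, hθ]
  have hπ' : ∀ i, S.π i = nodePi L i := fun i => by rw [hπ]
  have hq : ∀ t : K, t ^ (3 * (E * E)) = t := hE ▸ pow_q hK
  have himg : ∀ r < 12, ∀ t : K,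
      Img S (xg hC r t) (xg hC (Types.GAut.tabG2.ρ r) ((t ^ Types.GAut.tabG2.e r) ^ E)) := by
    intro r hr t
    have h := img_xg S (hnr ▸ hr : r < chevG2.nroots) t
    rw [hρ, hact] at h
    simp only [eps_ok r hr, Int.cast_one, one_mul, hθ] at h
    exact h
  have hadd : ∀ x y : K, (x + y) ^ E = x ^ E + y ^ E := hE ▸ add_pow_e (m := m)
  -- the image of an ordered product
  have hexp : ∀ i < 6, Odd ([3, 1, 3, 3, 1, 1].getD i 0 * E) := by
    intro i hi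
    refine Nat.odd_mul.2 ⟨?_, hEodd⟩
    interval_cases i <;> decide
  have himgP : ∀ i < 6, ∀ c : K, Img S (yP i c)
      (yP ([1, 0, 4, 5, 2, 3].getD i 0) ((c ^ [3, 1, 3, 3, 1, 1].getD i 0) ^ E)) := by
    intro i hi c
    obtain ⟨r1, -, r3, -⟩ := rho_ok i hi
    have h := himg (P.getD i 0) (hnr ▸ (lt12 i).1) c
    rw [r1, r3] at h
    exact h
  have himgN : ∀ i < 6, ∀ c : K, Img S (yN i c)
      (yN ([1, 0, 4, 5, 2, 3].getD i 0) ((c ^ [3, 1, 3, 3, 1, 1].getD i 0) ^ E)) := by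
    intro i hi c
    obtain ⟨-, r2, -, r4⟩ := rho_ok i hi
    have h := himg (N.getD i 0) (hnr ▸ (lt12 i).2) (-c)
    rw [r2, r4, ← pow_mul, (hexp i hi).neg_pow, pow_mul] at h
    exact h
  have himgW : ∀ y : ℕ → K → GL chevG2.Idx K, Rels y →
      (∀ i < 6, ∀ c : K, Img S (y i c)
        (y ([1, 0, 4, 5, 2, 3].getD i 0) ((c ^ [3, 1, 3, 3, 1, 1].getD i 0) ^ E))) →
      ∀ a b c d e f : K, Img S (wd y a b c d e f)
        (wd y (b ^ E) ((a ^ 3) ^ E) (b ^ E * (a ^ 3) ^ E + e ^ E)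
          ((b ^ E) ^ 2 * (a ^ 3) ^ E + f ^ E)
          (-((b ^ E) ^ 3 * (a ^ 3) ^ E) + (c ^ 3) ^ E)
          (-((b ^ E) ^ 3 * ((a ^ 3) ^ E) ^ 2) + (d ^ 3) ^ E)) := by
    intro y R hy a b c d e f
    have h := ((hy 0 (by decide) a).mul (hy 1 (by decide) b)).mul ((hy 2 (by decide) c).mul
      ((hy 3 (by decide) d).mul ((hy 4 (by decide) e).mul (hy 5 (by decide) f))))
    simp only [List.getD_cons_zero, List.getD_cons_succ, pow_one] at h
    rw [← R.swap]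
    simp only [wd, mul_assoc] at h ⊢
    exact h
  have hfix : ∀ y : ℕ → K → GL chevG2.Idx K, Rels y →
      (∀ i < 6, ∀ c : K, Img S (y i c)
        (y ([1, 0, 4, 5, 2, 3].getD i 0) ((c ^ [3, 1, 3, 3, 1, 1].getD i 0) ^ E))) →
      ∀ t u v : K, wd y (t ^ E) t (t ^ (E + 1) + u ^ E) (t ^ (2 * E + 1) + v ^ E) u v ∈ Fx S := by
    intro y R hy t u v
    rw [mem_Fx]
    have h3 : ∀ x : K, ((x ^ E) ^ 3) ^ E = x := fun x => by
      rw [← pow_mul, ← pow_mul, show E * (3 * E) = 3 * (E * E) by ring, hq]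
    have h1 : ((t ^ (E + 1)) ^ 3) ^ E = t * (t ^ E) ^ 3 := by
      rw [← pow_mul, ← pow_mul, show (E + 1) * (3 * E) = 3 * (E * E) + E * 3 by ring, pow_add, hq,
        pow_mul t E 3]
    have h2 : ((t ^ (2 * E + 1)) ^ 3) ^ E = t ^ 2 * (t ^ E) ^ 3 := by
      rw [← pow_mul, ← pow_mul,
        show (2 * E + 1) * (3 * E) = 3 * (E * E) + (3 * (E * E) + E * 3) by ring, pow_add, pow_add,
        hq, pow_mul t E 3]
      ring
    convert himgW y R hy _ _ _ _ _ _ using 2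
    · rw [h3]
    · rw [h3, pow_succ]
    · rw [h3, ← pow_mul, pow_succ, mul_comm E 2]
    · rw [cube_add, hadd, h3, h3, h1]
      ring
    · rw [cube_add, hadd, h3, h3, h2]
      ring
  have hUfix : ∀ t u v : K, wU E t u v ∈ Fx S := hfix yP rels_pos himgP
  have hVfix : ∀ t u v : K, wV E t u v ∈ Fx S := hfix yN rels_neg himgN
  have hmem : ∀ t u v : K, wU E t u v ∈ twistedG2 K E ∧ wV E t u v ∈ twistedG2 K E := fun t u v =>
    ⟨wordGL_U (K := K) E t u v ▸ wordGL_mem ⟨t, u, v, Or.inl rfl⟩,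
      wordGL_V (K := K) E t u v ▸ wordGL_mem ⟨t, u, v, Or.inr rfl⟩⟩
  have hle : twistedG2 K E ≤ Fx S := by
    rw [twistedG2, genSubgroup_eq hC, Subgroup.closure_le]
    rintro g ⟨w, ⟨t, u, v, rfl | rfl⟩, rfl⟩
    · rw [wordGL_U]; exact hUfix t u v
    · rw [wordGL_V]; exact hVfix t u v
  have hJlt : ∀ i ∈ J, i < chevG2.rank := by decide
  have hlist : invList chevG2 Data.G2.tab J = [6, 7, 8, 9, 10, 11] := by
    rw [invList_eq_invT hC hJlt, inv_ok]
  have hcls : ∀ g : GL chevG2.Idx K, g ∈ Uw S J ↔ ∃ t u v : K, g = wU E t u v := by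
    intro g
    constructor
    · intro hg
      obtain ⟨f, hf⟩ := exists_prodX_Uminus hC hJlt 1 hg.1
      rw [hlist] at hf
      obtain ⟨a, ha⟩ : ∃ a, a = f 7 := ⟨_, rfl⟩
      obtain ⟨b, hb⟩ : ∃ b, b = f 6 := ⟨_, rfl⟩
      obtain ⟨c, hc⟩ : ∃ c, c = f 8 + a * b := ⟨_, rfl⟩
      obtain ⟨d, hd⟩ : ∃ d, d = f 9 + a ^ 2 * b := ⟨_, rfl⟩
      obtain ⟨e, he⟩ : ∃ e, e = f 10 - a ^ 3 * b := ⟨_, rfl⟩
      obtain ⟨z, hz⟩ : ∃ z, z = f 11 - a ^ 3 * b ^ 2 := ⟨_, rfl⟩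
      have hg' : g = wd yP a b c d e z := by
        rw [wd_eq_sf, hf, hc, hd, he, hz, ha, hb]
        simp [sf, prodX]
      have h1 : Img S g g := hg.2
      rw [hg'] at h1
      obtain ⟨e0, -, e2, e3, -, -⟩ := wd_inj (h1.unique (himgW yP rels_pos himgP a b c d e z))
      have e1 := (wd_inj (h1.unique (himgW yP rels_pos himgP a b c d e z))).2.1
      refine ⟨b, e, z, hg'.trans ?_⟩
      rw [← e1, ← e0] at e2 e3
      rw [wU, pow_succ, pow_succ, mul_comm 2 E, pow_mul, ← e0, e2, e3]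
    · rintro ⟨t, u, v, rfl⟩
      refine ⟨?_, hUfix t u v⟩
      rw [wU, wd_eq_sf, Uminus_eq hC hJlt 1, hlist, sf]
      refine list_prod_mem fun x hx => ?_
      obtain ⟨r, hr, rfl⟩ := List.mem_map.1 hx
      exact Subgroup.subset_closure ⟨r, _, hr, rfl⟩
  -- the reflection pairs
  have hzE : (0 : K) ^ E = 0 := zero_pow hE0
  have hn : ∀ c : K, c ≠ 0 → ng hC 8 (c ^ E) * ng hC 10 c ∈ twistedG2 K E := by
    intro c hc
    have hP : wU E 0 c 0 = xg hC 8 (c ^ E) * xg hC 10 c := by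
      simp [wU, wd, yP, hzE, zero_pow (show E + 1 ≠ 0 by omega),
        zero_pow (show 2 * E + 1 ≠ 0 by omega), xg_zero hC]
    have hN : wV E 0 c⁻¹ 0 = xg hC 3 (-(c ^ E)⁻¹) * xg hC 1 (-c⁻¹) := by
      simp [wV, wd, yN, hzE, zero_pow (show E + 1 ≠ 0 by omega),
        zero_pow (show 2 * E + 1 ≠ 0 by omega), xg_zero hC]
    rw [pair_eq, ← hP, ← hN]
    exact mul_mem (mul_mem (hmem _ _ _).1 (hmem _ _ _).2) (hmem _ _ _).1
  have hpairtor : ∀ y : Kˣ, tor chevG2 (fun i => (y ^ E) ^ cor chevG2 8 i * y ^ cor chevG2 10 i) ∈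
      twistedG2 K E := by
    intro y
    have h := mul_mem (hn (y : K) y.ne_zero) (hn (-1) (neg_ne_zero.2 one_ne_zero))
    rw [hEodd.neg_one_pow,
      show ∀ a b c d : GL chevG2.Idx K, a * b * (c * d) = a * (b * c) * d from fun a b c d => by group,
      (pair_comm _ _).eq, ← mul_assoc, mul_assoc (_ * _), ← hg, ← hg,
      show (y : K) ^ E = ((y ^ E : Kˣ) : K) from (Units.val_pow_eq_pow_val _ _).symm,
      hg_eq_tor hC (by decide), hg_eq_tor hC (by decide), tor_mul] at h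
    exact h
  -- the central involution of the torus
  have hneg : tor chevG2 (fun i => (-1 : Kˣ) ^ cor chevG2 10 i) ∈ twistedG2 K E := by
    have hw := Mod3.wordMat_eq (F := K) (1 : K) 1 (Columns.colValid hC) inv_word_ok
    rw [← coe_wordGL hC, ← coe_wordGL hC] at hw
    have hw' := Units.ext hw
    have hm1 : ∀ k, Odd k → (-1 : K) ^ k = -1 := fun k hk => hk.neg_one_pow
    have he1 : Even (E + 1) := hEodd.add_one
    have hl : wordGL hC (wordVal (1 : K) 1 invWordL) =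
        wU E 0 1 1 * wV E (-1) 1 1 * wU E 0 (-1) 1 *
          (ng hC 8 ((1 : K) ^ E) * ng hC 10 1)⁻¹ := by
      rw [mul_inv_rev, ng_inv hC, ng_inv hC, ng, ng, roots_ok.2.2.1, roots_ok.2.2.2.1, one_pow]
      simp [wordGL, wordVal, lval, wU, wV, wd, yP, yN, hzE, zero_pow (show E + 1 ≠ 0 by omega),
        zero_pow (show 2 * E + 1 ≠ 0 by omega), xg_zero hC, hm1 E hEodd,
        hm1 (2 * E + 1) ⟨E, rfl⟩, he1.neg_one_pow]
      norm_num [xg_zero hC, mul_assoc]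
    have hr : wordGL hC (wordVal (1 : K) 1 invWordR) =
        tor chevG2 (fun i => (-1 : Kˣ) ^ cor chevG2 10 i) := by
      rw [← hg_eq_tor hC (by decide), Units.val_neg, Units.val_one, hg, ng, roots_ok.2.2.2.1]
      simp [wordGL, wordVal, lval, inv_neg, mul_assoc]
    rw [← hr, ← hw', hl]
    exact mul_mem (mul_mem (mul_mem (hmem _ _ _).1 (hmem _ _ _).2) (hmem _ _ _).1)
      (inv_mem (hn 1 one_ne_zero))
  have hfixp : ∀ c : ℕ → Kˣ, tor chevG2 c ∈ Fx S → ∃ c' : ℕ → Kˣ, tor chevG2 c' = tor chevG2 c ∧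
      ∀ i < chevG2.rank, (c' (S.π i) : K) = S.hom i (c' i : K) := by
    intro c hc
    refine exists_fixed_param S (πi := nodePi L) (by decide)
      (fun j hj => by rw [hπ']; revert j; decide) (fun d hd => ?_) hc
    have hinj : ∀ x y : Fin chevG2.rank → Kˣ, torHom chevG2 K x = torHom chevG2 K y → x = y := by
      intro x y h
      have h1 : x * y⁻¹ ∈ (torHom chevG2 K).ker := by
        rw [MonoidHom.mem_ker, map_mul, map_inv, h, mul_inv_cancel]
      rw [ker_torHom hC, MonoidHom.mem_ker] at h1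
      have h2 := congrArg (matHom adj) h1
      rw [← matHom_mul, adj_ok, one_smul, matHom_one, map_one, mul_inv_eq_one] at h2
      exact h2
    exact ⟨1, one_mem _, by rw [mul_one]; exact hinj _ _ hd⟩
  have hgen : GenData O (twistedG2 K E) := by
    refine ⟨hle, fun c hc => ?_, fun a ha => ?_, fun a ha u hu c hU => ?_⟩
    · obtain ⟨c', e, hc'⟩ := hfixp c hc
      rw [← e]
      have h0 : (c' 0 : K) = (c' 1 : K) ^ E := by
        have h := hc' 1 (by decide)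
        rw [hπ', hhom' 1 (by decide)] at h
        simpa [nodePi] using h
      obtain ⟨x, hx⟩ : ∃ x : Kˣ, x = c' 1 := ⟨_, rfl⟩
      have h0u : c' 0 = x ^ E := Units.ext (by rw [h0, hx, Units.val_pow_eq_pow_val])
      have hxq : ∀ r : Kˣ, r ^ (3 * (E * E)) = r :=
        fun r => Units.ext (by rw [Units.val_pow_eq_pow_val, hq])
      -- up to a sign the parameter is a square
      have hsq : ∃ (r : Kˣ) (s : Kˣ), (s = 1 ∨ s = -1) ∧ x = s * (r * r) := by
        have hchar : ringChar K ≠ 2 := by rw [ringChar.eq K 3]; decide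
        have hodd : Odd (Fintype.card K / 2) := by
          obtain ⟨k, hk'⟩ : ∃ k, 3 ^ (2 * m + 1) = 4 * k + 3 := by
            refine ⟨3 ^ (2 * m + 1) / 4, ?_⟩
            have : 3 ^ (2 * m + 1) % 4 = 3 := by
              rw [pow_succ, pow_mul, Nat.mul_mod, Nat.pow_mod]; norm_num
            omega
          exact ⟨k, by omega⟩
        rcases FiniteField.pow_dichotomy (F := K) hchar x.ne_zero with h | h
        · obtain ⟨r, hr⟩ := (FiniteField.isSquare_iff hchar x.ne_zero).2 h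
          have hr0 : r ≠ 0 := fun e => x.ne_zero (by rw [hr, e, zero_mul])
          exact ⟨Units.mk0 r hr0, 1, Or.inl rfl, Units.ext (by simp [hr])⟩
        · have h' : (-(x : K)) ^ (Fintype.card K / 2) = 1 := by rw [hodd.neg_pow, h, neg_neg]
          obtain ⟨r, hr⟩ := (FiniteField.isSquare_iff hchar (neg_ne_zero.2 x.ne_zero)).2 h'
          have hr0 : r ≠ 0 := fun e => x.ne_zero (by rw [← neg_eq_zero, hr, e, zero_mul])
          exact ⟨Units.mk0 r hr0, -1, Or.inr rfl, Units.ext (by simp [← hr])⟩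
      obtain ⟨r, s, hs, hxs⟩ := hsq
      have hsE : s ^ E = s := by
        rcases hs with rfl | rfl
        · exact one_pow E
        · exact hEodd.neg_one_pow
      obtain ⟨w, hw⟩ : ∃ w : Kˣ, w = r ^ (3 * E - 1) := ⟨_, rfl⟩
      have hw1 : w ^ (3 * E + 1) = r * r := by
        rw [hw, ← pow_mul]
        have e9 : (3 * E - 1) * (3 * E + 1) + 1 = 3 * (E * E) + (3 * (E * E) + 3 * (E * E)) := by
          obtain ⟨k, rfl⟩ : ∃ k, E = k + 1 := ⟨E - 1, by omega⟩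
          rw [show 3 * (k + 1) - 1 = 3 * k + 2 by omega]
          ring
        have e10 : r ^ ((3 * E - 1) * (3 * E + 1)) * r = r * (r * r) := by
          rw [← pow_succ, e9, pow_add, pow_add, hxq]
        rw [mul_comm r (r * r), mul_left_inj] at e10
        exact e10
      have hstor : tor chevG2 (fun i => s ^ cor chevG2 10 i) ∈ twistedG2 K E := by
        rcases hs with rfl | rfl
        · simp only [one_zpow]
          rw [show (fun _ : ℕ => (1 : Kˣ)) = 1 from rfl, tor_one]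
          exact one_mem _
        · exact hneg
      have hmul := mul_mem hstor (hpairtor w)
      rw [tor_mul] at hmul
      have e4 : tor chevG2 c' = tor chevG2
          ((fun i => s ^ cor chevG2 10 i) * fun i => (w ^ E) ^ cor chevG2 8 i * w ^ cor chevG2 10 i) := by
        refine dg_congr fun _ _ => Finset.prod_congr rfl fun i hi => ?_
        have hi2 : i < 2 := Finset.mem_range.1 hi
        obtain ⟨k8, k10⟩ := cor_ok i hi2
        simp only [Pi.mul_apply, k8, k10]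
        congr 1
        interval_cases i
        · simp only [List.getD_cons_zero, zpow_one]
          rw [h0u, hxs, mul_pow, hsE, ← hw1, ← pow_mul w (3 * E + 1),
            show (3 * E + 1) * E = 3 * (E * E) + E by ring, pow_add, hxq, mul_comm w]
        · simp only [List.getD_cons_zero, List.getD_cons_succ, zpow_one, zpow_ofNat]
          rw [← hx, hxs, ← hw1, pow_one, pow_one, pow_succ, mul_comm 3 E, pow_mul]
      rw [e4]
      exact hmul
    · rw [hk] at ha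
      obtain rfl : a = 0 := by omega
      rw [hJ0]
      have h1 : Mono hC (ng hC 8 ((1 : K) ^ E) * ng hC 10 1) J := by
        have m8 := Mono.ng_image (hC := hC) (F := K) (L := [1]) (by decide) (i := 0) (by decide)
          (t := (1 : K) ^ E) (pow_ne_zero E one_ne_zero)
        have m10 := Mono.ng_image (hC := hC) (F := K) (L := [0]) (by decide) (i := 1) (by decide)
          (t := (1 : K)) one_ne_zero
        rw [roots_ok.2.2.2.2.2.1] at m8
        rw [roots_ok.2.2.2.2.2.2] at m10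
        exact (m8.mul m10).congr hJlt pair_word_ok
      obtain ⟨-, c, e⟩ := h1
      exact ⟨c, e ▸ hn 1 one_ne_zero⟩
    · rw [hk] at ha
      obtain rfl : a = 0 := by omega
      rw [hJ0] at hU
      obtain ⟨t, x, v, rfl⟩ := (hcls u).1 ((mem_Uw hJlt c).2 ⟨hU, hu⟩)
      exact (hmem t x v).1
  subst hE
  exact ⟨⟨S, O, hπ, hhom', hk, hJ0, hJ, hgen, hfixp, hcls, hmem⟩⟩

end Cfsg.Agent.Chevalley.Twist.G2
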