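import Cfsg.Agent.Lib.Chevalley.Twist.Basic
import Cfsg.Agent.Lib.Chevalley.Order
import Cfsg.Agent.Lib.Chevalley.StUnip

/-!
Orbits of the diagram permutation and generation of the fixed group by the orbit pieces.
-/

set_option autoImplicit false

open scoped Matrix

namespace Cfsg.Agent.Chevalley.Twist

open Cfsg.Lie Cfsg.Agent.Chevalley.Table Cfsg.Agent.Chevalley.Cert Cfsg.Agent.Chevalley.Group
  Cfsg.Agent.Chevalley.Weight Cfsg.Agent.Chevalley.Unip Cfsg.Agent.Chevalley.Borel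
  Cfsg.Agent.Chevalley.Weyl Cfsg.Agent.Chevalley.Bruhat Cfsg.Agent.Chevalley.NormalForm
  Cfsg.Agent.Chevalley.WeylEnum

variable {D : ChevalleyDatum} {F : Type*} [Field F] {T : Tab} {hC : Certified D T}

/-- The orbits of `π` on the nodes, each with a word for its longest element. -/
structure Orbits (S : Tw hC F) where
  k : ℕ
  J : ℕ → List ℕ
  J_lt : ∀ a < k, ∀ i ∈ J a, i < D.rank
  ne : ∀ a < k, J a ≠ []
  cover : ∀ i < D.rank, ∃ a < k, i ∈ J a
  trans : ∀ a < k, ∀ i ∈ J a, ∀ j ∈ J a, ∃ n : ℕ, S.π^[n] i = j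
  commute : ∀ a < k, ∀ r < D.nroots, wL D (J a) (S.ρ r) = S.ρ (wL D (J a) r)
  invol : ∀ a < k, ∀ r < D.nroots, wL D (J a) (wL D (J a) r) = r
  neg_simple : ∀ a < k, ∀ i ∈ J a, T.phi (wL D (J a) (D.simple i)) < 0
  decomp : ∀ a < k, ∀ r < D.nroots, 0 < T.phi r → T.phi (wL D (J a) r) < 0 →
    (∃ i ∈ J a, r = D.simple i) ∨ ∃ x y : ℕ, ∃ q : ℕ × ℤ, x < D.nroots ∧ y < D.nroots ∧
      0 < T.phi x ∧ 0 < T.phi y ∧ T.phi (wL D (J a) x) < 0 ∧ T.phi (wL D (J a) y) < 0 ∧
      (D.chainEntry x y)[0]? = some q ∧ q.1 = r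
  sub : ∀ a < k, ∀ L : List ℕ, L.Sublist (J a) →
    (∀ i < D.rank, wL D L (S.ρ (D.simple i)) = S.ρ (wL D L (D.simple i))) →
    (∀ i < D.rank, wL D L (D.simple i) = D.simple i) ∨
      ∀ i < D.rank, wL D L (D.simple i) = wL D (J a) (D.simple i)
  distinct : ∀ a < k, ∀ b < k, a ≠ b → ∃ i < D.rank,
    wL D (J a) (D.simple i) ≠ wL D (J b) (D.simple i)
  top : List ℕ
  top_lt : ∀ a ∈ top, a < k
  top_neg : ∀ i < D.rank, T.phi (wL D (top.flatMap J) (D.simple i)) < 0

variable {S : Tw hC F} (O : Orbits S)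

theorem π_iterate_lt {i : ℕ} (hi : i < D.rank) (n : ℕ) : S.π^[n] i < D.rank := by
  induction n with
  | zero => exact hi
  | succ n ih => rw [Function.iterate_succ', Function.comp_apply]; exact S.π_lt _ ih

/-- The permutation is equivariant. -/
def Equiv' (S : Tw hC F) (L : List ℕ) : Prop :=
  ∀ r < D.nroots, wL D L (S.ρ r) = S.ρ (wL D L r)

theorem J_rev {a : ℕ} (ha : a < O.k) {r : ℕ} (hr : r < D.nroots) :
    wL D (O.J a).reverse r = wL D (O.J a) r := by
  conv_lhs => rw [← O.invol a ha r hr]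
  rw [wL_reverse hC (O.J_lt a ha) (wL_lt hC (O.J_lt a ha) hr)]

theorem orbit_neg {L : List ℕ} (hL : ∀ i ∈ L, i < D.rank) (hLe : Equiv' S L) {a : ℕ} (ha : a < O.k)
    {i : ℕ} (hi : i ∈ O.J a) (hn : T.phi (wL D L (D.simple i)) < 0) :
    ∀ r < D.nroots, 0 < T.phi r → T.phi (wL D (O.J a) r) < 0 → T.phi (wL D L r) < 0 := by
  have hs : ∀ j ∈ O.J a, T.phi (wL D L (D.simple j)) < 0 := by
    intro j hj
    obtain ⟨n, rfl⟩ := O.trans a ha i hi j hj
    clear hj
    induction n with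
    | zero => exact hn
    | succ n ih =>
      have hin := π_iterate_lt (S := S) (O.J_lt a ha i hi) n
      rw [Function.iterate_succ', Function.comp_apply, ← S.ρ_simple _ hin, hLe _ (hC.simple_lt hin),
        ρ_neg_iff S (wL_lt hC hL (hC.simple_lt hin))]
      exact ih
  obtain ⟨f, hf⟩ := StUnip.exists_lin_gW hC (w := L) hL
  intro r
  induction r using Nat.strong_induction_on with
  | _ r ih =>
    intro hr hp hJ
    rcases O.decomp a ha r hr hp hJ with ⟨j, hj, rfl⟩ | ⟨x, y, q, hx, hy, hpx, hpy, hJx, hJy, hq, rfl⟩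
    · exact hs j hj
    have h1 := StUnip.chain_linear hC hf hx hq
    simp only [StUnip.gW, Nat.cast_zero, zero_add, one_mul] at h1
    have h2 := StUnip.chain_linear (f := fun r => T.phi r) (a := 0) hC
      (fun r _ => by simp [Graded.lin]) hx hq
    simp only [Nat.cast_zero, zero_add, one_mul] at h2
    have h3 := ih x ((hC.phi_lt_iff hx hr).1 (by omega)) hx hpx hJx
    have h4 := ih y ((hC.phi_lt_iff hy hr).1 (by omega)) hy hpy hJy
    omega

theorem exists_orbit {L : List ℕ} (hL : ∀ i ∈ L, i < D.rank) (hLe : Equiv' S L) {r : ℕ}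
    (hr : r < D.nroots) (hp : 0 < T.phi r) (hn : T.phi (wL D L r) < 0) :
    ∃ a < O.k, ∀ s < D.nroots, 0 < T.phi s → T.phi (wL D (O.J a) s) < 0 → T.phi (wL D L s) < 0 := by
  obtain ⟨i, hi, hneg⟩ : ∃ i < D.rank, T.phi (wL D L (D.simple i)) < 0 := by
    by_contra hcon
    push Not at hcon
    have h1 : ∀ i < D.rank, 0 < T.phi (wL D L (D.simple i)) := fun i hi => by
      have := hcon i hi
      have := hC.phi_ne_zero (wL_lt hC hL (hC.simple_lt hi))
      omega
    rw [wL_eq_self_of_pos hC hL h1 hr] at hn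
    omega
  obtain ⟨a, ha, hia⟩ := O.cover i hi
  exact ⟨a, ha, orbit_neg O hL hLe ha hia hneg⟩

theorem invSet_step {L L' : List ℕ} (hL : ∀ i ∈ L, i < D.rank) (hL' : ∀ i ∈ L', i < D.rank)
    {a : ℕ} (ha : a < O.k) (hneg : ∀ s < D.nroots, 0 < T.phi s → T.phi (wL D (O.J a) s) < 0 →
      T.phi (wL D L s) < 0) (hne : (O.J a) ≠ [])
    (he : ∀ r < D.nroots, wL D L' r = wL D L (wL D (O.J a) r)) :
    (invSet D T L').card < (invSet D T L).card := by
  have hJ := O.J_lt a ha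
  obtain ⟨i, hi⟩ : ∃ i, i ∈ O.J a := List.exists_mem_of_ne_nil _ hne
  have hir := hJ i hi
  have himem : D.simple i ∈ invSet D T L := by
    simp only [invSet, Finset.mem_filter, Finset.mem_range]
    exact ⟨hC.simple_lt hir, hC.phi_simple hir,
      hneg _ (hC.simple_lt hir) (hC.phi_simple hir) (O.neg_simple a ha i hi)⟩
  refine lt_of_le_of_lt ?_ (Finset.card_erase_lt_of_mem himem)
  refine Finset.card_le_card_of_injOn (wL D (O.J a)) (fun r hr => ?_) fun r hr s hs h => ?_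
  · simp only [invSet, Finset.coe_filter, Finset.mem_range, Set.mem_setOf_eq] at hr
    obtain ⟨hr, hp, hn⟩ := hr
    rw [he r hr] at hn
    have hlt := wL_lt hC hJ hr
    have hpos : 0 < T.phi (wL D (O.J a) r) := by
      by_contra hcon
      have h1 : T.phi (wL D (O.J a) r) < 0 := by have := hC.phi_ne_zero hlt; omega
      have h2 : 0 < T.phi (D.neg (wL D (O.J a) r)) := by rw [hC.phi_neg hlt]; omega
      have h3 := hneg _ (hC.neg_lt hlt) h2
        (by rw [wL_neg hC hJ hlt, O.invol a ha r hr, hC.phi_neg hr]; omega)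
      rw [wL_neg hC hL hlt, hC.phi_neg (wL_lt hC hL hlt)] at h3
      omega
    simp only [Finset.coe_erase, Set.mem_sdiff, Set.mem_singleton_iff, invSet, Finset.coe_filter,
      Finset.mem_range, Set.mem_setOf_eq]
    refine ⟨⟨hlt, hpos, hn⟩, fun e => ?_⟩
    have h1 := O.neg_simple a ha i hi
    rw [← e, O.invol a ha r hr] at h1
    omega
  · simp only [invSet, Finset.coe_filter, Finset.mem_range, Set.mem_setOf_eq] at hr hs
    exact wL_injective hC hJ hr.1 hs.1 h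

theorem split_fixed {a : ℕ} (ha : a < O.k) {d : ℕ → Fˣ} (hnJ : tor D d * nL hC F (O.J a) ∈ Fx S)
    {u : GL D.Idx F} (hu : u ∈ D.posUnipotent F) (huF : u ∈ Fx S) :
    ∃ A B : GL D.Idx F, u = A * B ∧ A ∈ Fx S ∧ B ∈ Fx S ∧ A ∈ D.posUnipotent F ∧
      tor D d * nL hC F (O.J a) * A * (tor D d * nL hC F (O.J a))⁻¹ ∈ D.posUnipotent F ∧
      B ∈ Uminus D F (tor D d * nL hC F (O.J a)) := by
  obtain ⟨m, hm_def⟩ : ∃ m, m = tor D d * nL hC F (O.J a) := ⟨_, rfl⟩
  have hm : m ∈ D.monomialSubgroup F := hm_def ▸ (mem_N_iff hC).2 ⟨d, _, O.J_lt a ha, rfl⟩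
  obtain ⟨A, B, hA, hB, rfl⟩ := U_decomp hC (O.J_lt a ha) d hu
  rw [← hm_def] at hA hB hnJ ⊢
  have hBU := Uminus_le_U hC m hB
  have hAU : A ∈ D.posUnipotent F := by
    have := mul_mem hu (inv_mem hBU)
    rwa [mul_inv_cancel_right] at this
  have hUG : ∀ x ∈ D.posUnipotent F, x ∈ D.group F := fun x hx =>
    B_le_group hC (Subgroup.mem_sup_left hx)
  obtain ⟨A', hA'⟩ := Img.exists_of_mem (S := S) (hUG A hAU)
  obtain ⟨B', hB'⟩ := Img.exists_of_mem (S := S) (hUG B hBU)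
  have e : A' * B' = A * B := (hA'.mul hB').unique huF
  have hA'c : m * A' * m⁻¹ ∈ D.posUnipotent F :=
    img_U S hA (((mem_Fx S).1 hnJ |>.mul hA').mul ((mem_Fx S).1 hnJ).inv)
  have hB'c : m * B' * m⁻¹ ∈ D.negUnipotent F :=
    img_V S (conj_Uminus hC hB) (((mem_Fx S).1 hnJ |>.mul hB').mul ((mem_Fx S).1 hnJ).inv)
  have e2 : (m * A' * m⁻¹)⁻¹ * (m * A * m⁻¹) = m * B' * m⁻¹ * (m * B * m⁻¹)⁻¹ := by
    rw [show A' = A * B * B'⁻¹ by rw [← e]; group]; group
  have h1 := U_inf_V hC (mul_mem (inv_mem hA'c) hA)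
    (e2 ▸ mul_mem hB'c (inv_mem (conj_Uminus hC hB)))
  have hAA : A' = A := by
    rw [inv_mul_eq_one] at h1
    exact mul_left_cancel (mul_right_cancel h1)
  subst hAA
  exact ⟨A', B, rfl, hA', mul_left_cancel e ▸ hB', hAU, hA, hB⟩

/-- What a subgroup needs to contain the fixed group. -/
structure GenData (O : Orbits S) (K : Subgroup (GL D.Idx F)) : Prop where
  le : K ≤ Fx S
  torus : ∀ c : ℕ → Fˣ, tor D c ∈ Fx S → tor D c ∈ K
  mono : ∀ a < O.k, ∃ c : ℕ → Fˣ, tor D c * nL hC F (O.J a) ∈ K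
  unip : ∀ a < O.k, ∀ u ∈ Fx S, ∀ c : ℕ → Fˣ,
    u ∈ Uminus D F (tor D c * nL hC F (O.J a)) → u ∈ K

variable {K : Subgroup (GL D.Idx F)} (hK : GenData O K)

theorem equiv_of_fixed {c : ℕ → Fˣ} {L : List ℕ} (hL : ∀ i ∈ L, i < D.rank)
    (h : tor D c * nL hC F L ∈ Fx S) : Equiv' S L := fun _ hr => fixed_equivariant S hL h hr

/-- `m n_J⁻¹` in normal form. -/
theorem exists_quot {a : ℕ} (ha : a < O.k) {c d : ℕ → Fˣ} {L : List ℕ}
    (hL : ∀ i ∈ L, i < D.rank) :
    ∃ (c' : ℕ → Fˣ) (L' : List ℕ), (∀ i ∈ L', i < D.rank) ∧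
      tor D c * nL hC F L * (tor D d * nL hC F (O.J a))⁻¹ = tor D c' * nL hC F L' ∧
      ∀ r < D.nroots, wL D L' r = wL D L (wL D (O.J a) r) := by
  have hJ := O.J_lt a ha
  obtain ⟨c', L', hL', e⟩ := (mem_N_iff hC).1
    (mul_mem ((mem_N_iff hC).2 ⟨c, L, hL, rfl⟩)
      (inv_mem ((mem_N_iff hC).2 ⟨d, O.J a, hJ, rfl⟩)))
  refine ⟨c', L', hL', e, fun r hr => ?_⟩
  obtain ⟨d', hd'⟩ := nL_conj_tor (F := F) hC hL' d
  have e1 : tor D c * nL hC F L = tor D (c' * d') * nL hC F (L' ++ O.J a) := by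
    rw [mul_inv_eq_iff_eq_mul] at e
    rw [e, nL_append, ← tor_mul, mul_assoc (tor D c') (tor D d'), ← mul_assoc (tor D d'), ← hd']
    simp only [mul_assoc]
  rw [wL_congr hC hL (fun i hi => (List.mem_append.1 hi).elim (hL' i) (hJ i)) e1
    (wL_lt hC hJ hr), wL_append, O.invol a ha r hr]

include hK

theorem U_part_mem : ∀ (m : ℕ) (c : ℕ → Fˣ) (L : List ℕ), (∀ i ∈ L, i < D.rank) →
    (invSet D T L).card = m → tor D c * nL hC F L ∈ K → ∀ u ∈ Fx S,
      u ∈ Uminus D F (tor D c * nL hC F L) → u ∈ K := by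
  intro m
  induction m using Nat.strong_induction_on with
  | _ m ih =>
    intro c L hL hm hmem u huF hu
    rcases Finset.eq_empty_or_nonempty (invSet D T L) with h0 | ⟨r, hr⟩
    · rw [Uminus_eq hC hL c] at hu
      have : Subgroup.closure {g : GL D.Idx F | ∃ (r : ℕ) (t : F),
          r ∈ invList D T L ∧ g = xg hC r t} = ⊥ := by
        rw [eq_bot_iff, Subgroup.closure_le]
        rintro g ⟨r, t, hr, -⟩
        have h1 := (mem_invList hC).1 hr
        exact absurd (h0 ▸ (Finset.mem_filter.2 ⟨Finset.mem_range.2 h1.1, h1.2⟩ : r ∈ invSet D T L))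
          (Finset.notMem_empty r)
      rw [this, Subgroup.mem_bot] at hu
      rw [hu]; exact one_mem _
    simp only [invSet, Finset.mem_filter, Finset.mem_range] at hr
    have hLe := equiv_of_fixed (S := S) hL (hK.le hmem)
    obtain ⟨a, ha, hneg⟩ := exists_orbit O hL hLe hr.1 hr.2.1 hr.2.2
    obtain ⟨d, hd⟩ := hK.mono a ha
    obtain ⟨hu1, hu2⟩ := (mem_Uminus_iff hC ((mem_N_iff hC).2 ⟨c, L, hL, rfl⟩)).1 hu
    obtain ⟨A, B, rfl, hAF, hBF, hAU, hA', hB⟩ := split_fixed O ha (hK.le hd) hu1 huF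
    refine mul_mem ?_ (hK.unip a ha B hBF d hB)
    obtain ⟨c', L', hL', e, he⟩ := exists_quot O ha (c := c) (d := d) hL
    have hlt := invSet_step O hL hL' ha hneg (O.ne a ha) he
    have hm' : tor D c' * nL hC F L' ∈ K := e ▸ mul_mem hmem (inv_mem hd)
    have hA2 : tor D d * nL hC F (O.J a) * A * (tor D d * nL hC F (O.J a))⁻¹ ∈ K := by
      refine ih _ (hm ▸ hlt) c' L' hL' rfl hm' _
        (mul_mem (mul_mem (hK.le hd) hAF) (inv_mem (hK.le hd))) ?_
      refine (mem_Uminus_iff hC ((mem_N_iff hC).2 ⟨c', L', hL', rfl⟩)).2 ⟨hA', ?_⟩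
      rw [← e]
      have hBU : tor D c * nL hC F L * B * (tor D c * nL hC F L)⁻¹ ∈ D.negUnipotent F := by
        have hBm : B ∈ Uminus D F (tor D c * nL hC F L) := by
          rw [Uminus_eq hC (O.J_lt a ha) d] at hB
          rw [Uminus_eq hC hL c]
          refine Subgroup.closure_mono ?_ hB
          rintro g ⟨s, t, hs, rfl⟩
          obtain ⟨h1, h2, h3⟩ := (mem_invList hC).1 hs
          exact ⟨s, t, (mem_invList hC).2 ⟨h1, h2, hneg s h1 h2 h3⟩, rfl⟩
        exact conj_Uminus hC hBm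
      have h5 := mul_mem hu2 (inv_mem hBU)
      simpa [mul_assoc] using h5
    have h6 := mul_mem (mul_mem (inv_mem hd) hA2) hd
    simpa [mul_assoc] using h6

theorem top_mono_mem : ∀ l : List ℕ, (∀ a ∈ l, a < O.k) →
    ∃ c : ℕ → Fˣ, tor D c * nL hC F (l.flatMap O.J) ∈ K := by
  intro l
  induction l with
  | nil => exact fun _ => ⟨1, by simp [nL, tor_one, one_mem]⟩
  | cons a l ih =>
    intro hl
    have ha := hl a List.mem_cons_self
    obtain ⟨c, hc⟩ := ih fun b hb => hl b (List.mem_cons_of_mem a hb)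
    obtain ⟨d, hd⟩ := hK.mono a ha
    obtain ⟨c', hc'⟩ := nL_conj_tor (F := F) hC (O.J_lt a ha) c
    refine ⟨d * c', ?_⟩
    rw [List.flatMap_cons, nL_append, ← tor_mul, mul_assoc, ← mul_assoc (tor D c'), ← hc']
    have := mul_mem hd hc
    simpa [mul_assoc] using this

omit hK in
theorem flatMap_lt {l : List ℕ} (hl : ∀ a ∈ l, a < O.k) : ∀ i ∈ l.flatMap O.J, i < D.rank := by
  intro i hi
  obtain ⟨a, ha, hia⟩ := List.mem_flatMap.1 hi
  exact O.J_lt a (hl a ha) i hia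

theorem fixed_U_mem {u : GL D.Idx F} (hu : u ∈ D.posUnipotent F) (huF : u ∈ Fx S) : u ∈ K := by
  have hLr := flatMap_lt O O.top_lt
  obtain ⟨c, hc⟩ := top_mono_mem O hK O.top O.top_lt
  refine U_part_mem O hK _ c _ hLr rfl hc u huF ?_
  rw [Uminus_eq hC hLr c]
  have hall : ∀ r < D.nroots, 0 < T.phi r → T.phi (wL D (O.top.flatMap O.J) r) < 0 := by
    intro r hr hp
    have h1 := O.top_neg
    obtain ⟨f, hf⟩ := StUnip.exists_lin_gW hC (w := O.top.flatMap O.J) hLr
    revert hp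
    induction r using Nat.strong_induction_on with
    | _ r ih =>
      intro hp
      obtain ⟨i, hi, h | h⟩ := hC.descent hr hp
      · rw [h]; exact h1 i hi
      by_cases hri : r = D.simple i
      · rw [hri]; exact h1 i hi
      have hr' := hC.reflect_lt hi hr
      have h0 := hC.phi_reflect hi hr
      have h0' := mul_pos h (hC.phi_simple hi)
      have hlt := (hC.phi_lt_iff hr' hr).1 (by omega)
      have h3 := ih _ hlt hr' (hC.reflect_pos hi hr hri hp)
      have h4 := hf _ hr'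
      have h5 := hf _ hr
      have h6 := hf _ (hC.simple_lt hi)
      rw [Graded.lin_reflect hC f hi hr, h0] at h4
      have h7 := mul_neg_of_pos_of_neg h (h1 i hi)
      simp only [StUnip.gW] at h4 h5 h6
      rw [h6] at h7
      linarith
  rw [U_eq_closure hC] at hu
  refine Subgroup.closure_mono ?_ hu
  rintro g ⟨r, t, hr, hp, rfl⟩
  exact ⟨r, t, (mem_invList hC).2 ⟨hr, hp, hall r hr hp⟩, rfl⟩

/-- Fixed monomial elements. -/
theorem fixed_mono_mem : ∀ (m : ℕ) (c : ℕ → Fˣ) (L : List ℕ), (∀ i ∈ L, i < D.rank) →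
    (invSet D T L).card = m → tor D c * nL hC F L ∈ Fx S → tor D c * nL hC F L ∈ K := by
  intro m
  induction m using Nat.strong_induction_on with
  | _ m ih =>
    intro c L hL hm hF
    rcases Finset.eq_empty_or_nonempty (invSet D T L) with h0 | ⟨r, hr⟩
    · have hpos : ∀ i < D.rank, 0 < T.phi (wL D L (D.simple i)) := fun i hi => by
        by_contra hcon
        have h1 := hC.phi_ne_zero (wL_lt hC hL (hC.simple_lt hi))
        have h2 : D.simple i ∈ invSet D T L := Finset.mem_filter.2 ⟨Finset.mem_range.2 (hC.simple_lt hi),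
          hC.phi_simple hi, by omega⟩
        rw [h0] at h2
        exact absurd h2 (Finset.notMem_empty _)
      obtain ⟨d, hd⟩ := exists_tor_of_pos (F := F) hC hL hpos
      rw [hd, tor_mul] at hF ⊢
      exact hK.torus _ hF
    simp only [invSet, Finset.mem_filter, Finset.mem_range] at hr
    have hLe := equiv_of_fixed (S := S) hL hF
    obtain ⟨a, ha, hneg⟩ := exists_orbit O hL hLe hr.1 hr.2.1 hr.2.2
    obtain ⟨d, hd⟩ := hK.mono a ha
    obtain ⟨c', L', hL', e, he⟩ := exists_quot O ha (c := c) (d := d) hL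
    have hlt := invSet_step O hL hL' ha hneg (O.ne a ha) he
    have hF' : tor D c' * nL hC F L' ∈ Fx S := e ▸ mul_mem hF (inv_mem (hK.le hd))
    have h6 := mul_mem (ih _ (hm ▸ hlt) c' L' hL' rfl hF') hd
    rw [← e, inv_mul_cancel_right] at h6
    exact h6

/-- The fixed group is generated by the orbit pieces. -/
theorem Fx_le : Fx S ≤ K := by
  intro g hg
  obtain ⟨v, hv, hvF, n, hn, hnF, u, hu, huF, rfl⟩ := fixed_form S hg
  obtain ⟨c, L, hL, rfl⟩ := (mem_N_iff hC).1 hn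
  exact mul_mem (mul_mem (fixed_U_mem O hK hv hvF) (fixed_mono_mem O hK _ c L hL rfl hnF))
    (fixed_U_mem O hK (Uminus_le_U hC _ hu) huF)

theorem Fx_eq : Fx S = K := le_antisymm (Fx_le O hK) hK.le

end Cfsg.Agent.Chevalley.Twist
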