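import Cfsg.Agent.Lib.Chevalley.Twist.AutD4
import Cfsg.Agent.Lib.Chevalley.Twist.AutDiag
import Mathlib.FieldTheory.Finite.Extension
import Mathlib.RingTheory.Norm.Defs

/-!
The Levi subgroup of the long orbit of a triality twisted group, and a self-centralising cyclic
torus inside it.
-/

set_option autoImplicit false

open scoped Matrix

namespace Cfsg.Agent.Chevalley.Twist.D4

open Cfsg.Lie Cfsg.Agent.Chevalley Cfsg.Agent.Chevalley.Table Cfsg.Agent.Chevalley.Cert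
  Cfsg.Agent.Chevalley.Group Cfsg.Agent.Chevalley.NormalForm Cfsg.Agent.Chevalley.AutThm
  Cfsg.Agent.Chevalley.Borel Cfsg.Agent.Chevalley.Bruhat Cfsg.Agent.Chevalley.Weyl
  Cfsg.Agent.Chevalley.Unip Cfsg.Agent.Chevalley.TorusCard

variable {K : Type*} [Field K] [Fintype K] {q : ℕ} {hK : Fintype.card K = q ^ 3}
  (X : Setup (K := K) hK) (θ : K →+* K) (hθ : ∀ t, θ t = t ^ q)

/-! ### Parameters -/

/-- The Frobenius on units. -/
abbrev Θu : Kˣ →* Kˣ := Units.map θ.toMonoidHom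

/-- The fixed torus parameters. -/
def dvec (s t : Kˣ) : ℕ → Kˣ := fun i =>
  if i = 1 then s else if i = 0 then t else if i = 2 then Θu θ t else Θu θ (Θu θ t)

theorem dvec_mul (s s' t t' : Kˣ) :
    dvec θ (s * s') (t * t') = dvec θ s t * dvec θ s' t' := by
  funext i
  simp only [dvec, Pi.mul_apply, map_mul]
  split_ifs <;> rfl

theorem dvec_chars (s t : Kˣ) :
    torChar chevD4 (dvec θ s t) (chevD4.simple 1) = s ^ 2 * (t * Θu θ t * Θu θ (Θu θ t))⁻¹ ∧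
      torChar chevD4 (dvec θ s t) (chevD4.simple 0) = t ^ 2 * s⁻¹ := by
  have hr : chevD4.rank = 4 := by decide
  constructor <;>
    simp [torChar, hr, Finset.prod_range_succ, dvec, cartan_vals 1 (by decide),
      cartan_vals 0 (by decide), zpow_ofNat] <;>
    simp [mul_assoc, mul_comm, mul_left_comm]

variable (hK) in
/-- The norm to the fixed field. -/
noncomputable def nmU : Kˣ →* (E₀ q θ)ˣ := by
  classical
  exact
    if hθ : ∀ t, θ t = t ^ q then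
      MonoidHom.mk' (fun t => Units.mk0 ⟨(t : K) * θ t * θ (θ t), norm_mem θ hθ hK t⟩ (by
        intro h
        have h' := congrArg Subtype.val h
        simp at h')) (fun t u => Units.ext (Subtype.ext (by
          simp [map_mul]; ring)))
    else 1

variable (hK) in
/-- The norm into the units of the field. -/
noncomputable abbrev nmK : Kˣ →* Kˣ := (Units.map (E₀ q θ).subtype.toMonoidHom).comp (nmU hK θ)

include hθ in
theorem nmK_apply (t : Kˣ) : nmK hK θ t = t * Θu θ t * Θu θ (Θu θ t) := by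
  refine Units.ext ?_
  simp [nmU, dif_pos hθ]

include hθ in
theorem nmU_coe (t : Kˣ) :
    (((nmU hK θ t : (E₀ q θ)ˣ) : E₀ q θ) : K) = (t : K) * θ t * θ (θ t) := by
  simp [nmU, dif_pos hθ]

variable (hK) in
/-- The Levi data. -/
noncomputable def Lev : Subgroup (GL (Fin 2) (E₀ q θ) × Kˣ) :=
  MonoidHom.eqLocus (Matrix.GeneralLinearGroup.det.comp (MonoidHom.fst _ _))
    ((nmU hK θ).comp (MonoidHom.snd _ _))

theorem lev_det (p : Lev hK θ) :
    ((p.1.1 : GL (Fin 2) (E₀ q θ)) : Matrix (Fin 2) (Fin 2) (E₀ q θ)).det =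
      ((nmU hK θ p.1.2 : (E₀ q θ)ˣ) : E₀ q θ) :=
  congrArg Units.val p.2

variable (hK) in
/-- The diagonal matrix of a norm. -/
noncomputable def dD (t : Kˣ) : Matrix (Fin 2) (Fin 2) (E₀ q θ) :=
  !![((nmU hK θ t : (E₀ q θ)ˣ) : E₀ q θ), 0; 0, 1]

theorem dD_mul (t u : Kˣ) : dD hK θ (t * u) = dD hK θ t * dD hK θ u := by
  ext i j
  fin_cases i <;> fin_cases j <;> simp [dD, Matrix.mul_apply, Fin.sum_univ_two]

theorem dD_inv (t : Kˣ) : dD hK θ t⁻¹ * dD hK θ t = 1 ∧ dD hK θ t * dD hK θ t⁻¹ = 1 := by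
  constructor <;> rw [← dD_mul] <;> simp [dD] <;> ext i j <;> fin_cases i <;> fin_cases j <;> simp

theorem dD_det (t : Kˣ) : (dD hK θ t).det = ((nmU hK θ t : (E₀ q θ)ˣ) : E₀ q θ) := by
  simp [dD, Matrix.det_fin_two]

variable (hK) in
/-- Conjugation by the diagonal matrix of a norm. -/
noncomputable def cD (t : Kˣ) (g : Matrix.SpecialLinearGroup (Fin 2) (E₀ q θ)) :
    Matrix.SpecialLinearGroup (Fin 2) (E₀ q θ) :=
  ⟨dD hK θ t * g.1 * dD hK θ t⁻¹, by
    rw [Matrix.det_mul, Matrix.det_mul, g.2, mul_one, ← Matrix.det_mul, (dD_inv θ t).2,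
      Matrix.det_one]⟩

theorem cD_mul (t : Kˣ) (g h : Matrix.SpecialLinearGroup (Fin 2) (E₀ q θ)) :
    cD hK θ t (g * h) = cD hK θ t g * cD hK θ t h := Subtype.ext (by
  show dD hK θ t * (g.1 * h.1) * dD hK θ t⁻¹ =
    dD hK θ t * g.1 * dD hK θ t⁻¹ * (dD hK θ t * h.1 * dD hK θ t⁻¹)
  simp only [mul_assoc]
  rw [← mul_assoc (dD hK θ t⁻¹) (dD hK θ t), (dD_inv θ t).1, one_mul])

variable (hK) in
/-- The special linear part of Levi data. -/
noncomputable def sPart (p : Lev hK θ) : Matrix.SpecialLinearGroup (Fin 2) (E₀ q θ) :=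
  ⟨((p.1.1 : GL (Fin 2) (E₀ q θ)) : Matrix (Fin 2) (Fin 2) (E₀ q θ)) * dD hK θ p.1.2⁻¹, by
    rw [Matrix.det_mul, lev_det, dD_det, map_inv, Units.mul_inv]⟩

theorem sPart_mul (p r : Lev hK θ) :
    sPart hK θ (p * r) = sPart hK θ p * cD hK θ p.1.2 (sPart hK θ r) := Subtype.ext (by
  show ((p.1.1 * r.1.1 : GL (Fin 2) (E₀ q θ)) : Matrix (Fin 2) (Fin 2) (E₀ q θ)) *
      dD hK θ (p.1.2 * r.1.2)⁻¹ = _ * (dD hK θ p.1.2 * _ * dD hK θ p.1.2⁻¹)
  rw [Units.val_mul, mul_inv, mul_comm p.1.2⁻¹, dD_mul]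
  simp only [sPart, mul_assoc]
  rw [← mul_assoc (dD hK θ p.1.2⁻¹) (dD hK θ p.1.2), (dD_inv θ _).1, one_mul])

/-! ### The Levi subgroup in the group -/

include X

theorem hom_eq_Θ {i : ℕ} (hi : i < 4) (hθ : ∀ t, θ t = t ^ q) (t : Kˣ) :
    X.S.hom i (t : K) = (Θu θ t : K) := by
  rw [hom_pow X hi]; exact (hθ _).symm

include hθ in
theorem tor_dvec_mem (s t : Kˣ) (hs : Θu θ s = s) :
    tor chevD4 (dvec θ s t) ∈ twistedD4 K q := by
  have hlt : ∀ j < chevD4.rank, πi j < chevD4.rank := by decide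
  have hinv' : ∀ j < 4, nodePi L (πi j) = j := by decide
  have hinv : ∀ j < chevD4.rank, X.S.π (πi j) = j := fun j hj => by
    rw [X.π_eq]; exact hinv' j hj
  refine Fx_le X.O X.gen ?_
  have h := img_torHom X.S hlt hinv fun i => dvec θ s t i
  have hstep : ∀ i < 4, dvec θ s t (nodePi L i) = Θu θ (dvec θ s t i) := by
    intro i hi
    have h3 : Θu θ (Θu θ (Θu θ t)) = t := Units.ext (θ3 θ hK hθ (t : K))
    interval_cases i <;> simp [dvec, nodePi, hs, h3]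
  have e1 : tau X.S πi hlt (fun i : Fin chevD4.rank => dvec θ s t i) =
      fun i : Fin chevD4.rank => dvec θ s t i := by
    funext j
    refine Units.ext ?_
    show X.S.hom (πi j) (dvec θ s t (πi j) : K) = _
    have hj4 : πi j < 4 := hlt j j.2
    rw [hom_eq_Θ X θ hj4 hθ, ← hstep _ hj4, hinv' j j.2]
  have e : torHom chevD4 K (fun i : Fin chevD4.rank => dvec θ s t i) = tor chevD4 (dvec θ s t) :=
    dg_congr fun a _ => Finset.prod_congr rfl fun i hi => by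
      rw [TorusCard.ext, dif_pos (Finset.mem_range.1 hi)]
  rw [e1, e] at h
  exact h

include hθ in
theorem Θ_nmK (t : Kˣ) : Θu θ (nmK hK θ t) = nmK hK θ t :=
  Units.ext (by
    show θ ((nmU hK θ t : (E₀ q θ)ˣ) : E₀ q θ) = _
    exact θE θ _)

/-- The torus element of the Levi data. -/
noncomputable def dd (hθ : ∀ t, θ t = t ^ q) (t : Kˣ) : twistedD4 K q :=
  ⟨tor chevD4 (dvec θ (nmK hK θ t) t), tor_dvec_mem X θ hθ _ t (Θ_nmK X θ hθ t)⟩

theorem coe_dd (t : Kˣ) :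
    (dd X θ hθ t : GL chevD4.Idx K) = tor chevD4 (dvec θ (nmK hK θ t) t) := rfl

theorem dd_mul (t u : Kˣ) : dd X θ hθ (t * u) = dd X θ hθ t * dd X θ hθ u := Subtype.ext (by
  rw [Subgroup.coe_mul, coe_dd, coe_dd, coe_dd, tor_mul, map_mul, dvec_mul])

include hθ in
theorem dd_char (t : Kˣ) :
    torChar chevD4 (dvec θ (nmK hK θ t) t) (chevD4.simple 1) = nmK hK θ t := by
  rw [(dvec_chars θ _ _).1, ← nmK_apply (hK := hK) θ hθ, sq, mul_inv_cancel_right]

variable (P₀ : Par X.S (X.O.J 0) (E₀ q θ)) (h₀ : ∀ i t, P₀.em i t = (t : K))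

include h₀ in
theorem coe_x₀ (v : E₀ q θ) :
    (x₀ X θ P₀ v : GL chevD4.Idx K) = xg hC (chevD4.simple 1) (v : K) ∧
      (y₀ X θ P₀ v : GL chevD4.Idx K) = xg hC (chevD4.neg (chevD4.simple 1)) (v : K) := by
  have hJ : X.O.J 0 = [1] := X.J_eq 0
  constructor <;> simp only [coe_xp, coe_xn, opr, h₀] <;> rw [hJ] <;> simp

include h₀ in
/-- The rank-one map of the long orbit. -/
theorem exists_phi : ∃ φ : Matrix.SpecialLinearGroup (Fin 2) (E₀ q θ) →* twistedD4 K q,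
    (∀ t, φ (SL2.sx t) = x₀ X θ P₀ t) ∧ ∀ t, φ (SL2.sy t) = y₀ X θ P₀ t := by
  obtain ⟨φ, hx, hy, -⟩ := exists_rank1 (F := K) hC (show 1 < chevD4.rank by decide)
  obtain ⟨ψ, hψ⟩ : ∃ ψ : Matrix.SpecialLinearGroup (Fin 2) (E₀ q θ) →* GL chevD4.Idx K,
      ψ = ((chevD4.group K).subtype.comp φ).comp
        (Matrix.SpecialLinearGroup.map (E₀ q θ).subtype) := ⟨_, rfl⟩
  have hsx : ∀ t : E₀ q θ, Matrix.SpecialLinearGroup.map (E₀ q θ).subtype (SL2.sx t) =
      SL2.sx (t : K) := fun t => by ext i j; fin_cases i <;> fin_cases j <;> simp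
  have hsy : ∀ t : E₀ q θ, Matrix.SpecialLinearGroup.map (E₀ q θ).subtype (SL2.sy t) =
      SL2.sy (t : K) := fun t => by ext i j; fin_cases i <;> fin_cases j <;> simp
  have ex : ∀ t, ψ (SL2.sx t) = (x₀ X θ P₀ t : GL chevD4.Idx K) := fun t => by
    rw [(coe_x₀ X θ P₀ h₀ t).1, hψ, MonoidHom.comp_apply, hsx, MonoidHom.comp_apply, hx]
    rfl
  have ey : ∀ t, ψ (SL2.sy t) = (y₀ X θ P₀ t : GL chevD4.Idx K) := fun t => by
    rw [(coe_x₀ X θ P₀ h₀ t).2, hψ, MonoidHom.comp_apply, hsy, MonoidHom.comp_apply, hy]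
    rfl
  have hmem : ∀ g, ψ g ∈ twistedD4 K q := fun g =>
    sl2_induction (P := fun g => ψ g ∈ twistedD4 K q)
      (fun t => by rw [ex]; exact (x₀ X θ P₀ t).2)
      (fun t => by rw [ey]; exact (y₀ X θ P₀ t).2)
      (fun a b ha hb => by rw [map_mul]; exact mul_mem ha hb) g
  exact ⟨ψ.codRestrict _ hmem, fun t => Subtype.ext (ex t), fun t => Subtype.ext (ey t)⟩

variable (φ : Matrix.SpecialLinearGroup (Fin 2) (E₀ q θ) →* twistedD4 K q)
  (hx : ∀ t, φ (SL2.sx t) = x₀ X θ P₀ t) (hy : ∀ t, φ (SL2.sy t) = y₀ X θ P₀ t)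

include hθ h₀ hx hy in
theorem dd_conj (t : Kˣ) (g : Matrix.SpecialLinearGroup (Fin 2) (E₀ q θ)) :
    dd X θ hθ t * φ g * (dd X θ hθ t)⁻¹ = φ (cD hK θ t g) := by
  have h1 : 1 < chevD4.rank := by decide
  refine sl2_induction (P := fun g => dd X θ hθ t * φ g * (dd X θ hθ t)⁻¹ = φ (cD hK θ t g))
    (fun v => ?_) (fun v => ?_) (fun a b ha hb => ?_) g
  · have e : cD hK θ t (SL2.sx v) = SL2.sx (((nmU hK θ t : (E₀ q θ)ˣ) : E₀ q θ) * v) :=
      Subtype.ext (by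
        ext i j
        fin_cases i <;> fin_cases j <;> simp [cD, dD, Matrix.mul_apply, Fin.sum_univ_two])
    rw [e, hx, hx]
    refine Subtype.ext ?_
    rw [Subgroup.coe_mul, Subgroup.coe_mul, Subgroup.coe_inv, coe_dd, (coe_x₀ X θ P₀ h₀ _).1,
      (coe_x₀ X θ P₀ h₀ _).1, tor_conj_x hC _ _ _ (hC.simple_lt h1), dd_char X θ hθ]
    rfl
  · have e : cD hK θ t (SL2.sy v) = SL2.sy (v * ((nmU hK θ t⁻¹ : (E₀ q θ)ˣ) : E₀ q θ)) :=
      Subtype.ext (by
        ext i j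
        fin_cases i <;> fin_cases j <;> simp [cD, dD, Matrix.mul_apply, Fin.sum_univ_two])
    rw [e, hy, hy]
    refine Subtype.ext ?_
    rw [Subgroup.coe_mul, Subgroup.coe_mul, Subgroup.coe_inv, coe_dd, (coe_x₀ X θ P₀ h₀ _).2,
      (coe_x₀ X θ P₀ h₀ _).2, tor_conj_x hC _ _ _ (hC.neg_lt (hC.simple_lt h1)),
      torChar_neg hC _ (hC.simple_lt h1), dd_char X θ hθ]
    congr 1
    simp [mul_comm]
  · rw [cD_mul, map_mul, map_mul, ← ha, ← hb]
    group

/-- The Levi subgroup as a map. -/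
noncomputable def lev (hconj : ∀ t g, dd X θ hθ t * φ g * (dd X θ hθ t)⁻¹ = φ (cD hK θ t g)) :
    Lev hK θ →* twistedD4 K q :=
  MonoidHom.mk' (fun p => φ (sPart hK θ p) * dd X θ hθ p.1.2) fun p r => by
    show φ (sPart hK θ (p * r)) * dd X θ hθ (p.1.2 * r.1.2) = _
    rw [sPart_mul, map_mul, ← hconj, dd_mul]
    group

variable (hconj : ∀ t g, dd X θ hθ t * φ g * (dd X θ hθ t)⁻¹ = φ (cD hK θ t g))

theorem lev_apply (p : Lev hK θ) :
    lev X θ hθ φ hconj p = φ (sPart hK θ p) * dd X θ hθ p.1.2 := rfl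

include h₀ hx hy in
theorem phi_diag (g : Matrix.SpecialLinearGroup (Fin 2) (E₀ q θ)) (a : Kˣ)
    (ha : ((SL2.el g 0 0 : E₀ q θ) : K) = a) (hb : SL2.el g 0 1 = 0) (hc : SL2.el g 1 0 = 0) :
    (φ g : GL chevD4.Idx K) = tor chevD4 fun i => if i = 1 then a else 1 := by
  have h1 : 1 < chevD4.rank := by decide
  have hdet := SL2.el_det g
  rw [hb, zero_mul, sub_zero] at hdet
  obtain ⟨b, hbdef⟩ : ∃ b, b = SL2.el g 0 0 := ⟨_, rfl⟩
  rw [← hbdef] at hdet ha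
  have hb0 : b ≠ 0 := left_ne_zero_of_mul (hdet ▸ one_ne_zero)
  have hd : SL2.el g 1 1 = b⁻¹ := eq_inv_of_mul_eq_one_right hdet
  have e : g = SL2.sx b * SL2.sy (-b⁻¹) * SL2.sx b *
      (SL2.sx (-1) * SL2.sy 1 * SL2.sx (-1)) := by
    ext i j
    fin_cases i <;> fin_cases j <;>
      simp [Matrix.mul_apply, Fin.sum_univ_two, SL2.el] at hb hc hbdef hd ⊢ <;>
      simp [hb, hc, ← hbdef, hd] <;>
      (try simp [mul_inv_cancel₀ (show (b : K) ≠ 0 from fun h => hb0 (Subtype.ext h))]) <;>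
      (try field_simp) <;> (try ring)
    all_goals rw [mul_inv_cancel₀ (show (b : K) ≠ 0 from fun h => hb0 (Subtype.ext h)), sub_self]
  rw [e, map_mul, map_mul, map_mul, map_mul, map_mul, hx, hx, hy, hy]
  simp only [Subgroup.coe_mul, (coe_x₀ X θ P₀ h₀ _).1, (coe_x₀ X θ P₀ h₀ _).2]
  rw [← hg_simple hC h1 a, hg, ng, ng, ← ha]
  simp [mul_assoc]

include h₀ hx hy in
/-- The map is injective. -/
theorem lev_injective : Function.Injective (lev X θ hθ φ hconj) := by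
  rw [injective_iff_map_eq_one]
  intro p hp
  rw [lev_apply] at hp
  have h1 : 1 < chevD4.rank := by decide
  have hs := hC.simple_lt h1
  obtain ⟨g, hg⟩ : ∃ g, g = sPart hK θ p := ⟨_, rfl⟩
  rw [← hg] at hp
  have hgH : (φ g : GL chevD4.Idx K) ∈ chevD4.diagonalSubgroup K := by
    rw [eq_inv_of_mul_eq_one_left hp, Subgroup.coe_inv, coe_dd]
    exact inv_mem (tor_mem_H hC _)
  have hU : ∀ v, (x₀ X θ P₀ v : GL chevD4.Idx K) ∈ chevD4.posUnipotent K := fun v => by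
    rw [(coe_x₀ X θ P₀ h₀ v).1]; exact xg_mem_U hC hs (hC.phi_simple h1) _
  have hc : SL2.el g 1 0 = 0 := by
    by_contra hc
    rw [SL2.decomp hc, map_mul, map_mul, hx, hx, hy] at hgH
    simp only [Subgroup.coe_mul] at hgH
    have hy' : (y₀ X θ P₀ (SL2.el g 1 0) : GL chevD4.Idx K) ∈
        chevD4.borelSubgroup K ⊓ chevD4.negUnipotent K := by
      refine Subgroup.mem_inf.2 ⟨?_, ?_⟩
      · have h3 := mul_mem (mul_mem (inv_mem (Subgroup.mem_sup_left (hU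
            ((SL2.el g 0 0 - 1) / SL2.el g 1 0)))) (H_le_B hgH))
          (inv_mem (Subgroup.mem_sup_left (hU ((SL2.el g 1 1 - 1) / SL2.el g 1 0))) :
            _ ∈ chevD4.borelSubgroup K)
        show _ ∈ chevD4.posUnipotent K ⊔ chevD4.diagonalSubgroup K
        simpa [mul_assoc] using h3
      · rw [(coe_x₀ X θ P₀ h₀ _).2]
        refine xg_mem_V hC (hC.neg_lt hs) ?_ _
        rw [hC.phi_neg hs]
        have := hC.phi_simple h1
        omega
    rw [B_inf_V hC, Subgroup.mem_bot, (coe_x₀ X θ P₀ h₀ _).2,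
      ← xg_zero hC (chevD4.neg (chevD4.simple 1))] at hy'
    exact hc (Subtype.ext (xg_injective hC (hC.neg_lt hs) hy'))
  have hdet := SL2.el_det g
  rw [hc, mul_zero, sub_zero] at hdet
  have ha0 : SL2.el g 0 0 ≠ 0 := left_ne_zero_of_mul (hdet ▸ one_ne_zero)
  obtain ⟨a, ha⟩ : ∃ a : Kˣ, ((SL2.el g 0 0 : E₀ q θ) : K) = a :=
    ⟨Units.mk0 _ (fun h => ha0 (Subtype.ext h)), rfl⟩
  have hb : SL2.el g 0 1 = 0 := by
    by_contra hb
    obtain ⟨g', hg'⟩ : ∃ g', g' = SL2.sx (-(SL2.el g 0 1 * SL2.el g 0 0)) * g := ⟨_, rfl⟩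
    have hd : SL2.el g 1 1 = (SL2.el g 0 0)⁻¹ := eq_inv_of_mul_eq_one_right hdet
    have e00 : SL2.el g' 0 0 = SL2.el g 0 0 := by
      rw [hg', SL2.el_mul, hc]; simp [SL2.el]
    have e01 : SL2.el g' 0 1 = 0 := by
      rw [hg', SL2.el_mul, hd]
      simp [SL2.el] at ha0 ⊢
      rw [mul_assoc, mul_inv_cancel₀ ha0]
      ring
    have e10 : SL2.el g' 1 0 = 0 := by
      rw [hg', SL2.el_mul, hc]; simp [SL2.el]
    have h3 := phi_diag X θ P₀ h₀ φ hx hy g' a (e00 ▸ ha) e01 e10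
    rw [hg', map_mul, Subgroup.coe_mul, hx] at h3
    have h4 : (x₀ X θ P₀ (-(SL2.el g 0 1 * SL2.el g 0 0)) : GL chevD4.Idx K) ∈
        chevD4.posUnipotent K ⊓ chevD4.diagonalSubgroup K := by
      refine Subgroup.mem_inf.2 ⟨hU _, ?_⟩
      rw [eq_mul_inv_of_mul_eq h3]
      exact mul_mem (tor_mem_H hC _) (inv_mem hgH)
    rw [U_inf_H hC, Subgroup.mem_bot, (coe_x₀ X θ P₀ h₀ _).1, ← xg_zero hC (chevD4.simple 1)] at h4
    have h5 := xg_injective hC hs h4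
    simp [ha0, hb] at h5
  have hφ := phi_diag X θ P₀ h₀ φ hx hy g a ha hb hc
  obtain ⟨t, ht⟩ : ∃ t, t = p.1.2 := ⟨_, rfl⟩
  rw [← ht] at hp
  have htor : tor chevD4 (dvec θ (a * nmK hK θ t) t) = 1 := by
    have h4 := congrArg Subtype.val hp
    rw [Subgroup.coe_mul, hφ, coe_dd, tor_mul, OneMemClass.coe_one] at h4
    rw [← h4]
    congr 1
    funext i
    simp only [dvec, Pi.mul_apply]
    split_ifs <;> simp
  have hchi : ∀ r < chevD4.nroots, (torChar chevD4 (dvec θ (a * nmK hK θ t) t) r : K) = 1 := by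
    intro r hr
    have h5 := tor_conj_x hC (dvec θ (a * nmK hK θ t) t) r (1 : K) hr
    rw [htor, one_mul, inv_one, mul_one, mul_one] at h5
    exact (xg_injective hC hr h5).symm
  obtain ⟨s, hsdef⟩ : ∃ s, s = a * nmK hK θ t := ⟨_, rfl⟩
  rw [← hsdef] at hchi
  have f1 := hchi _ hs
  have f0 := hchi _ (hC.simple_lt (show 0 < chevD4.rank by decide))
  rw [(dvec_chars θ _ _).1, ← nmK_apply (hK := hK) θ hθ, Units.val_eq_one, mul_inv_eq_one] at f1
  rw [(dvec_chars θ _ _).2, Units.val_eq_one, mul_inv_eq_one] at f0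
  have hθs : θ (s : K) = s := by
    rw [hsdef, Units.val_mul, map_mul, ← ha, θE θ, ← show (Θu θ (nmK hK θ t) : K) =
      θ (nmK hK θ t : K) from rfl, Θ_nmK X θ hθ]
  have hsq : θ (t : K) ^ 2 = (t : K) ^ 2 := by
    rw [← map_pow, ← Units.val_pow_eq_pow_val, f0, hθs]
  have hfix : θ (t : K) = t := by
    rcases sq_eq_sq_iff_eq_or_eq_neg.1 hsq with h | h
    · exact h
    · have h3 := θ3 θ hK hθ (t : K)
      rw [h, map_neg, h, neg_neg, h] at h3
      rw [h]; exact h3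
  have hN : nmK hK θ t = t ^ 3 := by
    refine Units.ext ?_
    rw [nmK_apply θ hθ, Units.val_mul, Units.val_mul, Units.val_pow_eq_pow_val]
    show (t : K) * θ t * θ (θ t) = _
    rw [hfix, hfix]; ring
  rw [← f0, hN, ← pow_mul] at f1
  have ht1 : t = 1 := by
    refine mul_left_cancel (a := t ^ 3) ?_
    rw [← pow_succ, mul_one]
    exact f1
  have ha1 : a = 1 := by
    rw [hN, ht1, one_pow, mul_one] at hsdef
    rw [← hsdef, ← f0, ht1, one_pow]
  have hA : g = 1 := by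
    rw [ha1, Units.val_one] at ha
    have h00 : SL2.el g 0 0 = 1 := Subtype.ext ha
    rw [h00, one_mul] at hdet
    simp only [SL2.el] at h00 hb hc hdet
    ext i j
    fin_cases i <;> fin_cases j <;> simp [h00, hb, hc, hdet]
  refine Subtype.ext (Prod.ext ?_ (ht.symm.trans ht1))
  refine Units.ext ?_
  have h6 := congrArg Subtype.val (hg.symm.trans hA)
  simp only [sPart, Matrix.SpecialLinearGroup.coe_one] at h6
  rw [← ht, ht1, inv_one] at h6
  have hd1 : dD hK θ 1 = 1 := by ext i j; fin_cases i <;> fin_cases j <;> simp [dD]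
  rw [hd1, mul_one] at h6
  exact h6

include h₀ hx hy in
/-- The range contains the torus and the root groups of the orbit. -/
theorem lev_range : (∀ v, x₀ X θ P₀ v ∈ (lev X θ hθ φ hconj).range ∧
      y₀ X θ P₀ v ∈ (lev X θ hθ φ hconj).range) ∧
    ∀ g : twistedD4 K q, (g : GL chevD4.Idx K) ∈ chevD4.diagonalSubgroup K →
      g ∈ (lev X θ hθ φ hconj).range := by
  have hphi : ∀ g, φ g ∈ (lev X θ hθ φ hconj).range := by
    intro g
    refine ⟨⟨(Matrix.SpecialLinearGroup.toGL g, 1), ?_⟩, ?_⟩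
    · show Matrix.GeneralLinearGroup.det (Matrix.SpecialLinearGroup.toGL g) = nmU hK θ 1
      rw [map_one]
      exact Units.ext g.2
    · have hd : dd X θ hθ 1 = 1 := Subtype.ext (by
        rw [coe_dd, map_one, OneMemClass.coe_one, ← tor_one]
        congr 1
        funext i
        simp only [dvec, map_one, Pi.one_apply]
        split_ifs <;> rfl)
      rw [lev_apply, hd, mul_one]
      congr 1
      refine Subtype.ext ?_
      simp only [sPart, inv_one]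
      rw [show dD hK θ 1 = 1 by ext i j; fin_cases i <;> fin_cases j <;> simp [dD], mul_one]
      rfl
  refine ⟨fun v => ⟨hx v ▸ hphi _, hy v ▸ hphi _⟩, fun g hg => ?_⟩
  obtain ⟨c, hc⟩ := (mem_H_iff hC).1 hg
  obtain ⟨c', hcc, hc'⟩ := X.fix c (X.gen.le (hc ▸ g.2))
  have hstep : ∀ i < 4, c' (nodePi L i) = Θu θ (c' i) := fun i hi => Units.ext (by
    have h := hc' i hi
    rw [X.π_eq] at h
    rw [h, hom_eq_Θ X θ hi hθ])
  have e1 : Θu θ (c' 1) = c' 1 := (hstep 1 (by decide)).symm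
  have e2 : c' 2 = Θu θ (c' 0) := hstep 0 (by decide)
  have e3 : c' 3 = Θu θ (Θu θ (c' 0)) := by
    have := hstep 2 (by decide)
    rw [e2] at this
    exact this
  obtain ⟨a, ha⟩ : ∃ a : Kˣ, a = c' 1 * (nmK hK θ (c' 0))⁻¹ := ⟨_, rfl⟩
  have haE : θ (a : K) = a := by
    show ((Θu θ a : Kˣ) : K) = a
    rw [ha, map_mul, map_inv, e1, Θ_nmK X θ hθ]
  obtain ⟨aE, haE'⟩ : ∃ aE : E₀ q θ, (aE : K) = a := ⟨⟨a, haE⟩, rfl⟩
  have haE0 : aE ≠ 0 := fun h => a.ne_zero (by rw [← haE', h]; rfl)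
  have hdd : dd X θ hθ (c' 0) ∈ (lev X θ hθ φ hconj).range := by
    have hdet : (dD hK θ (c' 0)).det ≠ 0 := by rw [dD_det]; exact Units.ne_zero _
    refine ⟨⟨(Matrix.GeneralLinearGroup.mkOfDetNeZero _ hdet, c' 0), ?_⟩, ?_⟩
    · exact Units.ext (dD_det θ _)
    · rw [lev_apply]
      have e : sPart hK θ ⟨(Matrix.GeneralLinearGroup.mkOfDetNeZero _ hdet, c' 0),
          Units.ext (dD_det θ _)⟩ = 1 := Subtype.ext (dD_inv θ (c' 0)).2
      rw [e, map_one, one_mul]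
  obtain ⟨δ, hδ⟩ : ∃ δ : Matrix.SpecialLinearGroup (Fin 2) (E₀ q θ),
      SL2.el δ 0 0 = aE ∧ SL2.el δ 0 1 = 0 ∧ SL2.el δ 1 0 = 0 :=
    ⟨⟨!![aE, 0; 0, aE⁻¹], by simp [Matrix.det_fin_two_of, haE0]⟩, rfl, rfl, rfl⟩
  rw [show g = φ δ * dd X θ hθ (c' 0) from Subtype.ext (by
    rw [Subgroup.coe_mul, phi_diag X θ P₀ h₀ φ hx hy δ a (hδ.1 ▸ haE') hδ.2.1 hδ.2.2, coe_dd,
      tor_mul, hc, ← hcc]
    refine dg_congr fun r _ => Finset.prod_congr rfl fun i hi => ?_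
    have hi4 : i < 4 := Finset.mem_range.1 hi
    interval_cases i <;> simp [dvec, ha, e2, e3])]
  exact mul_mem (hphi δ) hdd

omit X

/-! ### Values of the roots at the central element -/

/-- Exponents of a root at the central element. -/
def pv (r k : ℕ) : ℤ := 2 * chevD4.cartan ([0, 2, 3].getD k 0) r + chevD4.cartan 1 r

/-- Coordinates of a root outside the long orbit. -/
def cv (r k : ℕ) : ℤ := (pv r k + (pv r 0 + pv r 1 + pv r 2)) / 4

theorem cv_ok : ∀ r < 24, (∀ k < 3, 4 * cv r k = pv r k + (pv r 0 + pv r 1 + pv r 2)) ∧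
    (0 < Data.D4.tab.phi r → ∀ k < 3, 0 ≤ cv r k ∧ cv r k ≤ 1) ∧
    (Data.D4.tab.phi r < 0 → ∀ k < 3, -1 ≤ cv r k ∧ cv r k ≤ 0) ∧
    (cv r 0 = 0 ∧ cv r 1 = 0 ∧ cv r 2 = 0 →
      r = chevD4.simple 1 ∨ r = chevD4.neg (chevD4.simple 1)) := by decide +kernel

theorem cv_simple : ∀ i ∈ [0, 2, 3],
    (cv (chevD4.simple i) 0 + cv (chevD4.simple i) 1 + cv (chevD4.simple i) 2 = 1 ∧
      0 < Data.D4.tab.phi (chevD4.simple i)) ∧
    (cv (wL chevD4 [1] (chevD4.simple i)) 0 + cv (wL chevD4 [1] (chevD4.simple i)) 1 +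
      cv (wL chevD4 [1] (chevD4.simple i)) 2 = 1 ∧
      0 < Data.D4.tab.phi (wL chevD4 [1] (chevD4.simple i))) := by decide +kernel

theorem d4_consts : chevD4.nroots = 24 ∧ chevD4.rank = 4 ∧
    wL chevD4 [1] (chevD4.simple 1) = chevD4.neg (chevD4.simple 1) := by decide +kernel

/-- The combined coordinate. -/
def ev (q r : ℕ) : ℤ := cv r 0 + (q : ℤ) * cv r 1 + (q : ℤ) ^ 2 * cv r 2

theorem ev_coprime (q : ℕ) :
    IsCoprime (4 - (1 + (q : ℤ) + (q : ℤ) ^ 2)) ((q : ℤ) ^ 3 - 1) := by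
  obtain ⟨k, hk⟩ : ∃ k : ℤ, (q : ℤ) * (q + 1) = 2 * k :=
    ((Int.even_mul_succ_self (q : ℤ))).imp fun k h => by rw [h]; ring
  obtain ⟨M, hM⟩ : ∃ M : ℤ, M = (q : ℤ) ^ 2 + q - 3 := ⟨_, rfl⟩
  obtain ⟨N, hN⟩ : ∃ N : ℤ, N = (q : ℤ) ^ 3 - 1 := ⟨_, rfl⟩
  rw [← hN, show 4 - (1 + (q : ℤ) + (q : ℤ) ^ 2) = -M by rw [hM]; ring]
  refine IsCoprime.neg_left ?_
  have h4 : (q + 2) * N - ((q + 2) * (q - 1) + 4) * M = 4 := by rw [hM, hN]; ring
  obtain ⟨j, hj⟩ : ∃ j : ℤ, j = k - 2 := ⟨_, rfl⟩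
  have hMj : M = 2 * j + 1 := by rw [hM, hj]; linear_combination hk
  refine ⟨M + j * (j + 1) * ((q + 2) * (q - 1) + 4), -(j * (j + 1) * (q + 2)), ?_⟩
  linear_combination (M + 2 * j + 1) * hMj - j * (j + 1) * h4

variable (t₀' : Kˣ)

/-- The parameter of the central element. -/
noncomputable def zvec : ℕ → Kˣ := dvec θ (nmK hK θ t₀') (t₀' ^ 2)

include hθ in
theorem zvec_char (r : ℕ) : torChar chevD4 (zvec (hK := hK) θ t₀') r =
    t₀' ^ (pv r 0 + (q : ℤ) * pv r 1 + (q : ℤ) ^ 2 * pv r 2) := by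
  have h1 : ∀ u : Kˣ, Θu θ u = u ^ (q : ℤ) := fun u => Units.ext (by
    rw [zpow_natCast, Units.val_pow_eq_pow_val]; exact hθ _)
  have hr : chevD4.rank = 4 := d4_consts.2.1
  simp only [torChar, hr, Finset.prod_range_succ, Finset.prod_range_zero, one_mul, zvec, dvec,
    nmK_apply θ hθ, h1, show (0 : ℕ) ≠ 1 by decide, show (2 : ℕ) ≠ 1 by decide,
    show (2 : ℕ) ≠ 0 by decide, show (3 : ℕ) ≠ 1 by decide, show (3 : ℕ) ≠ 0 by decide,
    show (3 : ℕ) ≠ 2 by decide, if_true, if_false]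
  simp only [← zpow_natCast t₀' 2, mul_zpow, ← zpow_mul, ← zpow_add]
  congr 1
  simp only [pv, List.getD_cons_zero, List.getD_cons_succ]
  push_cast
  ring

include hθ in
theorem ev_eq_of_char (hgen : orderOf t₀' = q ^ 3 - 1) (hq : 1 ≤ q) {r s : ℕ} (hr : r < 24)
    (hs : s < 24)
    (h : torChar chevD4 (zvec (hK := hK) θ t₀') r = torChar chevD4 (zvec (hK := hK) θ t₀') s) :
    (q : ℤ) ^ 3 - 1 ∣ ev q r - ev q s := by
  rw [zvec_char θ hθ, zvec_char θ hθ, ← mul_inv_eq_one, ← zpow_neg, ← zpow_add,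
    ← orderOf_dvd_iff_zpow_eq_one, hgen] at h
  have h1 : ((q ^ 3 - 1 : ℕ) : ℤ) = (q : ℤ) ^ 3 - 1 := by
    rw [Nat.cast_sub (Nat.one_le_pow _ _ hq)]; push_cast; rfl
  rw [h1] at h
  refine (ev_coprime q).symm.dvd_of_dvd_mul_left ?_
  obtain ⟨k, hk⟩ := h
  refine ⟨k - ((cv r 1 - cv s 1) + (cv r 2 - cv s 2) * ((q : ℤ) + 1)), ?_⟩
  have a0 := (cv_ok r hr).1 0 (by decide)
  have a1 := (cv_ok r hr).1 1 (by decide)
  have a2 := (cv_ok r hr).1 2 (by decide)
  have b0 := (cv_ok s hs).1 0 (by decide)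
  have b1 := (cv_ok s hs).1 1 (by decide)
  have b2 := (cv_ok s hs).1 2 (by decide)
  have as : pv r 0 + pv r 1 + pv r 2 = cv r 0 + cv r 1 + cv r 2 := by linarith
  have bs : pv s 0 + pv s 1 + pv s 2 = cv s 0 + cv s 1 + cv s 2 := by linarith
  simp only [ev]
  linear_combination hk + a0 + (q : ℤ) * a1 + (q : ℤ) ^ 2 * a2 - b0 - (q : ℤ) * b1 -
    (q : ℤ) ^ 2 * b2 + (1 + (q : ℤ) + (q : ℤ) ^ 2) * (as - bs)

theorem ev_bounds (hq : 3 ≤ q) {r : ℕ} (hr : r < 24) :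
    (0 < Data.D4.tab.phi r → 0 ≤ ev q r ∧ ev q r ≤ 1 + q + q ^ 2 ∧
      (ev q r = 0 → r = chevD4.simple 1) ∧
      (cv r 0 + cv r 1 + cv r 2 = 1 → 0 < ev q r ∧ ev q r ≤ q ^ 2)) ∧
    (Data.D4.tab.phi r < 0 → ev q r ≤ 0 ∧ -(1 + q + q ^ 2 : ℤ) ≤ ev q r) := by
  obtain ⟨-, hp, hn, h0⟩ := cv_ok r hr
  have hq' : (3 : ℤ) ≤ q := by exact_mod_cast hq
  simp only [ev]
  constructor <;> intro h
  · obtain ⟨c0, c0'⟩ := hp h 0 (by decide)
    obtain ⟨c1, c1'⟩ := hp h 1 (by decide)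
    obtain ⟨c2, c2'⟩ := hp h 2 (by decide)
    refine ⟨by nlinarith, by nlinarith, fun he => ?_, fun hsum => ?_⟩
    · have e0 : cv r 0 = 0 := by nlinarith
      have e1 : cv r 1 = 0 := by nlinarith
      have e2 : cv r 2 = 0 := by nlinarith
      refine (h0 ⟨e0, e1, e2⟩).resolve_right fun e => ?_
      have h1 : 1 < chevD4.rank := by decide
      rw [e, hC.phi_neg (hC.simple_lt h1)] at h
      have := hC.phi_simple h1
      omega
    · rcases eq_or_ne (cv r 2) 1 with e | e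
      · constructor <;> nlinarith
      have e2 : cv r 2 = 0 := by omega
      rw [e2] at hsum ⊢
      constructor <;> nlinarith
  · obtain ⟨c0, c0'⟩ := hn h 0 (by decide)
    obtain ⟨c1, c1'⟩ := hn h 1 (by decide)
    obtain ⟨c2, c2'⟩ := hn h 2 (by decide)
    constructor <;> nlinarith

include X in
/-- The normal form of what commutes with a torus element. -/
theorem comm_form (zc : twistedD4 K q) {z : GL chevD4.Idx K} (hz : z = (zc : GL chevD4.Idx K))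
    (hzH : z ∈ chevD4.diagonalSubgroup K) {g : twistedD4 K q} (hg : Commute g zc) :
    ∃ v ∈ chevD4.posUnipotent K, v ∈ Fx X.S ∧ ∃ n ∈ chevD4.monomialSubgroup K, n ∈ Fx X.S ∧
      ∃ u ∈ Uminus chevD4 K n, u ∈ Fx X.S ∧ (g : GL chevD4.Idx K) = v * n * u ∧
        z * v * z⁻¹ = v ∧ z * u * z⁻¹ = u ∧ z * n * z⁻¹ = n := by
  obtain ⟨v, hv, hvF, n, hn, hnF, u, hu, huF, e⟩ := fixed_form X.S (X.gen.le g.2)
  have hgz : z * (g : GL chevD4.Idx K) * z⁻¹ = g := by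
    rw [hz, ← Subgroup.coe_mul, ← hg.eq, Subgroup.coe_mul, mul_inv_cancel_right]
  rw [e, show z * (v * n * u) * z⁻¹ = z * v * z⁻¹ * (z * n * z⁻¹) * (z * u * z⁻¹) by group] at hgz
  have hzvU : z * v * z⁻¹ ∈ chevD4.posUnipotent K :=
    (Subgroup.mem_normalizer_iff.1 (H_normalizes_U hC hzH) v).1 hv
  have hzn : z * n * z⁻¹ ∈ chevD4.monomialSubgroup K :=
    mul_mem (mul_mem (Subgroup.mem_sup_left hzH) hn) (inv_mem (Subgroup.mem_sup_left hzH))
  have hzu : z * u * z⁻¹ ∈ Uminus chevD4 K (z * n * z⁻¹) := by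
    obtain ⟨a1, a2⟩ := (mem_Uminus_iff hC hn).1 hu
    refine (mem_Uminus_iff hC hzn).2
      ⟨(Subgroup.mem_normalizer_iff.1 (H_normalizes_U hC hzH) u).1 a1, ?_⟩
    have h3 := (Subgroup.mem_normalizer_iff.1 (H_normalizes_V hC hzH) _).1 a2
    simpa [mul_assoc] using h3
  obtain ⟨hH, -⟩ := unique_form hC (Subgroup.mem_sup_left hzvU) (Subgroup.mem_sup_left hv) hzn hn
    hzu hu hgz
  obtain ⟨d, hd⟩ : ∃ d, d = z * n * z⁻¹ * n⁻¹ := ⟨_, rfl⟩
  have hdH : d ∈ chevD4.diagonalSubgroup K := by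
    rw [hd, show z * n * z⁻¹ * n⁻¹ = z * (n * z⁻¹ * n⁻¹) by group]
    exact mul_mem hzH (H_conj hC hn (inv_mem hzH))
  have hu' : z * u * z⁻¹ ∈ Uminus chevD4 K n := by
    obtain ⟨a1, a2⟩ := (mem_Uminus_iff hC hzn).1 hzu
    refine (mem_Uminus_iff hC hn).2 ⟨a1, ?_⟩
    have h3 := (Subgroup.mem_normalizer_iff.1 (H_normalizes_V hC (inv_mem hdH)) _).1 a2
    rw [hd] at h3
    simpa [mul_assoc] using h3
  have e2 : z * v * z⁻¹ * d * n * (z * u * z⁻¹) = v * n * u := by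
    rw [← hgz, hd]; group
  obtain ⟨hb1, hu1⟩ := (unique_form hC
    (mul_mem (Subgroup.mem_sup_left hzvU) (H_le_B hdH)) (Subgroup.mem_sup_left hv) hn hn hu' hu e2).2 rfl
  have hd1 : d = 1 := by
    have hmem : d ∈ (⊥ : Subgroup (GL chevD4.Idx K)) := by
      rw [← U_inf_H (F := K) hC, Subgroup.mem_inf]
      refine ⟨?_, hdH⟩
      rw [show d = (z * v * z⁻¹)⁻¹ * v from eq_inv_mul_of_mul_eq hb1]
      exact mul_mem (inv_mem hzvU) hv
    exact Subgroup.mem_bot.1 hmem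
  rw [hd1, mul_one] at hb1
  rw [hd1, eq_comm, mul_inv_eq_one] at hd
  exact ⟨v, hv, hvF, n, hn, hnF, u, hu, huF, e, hb1, hu1, hd⟩

include X hθ h₀ hx hy in
/-- What commutes with the central element lies in the Levi subgroup. -/
theorem mem_range_of_comm (hq : 3 ≤ q) (hgen : orderOf t₀' = q ^ 3 - 1)
    (zc : twistedD4 K q) (hzc : (zc : GL chevD4.Idx K) = tor chevD4 (zvec (hK := hK) θ t₀'))
    {g : twistedD4 K q} (hg : Commute g zc) :
    g ∈ (lev X θ hθ φ hconj).range := by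
  obtain ⟨z, hz⟩ : ∃ z, z = (zc : GL chevD4.Idx K) := ⟨_, rfl⟩
  obtain ⟨hrX, hrT⟩ := lev_range X θ hθ P₀ h₀ φ hx hy hconj
  have hzH : z ∈ chevD4.diagonalSubgroup K := by rw [hz, hzc]; exact tor_mem_H hC _
  have hzF : z ∈ Fx X.S := hz ▸ X.gen.le zc.2
  have h24 := d4_consts.1
  have h1r : 1 < chevD4.rank := by decide
  have hN3 : (q : ℤ) ^ 3 - 1 > 1 + q + 2 * (q : ℤ) ^ 2 := by
    have hq' : (3 : ℤ) ≤ q := by exact_mod_cast hq
    nlinarith
  obtain ⟨v, hv, hvF, n, hn, hnF, u, hu, huF, e, hb1, hu1, hd⟩ := comm_form X zc hz hzH hg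
  -- the fixed unipotent parts
  have hunip : ∀ w : GL chevD4.Idx K, w ∈ chevD4.posUnipotent K → w ∈ Fx X.S →
      z * w * z⁻¹ = w → ∀ hwK : w ∈ twistedD4 K q,
      (⟨w, hwK⟩ : twistedD4 K q) ∈ (lev X θ hθ φ hconj).range := by
    intro w hw hwF hwz hwK
    obtain ⟨f, rfl⟩ := exists_prodX hC hw
    have hroots : ∀ r ∈ chevD4.posRoots, r < chevD4.nroots ∧ 0 < Data.D4.tab.phi r :=
      fun r hr => (mem_posRoots hC).1 hr
    have hscaled : prodX hC chevD4.posRoots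
        (fun r => (torChar chevD4 (zvec (hK := hK) θ t₀') r : K) * f r) =
        prodX hC chevD4.posRoots f := by
      refine Eq.trans ?_ hwz
      rw [← MulAut.conj_apply, prodX, prodX, map_list_prod, List.map_map]
      refine congrArg List.prod (List.map_congr_left fun r hr => ?_)
      rw [Function.comp_apply, MulAut.conj_apply, hz, hzc, tor_conj_x hC _ _ _ (hroots r hr).1]
    have hf := prodX_inj hC posRoots_sorted hroots hscaled
    have hone : ∀ r ∈ chevD4.posRoots, r ≠ chevD4.simple 1 → f r = 0 := by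
      intro r hr hne
      by_contra hf0
      obtain ⟨h1, h2⟩ := hroots r hr
      rw [h24] at h1
      have hχ : torChar chevD4 (zvec (hK := hK) θ t₀') r = 1 :=
        Units.ext ((mul_eq_right₀ hf0).1 (hf r hr))
      rw [zvec_char θ hθ, ← orderOf_dvd_iff_zpow_eq_one, hgen] at hχ
      obtain ⟨he1, he2, he3, -⟩ := (ev_bounds hq h1).1 h2
      refine hne (he3 ?_)
      have hN : ((q ^ 3 - 1 : ℕ) : ℤ) = (q : ℤ) ^ 3 - 1 := by
        rw [Nat.cast_sub (Nat.one_le_pow _ _ (by omega))]; push_cast; rfl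
      rw [hN] at hχ
      obtain ⟨k, hk⟩ := hχ
      have a0 := (cv_ok r h1).1 0 (by decide)
      have a1 := (cv_ok r h1).1 1 (by decide)
      have a2 := (cv_ok r h1).1 2 (by decide)
      have as : pv r 0 + pv r 1 + pv r 2 = cv r 0 + cv r 1 + cv r 2 := by linarith
      have hdvd : (q : ℤ) ^ 3 - 1 ∣ ev q r := by
        refine (ev_coprime q).symm.dvd_of_dvd_mul_left ?_
        refine ⟨k - (cv r 1 + cv r 2 * ((q : ℤ) + 1)), ?_⟩
        simp only [ev]
        linear_combination hk + a0 + (q : ℤ) * a1 + (q : ℤ) ^ 2 * a2 +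
          (1 + (q : ℤ) + (q : ℤ) ^ 2) * as
      refine Int.eq_zero_of_dvd_of_nonneg_of_lt he1 ?_ hdvd
      nlinarith
    have hmem : prodX hC chevD4.posRoots f ∈ chevD4.rootSubgroup K (chevD4.simple 1) := by
      refine list_prod_mem fun x hx' => ?_
      obtain ⟨r, hr, rfl⟩ := List.mem_map.1 hx'
      by_cases hne : r = chevD4.simple 1
      · rw [hne]; exact (mem_rootSubgroup hC).2 ⟨_, rfl⟩
      · rw [hone r hr hne, xg_zero hC]; exact one_mem _
    obtain ⟨s, hs⟩ := (mem_rootSubgroup hC).1 hmem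
    have hfix := (img_xg X.S (hC.simple_lt h1r) s).unique (hs ▸ hwF : xg hC (chevD4.simple 1) s ∈ Fx X.S)
    rw [X.S.ρ_simple 1 h1r, X.S.act_simple 1 h1r, show X.S.π 1 = 1 by rw [X.π_eq]; rfl,
      hom_pow X (by decide), ← hθ] at hfix
    have hsE : θ s = s := xg_injective hC (hC.simple_lt h1r) hfix
    rw [show (⟨prodX hC chevD4.posRoots f, hwK⟩ : twistedD4 K q) = x₀ X θ P₀ ⟨s, hsE⟩ from
      Subtype.ext (by rw [(coe_x₀ X θ P₀ h₀ _).1]; exact hs)]
    exact (hrX _).1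
  have hvK : v ∈ twistedD4 K q := Fx_le X.O X.gen hvF
  have huK : u ∈ twistedD4 K q := Fx_le X.O X.gen huF
  have hnK : n ∈ twistedD4 K q := Fx_le X.O X.gen hnF
  rw [show g = ⟨v, hvK⟩ * ⟨n, hnK⟩ * ⟨u, huK⟩ from Subtype.ext e]
  refine mul_mem (mul_mem (hunip v hv hvF hb1 hvK) ?_)
    (hunip u (Uminus_le_U hC _ hu) huF hu1 huK)
  -- the monomial part
  obtain ⟨c, L, hL, rfl⟩ := (mem_N_iff hC).1 hn
  have hcomm : z * (tor chevD4 c * nL hC K L) = tor chevD4 c * nL hC K L * z :=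
    mul_inv_eq_iff_eq_mul.1 hd
  have hval : ∀ r < chevD4.nroots, torChar chevD4 (zvec (hK := hK) θ t₀') (wL chevD4 L r) =
      torChar chevD4 (zvec (hK := hK) θ t₀') r := by
    intro r hr
    obtain ⟨η, hη, hη'⟩ := NormalForm.conj_xg (F := K) hC hL c hr
    obtain ⟨m, hm⟩ : ∃ m, m = tor chevD4 c * nL hC K L := ⟨_, rfl⟩
    rw [← hm] at hη' hcomm
    have h1 : z * (m * xg hC r 1 * m⁻¹) * z⁻¹ = m * (z * xg hC r 1 * z⁻¹) * m⁻¹ := by
      calc _ = z * m * xg hC r 1 * (z * m)⁻¹ := by group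
        _ = _ := by rw [hcomm]; group
    rw [hη', hz, hzc, tor_conj_x hC _ _ _ (wL_lt hC hL hr), tor_conj_x hC _ _ _ hr, hη'] at h1
    have h2 := xg_injective hC (wL_lt hC hL hr) h1
    rw [mul_one, mul_one, mul_comm η] at h2
    exact Units.ext (mul_right_cancel₀ hη h2)
  have hpos : ∀ r < chevD4.nroots, 0 < Data.D4.tab.phi r → cv r 0 + cv r 1 + cv r 2 = 1 →
      0 < Data.D4.tab.phi (wL chevD4 L r) := by
    intro r hr hrp hsum
    have hw := wL_lt hC hL hr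
    rcases (hC.phi_ne_zero hw).lt_or_gt with hneg | hp
    · exfalso
      rw [h24] at hr hw
      obtain ⟨hn1, hn2⟩ := (ev_bounds hq hw).2 hneg
      obtain ⟨hp1, hp2⟩ := ((ev_bounds hq hr).1 hrp).2.2.2 hsum
      have hdvd := ev_eq_of_char θ hθ t₀' hgen (by omega) hr hw (hval r (h24 ▸ hr)).symm
      have := Int.eq_zero_of_dvd_of_nonneg_of_lt (by linarith) (by nlinarith) hdvd
      linarith
    · exact hp
  have hfin : ∀ L' : List ℕ, (∀ i ∈ L', i < chevD4.rank) →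
      (∀ i < chevD4.rank, 0 < Data.D4.tab.phi (wL chevD4 L' (chevD4.simple i))) →
      ∀ hmK : tor chevD4 c * nL hC K L' ∈ twistedD4 K q,
      (⟨_, hmK⟩ : twistedD4 K q) ∈ (lev X θ hθ φ hconj).range := by
    intro L' hL' hp hmK
    obtain ⟨d', hd'⟩ := exists_tor_of_pos (F := K) hC hL' hp
    refine hrT _ ?_
    show tor chevD4 c * nL hC K L' ∈ _
    rw [hd', tor_mul]
    exact tor_mem_H hC _
  obtain ⟨-, hrank, hw1⟩ := d4_consts
  have hs1 := hC.simple_lt h1r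
  rcases (hC.phi_ne_zero (wL_lt hC hL hs1)).lt_or_gt with hneg | hp1
  · have hLa : ∀ i ∈ L ++ [1], i < chevD4.rank := fun i hi =>
      (List.mem_append.1 hi).elim (hL i) fun h => (List.mem_singleton.1 h) ▸ h1r
    have hn1K : nL hC K [1] ∈ twistedD4 K q := by
      have h3 := nL_mem_K X.O X.gen X.π_eq (hOr X) (k0 X)
      rwa [show X.O.J 0 = [1] from X.J_eq 0] at h3
    have hn1R : (⟨_, hn1K⟩ : twistedD4 K q) ∈ (lev X θ hθ φ hconj).range := by
      rw [show (⟨_, hn1K⟩ : twistedD4 K q) =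
        x₀ X θ P₀ 1 * y₀ X θ P₀ (-1) * x₀ X θ P₀ 1 from Subtype.ext (by
          simp only [Subgroup.coe_mul, (coe_x₀ X θ P₀ h₀ _).1, (coe_x₀ X θ P₀ h₀ _).2,
            nL_singleton, ng]
          simp)]
      exact mul_mem (mul_mem (hrX 1).1 (hrX (-1)).2) (hrX 1).1
    have hmK : tor chevD4 c * nL hC K (L ++ [1]) ∈ twistedD4 K q := by
      rw [nL_append, ← mul_assoc]; exact mul_mem hnK hn1K
    have h := hfin (L ++ [1]) hLa (fun i hi => ?_) hmK
    · have h' := mul_mem h (inv_mem hn1R)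
      rwa [show (⟨tor chevD4 c * nL hC K L, hnK⟩ : twistedD4 K q) =
        ⟨_, hmK⟩ * ⟨_, hn1K⟩⁻¹ from Subtype.ext (by
          simp only [Subgroup.coe_mul, Subgroup.coe_inv, nL_append]; group)]
    · rw [wL_append]
      rcases eq_or_ne i 1 with rfl | hne
      · rw [hw1, wL_neg hC hL hs1, hC.phi_neg (wL_lt hC hL hs1)]
        omega
      · rw [hrank] at hi
        have hi' : i ∈ [0, 2, 3] := by
          simp only [List.mem_cons, List.not_mem_nil, or_false]; omega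
        obtain ⟨-, hsum, hp⟩ := cv_simple i hi'
        exact hpos _ (wL_lt hC (by simp [hrank]) (hC.simple_lt (hrank ▸ hi))) hp hsum
  · refine hfin L hL (fun i hi => ?_) hnK
    rcases eq_or_ne i 1 with rfl | hne
    · exact hp1
    · rw [hrank] at hi
      have hi' : i ∈ [0, 2, 3] := by
        simp only [List.mem_cons, List.not_mem_nil, or_false]; omega
      obtain ⟨⟨hsum, hp⟩, -⟩ := cv_simple i hi'
      exact hpos _ (hC.simple_lt (hrank ▸ hi)) hp hsum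

end Cfsg.Agent.Chevalley.Twist.D4
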