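import Cfsg.Agent.Lib.Chevalley.Twist.CollectD4
import Cfsg.Agent.Lib.Chevalley.Twist.TorusD4
import Cfsg.Agent.Lib.Chevalley.Twist.CharTwo

/-!
The involutions of a triality twisted group in characteristic two.
-/

set_option autoImplicit false
set_option linter.unusedSectionVars false
set_option linter.unusedSimpArgs false
set_option maxHeartbeats 400000

namespace Cfsg.Agent.Chevalley.Twist.D4.Invol

open Cfsg.Lie Cfsg.Agent.Chevalley Cfsg.Agent.Chevalley.Table Cfsg.Agent.Chevalley.Cert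
  Cfsg.Agent.Chevalley.Group Cfsg.Agent.Chevalley.Unip Cfsg.Agent.Chevalley.Borel
  Cfsg.Agent.Chevalley.NormalForm Cfsg.Agent.Chevalley.Bruhat Cfsg.Agent.Chevalley.Weyl
  Cfsg.Agent.Chevalley.TorusCard Cfsg.Agent.Chevalley.AutThm Collect

attribute [local irreducible] Collect.P xg

variable {K : Type*} [Field K] [CharP K 2]

local notation "Xr" => xg (F := K) hC

theorem wl_ok : (∀ p ∈ [(18, 19), (13, 16), (12, 15), (22, 23)], wL chevD4 [1] p.1 = p.2) ∧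
    (∀ p ∈ [(14, 22), (19, 17), (16, 20), (15, 21)], wL chevD4 [3, 2, 0] p.1 = p.2) ∧
    (∀ i < 4, i ∈ [0, 1, 2, 3]) ∧ chevD4.simple 0 = 18 ∧ chevD4.simple 1 = 14 ∧
    chevD4.simple 2 = 13 ∧ chevD4.simple 3 = 12 ∧ chevD4.nroots = 24 ∧
    chevD4.posRoots = [12, 13, 14, 15, 16, 17, 18, 19, 20, 21, 22, 23] ∧
    (∀ r ∈ [12, 13, 14, 15, 16, 17, 18, 19, 20, 21, 22, 23], 0 < Data.D4.tab.phi r) := by
  decide +kernel

theorem lt24 {r : ℕ} (h : r < 24) : r < chevD4.nroots := d4_consts.1.symm ▸ h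

theorem mem_posU {r : ℕ} (h : r ∈ [12, 13, 14, 15, 16, 17, 18, 19, 20, 21, 22, 23]) (t : K) :
    Xr r t ∈ chevD4.posUnipotent K :=
  xg_mem_U hC (lt24 (by revert r; decide)) (wl_ok.2.2.2.2.2.2.2.2.2 r h) t

theorem P_mem_U (b a0 a2 a3 c0 c2 c3 d0 d2 d3 e f : K) :
    P b a0 a2 a3 c0 c2 c3 d0 d2 d3 e f ∈ chevD4.posUnipotent K := by
  simp only [P]
  repeat' first
    | exact mem_posU (by simp) _
    | apply mul_mem

/-! ### The twisted group -/

/-- The general fixed element of the unipotent group. -/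
abbrev Pt (θ : K →+* K) (b a c d e f : K) : GL chevD4.Idx K :=
  P b a (θ a) (θ (θ a)) c (θ c) (θ (θ c)) d (θ d) (θ (θ d)) e f

variable [Fintype K] {q : ℕ} {hK : Fintype.card K = q ^ 3} (X : Setup (K := K) hK) (θ : K →+* K)
  (hθ : ∀ t, θ t = t ^ q)

/-- Conjugacy in the twisted group. -/
def Cj (q : ℕ) (x y : GL chevD4.Idx K) : Prop := ∃ g ∈ twistedD4 K q, g * x * g⁻¹ = y

theorem Cj.trans {q : ℕ} {x y z : GL chevD4.Idx K} : Cj q x y → Cj q y z → Cj q x z := by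
  rintro ⟨g, hg, rfl⟩ ⟨h, hh, rfl⟩
  exact ⟨h * g, mul_mem hh hg, by group⟩

theorem Cj.symm {q : ℕ} {x y : GL chevD4.Idx K} : Cj q x y → Cj q y x := by
  rintro ⟨g, hg, rfl⟩
  exact ⟨g⁻¹, inv_mem hg, by group⟩

include X

theorem monos : nL hC K [1] ∈ twistedD4 K q ∧ nL hC K [3, 2, 0] ∈ twistedD4 K q := by
  have h0 := nL_mem_K X.O X.gen X.π_eq (hOr X) (k0 X)
  have h1 := nL_mem_K X.O X.gen X.π_eq (hOr X) (k1 X)
  rw [show X.O.J 0 = [1] from X.J_eq 0] at h0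
  rw [show X.O.J 1 = [3, 2, 0] from X.J_eq 1] at h1
  exact ⟨h0, h1⟩

include hθ in
theorem mem_Bl {b : K} (hb : θ b = b) : Pt θ b 0 0 0 0 0 ∈ twistedD4 K q := by
  obtain ⟨P₀, h₀⟩ := exists_par₀ X θ hθ
  have h : Pt θ b 0 0 0 0 0 = (x₀ X θ P₀ ⟨b, hb⟩ : GL chevD4.Idx K) := by
    rw [(coe_x₀ X θ P₀ h₀ _).1, wl_ok.2.2.2.2.1]
    simp [Pt, P, xg_zero hC]
  rw [h]
  exact (x₀ X θ P₀ _).2

include hθ in
theorem mem_A (a : K) : Pt θ 0 a 0 0 0 0 ∈ twistedD4 K q := by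
  obtain ⟨P₁, h₁⟩ := exists_par₁ X θ hθ
  have hJ : X.O.J 1 = [3, 2, 0] := X.J_eq 1
  have h : Pt θ 0 a 0 0 0 0 = (x₁ X P₁ a : GL chevD4.Idx K) := by
    obtain ⟨-, -, -, s0, -, s2, s3, -⟩ := wl_ok
    simp only [coe_xp, opr, h₁]
    rw [hJ]
    simp only [List.map_cons, List.map_nil, List.prod_cons, List.prod_nil, mul_one, s0, s2, s3,
      emb₁, show (2 : ℕ) ≠ 0 by decide, show (3 : ℕ) ≠ 0 by decide, show (3 : ℕ) ≠ 2 by decide,
      if_true, if_false, RingHom.id_apply, RingHom.comp_apply]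
    simp only [Pt, P, map_zero, xg_zero hC, one_mul, mul_one, mul_assoc, w12_18', w12_13, w13_18]
  rw [h]
  exact (x₁ X P₁ _).2

omit X in
theorem conj_three {L : List ℕ} (hL : ∀ i ∈ L, i < chevD4.rank) {r s k r' s' k' : ℕ}
    (hr : r < chevD4.nroots) (hs : s < chevD4.nroots) (hk : k < chevD4.nroots)
    (er : wL chevD4 L r = r') (es : wL chevD4 L s = s') (ek : wL chevD4 L k = k') (t u w : K) :
    nL hC K L * (Xr r t * (Xr s u * Xr k w)) * (nL hC K L)⁻¹ = Xr r' t * (Xr s' u * Xr k' w) := by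
  rw [← er, ← es, ← ek, ← CharTwo.nL_conj hL hr t, ← CharTwo.nL_conj hL hs u,
    ← CharTwo.nL_conj hL hk w]
  group

/-- The long root elements along the orbit of monomials. -/
theorem long_moves (b : K) :
    Cj q (Pt θ b 0 0 0 0 0) (Pt θ 0 0 0 0 b 0) ∧ Cj q (Pt θ 0 0 0 0 b 0) (Pt θ 0 0 0 0 0 b) := by
  obtain ⟨m1, m2⟩ := monos X
  obtain ⟨w1, w2, -⟩ := wl_ok
  have e14 : Pt θ b 0 0 0 0 0 = Xr 14 b := by simp [Pt, P, xg_zero hC]
  have e22 : Pt θ 0 0 0 0 b 0 = Xr 22 b := by simp [Pt, P, xg_zero hC]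
  have e23 : Pt θ 0 0 0 0 0 b = Xr 23 b := by simp [Pt, P, xg_zero hC]
  rw [e14, e22, e23]
  refine ⟨⟨_, m2, ?_⟩, ⟨_, m1, ?_⟩⟩
  · rw [CharTwo.nL_conj (by decide) (lt24 (by decide)), w2 (14, 22) (by simp)]
  · rw [CharTwo.nL_conj (by decide) (lt24 (by decide)), w1 (22, 23) (by simp)]

/-- The short root elements along the orbit of monomials. -/
theorem short_moves (a : K) :
    Cj q (Pt θ 0 a 0 0 0 0) (Pt θ 0 0 a 0 0 0) ∧ Cj q (Pt θ 0 0 a 0 0 0) (Pt θ 0 0 0 a 0 0) := by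
  obtain ⟨m1, m2⟩ := monos X
  obtain ⟨w1, w2, -⟩ := wl_ok
  have ea : Pt θ 0 a 0 0 0 0 = Xr 18 a * (Xr 13 (θ a) * Xr 12 (θ (θ a))) := by
    simp [Pt, P, xg_zero hC]
  have eb : Pt θ 0 0 a 0 0 0 = Xr 19 a * (Xr 16 (θ a) * Xr 15 (θ (θ a))) := by
    simp [Pt, P, xg_zero hC]
  have ec : Pt θ 0 0 0 a 0 0 = Xr 17 a * (Xr 20 (θ a) * Xr 21 (θ (θ a))) := by
    simp [Pt, P, xg_zero hC]
  rw [ea, eb, ec]
  exact ⟨⟨_, m1, conj_three (by decide) (lt24 (by decide)) (lt24 (by decide)) (lt24 (by decide))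
      (w1 (18, 19) (by simp)) (w1 (13, 16) (by simp)) (w1 (12, 15) (by simp)) _ _ _⟩,
    ⟨_, m2, conj_three (by decide) (lt24 (by decide)) (lt24 (by decide)) (lt24 (by decide))
      (w2 (19, 17) (by simp)) (w2 (16, 20) (by simp)) (w2 (15, 21) (by simp)) _ _ _⟩⟩

theorem cj_mem {x y : GL chevD4.Idx K} (h : Cj q x y) (hx : x ∈ twistedD4 K q) :
    y ∈ twistedD4 K q := by
  obtain ⟨g, hg, rfl⟩ := h
  exact mul_mem (mul_mem hg hx) (inv_mem hg)

include hθ in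
theorem mem_gens : (∀ a, Pt θ 0 a 0 0 0 0 ∈ twistedD4 K q) ∧
    (∀ a, Pt θ 0 0 a 0 0 0 ∈ twistedD4 K q) ∧ (∀ a, Pt θ 0 0 0 a 0 0 ∈ twistedD4 K q) ∧
    ∀ b, θ b = b → Pt θ b 0 0 0 0 0 ∈ twistedD4 K q ∧ Pt θ 0 0 0 0 b 0 ∈ twistedD4 K q ∧
      Pt θ 0 0 0 0 0 b ∈ twistedD4 K q := by
  refine ⟨mem_A X θ hθ, fun a => cj_mem X (short_moves X θ a).1 (mem_A X θ hθ a),
    fun a => cj_mem X ((short_moves X θ a).1.trans (short_moves X θ a).2) (mem_A X θ hθ a),
    fun b hb => ⟨mem_Bl X θ hθ hb, cj_mem X (long_moves X θ b).1 (mem_Bl X θ hθ hb),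
      cj_mem X ((long_moves X θ b).1.trans (long_moves X θ b).2) (mem_Bl X θ hθ hb)⟩⟩

omit X in
theorem Pt_split (b a c d e f : K) : Pt θ b a c d e f = Pt θ b 0 0 0 0 0 * Pt θ 0 a 0 0 0 0 *
    Pt θ 0 0 c 0 0 0 * Pt θ 0 0 0 d 0 0 * Pt θ 0 0 0 0 e 0 * Pt θ 0 0 0 0 0 f := by
  simp [Pt, P, xg_zero hC, mul_assoc]

include hθ in
theorem Pt_mem {b a c d e f : K} (hb : θ b = b) (he : θ e = e) (hf : θ f = f) :
    Pt θ b a c d e f ∈ twistedD4 K q := by
  obtain ⟨g1, g2, g3, g4⟩ := mem_gens X θ hθ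
  rw [Pt_split θ]
  exact mul_mem (mul_mem (mul_mem (mul_mem (mul_mem (g4 b hb).1 (g1 a)) (g2 c)) (g3 d))
    (g4 e he).2.1) (g4 f hf).2.2

omit X in
theorem P_inj {b a0 a2 a3 c0 c2 c3 d0 d2 d3 e f b' a0' a2' a3' c0' c2' c3' d0' d2' d3' e' f' : K}
    (h : P b a0 a2 a3 c0 c2 c3 d0 d2 d3 e f = P b' a0' a2' a3' c0' c2' c3' d0' d2' d3' e' f') :
    b = b' ∧ a0 = a0' ∧ a2 = a2' ∧ a3 = a3' ∧ c0 = c0' ∧ c2 = c2' ∧ c3 = c3' ∧ d0 = d0' ∧
      d2 = d2' ∧ d3 = d3' ∧ e = e' ∧ f = f' := by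
  rw [P_eq_prodX, P_eq_prodX] at h
  have h' := prodX_inj hC (L := [12, 13, 14, 15, 16, 17, 18, 19, 20, 21, 22, 23]) (by decide)
    (fun r hr => ⟨lt24 (by revert r; decide), wl_ok.2.2.2.2.2.2.2.2.2 r hr⟩) h
  simp only [List.forall_mem_cons, coord] at h'
  norm_num at h'
  obtain ⟨k12, k13, k14, k15, k16, k17, k18, k19, k20, k21, k22, k23⟩ := h'
  subst k12 k13 k14 k18 k19
  obtain rfl := add_right_cancel k15
  obtain rfl := add_right_cancel k16
  obtain rfl := add_right_cancel k17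
  obtain rfl := add_right_cancel k20
  obtain rfl := add_right_cancel k21
  obtain rfl := add_right_cancel k22
  refine ⟨rfl, rfl, rfl, rfl, rfl, rfl, rfl, rfl, rfl, rfl, rfl, ?_⟩
  linear_combination k23

include hθ in
/-- Every fixed element of the unipotent group has fixed coordinates. -/
theorem exists_Pt (hq : IsPrimePow q) {u : GL chevD4.Idx K} (hu : u ∈ chevD4.posUnipotent K)
    (huK : u ∈ twistedD4 K q) : ∃ b a c d e f : K, θ b = b ∧ θ e = e ∧ θ f = f ∧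
      u = Pt θ b a c d e f := by
  classical
  let E := E₀ q θ
  let ψ : E × K × K × K × E × E → ↥(chevD4.posUnipotent K ⊓ twistedD4 K q) := fun x =>
    ⟨Pt θ x.1 x.2.1 x.2.2.1 x.2.2.2.1 x.2.2.2.2.1 x.2.2.2.2.2,
      P_mem_U _ _ _ _ _ _ _ _ _ _ _ _, Pt_mem X θ hθ (θE θ _) (θE θ _) (θE θ _)⟩
  have hinj : Function.Injective ψ := fun x y h => by
    obtain ⟨h1, h2, -, -, h3, -, -, h4, -, -, h5, h6⟩ := P_inj (congrArg Subtype.val h)
    exact Prod.ext (Subtype.ext h1) (Prod.ext h2 (Prod.ext h3 (Prod.ext h4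
      (Prod.ext (Subtype.ext h5) (Subtype.ext h6)))))
  have hE : Nat.card E = q := by
    rw [← card_powfix hq.two_le hK]
    exact Nat.card_congr (Equiv.subtypeEquivRight fun t => by
      show θ t = t ↔ _
      rw [hθ])
  have hcard : Nat.card (E × K × K × K × E × E) =
      Nat.card ↥(chevD4.posUnipotent K ⊓ twistedD4 K q) := by
    simp only [Nat.card_prod, hE, Nat.card_eq_fintype_card (α := K), hK]
    rw [card_U X hq]
    ring
  obtain ⟨x, hx⟩ := ((Nat.bijective_iff_injective_and_card ψ).2 ⟨hinj, hcard⟩).2 ⟨u, hu, huK⟩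
  exact ⟨_, _, _, _, _, _, θE θ _, θE θ _, θE θ _, (congrArg Subtype.val hx).symm⟩

/-! ### The two classes -/

/-- Conjugate to one of the two root elements. -/
def Std (q : ℕ) (x : GL chevD4.Idx K) : Prop :=
  Cj q x (Xr 14 1) ∨ Cj q x (Xr 18 1 * (Xr 13 1 * Xr 12 1))

omit X in
theorem Std.of_cj {q : ℕ} {x y : GL chevD4.Idx K} (h : Cj q x y) (hy : Std q y) : Std q x :=
  hy.imp h.trans h.trans

omit X in
theorem exists_sqrt (t : K) : ∃ s : K, s ^ 2 = t :=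
  (FiniteField.isSquare_of_char_two (ringChar.eq K 2) t).elim fun s h => ⟨s, by rw [sq, h]⟩

omit X in
theorem sqrt_fixed {x r : K} (hx : θ x = x) (hr : r ^ 2 = x) : θ r = r := by
  have h : θ r ^ 2 = r ^ 2 := by rw [← map_pow, hr, hx]
  exact CharTwo.sq_injective h

omit X in
theorem self_add (x y : K) : x + (x + y) = y := by
  rw [← add_assoc, _root_.CharTwo.add_self_eq_zero, zero_add]

include hθ in
theorem gen_cj {s : K} (hs : θ s = s) (a : K) (x : GL chevD4.Idx K) :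
    Cj q x (Pt θ 0 a 0 0 0 0 * x * Pt θ 0 a 0 0 0 0) ∧
    Cj q x (Pt θ 0 0 a 0 0 0 * x * Pt θ 0 0 a 0 0 0) ∧
    Cj q x (Pt θ 0 0 0 a 0 0 * x * Pt θ 0 0 0 a 0 0) ∧
    Cj q x (Pt θ s 0 0 0 0 0 * x * Pt θ s 0 0 0 0 0) ∧
    Cj q x (Pt θ 0 0 0 0 s 0 * x * Pt θ 0 0 0 0 s 0) := by
  obtain ⟨g1, g2, g3, g4⟩ := mem_gens X θ hθ
  have hi : ∀ g : GL chevD4.Idx K, g ∈ twistedD4 K q → g * g = 1 → Cj q x (g * x * g) :=
    fun g hg h2 => ⟨g, hg, by rw [inv_eq_of_mul_eq_one_right h2]⟩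
  refine ⟨hi _ (g1 a) ?_, hi _ (g2 a) ?_, hi _ (g3 a) ?_, hi _ (g4 s hs).1 ?_, hi _ (g4 s hs).2.1 ?_⟩
  all_goals simp [Pt, sq_full, P_zero]

include hθ in
theorem long_std {b : K} (hb : θ b = b) (hb0 : b ≠ 0) :
    Std q (Pt θ b 0 0 0 0 0) ∧ Std q (Pt θ 0 0 0 0 b 0) ∧ Std q (Pt θ 0 0 0 0 0 b) := by
  obtain ⟨s, hs⟩ := exists_sqrt b⁻¹
  have hs0 : s ≠ 0 := fun h => inv_ne_zero hb0 (by rw [← hs, h, zero_pow two_ne_zero])
  have hsf := sqrt_fixed θ (by rw [map_inv₀, hb]) hs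
  obtain ⟨su, hsu⟩ : ∃ su : Kˣ, (su : K) = s := ⟨Units.mk0 s hs0, rfl⟩
  have hmem := tor_dvec_mem X θ hθ su 1 (Units.ext (by simpa [hsu] using hsf))
  have h1 : Std q (Pt θ b 0 0 0 0 0) := by
    refine Or.inl ⟨_, hmem, ?_⟩
    rw [show Pt θ b 0 0 0 0 0 = Xr 14 b by simp [Pt, P, xg_zero hC],
      tor_conj_x hC _ _ _ (lt24 (by decide)), ← wl_ok.2.2.2.2.1, (dvec_chars θ _ _).1]
    simp [hsu, hs, hb0]
  exact ⟨h1, h1.of_cj (long_moves X θ b).1.symm,
    h1.of_cj ((long_moves X θ b).1.trans (long_moves X θ b).2).symm⟩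

omit X in
theorem dvec_char_one (t : Kˣ) :
    torChar chevD4 (dvec θ 1 t) (chevD4.simple 0) = t ^ 2 ∧
      torChar chevD4 (dvec θ 1 t) (chevD4.simple 2) = Θu θ t ^ 2 ∧
      torChar chevD4 (dvec θ 1 t) (chevD4.simple 3) = Θu θ (Θu θ t) ^ 2 := by
  have hr : chevD4.rank = 4 := by decide
  refine ⟨?_, ?_, ?_⟩ <;>
    simp [torChar, hr, Finset.prod_range_succ, dvec, cartan_vals 0 (by decide),
      cartan_vals 2 (by decide), cartan_vals 3 (by decide), zpow_ofNat]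

include hθ in
theorem short_std {a : K} (ha : a ≠ 0) :
    Std q (Pt θ 0 a 0 0 0 0) ∧ Std q (Pt θ 0 0 a 0 0 0) ∧ Std q (Pt θ 0 0 0 a 0 0) := by
  obtain ⟨s, hs⟩ := exists_sqrt a⁻¹
  have hs0 : s ≠ 0 := fun h => inv_ne_zero ha (by rw [← hs, h, zero_pow two_ne_zero])
  obtain ⟨su, hsu⟩ : ∃ su : Kˣ, (su : K) = s := ⟨Units.mk0 s hs0, rfl⟩
  have hmem := tor_dvec_mem X θ hθ 1 su (map_one _)
  have h1 : Std q (Pt θ 0 a 0 0 0 0) := by
    refine Or.inr ⟨_, hmem, ?_⟩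
    obtain ⟨-, -, -, s0, -, s2, s3, -⟩ := wl_ok
    obtain ⟨c0, c2, c3⟩ := dvec_char_one θ su
    rw [show Pt θ 0 a 0 0 0 0 = Xr 18 a * (Xr 13 (θ a) * Xr 12 (θ (θ a))) by
      simp [Pt, P, xg_zero hC]]
    rw [show ∀ g x y z : GL chevD4.Idx K, g * (x * (y * z)) * g⁻¹ =
      g * x * g⁻¹ * (g * y * g⁻¹ * (g * z * g⁻¹)) from fun g x y z => by group,
      tor_conj_x hC _ _ _ (lt24 (by decide)), tor_conj_x hC _ _ _ (lt24 (by decide)),
      tor_conj_x hC _ _ _ (lt24 (by decide)), ← s0, ← s2, ← s3, c0, c2, c3]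
    simp [hsu, ← map_pow, ← map_mul, hs, ha]
  exact ⟨h1, h1.of_cj (short_moves X θ a).1.symm,
    h1.of_cj ((short_moves X θ a).1.trans (short_moves X θ a).2).symm⟩

/-- The trace to the fixed field. -/
abbrev tr (θ : K →+* K) (x : K) : K := x + θ x + θ (θ x)

include hθ in
theorem tr_div {c e : K} (hc : c ≠ 0) (he : θ e = e) : tr θ (e / c * c) = e := by
  rw [div_mul_cancel₀ e hc]
  simp only [tr, he, _root_.CharTwo.add_self_eq_zero, zero_add]

include hθ in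
theorem solve_tr {c d : K} (hc : c ≠ 0) (h : tr θ (c * d) = 0) : ∃ s : K,
    θ s * θ (θ c) + θ (θ s) * θ c = d := by
  have h3 := θ3 θ hK hθ
  have hn1 : θ c ≠ 0 := (map_ne_zero θ).2 hc
  have hn2 : θ (θ c) ≠ 0 := (map_ne_zero θ).2 hn1
  obtain ⟨w, hw⟩ : ∃ w, w = d / (θ c * θ (θ c)) := ⟨_, rfl⟩
  have hwd : d = θ c * θ (θ c) * w := by rw [hw, mul_div_cancel₀ _ (mul_ne_zero hn1 hn2)]
  have hw0 : tr θ w = 0 := by
    have e : tr θ (c * d) = c * θ c * θ (θ c) * tr θ w := by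
      rw [hwd]; simp only [tr, map_mul, h3]; ring
    rw [e] at h
    exact (mul_eq_zero.1 h).resolve_left (mul_ne_zero (mul_ne_zero hc hn1) hn2)
  refine ⟨c * w, ?_⟩
  have hw' : θ w + θ (θ w) = w := by
    linear_combination hw0 - w * (_root_.CharTwo.two_eq_zero (R := K))
  simp only [hwd, map_mul]
  linear_combination θ c * θ (θ c) * hw'

include hθ in
theorem ker_L {a c : K} (ha : a ≠ 0) (h : θ a * θ (θ c) + θ (θ a) * θ c = 0) :
    ∃ r : K, θ r = r ∧ c = r * a := by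
  have h3 := θ3 θ hK hθ
  refine ⟨c / a, ?_, (div_mul_cancel₀ c ha).symm⟩
  have hn1 : θ a ≠ 0 := (map_ne_zero θ).2 ha
  have hn2 : θ (θ a) ≠ 0 := (map_ne_zero θ).2 hn1
  have e := congrArg (fun x => θ (θ x)) h
  simp only [map_add, map_mul, map_zero, h3] at e
  rw [map_div₀, div_eq_div_iff hn1 ha]
  linear_combination e - c * θ a * (_root_.CharTwo.two_eq_zero (R := K))

include hθ in
/-- The reduction of an element without first coordinates. -/
theorem std_Z {c d e f : K} (he : θ e = e) (hf : θ f = f) (hcd : tr θ (c * d) = 0)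
    (hne : ¬ (c = 0 ∧ d = 0 ∧ e = 0 ∧ f = 0)) : Std q (Pt θ 0 0 c d e f) := by
  have h3 := θ3 θ hK hθ
  have t2 : (2 : K) = 0 := _root_.CharTwo.two_eq_zero
  have h00 : θ (0 : K) = 0 := map_zero θ
  by_cases hc : c = 0
  · subst hc
    by_cases hd : d = 0
    · subst hd
      by_cases he0 : e = 0
      · subst he0
        exact (long_std X θ hθ hf fun h => hne ⟨rfl, rfl, rfl, h⟩).2.2
      · refine Std.of_cj (gen_cj X θ hθ (s := f / e) (by rw [map_div₀, hf, he]) 0 _).2.2.2.1 ?_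
        convert (long_std X θ hθ he he0).2.1 using 1
        simp only [Pt, h00, conjBl_Z]
        rw [div_mul_cancel₀ f he0, _root_.CharTwo.add_self_eq_zero]
    · obtain ⟨s, hs⟩ : ∃ s, s = e / d := ⟨_, rfl⟩
      refine Std.of_cj (gen_cj X θ hθ h00 s _).1 ?_
      obtain ⟨τ, hτ⟩ : ∃ τ, τ = f / d := ⟨_, rfl⟩
      refine Std.of_cj (gen_cj X θ hθ h00 τ _).2.1 ?_
      convert (short_std X θ hθ hd).2.2 using 1
      simp only [Pt, h00, conjA_Z, mul_zero, zero_mul, add_zero, conjB_Z]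
      have e1 : tr θ (s * d) = e := hs ▸ tr_div X θ hθ hd he
      have e2 : tr θ (τ * d) = f := hτ ▸ tr_div X θ hθ hd hf
      simp only [tr, map_mul] at e1 e2
      congr 1
      · linear_combination e1 + e * t2
      · linear_combination e2 + f * t2
  · obtain ⟨s, hs⟩ := solve_tr X θ hθ hc hcd
    refine Std.of_cj (gen_cj X θ hθ h00 s _).1 ?_
    have hd2 := congrArg θ hs
    have hd3 := congrArg (fun x => θ (θ x)) hs
    simp only [map_add, map_mul, h3] at hd2 hd3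
    obtain ⟨e', he'⟩ : ∃ e', e' = e + s * d + θ s * θ d + θ (θ s) * θ (θ d) + s * θ s * θ (θ c) +
      s * θ (θ s) * θ c + θ s * θ (θ s) * c := ⟨_, rfl⟩
    obtain ⟨f', hf'⟩ : ∃ f', f' = f + s * θ c * θ (θ c) + θ s * c * θ (θ c) + θ (θ s) * c * θ c :=
      ⟨_, rfl⟩
    have hef : θ e' = e' := by rw [he']; simp only [map_add, map_mul, he, h3]; ring
    have hff : θ f' = f' := by rw [hf']; simp only [map_add, map_mul, hf, h3]; ring
    have step1 : Pt θ 0 s 0 0 0 0 * Pt θ 0 0 c d e f * Pt θ 0 s 0 0 0 0 = Pt θ 0 0 c 0 e' f' := by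
      simp only [Pt, h00, conjA_Z]
      congr 1
      · linear_combination hs + d * t2
      · linear_combination hd2 + θ d * t2
      · linear_combination hd3 + θ (θ d) * t2
      · linear_combination -he'
      · linear_combination -hf'
    rw [step1]
    have hN : c * θ c * θ (θ c) ≠ 0 := mul_ne_zero (mul_ne_zero hc ((map_ne_zero θ).2 hc))
      ((map_ne_zero θ).2 ((map_ne_zero θ).2 hc))
    have hNf : θ (c * θ c * θ (θ c)) = c * θ c * θ (θ c) := by simp only [map_mul, h3]; ring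
    obtain ⟨r, hr⟩ := exists_sqrt (e' / (c * θ c * θ (θ c)))
    have hrf : θ r = r := sqrt_fixed θ (by rw [map_div₀, hef, hNf]) hr
    refine Std.of_cj (gen_cj X θ hθ h00 (r * c) _).1 ?_
    obtain ⟨f'', hf''⟩ : ∃ f'', f'' = f' + r * (c * θ c * θ (θ c)) := ⟨_, rfl⟩
    have hfff : θ f'' = f'' := by rw [hf'']; simp only [map_add, map_mul, hff, hrf, h3]; ring
    have hr' : r ^ 2 * (c * θ c * θ (θ c)) = e' := by rw [hr, div_mul_cancel₀ _ hN]
    have step2 : Pt θ 0 (r * c) 0 0 0 0 * Pt θ 0 0 c 0 e' f' * Pt θ 0 (r * c) 0 0 0 0 =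
        Pt θ 0 0 c 0 0 f'' := by
      simp only [Pt, h00, conjA_Z, map_mul, hrf]
      congr 1
      · linear_combination r * θ c * θ (θ c) * t2
      · linear_combination r * c * θ (θ c) * t2
      · linear_combination r * c * θ c * t2
      · linear_combination hr' + (r ^ 2 * (c * θ c * θ (θ c)) + e') * t2
      · linear_combination -hf'' + r * c * θ c * θ (θ c) * t2
    rw [step2]
    obtain ⟨σ, hσ⟩ : ∃ σ, σ = f'' / c := ⟨_, rfl⟩
    refine Std.of_cj (gen_cj X θ hθ h00 σ _).2.2.1 ?_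
    convert (short_std X θ hθ hc).2.1 using 1
    have e1 : tr θ (σ * c) = f'' := hσ ▸ tr_div X θ hθ hc hfff
    simp only [tr, map_mul] at e1
    simp only [Pt, h00, conjC_Z]
    congr 1
    linear_combination e1 + f'' * t2

include hθ in
theorem std_of_sq {b a c d e f : K} (hb : θ b = b) (he : θ e = e) (hf : θ f = f)
    (hne : Pt θ b a c d e f ≠ 1) (h2 : Pt θ b a c d e f * Pt θ b a c d e f = 1) :
    Std q (Pt θ b a c d e f) := by
  have h3 := θ3 θ hK hθ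
  have t2 : (2 : K) = 0 := _root_.CharTwo.two_eq_zero
  have h00 : θ (0 : K) = 0 := map_zero θ
  simp only [Pt, sq_full, ← P_zero] at h2
  obtain ⟨-, -, -, -, hab, -, -, hd0, -, -, hee, hff⟩ := P_inj h2
  by_cases ha : a = 0
  · subst ha
    simp only [h00, mul_zero, zero_mul, add_zero, zero_add] at hff
    by_cases hb0 : b = 0
    · subst hb0
      refine std_Z X θ hθ he hf ?_ fun h => hne ?_
      · simp only [tr, map_mul]; linear_combination hff
      · obtain ⟨rfl, rfl, rfl, rfl⟩ := h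
        simp only [Pt, h00]; exact P_zero
    obtain ⟨s, hs⟩ : ∃ s, s = c / b := ⟨_, rfl⟩
    have hsb : s * b = c := by rw [hs, div_mul_cancel₀ c hb0]
    have hsb2 : θ s * b = θ c := by rw [← hsb, map_mul, hb]
    have hsb3 : θ (θ s) * b = θ (θ c) := by rw [← hsb, map_mul, map_mul, hb, hb]
    refine Std.of_cj (gen_cj X θ hθ h00 s _).1 ?_
    obtain ⟨d', hd'⟩ : ∃ d', d' = d + θ s * θ (θ c) + θ (θ s) * θ c + θ s * θ (θ s) * b := ⟨_, rfl⟩
    obtain ⟨f', hf'⟩ : ∃ f', f' = f + s * θ c * θ (θ c) + θ s * c * θ (θ c) + θ (θ s) * c * θ c +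
      s * θ s * b * θ (θ c) + s * θ (θ s) * b * θ c + θ s * θ (θ s) * b * c +
      s * θ s * θ (θ s) * b ^ 2 := ⟨_, rfl⟩
    have hff' : θ f' = f' := by rw [hf']; simp only [map_add, map_mul, map_pow, hb, hf, h3]; ring
    have step : Pt θ 0 s 0 0 0 0 * Pt θ b 0 c d e f * Pt θ 0 s 0 0 0 0 = Pt θ b 0 0 d' 0 f' := by
      simp only [Pt, h00, conjA_BlZ]
      congr 1
      · linear_combination hsb + c * t2
      · linear_combination hsb2 + θ c * t2
      · linear_combination hsb3 + θ (θ c) * t2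
      · linear_combination -hd'
      · rw [hd']; simp only [map_add, map_mul, hb, h3]; try ring
      · rw [hd']; simp only [map_add, map_mul, hb, h3]; try ring
      · refine mul_left_cancel₀ hb0 ?_
        rw [← hsb] at hff ⊢
        simp only [map_mul, hb] at hff ⊢
        linear_combination hff + (2 * (s * θ s * θ (θ s) * b ^ 2)) * t2
      · linear_combination -hf'
    rw [step]
    refine Std.of_cj (gen_cj X θ hθ (s := f' / b) (by rw [map_div₀, hff', hb]) 0 _).2.2.2.2 ?_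
    simp only [Pt, h00, conjD_BlZ, div_mul_cancel₀ f' hb0, _root_.CharTwo.add_self_eq_zero]
    by_cases hd : d' = 0
    · subst hd
      simp only [h00]
      convert (long_std X θ hθ hb hb0).1 using 1
      simp only [Pt, h00]
    · obtain ⟨m1, m2⟩ := monos X
      refine Std.of_cj (y := Pt θ 0 0 d' 0 b 0) ⟨nL hC K [3, 2, 0], m2, ?_⟩
        (std_Z X θ hθ hb h00 (by simp [tr]) fun h => hd h.1)
      obtain ⟨-, w2, -⟩ := wl_ok
      have hw : ∀ p ∈ [(17, 19), (20, 16), (21, 15)], wL chevD4 [3, 2, 0] p.1 = p.2 := by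
        decide +kernel
      have el : P b 0 0 0 0 0 0 d' (θ d') (θ (θ d')) 0 0 =
          Xr 14 b * (Xr 17 d' * (Xr 20 (θ d') * Xr 21 (θ (θ d')))) := by simp [P, xg_zero hC]
      have er : Pt θ 0 0 d' 0 b 0 =
          Xr 22 b * (Xr 19 d' * (Xr 16 (θ d') * Xr 15 (θ (θ d')))) := by
        simp [Pt, P, xg_zero hC, w22_19', w22_16', w22_15]
      rw [el, er, show ∀ g x y : GL chevD4.Idx K, g * (x * y) * g⁻¹ = g * x * g⁻¹ * (g * y * g⁻¹)
        from fun g x y => by group, CharTwo.nL_conj (by decide) (lt24 (by decide)),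
        w2 (14, 22) (by simp), conj_three (by decide) (lt24 (by decide)) (lt24 (by decide))
          (lt24 (by decide)) (hw (17, 19) (by simp)) (hw (20, 16) (by simp)) (hw (21, 15) (by simp))]
  · obtain rfl : b = 0 := (mul_eq_zero.1 hab).resolve_right ha
    simp only [mul_zero, zero_mul, add_zero] at hd0
    obtain ⟨r, hrf, rfl⟩ := ker_L X θ hθ ha hd0
    refine Std.of_cj (gen_cj X θ hθ (s := r) hrf 0 _).2.2.2.1 ?_
    obtain ⟨d', hd'⟩ : ∃ d', d' = d + r * θ a * θ (θ a) := ⟨_, rfl⟩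
    obtain ⟨e', he'⟩ : ∃ e', e' = e + r * a * θ a * θ (θ a) := ⟨_, rfl⟩
    obtain ⟨f', hf'⟩ : ∃ f', f' = f + r * e + r * a * θ a * θ (θ (r * a)) +
      r * a * θ (θ a) * θ (r * a) + r * θ a * θ (θ a) * (r * a) := ⟨_, rfl⟩
    have hef : θ e' = e' := by rw [he']; simp only [map_add, map_mul, he, hrf, h3]; ring
    have hff' : θ f' = f' := by
      rw [hf']; simp only [map_add, map_mul, hf, he, hrf, h3]; ring
    have step : Pt θ r 0 0 0 0 0 * Pt θ 0 a (r * a) d e f * Pt θ r 0 0 0 0 0 =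
        Pt θ 0 a 0 d' e' f' := by
      simp only [Pt, h00, conjBl_AZ, map_mul, hrf]
      congr 1
      · exact _root_.CharTwo.add_self_eq_zero _
      · exact _root_.CharTwo.add_self_eq_zero _
      · exact _root_.CharTwo.add_self_eq_zero _
      · linear_combination -hd'
      · rw [hd']; simp only [map_add, map_mul, hrf, h3]; try ring
      · rw [hd']; simp only [map_add, map_mul, hrf, h3]; try ring
      · linear_combination -he'
      · rw [hf']; simp only [map_mul, hrf]; try ring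
    rw [step]
    have htr : tr θ (a * d') = 0 := by
      simp only [tr, map_mul]
      rw [hd']
      simp only [map_add, map_mul, hrf, h3] at hee ⊢
      linear_combination hee
    obtain ⟨τ, hτ⟩ := solve_tr X θ hθ ha htr
    refine Std.of_cj (gen_cj X θ hθ h00 τ _).2.1 ?_
    have hd2 := congrArg θ hτ
    have hd3 := congrArg (fun x => θ (θ x)) hτ
    simp only [map_add, map_mul, h3] at hd2 hd3
    obtain ⟨e2, he2⟩ : ∃ e2, e2 = e' + τ * θ a * θ (θ a) + θ τ * a * θ (θ a) + θ (θ τ) * a * θ a :=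
      ⟨_, rfl⟩
    obtain ⟨f2, hf2⟩ : ∃ f2, f2 = f' + τ * d' + θ τ * θ d' + θ (θ τ) * θ (θ d') +
      τ * θ τ * θ (θ a) + τ * θ (θ τ) * θ a + θ τ * θ (θ τ) * a := ⟨_, rfl⟩
    have hef2 : θ e2 = e2 := by rw [he2]; simp only [map_add, map_mul, hef, h3]; ring
    have hff2 : θ f2 = f2 := by rw [hf2]; simp only [map_add, map_mul, hff', h3]; ring
    have step2 : Pt θ 0 0 τ 0 0 0 * Pt θ 0 a 0 d' e' f' * Pt θ 0 0 τ 0 0 0 =
        Pt θ 0 a 0 0 e2 f2 := by
      simp only [Pt, h00, conjB_AW]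
      congr 1
      · linear_combination hτ + d' * t2
      · linear_combination hd2 + θ d' * t2
      · linear_combination hd3 + θ (θ d') * t2
      · linear_combination -he2
      · linear_combination -hf2
    rw [step2]
    have hN : a * θ a * θ (θ a) ≠ 0 := mul_ne_zero (mul_ne_zero ha ((map_ne_zero θ).2 ha))
      ((map_ne_zero θ).2 ((map_ne_zero θ).2 ha))
    have hNf : θ (a * θ a * θ (θ a)) = a * θ a * θ (θ a) := by simp only [map_mul, h3]; ring
    obtain ⟨u, hu⟩ := exists_sqrt (f2 / (a * θ a * θ (θ a)))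
    have huf : θ u = u := sqrt_fixed θ (by rw [map_div₀, hff2, hNf]) hu
    have hu' : u ^ 2 * (a * θ a * θ (θ a)) = f2 := by rw [hu, div_mul_cancel₀ _ hN]
    refine Std.of_cj (gen_cj X θ hθ h00 (u * a) _).2.1 ?_
    obtain ⟨e3, he3⟩ : ∃ e3, e3 = e2 + u * (a * θ a * θ (θ a)) := ⟨_, rfl⟩
    have hef3 : θ e3 = e3 := by rw [he3]; simp only [map_add, map_mul, hef2, huf, h3]; ring
    have step3 : Pt θ 0 0 (u * a) 0 0 0 * Pt θ 0 a 0 0 e2 f2 * Pt θ 0 0 (u * a) 0 0 0 =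
        Pt θ 0 a 0 0 e3 0 := by
      simp only [Pt, h00, conjB_AW, map_mul, huf]
      congr 1
      · linear_combination u * θ a * θ (θ a) * t2
      · linear_combination u * a * θ (θ a) * t2
      · linear_combination u * a * θ a * t2
      · linear_combination -he3 + u * a * θ a * θ (θ a) * t2
      · linear_combination hu' + (u ^ 2 * (a * θ a * θ (θ a)) + f2) * t2
    rw [step3]
    obtain ⟨σ, hσ⟩ : ∃ σ, σ = e3 / a := ⟨_, rfl⟩
    refine Std.of_cj (gen_cj X θ hθ h00 σ _).2.2.1 ?_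
    convert (short_std X θ hθ ha).1 using 1
    have e1 : tr θ (σ * a) = e3 := hσ ▸ tr_div X θ hθ ha hef3
    simp only [tr, map_mul] at e1
    simp only [Pt, h00, conjC_AW]
    congr 1
    linear_combination e1 + e3 * t2

/-! ### The two root elements are not conjugate -/

omit X in
theorem U_conj {g : GL chevD4.Idx K} (hg : g ∈ chevD4.posUnipotent K) :
    (∀ d0 d2 d3 e f : K, ∃ e' f', g * P 0 0 0 0 0 0 0 d0 d2 d3 e f * g⁻¹ =
      P 0 0 0 0 0 0 0 d0 d2 d3 e' f') ∧ ∀ t : K, g * Xr 23 t * g⁻¹ = Xr 23 t := by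
  rw [U_eq_closure hC] at hg
  have gen : ∀ (r : ℕ) (t : K), r < chevD4.nroots → 0 < Data.D4.tab.phi r →
      (∀ d0 d2 d3 e f : K, ∃ e' f', Xr r t * P 0 0 0 0 0 0 0 d0 d2 d3 e f * Xr r t =
        P 0 0 0 0 0 0 0 d0 d2 d3 e' f') ∧ ∀ u : K, Xr r t * Xr 23 u * Xr r t = Xr 23 u := by
    intro r t hr hp
    have hr' : r ∈ [12, 13, 14, 15, 16, 17, 18, 19, 20, 21, 22, 23] :=
      wl_ok.2.2.2.2.2.2.2.2.1 ▸ (mem_posRoots hC).2 ⟨hr, hp⟩
    have hz : ∀ x : K, t + x + t = x := fun x => by rw [add_comm t x, add_assoc,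
      _root_.CharTwo.add_self_eq_zero, add_zero]
    have hz' : ∀ x : K, t + (x + t) = x := fun x => by rw [← add_assoc, hz]
    simp only [List.mem_cons, List.not_mem_nil, or_false] at hr'
    refine ⟨fun d0 d2 d3 e f => ?_, fun u => ?_⟩
    · rw [show Xr r t * P 0 0 0 0 0 0 0 d0 d2 d3 e f * Xr r t =
        P 0 0 0 0 0 0 0 0 0 0 0 0 * Xr r t * P 0 0 0 0 0 0 0 d0 d2 d3 e f * Xr r t by
          rw [P_zero, one_mul], mul_P _ 0]
      rcases hr' with rfl | rfl | rfl | rfl | rfl | rfl | rfl | rfl | rfl | rfl | rfl | rfl <;>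
        simp only [P_mul14, P_mul18, P_mul13, P_mul12, P_mul19, P_mul16, P_mul15, P_mul17, P_mul20,
          P_mul21, P_mul22, P_mul23, mul_zero, zero_mul, add_zero, zero_add, hz, hz',
          _root_.CharTwo.add_self_eq_zero] <;>
        exact ⟨_, _, rfl⟩
    · rcases hr' with rfl | rfl | rfl | rfl | rfl | rfl | rfl | rfl | rfl | rfl | rfl | rfl <;>
        simp only [mul_assoc, w23_14', w23_18', w23_13', w23_12', w23_19', w23_16', w23_15',
          w23_17', w23_20', w23_21', w23_22', w23_14, w23_18, w23_13, w23_12, w23_19, w23_16,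
          w23_15, w23_17, w23_20, w23_21, w23_22, merge, merge',
          _root_.CharTwo.add_self_eq_zero, xg_zero hC, one_mul, hz]
  induction hg using Subgroup.closure_induction'' with
  | mem x hx =>
    obtain ⟨r, t, hr, hp, rfl⟩ := hx
    rw [CharTwo.xg_inv_self]; exact gen r t hr hp
  | inv_mem x hx =>
    obtain ⟨r, t, hr, hp, rfl⟩ := hx
    rw [inv_inv, CharTwo.xg_inv_self]; exact gen r t hr hp
  | one => exact ⟨fun _ _ _ e f => ⟨e, f, by simp⟩, fun t => by simp⟩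
  | mul x y _ _ hx hy =>
    refine ⟨fun d0 d2 d3 e f => ?_, fun t => ?_⟩
    · obtain ⟨e₁, f₁, h₁⟩ := hy.1 d0 d2 d3 e f
      obtain ⟨e₂, f₂, h₂⟩ := hx.1 d0 d2 d3 e₁ f₁
      exact ⟨e₂, f₂, by rw [← h₂, ← h₁]; group⟩
    · rw [show x * y * Xr 23 t * (x * y)⁻¹ = x * (y * Xr 23 t * y⁻¹) * x⁻¹ by group, hy.2, hx.2]

include hθ in
theorem not_cj : ¬ Cj q (Xr 14 1) (Xr 18 1 * (Xr 13 1 * Xr 12 1)) := by
  intro h
  have hE : Cj q (Xr 14 1) (Xr 23 1) := by
    have h' := (long_moves X θ (1 : K)).1.trans (long_moves X θ 1).2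
    simpa [Pt, P, xg_zero hC] using h'
  have hA : Cj q (Xr 18 1 * (Xr 13 1 * Xr 12 1)) (P 0 0 0 0 0 0 0 1 1 1 0 0) := by
    have h' := (short_moves X θ (1 : K)).1.trans (short_moves X θ 1).2
    simpa [Pt, P, xg_zero hC] using h'
  obtain ⟨g, hg, e⟩ := (hE.symm.trans (h.trans hA)).symm
  obtain ⟨b, hb, n, hn, u, hu, rfl⟩ := exists_form hC (Fx_le_group X.S (X.gen.le hg))
  obtain ⟨v, hv, k, hk, rfl⟩ := (mem_B_iff hC).1 hb
  obtain ⟨c, L, hL, rfl⟩ := (mem_N_iff hC).1 hn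
  obtain ⟨d, rfl⟩ := (mem_H_iff hC).1 hk
  obtain ⟨e', f', hconj⟩ := (U_conj (Uminus_le_U hC _ hu)).1 1 1 1 0 0
  have hrev : ∀ i ∈ L.reverse, i < chevD4.rank := fun i hi => hL i (List.mem_reverse.1 hi)
  obtain ⟨r, hr⟩ : ∃ r, r = wL chevD4 L.reverse 23 := ⟨_, rfl⟩
  have hrlt : r < chevD4.nroots := hr ▸ wL_lt hC hrev (lt24 (by decide))
  have hwr : wL chevD4 L r = 23 := hr ▸ wL_neg_simple hC hL (lt24 (by decide))
  obtain ⟨η, hη, hη'⟩ := NormalForm.conj_xg (F := K) hC hL (d * c) hrlt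
  have e1 : tor chevD4 (d * c) * nL hC K L * P 0 0 0 0 0 0 0 1 1 1 e' f' *
      (tor chevD4 (d * c) * nL hC K L)⁻¹ = Xr 23 1 := by
    have h23 : v⁻¹ * Xr 23 1 * v = Xr 23 1 := by
      have h' := (U_conj (inv_mem hv)).2 1
      rwa [inv_inv] at h'
    rw [← h23, ← e, ← hconj, ← tor_mul]
    group
  have e2 : P 0 0 0 0 0 0 0 1 1 1 e' f' = Xr r η⁻¹ := by
    have h' := hη' η⁻¹
    rw [hwr, mul_inv_cancel₀ hη, ← e1] at h'
    exact (mul_left_cancel (mul_right_cancel h')).symm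
  have hU := P_mem_U (0 : K) 0 0 0 0 0 0 1 1 1 e' f'
  rw [e2] at hU
  have hpos : 0 < Data.D4.tab.phi r := by
    by_contra hneg
    have hphi := hC.phi_ne_zero hrlt
    have h' := U_inf_V hC hU (xg_mem_V (F := K) hC hrlt (by omega) η⁻¹)
    rw [← xg_zero hC r] at h'
    exact inv_ne_zero hη (xg_injective hC hrlt h')
  have hr' : r ∈ [12, 13, 14, 15, 16, 17, 18, 19, 20, 21, 22, 23] :=
    wl_ok.2.2.2.2.2.2.2.2.1 ▸ (mem_posRoots hC).2 ⟨hrlt, hpos⟩
  simp only [List.mem_cons, List.not_mem_nil, or_false] at hr'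
  have hr17 : r = 17 ∨ r ≠ 17 := em _
  have hPr : Xr r η⁻¹ = prodX hC [12, 13, 14, 15, 16, 17, 18, 19, 20, 21, 22, 23]
      (fun s => if s = r then η⁻¹ else 0) := by
    rcases hr' with h | h | h | h | h | h | h | h | h | h | h | h <;> subst h <;>
      simp [prodX, xg_zero hC]
  rw [P_eq_prodX, hPr] at e2
  have h' := prodX_inj hC (L := [12, 13, 14, 15, 16, 17, 18, 19, 20, 21, 22, 23]) (by decide)
    (fun r hr => ⟨lt24 (by revert r; decide), wl_ok.2.2.2.2.2.2.2.2.2 r hr⟩) e2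
  have k17 := h' 17 (by simp)
  have k20 := h' 20 (by simp)
  simp [coord] at k17 k20
  rcases hr17 with h | h
  · subst h; simp at k20
  · simp [Ne.symm h] at k17

omit X θ in
/-- There are two classes of involutions. -/
theorem ncard_classes (q : ℕ) (hK : Fintype.card K = q ^ 3) :
    (ConjClasses.mk '' {g : ↥(twistedD4 K q) | orderOf g = 2}).ncard = 2 := by
  classical
  haveI : Fact (Nat.Prime 2) := ⟨Nat.prime_two⟩
  obtain ⟨k, -, hk⟩ := FiniteField.card K 2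
  have hdvd : q ∣ 2 ^ (k : ℕ) := by rw [← hk, hK]; exact dvd_pow_self q three_ne_zero
  obtain ⟨n, -, rfl⟩ := (Nat.dvd_prime_pow Nat.prime_two).1 hdvd
  have hn : 1 ≤ n := by
    rcases Nat.eq_zero_or_pos n with rfl | h
    · have h1 : 1 < Fintype.card K := Fintype.one_lt_card
      rw [hK] at h1; simp at h1
    · exact h
  have hq : IsPrimePow (2 ^ n) := ⟨2, n, Nat.prime_two.prime, hn, rfl⟩
  obtain ⟨X⟩ := exists_setup (K := K) hq hK
  obtain ⟨θ, hθ⟩ := E6.exists_powq (K := K) hq three_ne_zero hK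
  haveI : Finite (twistedD4 K (2 ^ n)) := Finite.of_injective _ Subtype.val_injective
  obtain ⟨g1, -, -, g4⟩ := mem_gens X θ hθ
  have mS : Xr 18 1 * (Xr 13 1 * Xr 12 1) ∈ twistedD4 K (2 ^ n) := by
    simpa [Pt, P, xg_zero hC] using g1 1
  have mL : Xr 14 1 ∈ twistedD4 K (2 ^ n) := by
    simpa [Pt, P, xg_zero hC] using (g4 1 (map_one θ)).1
  have hS2 : orderOf (⟨_, mS⟩ : twistedD4 K (2 ^ n)) = 2 := by
    refine orderOf_eq_prime (Subtype.ext ?_) fun h => ?_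
    · rw [SubmonoidClass.coe_pow, sq]
      show _ * _ = (1 : GL chevD4.Idx K)
      have h' := sq_full (K := K) 0 1 1 1 0 0 0 0 0 0 0 0
      simp only [mul_zero, zero_mul, add_zero, P_zero] at h'
      simpa [P, xg_zero hC] using h'
    · have h1 : P (0 : K) 1 1 1 0 0 0 0 0 0 0 0 = P 0 0 0 0 0 0 0 0 0 0 0 0 := by
        rw [P_zero, ← show (⟨_, mS⟩ : twistedD4 K (2 ^ n)).1 = 1 from congrArg Subtype.val h]
        simp [P, xg_zero hC]
      exact one_ne_zero (P_inj h1).2.1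
  have hL2 : orderOf (⟨_, mL⟩ : twistedD4 K (2 ^ n)) = 2 := by
    refine orderOf_eq_prime (Subtype.ext ?_) fun h => ?_
    · rw [SubmonoidClass.coe_pow, sq]; exact CharTwo.xg_sq (hC := hC) 14 1
    · exact one_ne_zero (xg_injective hC (lt24 (by decide))
        ((congrArg Subtype.val h).trans (xg_zero hC 14).symm))
  have hcl : ∀ g : twistedD4 K (2 ^ n), orderOf g = 2 →
      Std (2 ^ n) (g : GL chevD4.Idx K) := by
    intro g hg
    obtain ⟨P₀, hP⟩ : ∃ P : Sylow 2 (twistedD4 K (2 ^ n)),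
        (P : Subgroup _) = UK chevD4 (twistedD4 K (2 ^ n)) := by
      refine exists_sylow_UK 2 (n * 12)
        (((2 ^ n) ^ 2 - 1) * ((2 ^ n) ^ 6 - 1) * ((2 ^ n) ^ 8 + (2 ^ n) ^ 4 + 1))
        (by rw [card_U X hq, ← pow_mul]) (by rw [card_group X hq, ← pow_mul]; ring) ?_
      have hd : ∀ m, m ≠ 0 → 2 ∣ (2 ^ n) ^ m := fun m hm =>
        dvd_pow (dvd_pow_self 2 (by omega)) hm
      have hne : ∀ m, m ≠ 0 → ¬ 2 ∣ (2 ^ n) ^ m - 1 := fun m hm h => by
        have h1 : 1 ≤ (2 ^ n) ^ m := Nat.one_le_pow _ _ (by positivity)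
        have := hd m hm
        omega
      rw [Nat.prime_two.dvd_mul, Nat.prime_two.dvd_mul, not_or, not_or]
      refine ⟨⟨hne 2 two_ne_zero, hne 6 (by decide)⟩, fun h => ?_⟩
      have h8 := hd 8 (by decide)
      have h4 := hd 4 (by decide)
      omega
    have hp : IsPGroup 2 (Subgroup.zpowers g) :=
      IsPGroup.of_card (n := 1) (by rw [Nat.card_zpowers, hg, pow_one])
    obtain ⟨Q, hQ⟩ := hp.exists_le_sylow
    obtain ⟨x, rfl⟩ := MulAction.exists_smul_eq (twistedD4 K (2 ^ n)) P₀ Q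
    have h := hQ (Subgroup.mem_zpowers g)
    rw [Sylow.coe_subgroup_smul, hP] at h
    obtain ⟨y, hy, e⟩ := h
    have e' : (x : GL chevD4.Idx K) * y * (x : GL chevD4.Idx K)⁻¹ = g := congrArg Subtype.val e
    refine Std.of_cj (y := (y : GL chevD4.Idx K)) ⟨(x : GL chevD4.Idx K)⁻¹, inv_mem x.2, by rw [← e']; try simp [mul_assoc]⟩ ?_
    obtain ⟨b, a, c, d, ee, f, hb, he, hf, eu⟩ :=
      exists_Pt X θ hθ hq (Subgroup.mem_subgroupOf.1 hy) y.2
    have hy2 : orderOf y = 2 := by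
      exact ((orderOf_injective (MulAut.conj x).toMonoidHom (MulAut.conj x).injective y).symm.trans
        (congrArg orderOf e)).trans hg
    have hne : Pt θ b a c d ee f ≠ 1 := fun h1 => by
      have h5 : y = 1 := Subtype.ext (eu.trans h1)
      rw [h5, orderOf_one] at hy2
      omega
    have hsq : Pt θ b a c d ee f * Pt θ b a c d ee f = 1 := by
      have h6 := pow_orderOf_eq_one y
      rw [hy2, sq] at h6
      rw [← eu]
      exact congrArg Subtype.val h6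
    have hstd : Std (2 ^ n) (Pt θ b a c d ee f) := std_of_sq X θ hθ hb he hf hne hsq
    rw [eu]
    exact hstd
  have hcj : ∀ x y : twistedD4 K (2 ^ n),
      Cj (2 ^ n) (x : GL chevD4.Idx K) y ↔ ConjClasses.mk x = ConjClasses.mk y := fun x y => by
    rw [ConjClasses.mk_eq_mk_iff_isConj, isConj_iff]
    exact ⟨fun ⟨g, hg, e⟩ => ⟨⟨g, hg⟩, Subtype.ext e⟩,
      fun ⟨g, e⟩ => ⟨g, g.2, congrArg Subtype.val e⟩⟩
  have himg : ConjClasses.mk '' {g : ↥(twistedD4 K (2 ^ n)) | orderOf g = 2} =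
      {ConjClasses.mk ⟨_, mL⟩, ConjClasses.mk ⟨_, mS⟩} := by
    ext C
    constructor
    · rintro ⟨g, hg, rfl⟩
      rcases hcl g hg with h | h
      · exact Or.inl ((hcj g ⟨_, mL⟩).1 h)
      · exact Or.inr ((hcj g ⟨_, mS⟩).1 h)
    · rintro (rfl | rfl)
      exacts [⟨_, hL2, rfl⟩, ⟨_, hS2, rfl⟩]
  rw [himg, Set.ncard_pair]
  exact fun h => not_cj X θ hθ ((hcj ⟨_, mL⟩ ⟨_, mS⟩).2 h)

end Cfsg.Agent.Chevalley.Twist.D4.Invol
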