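import Cfsg.Agent.Lib.Chevalley.Twist.SimpleG2
import Cfsg.Agent.Lib.Chevalley.Twist.Coxeter
import Mathlib.GroupTheory.Sylow

/-!
The torus, the unipotent subgroup and the doubly transitive action of the twisted groups of type G2.
-/

set_option autoImplicit false

open scoped Matrix Pointwise

namespace Cfsg.Agent.Chevalley.Twist.G2

open Cfsg.Lie Cfsg.Agent.Chevalley Cfsg.Agent.Chevalley.Table Cfsg.Agent.Chevalley.Cert
  Cfsg.Agent.Chevalley.Group Cfsg.Agent.Chevalley.Unip Cfsg.Agent.Chevalley.NormalForm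
  Cfsg.Agent.Chevalley.Bruhat Cfsg.Agent.Chevalley.Weyl Cfsg.Agent.Chevalley.Borel
  Cfsg.Agent.Chevalley.WeylGroup

theorem ord_ok : wordOrdChk Data.G2.tab (J ++ J) 1 = true := by decide +kernel

theorem J_invol : ∀ i < chevG2.rank,
    wL chevG2 J.reverse (chevG2.simple i) = wL chevG2 J (chevG2.simple i) := by decide +kernel

variable {K : Type*} [Field K] [Fintype K] [CharP K 3] {m : ℕ}
  {hK : Fintype.card K = 3 ^ (2 * m + 1)} (X : Setup (K := K) hK)
include X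

/-- The quotient of the monomial group by the torus has two elements. -/
theorem coxeter : ∃ φ : ↥(chevG2.monomialSubgroup K ⊓ twistedG2 K (3 ^ m)) →* Multiplicative (ZMod 2),
    Function.Surjective φ ∧ φ.ker = (chevG2.diagonalSubgroup K ⊓ twistedG2 K (3 ^ m)).subgroupOf
      (chevG2.monomialSubgroup K ⊓ twistedG2 K (3 ^ m)) := by
  obtain ⟨M, hM⟩ : ∃ M : CoxeterMatrix (Fin 1), ∀ a b, M a b = 1 :=
    ⟨CoxeterMatrix.A 1, fun a b => by rw [Subsingleton.elim a b, CoxeterMatrix.diagonal]⟩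
  obtain ⟨φ, hφ, hker⟩ := exists_coxeter_hom X.gen (hne X) X.k_eq M fun a b => by
    have ha : (a : ℕ) = 0 := by omega
    have hb : (b : ℕ) = 0 := by omega
    rw [ha, hb, X.J_eq, hM]
    exact ord_ok
  obtain ⟨g, hg⟩ : ∃ g : Multiplicative (ZMod 2), g = Multiplicative.ofAdd (1 : ZMod 2) := ⟨_, rfl⟩
  have hgg : g * g = 1 := by rw [hg]; rfl
  have hlift : M.IsLiftable fun _ : Fin 1 => g := fun a b => by rw [hgg, one_pow]
  let cs := M.toCoxeterSystem
  let f : M.Group →* Multiplicative (ZMod 2) := cs.lift ⟨_, hlift⟩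
  have hf : ∀ a, f (cs.simple a) = g := fun a => cs.lift_apply_simple hlift a
  have hall : ∀ w : M.Group, w = 1 ∨ w = cs.simple 0 := by
    intro w
    induction w using cs.simple_induction_left with
    | one => exact Or.inl rfl
    | mul_simple_left w a ih =>
      rw [Subsingleton.elim a 0]
      rcases ih with rfl | rfl
      · exact Or.inr (mul_one _)
      · exact Or.inl (cs.simple_mul_simple_self 0)
  have hfi : Function.Injective f := (injective_iff_map_eq_one f).2 fun w hw => by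
    rcases hall w with rfl | rfl
    · rfl
    · rw [hf, hg] at hw
      exact absurd hw (by decide)
  have hfs : Function.Surjective f := fun d => by
    by_cases h : d = 1
    · exact ⟨1, by rw [map_one, h]⟩
    · refine ⟨cs.simple 0, ?_⟩
      rw [hf, hg]
      revert h
      revert d
      decide
  refine ⟨f.comp φ, hfs.comp hφ, ?_⟩
  rw [← hker]
  ext x
  simp [MonoidHom.mem_ker, map_eq_one_iff f hfi]

theorem isCyclic_H : IsCyclic ↥(chevG2.diagonalSubgroup K ⊓ twistedG2 K (3 ^ m)) := by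
  let f : Kˣ →* ↥(chevG2.diagonalSubgroup K ⊓ twistedG2 K (3 ^ m)) :=
    ((twistedG2 K (3 ^ m)).subtype.comp (torusHom X)).codRestrict _ fun x => (mem_torus X).2 ⟨x, rfl⟩
  refine isCyclic_of_surjective f ?_
  rintro ⟨g, hg⟩
  obtain ⟨x, rfl⟩ := (mem_torus X).1 hg
  exact ⟨x, rfl⟩

theorem orderOf_tor (x : Kˣ) : orderOf (tor chevG2 (tc m x)) = orderOf x := by
  have hi : Function.Injective ((twistedG2 K (3 ^ m)).subtype.comp (torusHom X)) :=
    fun a b h => torus_inj X h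
  exact orderOf_injective _ hi x

theorem wU_fixed_iff {x : Kˣ} (hx : x ^ 2 ≠ 1) {t u v : K}
    (h : tor chevG2 (tc m x) * wU (3 ^ m) t u v * (tor chevG2 (tc m x))⁻¹ = wU (3 ^ m) t u v) :
    t = 0 ∧ u = 0 ∧ v = 0 := by
  rw [conj_wU X (tor_tc_mem X x)] at h
  obtain ⟨h1, h2, h3⟩ := wU_inj X h
  have key : ∀ (c : Kˣ) (y : K), c ≠ 1 → (c : K) * y = y → y = 0 := fun c y hc e => by
    by_contra hy
    exact hc (Units.val_eq_one.1 ((mul_eq_right₀ hy).1 e))
  exact ⟨key _ _ (fun e => hx (tc_triv hK (Or.inl e))) h1,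
    key _ _ (fun e => hx (tc_triv hK (Or.inr (Or.inl e)))) h2,
    key _ _ (fun e => hx (tc_triv hK (Or.inr (Or.inr e)))) h3⟩

theorem odd_torus :
    2 * Nat.card {h : ↥(chevG2.diagonalSubgroup K ⊓ twistedG2 K (3 ^ m)) // Odd (orderOf h)} =
        3 ^ (2 * m + 1) - 1 ∧
      ∀ h ∈ (chevG2.diagonalSubgroup K ⊓ twistedG2 K (3 ^ m)), h ≠ 1 → Odd (orderOf h) →
        (chevG2.posUnipotent K ⊓ twistedG2 K (3 ^ m)) ⊓ Subgroup.centralizer {h} = ⊥ := by
  classical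
  obtain ⟨k, hk⟩ : ∃ k, 3 ^ (2 * m + 1) = 4 * k + 3 := by
    refine ⟨3 ^ (2 * m + 1) / 4, ?_⟩
    have : 3 ^ (2 * m + 1) % 4 = 3 := by
      rw [pow_succ, pow_mul, Nat.mul_mod, Nat.pow_mod]; norm_num
    omega
  have hcard : Nat.card Kˣ = 2 * (2 * k + 1) := by
    rw [Nat.card_units, Nat.card_eq_fintype_card, hK, hk]; omega
  have hodd : ∀ x : Kˣ, Odd (orderOf x) ↔ x ^ (2 * k + 1) = 1 := by
    intro x
    rw [← orderOf_dvd_iff_pow_eq_one]
    refine ⟨fun h => ?_, fun h => (show Odd (2 * k + 1) from ⟨k, rfl⟩).of_dvd_nat h⟩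
    have h1 : orderOf x ∣ 2 * (2 * k + 1) := hcard ▸ orderOf_dvd_natCard x
    exact (Nat.Coprime.dvd_mul_left (Nat.coprime_two_right.2 h)).1 h1
  constructor
  · let f : {x : Kˣ // x ^ (2 * k + 1) = 1} →
        {h : ↥(chevG2.diagonalSubgroup K ⊓ twistedG2 K (3 ^ m)) // Odd (orderOf h)} :=
      fun x => ⟨⟨tor chevG2 (tc m x.1), (mem_torus X).2 ⟨x.1, rfl⟩⟩, by
        rw [← Subgroup.orderOf_coe]
        show Odd (orderOf (tor chevG2 (tc m x.1)))
        rw [orderOf_tor X]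
        exact (hodd _).2 x.2⟩
    have hf : Function.Bijective f := by
      refine ⟨fun x y h => Subtype.ext (torus_inj X (congrArg (fun z => (z.1 : GL chevG2.Idx K)) h :)), ?_⟩
      rintro ⟨⟨g, hg⟩, ho⟩
      obtain ⟨x, rfl⟩ := (mem_torus X).1 hg
      rw [← Subgroup.orderOf_coe] at ho
      change Odd (orderOf (tor chevG2 (tc m x))) at ho
      rw [orderOf_tor X] at ho
      exact ⟨⟨x, (hodd x).1 ho⟩, rfl⟩
    have e : Nat.card {x : Kˣ // x ^ (2 * k + 1) = 1} = 2 * k + 1 := by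
      have h := IsCyclic.card_powMonoidHom_ker (G := Kˣ) (2 * k + 1)
      rw [hcard, Nat.gcd_eq_right (Dvd.intro_left 2 rfl)] at h
      exact h
    rw [← Nat.card_eq_of_bijective f hf, e, hk]
    omega
  · intro h hh h1 ho
    obtain ⟨x, rfl⟩ := (mem_torus X).1 hh
    rw [orderOf_tor X] at ho
    have hx2 : x ^ 2 ≠ 1 := fun e => by
      have h2 : orderOf x ∣ 2 := orderOf_dvd_of_pow_eq_one e
      rcases (Nat.dvd_prime Nat.prime_two).1 h2 with h3 | h3
      · refine h1 ?_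
        rw [orderOf_eq_one_iff.1 h3, ← coe_torusHom X, map_one, Subgroup.coe_one]
      · rw [h3] at ho; exact absurd ho (by decide)
    rw [eq_bot_iff]
    rintro g ⟨hgU, hgc⟩
    obtain ⟨t, u, v, rfl⟩ := (mem_U X).1 hgU
    have hc := Subgroup.mem_centralizer_iff.1 hgc _ rfl
    obtain ⟨rfl, rfl, rfl⟩ := wU_fixed_iff X hx2 (by rw [hc, mul_inv_cancel_right])
    exact Subgroup.mem_bot.2 (wU_zero X)

theorem wU_cube (t u v : K) :
    wU (3 ^ m) t u v ^ 3 = wU (3 ^ m) 0 0 (-((t ^ 3 ^ m) ^ 3 * t ^ 2)) := by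
  have h3 : (3 : K) = 0 := three
  rw [pow_succ, pow_succ, pow_one, wU_mul X, wU_mul X]
  obtain ⟨T, hT⟩ : ∃ T, T = (t ^ 3 ^ m) ^ 3 := ⟨_, rfl⟩
  rw [← hT]
  congr 1
  · linear_combination t * h3
  · linear_combination (u - T * t) * h3
  · linear_combination (v - t * u) * h3

theorem card_order_three :
    Nat.card {u : ↥(chevG2.posUnipotent K ⊓ twistedG2 K (3 ^ m)) // orderOf u = 3} =
      (3 ^ (2 * m + 1)) ^ 2 - 1 := by
  classical
  haveI : Fact (Nat.Prime 3) := ⟨Nat.prime_three⟩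
  let f : {p : K × K // p ≠ 0} → {u : ↥(chevG2.posUnipotent K ⊓ twistedG2 K (3 ^ m)) // orderOf u = 3} :=
    fun p => ⟨⟨wU (3 ^ m) 0 p.1.1 p.1.2, (mem_U X).2 ⟨0, _, _, rfl⟩⟩, by
      rw [← Subgroup.orderOf_coe]
      refine orderOf_eq_prime ?_ fun h => p.2 ?_
      · show wU (3 ^ m) 0 p.1.1 p.1.2 ^ 3 = 1
        rw [wU_cube X, zero_pow two_ne_zero, mul_zero, neg_zero, wU_zero X]
      · change wU (3 ^ m) 0 p.1.1 p.1.2 = 1 at h
        rw [← wU_zero X] at h
        obtain ⟨-, h2, h3⟩ := wU_inj X h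
        exact Prod.ext h2 h3⟩
  have hf : Function.Bijective f := by
    refine ⟨fun p q h => ?_, ?_⟩
    · obtain ⟨-, h2, h3⟩ := wU_inj X (congrArg (fun z => (z.1 : GL chevG2.Idx K)) h :)
      exact Subtype.ext (Prod.ext h2 h3)
    · rintro ⟨⟨g, hg⟩, ho⟩
      obtain ⟨t, u, v, rfl⟩ := (mem_U X).1 hg
      rw [← Subgroup.orderOf_coe] at ho
      change orderOf (wU (3 ^ m) t u v) = 3 at ho
      have h := pow_orderOf_eq_one (wU (3 ^ m) t u v)
      rw [ho, wU_cube X, ← wU_zero X] at h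
      have ht : t = 0 := by
        have h4 := (wU_inj X h).2.2
        by_contra hne
        exact mul_ne_zero (pow_ne_zero 3 (pow_ne_zero _ hne)) (pow_ne_zero 2 hne) (neg_eq_zero.1 h4)
      subst ht
      refine ⟨⟨(u, v), fun e => ?_⟩, rfl⟩
      obtain ⟨rfl, rfl⟩ := Prod.mk.inj e
      rw [wU_zero X, orderOf_one] at ho
      omega
  rw [← Nat.card_eq_of_bijective f hf]
  have e : Nat.card {p : K × K // p ≠ 0} = Nat.card (K × K) - 1 := by
    rw [Nat.card_eq_fintype_card, Nat.card_eq_fintype_card, Fintype.card_subtype_compl,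
      Fintype.card_subtype_eq]
  rw [e, Nat.card_prod, Nat.card_eq_fintype_card, hK, sq]

/-! ### The action on the cosets of the Borel subgroup -/

theorem hk0 : 0 < X.O.k := by rw [X.k_eq]; decide

/-- The element exchanging the two standard cosets. -/
noncomputable def nn : twistedG2 K (3 ^ m) := ⟨mel X.gen 0, mel_mem X.gen 0⟩

/-- The Borel subgroup of the twisted group. -/
abbrev bor (_X : Setup (K := K) hK) : Subgroup (twistedG2 K (3 ^ m)) :=
  (chevG2.borelSubgroup K ⊓ twistedG2 K (3 ^ m)).subgroupOf (twistedG2 K (3 ^ m))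

theorem mem_bor {g : twistedG2 K (3 ^ m)} : g ∈ bor X ↔ (g : GL chevG2.Idx K) ∈ chevG2.borelSubgroup K :=
  ⟨fun h => h.1, fun h => ⟨h, g.2⟩⟩

theorem nn_swap {u : GL chevG2.Idx K} (hu : u ∈ chevG2.posUnipotent K) :
    (nn X : GL chevG2.Idx K) * u * (nn X : GL chevG2.Idx K)⁻¹ ∈ chevG2.negUnipotent K ∧
      (nn X : GL chevG2.Idx K)⁻¹ * u * (nn X : GL chevG2.Idx K) ∈ chevG2.negUnipotent K := by
  have hJ : ∀ i ∈ J, i < chevG2.rank := by decide
  have key : ∀ c : ℕ → Kˣ, tor chevG2 c * nL hC K J * u * (tor chevG2 c * nL hC K J)⁻¹ ∈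
      chevG2.negUnipotent K := by
    intro c
    have hmap : (chevG2.posUnipotent K).map (MulAut.conj (tor chevG2 c * nL hC K J)).toMonoidHom ≤
        chevG2.negUnipotent K := by
      rw [U_eq_closure hC, MonoidHom.map_closure, Subgroup.closure_le]
      rintro _ ⟨_, ⟨r, t, hr, hp, rfl⟩, rfl⟩
      obtain ⟨η, -, e⟩ := conj_xg (F := K) hC hJ c hr
      show tor chevG2 c * nL hC K J * xg hC r t * (tor chevG2 c * nL hC K J)⁻¹ ∈ chevG2.negUnipotent K
      rw [e]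
      refine xg_mem_V hC (wL_lt hC hJ hr) (J_neg r ?_) _
      have hall : ∀ r < 12, 0 < Data.G2.tab.phi r → r ∈ [6, 7, 8, 9, 10, 11] := by decide +kernel
      exact hall r (roots_ok.2.2.2.2.1 ▸ hr) hp
    exact hmap ⟨u, hu, rfl⟩
  obtain ⟨c, hc⟩ := mel_eq X.gen (hk0 X)
  rw [X.J_eq] at hc
  have hcoe : (nn X : GL chevG2.Idx K) = tor chevG2 c * nL hC K J := hc
  refine ⟨by rw [hcoe]; exact key c, ?_⟩
  have hm : Mono hC ((nn X : GL chevG2.Idx K)⁻¹) J := by
    obtain ⟨-, c', e⟩ := Mono.nL_inv (hC := hC) (F := K) hJ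
    obtain ⟨d, hd⟩ := nL_conj_tor (F := K) hC (L := J.reverse) (by decide) c⁻¹
    refine Mono.congr (L := J.reverse) ⟨by decide, c' * d, ?_⟩ hJ J_invol
    rw [hcoe, mul_inv_rev, e, tor_inv, mul_assoc, hd, ← mul_assoc, tor_mul]
  obtain ⟨-, c', e⟩ := hm
  have h := key c'
  rw [← e, inv_inv] at h
  exact h

theorem bor_inf_conj {g : twistedG2 K (3 ^ m)} (hg : g ∈ bor X) (hg' : (nn X)⁻¹ * g * nn X ∈ bor X) :
    (g : GL chevG2.Idx K) ∈ chevG2.diagonalSubgroup K := by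
  obtain ⟨u, hu, h, hh, e⟩ := (mem_B_iff hC).1 ((mem_bor X).1 hg)
  have hN : (nn X : GL chevG2.Idx K) ∈ chevG2.monomialSubgroup K := mel_mem_N X.gen (hk0 X)
  have hconj := H_conj hC (inv_mem hN) hh
  rw [inv_inv] at hconj
  have h1 : ((nn X : GL chevG2.Idx K)⁻¹ * g * (nn X : GL chevG2.Idx K)) ∈
      chevG2.negUnipotent K ⊔ chevG2.diagonalSubgroup K := by
    rw [e, show (nn X : GL chevG2.Idx K)⁻¹ * (u * h) * (nn X : GL chevG2.Idx K) =
      (nn X : GL chevG2.Idx K)⁻¹ * u * (nn X : GL chevG2.Idx K) *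
        ((nn X : GL chevG2.Idx K)⁻¹ * h * (nn X : GL chevG2.Idx K)) by group]
    exact mul_mem (Subgroup.mem_sup_left (nn_swap X hu).2) (Subgroup.mem_sup_right hconj)
  have h3 : (nn X : GL chevG2.Idx K)⁻¹ * g * (nn X : GL chevG2.Idx K) ∈ chevG2.diagonalSubgroup K :=
    B_inf_VH (F := K) hC ▸ Subgroup.mem_inf.2 ⟨by simpa using (mem_bor X).1 hg', h1⟩
  simpa [mul_assoc] using H_conj hC hN h3

/-- The elements of the unipotent subgroup inside the group. -/
noncomputable def uu (p : K × K × K) : twistedG2 K (3 ^ m) :=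
  ⟨wU (3 ^ m) p.1 p.2.1 p.2.2, (X.cls_mem _ _ _).1⟩

theorem uu_mem_bor (p : K × K × K) : uu X p ∈ bor X :=
  (mem_bor X).2 (Subgroup.mem_sup_left ((mem_U X).2 ⟨_, _, _, rfl⟩).1)

theorem nn_not_bor (p : K × K × K) : uu X p * nn X ∉ bor X := by
  intro h
  have hn : nn X ∈ bor X := (Subgroup.mul_mem_cancel_left _ (uu_mem_bor X p)).1 h
  have h1 : (wU (3 ^ m) (0 : K) 1 0) ∈ chevG2.diagonalSubgroup K := by
    have := bor_inf_conj X (uu_mem_bor X (0, 1, 0))
      (mul_mem (mul_mem (inv_mem hn) (uu_mem_bor X (0, 1, 0))) hn)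
    exact this
  have h2 : wU (3 ^ m) (0 : K) 1 0 ∈ (⊥ : Subgroup (GL chevG2.Idx K)) :=
    U_inf_H (F := K) hC ▸ Subgroup.mem_inf.2 ⟨((mem_U X).2 ⟨0, 1, 0, rfl⟩).1, h1⟩
  rw [Subgroup.mem_bot, ← wU_zero X] at h2
  exact one_ne_zero (wU_inj X h2).2.1

theorem uu_coset_inj {p p' : K × K × K}
    (h : ((uu X p * nn X : twistedG2 K (3 ^ m)) : twistedG2 K (3 ^ m) ⧸ bor X) =
      ((uu X p' * nn X : twistedG2 K (3 ^ m)) : twistedG2 K (3 ^ m) ⧸ bor X)) : p = p' := by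
  rw [QuotientGroup.eq] at h
  have h1 : (nn X)⁻¹ * ((uu X p)⁻¹ * uu X p') * nn X ∈ bor X := by
    simpa [mul_assoc] using h
  have h2 := bor_inf_conj X (mul_mem (inv_mem (uu_mem_bor X p)) (uu_mem_bor X p')) h1
  have h3 : ((uu X p)⁻¹ * uu X p' : GL chevG2.Idx K) ∈ (⊥ : Subgroup (GL chevG2.Idx K)) :=
    U_inf_H (F := K) hC ▸ Subgroup.mem_inf.2
      ⟨mul_mem (inv_mem ((mem_U X).2 ⟨_, _, _, rfl⟩).1) ((mem_U X).2 ⟨_, _, _, rfl⟩).1, h2⟩
  rw [Subgroup.mem_bot, Subgroup.coe_inv, inv_mul_eq_one] at h3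
  obtain ⟨a, b, c⟩ := wU_inj X h3
  exact Prod.ext a (Prod.ext b c)

theorem coset_cases (x : twistedG2 K (3 ^ m) ⧸ bor X) :
    x = ((1 : twistedG2 K (3 ^ m)) : twistedG2 K (3 ^ m) ⧸ bor X) ∨
      ∃ p, x = ((uu X p * nn X : twistedG2 K (3 ^ m)) : twistedG2 K (3 ^ m) ⧸ bor X) := by
  classical
  haveI : Finite (GL chevG2.Idx K) := inferInstance
  let f : Option (K × K × K) → twistedG2 K (3 ^ m) ⧸ bor X := fun o =>
    ((o.elim 1 fun p => uu X p * nn X : twistedG2 K (3 ^ m)) : twistedG2 K (3 ^ m) ⧸ bor X)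
  have hinj : Function.Injective f := by
    rintro (_ | p) (_ | p') h
    · rfl
    · exact absurd (by simpa using (QuotientGroup.eq.1 h)) (nn_not_bor X p')
    · exact absurd (by simpa using (QuotientGroup.eq.1 h.symm)) (nn_not_bor X p)
    · exact congrArg some (uu_coset_inj X h)
  have hq0 : 0 < 3 ^ (2 * m + 1) - 1 := by
    have : 3 ≤ 3 ^ (2 * m + 1) := Nat.le_self_pow (by omega) 3
    omega
  have hcard : Nat.card (twistedG2 K (3 ^ m) ⧸ bor X) = (3 ^ (2 * m + 1)) ^ 3 + 1 := by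
    have h := Subgroup.card_eq_card_quotient_mul_card_subgroup (bor X)
    have hB : Nat.card (bor X) = (3 ^ (2 * m + 1)) ^ 3 * (3 ^ (2 * m + 1) - 1) := by
      rw [Nat.card_congr (Subgroup.subgroupOfEquivOfLe inf_le_right).toEquiv, card_B_K X.gen,
        card_U X, card_H X]
    rw [card_group X, hB, mul_comm _ ((3 ^ (2 * m + 1)) ^ 3 + 1)] at h
    exact (Nat.eq_of_mul_eq_mul_right (by positivity) h).symm
  have hsurj : Function.Surjective f := by
    refine (Nat.bijective_iff_injective_and_card f).2 ⟨hinj, ?_⟩ |>.2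
    rw [Finite.card_option, Nat.card_prod, Nat.card_prod, Nat.card_eq_fintype_card, hK, hcard]
    ring
  obtain ⟨o, rfl⟩ := hsurj x
  cases o with
  | none => exact Or.inl rfl
  | some p => exact Or.inr ⟨p, rfl⟩

theorem exists_move {x y : twistedG2 K (3 ^ m) ⧸ bor X} (hxy : x ≠ y) :
    ∃ g : twistedG2 K (3 ^ m),
      g • ((1 : twistedG2 K (3 ^ m)) : twistedG2 K (3 ^ m) ⧸ bor X) = x ∧
      g • ((nn X : twistedG2 K (3 ^ m)) : twistedG2 K (3 ^ m) ⧸ bor X) = y := by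
  obtain ⟨g, rfl⟩ := QuotientGroup.mk_surjective x
  rcases coset_cases X (g⁻¹ • y) with h | ⟨p, h⟩
  · refine absurd ?_ hxy
    rw [inv_smul_eq_iff, MulAction.Quotient.smul_coe, smul_eq_mul, mul_one] at h
    exact h.symm
  · refine ⟨g * uu X p, ?_, ?_⟩
    · rw [MulAction.Quotient.smul_coe, smul_eq_mul, mul_one, QuotientGroup.eq]
      simpa using inv_mem (uu_mem_bor X p)
    · rw [inv_smul_eq_iff] at h
      rw [h, MulAction.Quotient.smul_coe, MulAction.Quotient.smul_coe, smul_eq_mul, smul_eq_mul,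
        mul_assoc]

set_option maxHeartbeats 1000000 in
theorem stab_three {s : twistedG2 K (3 ^ m)} {p : K × K × K}
    (h1 : s • ((1 : twistedG2 K (3 ^ m)) : twistedG2 K (3 ^ m) ⧸ bor X) = (1 : twistedG2 K (3 ^ m)))
    (h2 : s • ((nn X : twistedG2 K (3 ^ m)) : twistedG2 K (3 ^ m) ⧸ bor X) = (nn X : twistedG2 K (3 ^ m)))
    (hp : p ≠ 0)
    (h3 : s • ((uu X p * nn X : twistedG2 K (3 ^ m)) : twistedG2 K (3 ^ m) ⧸ bor X) =
      (uu X p * nn X : twistedG2 K (3 ^ m))) :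
    ∃ x : Kˣ, x ^ 2 = 1 ∧ s = torusHom X x := by
  have hs : s ∈ bor X := by
    rw [MulAction.Quotient.smul_coe, smul_eq_mul, mul_one, QuotientGroup.eq, mul_one] at h1
    simpa using inv_mem h1
  have hH : (s : GL chevG2.Idx K) ∈ chevG2.diagonalSubgroup K := by
    refine bor_inf_conj X hs ?_
    rw [MulAction.Quotient.smul_coe, smul_eq_mul, QuotientGroup.eq] at h2
    simpa [mul_assoc] using inv_mem h2
  obtain ⟨x, hx⟩ := (mem_torus X).1 ⟨hH, s.2⟩
  have hsx : s = torusHom X x := Subtype.ext hx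
  refine ⟨x, ?_, hsx⟩
  by_contra hx2
  -- the third coset
  obtain ⟨a, b, c, ha, hb, hc⟩ : ∃ a b c : K, a = (torChar chevG2 (tc m x) 6 : K) * p.1 ∧
      b = (torChar chevG2 (tc m x) 10 : K) * p.2.1 ∧ c = (torChar chevG2 (tc m x) 11 : K) * p.2.2 :=
    ⟨_, _, _, rfl, rfl, rfl⟩
  have hconj : s * uu X p * s⁻¹ = uu X (a, b, c) := by
    refine Subtype.ext ?_
    rw [Subgroup.coe_mul, Subgroup.coe_mul, Subgroup.coe_inv, hx, ha, hb, hc]
    exact conj_wU X (tor_tc_mem X x) _ _ _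
  have hnb : (nn X)⁻¹ * s * nn X ∈ bor X := by
    rw [MulAction.Quotient.smul_coe, smul_eq_mul, QuotientGroup.eq] at h2
    simpa [mul_assoc] using inv_mem h2
  have h4 : ((uu X (a, b, c) * nn X : twistedG2 K (3 ^ m)) : twistedG2 K (3 ^ m) ⧸ bor X) =
      (uu X p * nn X : twistedG2 K (3 ^ m)) := by
    refine Eq.trans ?_ h3
    rw [MulAction.Quotient.smul_coe, smul_eq_mul, QuotientGroup.eq, ← hconj]
    convert hnb using 1
    group
  have h5 := uu_coset_inj X h4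
  refine hp ?_
  have e1 : a = p.1 := congrArg Prod.fst h5
  have e2 : b = p.2.1 := congrArg (fun q : K × K × K => q.2.1) h5
  have e3 : c = p.2.2 := congrArg (fun q : K × K × K => q.2.2) h5
  have e : wU (3 ^ m) ((torChar chevG2 (tc m x) 6 : K) * p.1) ((torChar chevG2 (tc m x) 10 : K) * p.2.1)
      ((torChar chevG2 (tc m x) 11 : K) * p.2.2) = wU (3 ^ m) p.1 p.2.1 p.2.2 := by
    rw [← ha, ← hb, ← hc, e1, e2, e3]
  rw [← conj_wU X (tor_tc_mem X x)] at e
  obtain ⟨z1, z2, z3⟩ := wU_fixed_iff X hx2 e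
  exact Prod.ext z1 (Prod.ext z2 z3)

theorem stab_card_le {x y z : twistedG2 K (3 ^ m) ⧸ bor X} (hxy : x ≠ y) (hxz : x ≠ z) (hyz : y ≠ z) :
    Nat.card ↥(MulAction.stabilizer (twistedG2 K (3 ^ m)) x ⊓ MulAction.stabilizer (twistedG2 K (3 ^ m)) y ⊓
      MulAction.stabilizer (twistedG2 K (3 ^ m)) z) ≤ 2 := by
  classical
  obtain ⟨g, rfl, rfl⟩ := exists_move X hxy
  rcases coset_cases X (g⁻¹ • z) with h | ⟨p, h⟩
  · exact absurd (inv_smul_eq_iff.1 h).symm hxz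
  rw [inv_smul_eq_iff] at h
  subst h
  have hp : p ≠ 0 := by
    rintro rfl
    refine hyz ?_
    rw [show uu X (0 : K × K × K) = 1 from Subtype.ext (wU_zero X), one_mul]
  have key : ∀ s ∈ MulAction.stabilizer (twistedG2 K (3 ^ m)) (g • ((1 : twistedG2 K (3 ^ m)) : twistedG2 K (3 ^ m) ⧸ bor X)) ⊓
      MulAction.stabilizer (twistedG2 K (3 ^ m)) (g • ((nn X : twistedG2 K (3 ^ m)) : twistedG2 K (3 ^ m) ⧸ bor X)) ⊓
      MulAction.stabilizer (twistedG2 K (3 ^ m))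
        (g • ((uu X p * nn X : twistedG2 K (3 ^ m)) : twistedG2 K (3 ^ m) ⧸ bor X)),
      ∃ x : Kˣ, x ^ 2 = 1 ∧ g⁻¹ * s * g = torusHom X x := by
    rintro s ⟨⟨s1, s2⟩, s3⟩
    have fix : ∀ z : twistedG2 K (3 ^ m) ⧸ bor X, s • g • z = g • z → (g⁻¹ * s * g) • z = z :=
      fun z hz => by rw [mul_smul, mul_smul, hz, inv_smul_smul]
    exact stab_three X (fix _ s1) (fix _ s2) hp (fix _ s3)
  refine le_trans (Nat.card_le_card_of_injective
    (fun s => (⟨(key s.1 s.2).choose, (key s.1 s.2).choose_spec.1⟩ : {x : Kˣ // x ^ 2 = 1})) ?_) ?_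
  · intro s t e
    have e1 := (key s.1 s.2).choose_spec.2
    have e2 := (key t.1 t.2).choose_spec.2
    rw [show (key s.1 s.2).choose = (key t.1 t.2).choose from congrArg Subtype.val e, ← e2] at e1
    exact Subtype.ext (mul_left_cancel (mul_right_cancel e1))
  · have h := IsCyclic.card_powMonoidHom_ker (G := Kˣ) 2
    exact le_of_eq_of_le h (Nat.le_of_dvd two_pos (Nat.gcd_dvd_right _ _))

theorem stab_card_eq : ∃ x y z : twistedG2 K (3 ^ m) ⧸ bor X, x ≠ y ∧ x ≠ z ∧ y ≠ z ∧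
    Nat.card ↥(MulAction.stabilizer (twistedG2 K (3 ^ m)) x ⊓ MulAction.stabilizer (twistedG2 K (3 ^ m)) y ⊓
      MulAction.stabilizer (twistedG2 K (3 ^ m)) z) = 2 := by
  classical
  obtain ⟨p, hp⟩ : ∃ p : K × K × K, p = (0, 1, 0) := ⟨_, rfl⟩
  have h0 : uu X (0 : K × K × K) = 1 := Subtype.ext (wU_zero X)
  obtain ⟨P, hP⟩ : ∃ P : twistedG2 K (3 ^ m) ⧸ bor X, P = ((1 : twistedG2 K (3 ^ m)) : _ ⧸ bor X) := ⟨_, rfl⟩
  obtain ⟨Q, hQ⟩ : ∃ Q : twistedG2 K (3 ^ m) ⧸ bor X, Q = ((nn X : twistedG2 K (3 ^ m)) : _ ⧸ bor X) := ⟨_, rfl⟩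
  obtain ⟨R, hR⟩ : ∃ R : twistedG2 K (3 ^ m) ⧸ bor X,
      R = ((uu X p * nn X : twistedG2 K (3 ^ m)) : _ ⧸ bor X) := ⟨_, rfl⟩
  have hPQ : P ≠ Q := fun e => nn_not_bor X 0 (by
    rw [h0, one_mul]; simpa [hP, hQ, QuotientGroup.eq] using e)
  have hPR : P ≠ R := fun e => nn_not_bor X p (by simpa [hP, hR, QuotientGroup.eq] using e)
  have hQR : Q ≠ R := fun e => by
    have := uu_coset_inj X (p := 0) (p' := p) (by rw [h0, one_mul, ← hQ, e, hR])
    rw [hp] at this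
    simp [Prod.ext_iff] at this
  refine ⟨P, Q, R, hPQ, hPR, hQR, le_antisymm (stab_card_le X hPQ hPR hQR) ?_⟩
  -- the involution of the torus
  have hm1 : (-1 : Kˣ) ≠ 1 := fun e => by
    have e1 : (-1 : K) = 1 := by simpa using congrArg Units.val e
    exact one_ne_zero (show (1 : K) = 0 by linear_combination e1 + three (K := K))
  have hodd : Odd (3 ^ m) := (show Odd 3 by decide).pow
  have hfix : (torusHom X (-1)) • P = P ∧ (torusHom X (-1)) • Q = Q ∧ (torusHom X (-1)) • R = R := by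
    have hb : torusHom X (-1) ∈ bor X := (mem_bor X).2 (H_le_B (tor_mem_H hC _))
    have hnb : (nn X)⁻¹ * torusHom X (-1) * nn X ∈ bor X := by
      refine (mem_bor X).2 (H_le_B ?_)
      have := H_conj hC (inv_mem (mel_mem_N X.gen (hk0 X))) (tor_mem_H hC (tc m (-1 : Kˣ)))
      rw [inv_inv] at this
      exact this
    have hc : torusHom X (-1) * uu X p * (torusHom X (-1))⁻¹ = uu X p := by
      refine Subtype.ext ?_
      rw [Subgroup.coe_mul, Subgroup.coe_mul, Subgroup.coe_inv, coe_torusHom, hp]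
      show _ * wU (3 ^ m) 0 1 0 * _ = wU (3 ^ m) 0 1 0
      rw [conj_wU X (tor_tc_mem X (-1)), mul_zero, mul_zero, (char_tc (-1 : Kˣ)).2.1, hodd.neg_one_pow]
      congr 1
      simp [pow_succ]
    refine ⟨?_, ?_, ?_⟩
    · rw [hP, MulAction.Quotient.smul_coe, smul_eq_mul, mul_one, QuotientGroup.eq, mul_one]
      exact inv_mem hb
    · rw [hQ, MulAction.Quotient.smul_coe, smul_eq_mul, QuotientGroup.eq]
      convert inv_mem hnb using 1
      group
    · rw [hR, MulAction.Quotient.smul_coe, smul_eq_mul, ← mul_assoc (torusHom X (-1)),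
        mul_inv_eq_iff_eq_mul.1 hc, QuotientGroup.eq]
      convert inv_mem hnb using 1
      group
  haveI : Nontrivial ↥(MulAction.stabilizer (twistedG2 K (3 ^ m)) P ⊓
      MulAction.stabilizer (twistedG2 K (3 ^ m)) Q ⊓ MulAction.stabilizer (twistedG2 K (3 ^ m)) R) :=
    ⟨⟨⟨torusHom X (-1), ⟨hfix.1, hfix.2.1⟩, hfix.2.2⟩, 1, fun e => hm1 (torus_inj X (by
      have e' := congrArg (fun z => ((z : twistedG2 K (3 ^ m)) : GL chevG2.Idx K))
        (congrArg Subtype.val e)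
      refine Eq.trans e' ?_
      rw [← coe_torusHom X, map_one]
      rfl))⟩⟩
  exact Finite.one_lt_card

/-- Two different Sylow subgroups for the characteristic meet trivially. -/
theorem sylow_TI (P Q : Sylow 3 (twistedG2 K (3 ^ m))) (hPQ : P ≠ Q) :
    (P : Subgroup (twistedG2 K (3 ^ m))) ⊓ (Q : Subgroup (twistedG2 K (3 ^ m))) = ⊥ := by
  classical
  haveI : Fact (Nat.Prime 3) := ⟨Nat.prime_three⟩
  obtain ⟨U, hU⟩ : ∃ U : Subgroup (twistedG2 K (3 ^ m)),
      U = (chevG2.posUnipotent K ⊓ twistedG2 K (3 ^ m)).subgroupOf (twistedG2 K (3 ^ m)) := ⟨_, rfl⟩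
  have hUc : Nat.card U = 3 ^ ((2 * m + 1) * 3) := by
    rw [hU, Nat.card_congr (Subgroup.subgroupOfEquivOfLe inf_le_right).toEquiv, card_U X, ← pow_mul]
  have hdiv : ¬ 3 ∣ (3 ^ (2 * m + 1) - 1) * ((3 ^ (2 * m + 1)) ^ 3 + 1) := by
    have h1 : 1 ≤ 3 ^ (2 * m + 1) := Nat.one_le_pow _ _ (by norm_num)
    obtain ⟨n, hn⟩ : ∃ n, 3 ^ (2 * m + 1) = 3 * n := ⟨3 ^ (2 * m), by rw [pow_succ']⟩
    rw [Nat.prime_three.dvd_mul]
    rintro (⟨c, hc⟩ | ⟨c, hc⟩)
    · omega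
    · rw [hn, mul_pow] at hc; omega
  have hfact : (Nat.card (twistedG2 K (3 ^ m))).factorization 3 = (2 * m + 1) * 3 := by
    rw [card_group X, mul_assoc, Nat.factorization_mul (pow_ne_zero _ (pow_ne_zero _ (by norm_num)))
      (fun e => hdiv (by rw [e]; exact dvd_zero 3)), Finsupp.add_apply,
      Nat.factorization_eq_zero_of_not_dvd hdiv, add_zero, ← pow_mul,
      Nat.Prime.factorization_pow Nat.prime_three, Finsupp.single_eq_same]
  obtain ⟨P0, hP0⟩ : ∃ P0 : Sylow 3 (twistedG2 K (3 ^ m)),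
      (P0 : Subgroup (twistedG2 K (3 ^ m))) = U :=
    ⟨Sylow.ofCard U (by rw [hUc, hfact]), Sylow.coe_ofCard _ _⟩
  have hBnorm : ∀ b ∈ bor X, ∀ g ∈ U, b * g * b⁻¹ ∈ U := by
    intro b hb g hg
    rw [hU, Subgroup.mem_subgroupOf] at hg ⊢
    refine ⟨?_, (b * g * b⁻¹).2⟩
    obtain ⟨u, hu, h, hh, e⟩ := (mem_B_iff hC).1 ((mem_bor X).1 hb)
    rw [Subgroup.coe_mul, Subgroup.coe_mul, Subgroup.coe_inv, e, mul_inv_rev,
      show u * h * (g : GL chevG2.Idx K) * (h⁻¹ * u⁻¹) = u * (h * g * h⁻¹) * u⁻¹ by group]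
    exact (chevG2.posUnipotent K).mul_mem ((chevG2.posUnipotent K).mul_mem hu
      ((Subgroup.mem_normalizer_iff.1 (H_normalizes_U hC hh) _).1 hg.1))
      ((chevG2.posUnipotent K).inv_mem hu)
  -- intersections with the standard Sylow subgroup
  have hmain : ∀ g : twistedG2 K (3 ^ m), g ∉ bor X → ∀ x ∈ U, g⁻¹ * x * g ∈ U → x = 1 := by
    intro g hg x hx hx'
    obtain ⟨p, b, hb, rfl⟩ : ∃ p, ∃ b ∈ bor X, g = uu X p * nn X * b := by
      rcases coset_cases X (g : twistedG2 K (3 ^ m) ⧸ bor X) with h | ⟨p, h⟩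
      · exact absurd (by simpa using QuotientGroup.eq.1 h.symm) hg
      · exact ⟨p, (uu X p * nn X)⁻¹ * g, QuotientGroup.eq.1 h.symm, by group⟩
    have h1 := hBnorm b hb _ hx'
    have h2 : (nn X)⁻¹ * ((uu X p)⁻¹ * x * uu X p) * nn X ∈ U := by
      convert h1 using 1
      group
    have h3 : (uu X p)⁻¹ * x * uu X p ∈ U := by
      simpa using hBnorm _ (inv_mem (uu_mem_bor X p)) x hx
    have h6 : (nn X)⁻¹ * ((uu X p)⁻¹ * x * uu X p) * nn X = 1 := by
      rw [hU, Subgroup.mem_subgroupOf] at h2 h3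
      refine Subtype.ext (U_inf_V hC h2.1 ?_)
      rw [Subgroup.coe_mul, Subgroup.coe_mul, Subgroup.coe_inv]
      exact (nn_swap X h3.1).2
    have h7 : (uu X p)⁻¹ * x * uu X p = 1 := by
      calc (uu X p)⁻¹ * x * uu X p
          = nn X * ((nn X)⁻¹ * ((uu X p)⁻¹ * x * uu X p) * nn X) * (nn X)⁻¹ := by group
        _ = 1 := by rw [h6]; group
    calc x = uu X p * ((uu X p)⁻¹ * x * uu X p) * (uu X p)⁻¹ := by group
      _ = 1 := by rw [h7]; group
  obtain ⟨g, rfl⟩ := MulAction.exists_smul_eq (twistedG2 K (3 ^ m)) P0 P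
  obtain ⟨g', rfl⟩ := MulAction.exists_smul_eq (twistedG2 K (3 ^ m)) P0 Q
  have hmemP : ∀ k x : twistedG2 K (3 ^ m),
      x ∈ ((k • P0 : Sylow 3 (twistedG2 K (3 ^ m))) : Subgroup (twistedG2 K (3 ^ m))) ↔ k⁻¹ * x * k ∈ U := by
    intro k x
    rw [Sylow.coe_subgroup_smul, Subgroup.mem_pointwise_smul_iff_inv_smul_mem, hP0]
    simp
  rw [eq_bot_iff]
  rintro x ⟨hx1, hx2⟩
  have hx1' := (hmemP g x).1 hx1
  have hx2' := (hmemP g' x).1 hx2
  rw [Subgroup.mem_bot]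
  have hgg : g⁻¹ * g' ∉ bor X := by
    intro hb
    refine hPQ (Sylow.ext (Subgroup.ext fun y => ?_))
    rw [hmemP, hmemP]
    constructor
    · intro h
      have := hBnorm _ (inv_mem hb) _ h
      convert this using 1
      group
    · intro h
      have := hBnorm _ hb _ h
      convert this using 1
      group
  have := hmain _ hgg _ hx1' (by convert hx2' using 1; group)
  calc x = g * (g⁻¹ * x * g) * g⁻¹ := by group
    _ = 1 := by rw [this]; group

end Cfsg.Agent.Chevalley.Twist.G2
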