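import Cfsg.Agent.Lib.Chevalley.Twist.OrthGen
import Cfsg.Agent.Lib.Chevalley.Perfect
import Cfsg.Agent.Lib.Chevalley.Count
import Cfsg.Agent.Lib.BN.Simple

/-!
The core of the Borel subgroup, irreducibility and simplicity for fixed groups.
-/

set_option autoImplicit false

open scoped Matrix commutatorElement

namespace Cfsg.Agent.Chevalley.Twist

open Cfsg.Lie Cfsg.Agent.Chevalley.Table Cfsg.Agent.Chevalley.Check Cfsg.Agent.Chevalley.Cert
  Cfsg.Agent.Chevalley.Group Cfsg.Agent.Chevalley.Weight Cfsg.Agent.Chevalley.Unip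
  Cfsg.Agent.Chevalley.Borel Cfsg.Agent.Chevalley.Weyl Cfsg.Agent.Chevalley.Bruhat
  Cfsg.Agent.Chevalley.NormalForm

variable {D : ChevalleyDatum} {F : Type*} [Field F] {T : Tab} {hC : Certified D T}
variable {S : Tw hC F} {O : Orbits S} {K : Subgroup (GL D.Idx F)}

/-- Only trivial torus characters commute with the fixed unipotent elements. -/
def Sep (S : Tw hC F) : Prop :=
  ∀ c : ℕ → Fˣ, (∀ x ∈ D.posUnipotent F, x ∈ Fx S → tor D c * x * (tor D c)⁻¹ = x) →
    ∀ i < D.rank, torChar D c (D.simple i) = 1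

theorem tor_conj_prod {α : Type*} (c : ℕ → Fˣ) (r : α → ℕ) (f : α → F) :
    ∀ l : List α, (∀ i ∈ l, r i < D.nroots) →
      tor D c * (l.map fun i => xg hC (r i) (f i)).prod * (tor D c)⁻¹ =
        (l.map fun i => xg hC (r i) ((torChar D c (r i) : F) * f i)).prod := by
  intro l
  induction l with
  | nil => intro _; simp
  | cons i l ih =>
    intro hl
    simp only [List.map_cons, List.prod_cons]
    rw [← ih fun j hj => hl j (List.mem_cons_of_mem i hj),
      ← tor_conj_x hC c (r i) (f i) (hl i List.mem_cons_self)]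
    group

theorem tor_conj_opr {π : ℕ → ℕ} {J : List ℕ} (hO : Orth hC π J) (c : ℕ → Fˣ) (f : ℕ → F) :
    tor D c * opr hC D.simple J f * (tor D c)⁻¹ =
      opr hC D.simple J (fun i => (torChar D c (D.simple i) : F) * f i) :=
  tor_conj_prod c D.simple f J fun i hi => hC.simple_lt (hO.lt i hi)

theorem opr_mem_U {π : ℕ → ℕ} {J : List ℕ} (hO : Orth hC π J) (f : ℕ → F) :
    opr hC D.simple J f ∈ D.posUnipotent F :=
  list_prod_mem fun x hx => by
    obtain ⟨i, hi, rfl⟩ := List.mem_map.1 hx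
    exact xg_mem_U hC (hC.simple_lt (hO.lt i hi)) (hC.phi_simple (hO.lt i hi)) _

theorem sep_of_orth (O : Orbits S) {π : ℕ → ℕ} (hπ : S.π = π)
    (hO : ∀ a < O.k, Orth hC π (O.J a)) : Sep S := by
  intro c h i hi
  obtain ⟨a, ha, hia⟩ := O.cover i hi
  have h1 := h _ (opr_mem_U (hO a ha) fun _ => (1 : F))
    (opr_fixed (hO a ha) hπ (Or.inl rfl) fun j _ => (map_one _).symm)
  rw [tor_conj_opr (hO a ha)] at h1
  have h2 := opr_unique (hO a ha) h1 i hia
  rw [mul_one] at h2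
  exact Units.val_eq_one.1 h2

theorem tor_eq_one_of_simples {c : ℕ → Fˣ} (hC : Certified D T)
    (h : ∀ i < D.rank, torChar D c (D.simple i) = 1) : tor D c = 1 := by
  have hall : ∀ r < D.nroots, torChar D c r = 1 :=
    Root.simple_induction hC h fun r hr i hi ih => by
      rw [TorusCard.torChar_reflect hC c hi hr, ih, h i hi, one_zpow, one_mul]
  rw [tor, ← dg_one]
  exact dg_congr fun s hs => hall s hs

/-- A check that the orbit graph is connected. -/
noncomputable def connOrb (T : Tab) (Js : List (List ℕ)) : Bool :=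
  Eval.allR Js.length fun a => Nat.beq a 0 || anyR a fun b => anyR T.l fun i =>
    !Nat.beq (applyW T (Js.getD a []) (applyW T (Js.getD b []) (T.simple i)))
      (applyW T (Js.getD b []) (applyW T (Js.getD a []) (T.simple i)))

/-- The orbit graph is connected. -/
def Conn (O : Orbits S) : Prop :=
  ∀ a < O.k, a ≠ 0 → ∃ b < a, ∃ i < D.rank,
    wL D (O.J a) (wL D (O.J b) (D.simple i)) ≠ wL D (O.J b) (wL D (O.J a) (D.simple i))

theorem conn_of_chk (O : Orbits S) {Js : List (List ℕ)} (hk : O.k = Js.length)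
    (hJ : ∀ a, O.J a = Js.getD a []) (h : connOrb T Js = true) : Conn O := by
  intro a ha hne
  have h1 := Eval.of_allR h a (hk ▸ ha)
  rw [Bool.or_eq_true] at h1
  rcases h1 with h1 | h1
  · exact absurd (Nat.eq_of_beq_eq_true h1) hne
  obtain ⟨b, hb, h2⟩ := of_anyR h1
  obtain ⟨i, hi, h3⟩ := of_anyR h2
  rw [hC.l_eq] at hi
  have hla := O.J_lt a ha
  have hlb := O.J_lt b (lt_trans hb ha)
  have hs := hC.simple_lt hi
  rw [← hJ a, ← hJ b, hC.simple_eq hi, Bool.not_eq_true'] at h3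
  have hW : ∀ {L : List ℕ}, (∀ i ∈ L, i < D.rank) → ∀ {r}, r < D.nroots →
      applyW T L r = wL D L r := fun hL _ hr => StConj.actT_foldr hC hL hr
  rw [hW hlb hs, hW hla (wL_lt hC hlb hs), hW hla hs, hW hlb (wL_lt hC hla hs)] at h3
  exact ⟨b, hb, i, hi, Nat.ne_of_beq_eq_false h3⟩

variable (hK : GenData O K)
include hK

theorem mel_commute_of_H {a b : ℕ} (ha : a < O.k) (hb : b < O.k)
    (h : mel hK a * mel hK b * (mel hK a)⁻¹ * (mel hK b)⁻¹ ∈ D.diagonalSubgroup F) {r : ℕ}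
    (hr : r < D.nroots) : wL D (O.J a) (wL D (O.J b) r) = wL D (O.J b) (wL D (O.J a) r) := by
  obtain ⟨c, hc⟩ := mel_eq hK ha
  obtain ⟨d, hd⟩ := mel_eq hK hb
  have hJa := O.J_lt a ha
  have hJb := O.J_lt b hb
  obtain ⟨e, he⟩ := (mem_H_iff hC).1 h
  obtain ⟨d', hd'⟩ := nL_conj_tor (F := F) hC hJa d
  obtain ⟨c', hc'⟩ := nL_conj_tor (F := F) hC hJb c
  rw [← wL_append, ← wL_append]
  refine wL_congr hC (c := c * d') (c' := e * (d * c'))
    (fun i hi => (List.mem_append.1 hi).elim (hJa i) (hJb i))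
    (fun i hi => (List.mem_append.1 hi).elim (hJb i) (hJa i)) ?_ hr
  rw [nL_append, nL_append, ← tor_mul, ← tor_mul, ← tor_mul, ← he, hc, hd]
  calc tor D c * tor D d' * (nL hC F (O.J a) * nL hC F (O.J b))
      = tor D c * (nL hC F (O.J a) * tor D d) * nL hC F (O.J b) := by rw [hd']; group
    _ = _ := by
      rw [mul_assoc _ (tor D d * tor D c'), show tor D d * tor D c' * (nL hC F (O.J b) * nL hC F (O.J a)) =
        tor D d * (tor D c' * nL hC F (O.J b)) * nL hC F (O.J a) by group, ← hc']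
      group

theorem irreducibleK (hne : ∀ a < O.k, ∃ x ∈ Fx S, x ≠ 1 ∧ ∀ c : ℕ → Fˣ,
      x ∈ Uminus D F (tor D c * nL hC F (O.J a))) (hconn : Conn O) :
    (bnK hK hne).Irreducible := by
  classical
  intro J hJ hJne hJc
  let g : ℕ → K := fun a => ⟨mel hK a, mel_mem hK a⟩
  have hgS : ∀ a < O.k, g a ∈ (bnK hK hne).S := fun a ha => ⟨a, ha, rfl⟩
  obtain ⟨x, hx⟩ := hJne
  obtain ⟨a₁, ha₁, e₁⟩ := hJ hx
  obtain ⟨y, ⟨a₂, ha₂, e₂⟩, hy⟩ := hJc
  have h1 : g a₁ ∈ J := (Subtype.ext e₁ : x = g a₁) ▸ hx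
  have h2 : g a₂ ∉ J := (Subtype.ext e₂ : y = g a₂) ▸ hy
  have hex : ∃ a, a < O.k ∧ ¬ (g a ∈ J ↔ g 0 ∈ J) := by
    by_cases h0 : g 0 ∈ J
    · exact ⟨a₂, ha₂, fun h => h2 (h.2 h0)⟩
    · exact ⟨a₁, ha₁, fun h => h0 (h.1 h1)⟩
  obtain ⟨ha, hdiff⟩ := Nat.find_spec hex
  have hne0 : Nat.find hex ≠ 0 := fun e => hdiff (by rw [e])
  obtain ⟨b, hb, i, hi, hcomm⟩ := hconn _ ha hne0
  have hbk : b < O.k := lt_trans hb ha
  have hsame : g b ∈ J ↔ g 0 ∈ J := by_contra fun h => Nat.find_min hex hb ⟨hbk, h⟩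
  obtain ⟨a, hadef⟩ : ∃ a, a = Nat.find hex := ⟨_, rfl⟩
  rw [← hadef] at ha hdiff hb hcomm
  have hab : g a * g b * (g a)⁻¹ * (g b)⁻¹ ∉ (bnK hK hne).B := by
    intro hB
    refine hcomm (mel_commute_of_H hK ha hbk (mem_H_of_inf hC hB.1 ?_) (hC.simple_lt hi))
    exact mul_mem (mul_mem (mul_mem (mel_mem_N hK ha) (mel_mem_N hK hbk))
      (inv_mem (mel_mem_N hK ha))) (inv_mem (mel_mem_N hK hbk))
  by_cases hJb : g b ∈ J
  · have hJa : g a ∉ J := fun h => hdiff (iff_of_true h (hsame.1 hJb))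
    refine ⟨g b, hJb, g a, ⟨hgS a ha, hJa⟩, fun h => hab ?_⟩
    rw [show g a * g b * (g a)⁻¹ * (g b)⁻¹ = (g b * g a * (g b)⁻¹ * (g a)⁻¹)⁻¹ by group]
    exact inv_mem h
  · have hJa : g a ∈ J := by_contra fun h => hdiff (iff_of_false h fun h0 => hJb (hsame.2 h0))
    exact ⟨g a, hJa, g b, ⟨hgS b hbk, hJb⟩, hab⟩

theorem core_eq_bot (hsep : Sep S) :
    ((D.borelSubgroup F ⊓ K).subgroupOf K).normalCore = ⊥ := by
  obtain ⟨c, hc⟩ := top_mono_mem O hK O.top O.top_lt
  obtain ⟨n, hn⟩ : ∃ n : K, (n : GL D.Idx F) = tor D c * nL hC F (O.top.flatMap O.J) :=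
    ⟨⟨_, hc⟩, rfl⟩
  have hLr := flatMap_lt O O.top_lt
  have hnN : (n : GL D.Idx F) ∈ D.monomialSubgroup F := hn ▸ (mem_N_iff hC).2 ⟨c, _, hLr, rfl⟩
  have hnU : ∀ u ∈ D.posUnipotent F, (n : GL D.Idx F) * u * (n : GL D.Idx F)⁻¹ ∈ D.negUnipotent F := by
    intro u hu
    have hmap : (D.posUnipotent F).map (MulAut.conj (n : GL D.Idx F)).toMonoidHom ≤ D.negUnipotent F := by
      rw [U_eq_closure hC, MonoidHom.map_closure, Subgroup.closure_le]
      rintro _ ⟨_, ⟨r, t, hr, hp, rfl⟩, rfl⟩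
      obtain ⟨η, -, e⟩ := conj_xg (F := F) hC hLr c hr
      show (n : GL D.Idx F) * xg hC r t * (n : GL D.Idx F)⁻¹ ∈ D.negUnipotent F
      rw [hn, e]
      refine xg_mem_V hC (wL_lt hC hLr hr) ?_ _
      have h1 := sign_of_simple hC (f := fun r => - T.phi (wL D (O.top.flatMap O.J) r))
        (fun i hi r hr => by
          have := phi_wL_additive hC hLr i hi r hr
          linarith) (fun i hi => by have := O.top_neg i hi; omega) r hr hp
      omega
    exact hmap ⟨u, hu, rfl⟩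
  have hcoreH : ∀ k ∈ ((D.borelSubgroup F ⊓ K).subgroupOf K).normalCore,
      (k : GL D.Idx F) ∈ D.diagonalSubgroup F := by
    intro k hk
    have hkB : (k : GL D.Idx F) ∈ D.borelSubgroup F := (Subgroup.normalCore_le _ hk).1
    have h0 : (n : GL D.Idx F)⁻¹ * k * n ∈ D.borelSubgroup F := by
      simpa using (Subgroup.normalCore_le _ (Subgroup.Normal.conj_mem inferInstance k hk n⁻¹)).1
    obtain ⟨u, hu, h, hh, e⟩ := (mem_B_iff hC).1 h0
    rw [← B_inf_VH hC]
    refine Subgroup.mem_inf.2 ⟨hkB, ?_⟩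
    rw [show (k : GL D.Idx F) = n * u * (n : GL D.Idx F)⁻¹ * (n * h * (n : GL D.Idx F)⁻¹) by
      rw [show (n : GL D.Idx F) * u * (n : GL D.Idx F)⁻¹ * (n * h * (n : GL D.Idx F)⁻¹) =
        n * (u * h) * (n : GL D.Idx F)⁻¹ by group, ← e]
      group]
    exact mul_mem (Subgroup.mem_sup_left (hnU u hu)) (Subgroup.mem_sup_right (H_conj hC hnN hh))
  rw [eq_bot_iff]
  intro k hk
  rw [Subgroup.mem_bot]
  obtain ⟨d, hd⟩ := (mem_H_iff hC).1 (hcoreH k hk)
  refine Subtype.ext ?_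
  rw [Subgroup.coe_one, hd]
  refine tor_eq_one_of_simples hC (hsep d fun x hx hxF => ?_)
  obtain ⟨y, hy⟩ : ∃ y : K, (y : GL D.Idx F) = x := ⟨⟨x, Fx_le O hK hxF⟩, rfl⟩
  have h1 := hcoreH _ (mul_mem hk (Subgroup.Normal.conj_mem inferInstance _ (inv_mem hk) y))
  simp only [Subgroup.coe_mul, Subgroup.coe_inv, hd, hy] at h1
  have h2 : tor D d * x * (tor D d)⁻¹ * x⁻¹ ∈ D.posUnipotent F :=
    mul_mem ((Subgroup.mem_normalizer_iff.1 (H_normalizes_U hC (tor_mem_H hC d)) x).1 hx) (inv_mem hx)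
  have h3 : tor D d * x * (tor D d)⁻¹ * x⁻¹ ∈ (⊥ : Subgroup (GL D.Idx F)) := by
    rw [← U_inf_H (F := F) hC, Subgroup.mem_inf]
    exact ⟨h2, by simpa [mul_assoc] using h1⟩
  exact mul_inv_eq_one.1 (Subgroup.mem_bot.1 h3)

theorem isSimpleK (hl : 0 < D.rank) (hne : ∀ a < O.k, ∃ x ∈ Fx S, x ≠ 1 ∧ ∀ c : ℕ → Fˣ,
      x ∈ Uminus D F (tor D c * nL hC F (O.J a))) (hconn : Conn O) (hsep : Sep S)
    (hperf : commutator K = ⊤) : IsSimpleGroup K ∧ ¬ IsMulCommutative K := by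
  obtain ⟨a, ha, -⟩ := O.cover 0 hl
  obtain ⟨x, hxF, hx1, -⟩ := hne a ha
  obtain ⟨y, hy⟩ : ∃ y : K, (y : GL D.Idx F) = x := ⟨⟨x, Fx_le O hK hxF⟩, rfl⟩
  have hy1 : y ≠ 1 := fun e => hx1 (by rw [← hy, e, Subgroup.coe_one])
  have hnc : ¬ IsMulCommutative K := by
    intro h
    have h1 : commutator K = ⊥ := by
      rw [commutator_def, Subgroup.commutator_eq_bot_iff_le_centralizer]
      exact fun u _ => Subgroup.mem_centralizer_iff.2 fun v _ => h.is_comm.comm v u
    rw [hperf] at h1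
    exact hy1 (Subgroup.mem_bot.1 (h1 ▸ Subgroup.mem_top y))
  refine ⟨?_, hnc⟩
  have : Nontrivial K := ⟨⟨y, 1, hy1⟩⟩
  have hsolv : Group.IsSolvable (bnK hK hne).B := by
    have := Count.B_isSolvable (F := F) hC
    exact Group.isSolvable_of_isSolvable_injective
      (f := (Subgroup.inclusion (inf_le_left : D.borelSubgroup F ⊓ K ≤ D.borelSubgroup F)).comp
        (Subgroup.subgroupOfEquivOfLe (inf_le_right : D.borelSubgroup F ⊓ K ≤ K)).toMonoidHom)
      ((Subgroup.inclusion_injective (inf_le_left : D.borelSubgroup F ⊓ K ≤ D.borelSubgroup F)).comp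
        (MulEquiv.injective _))
  exact Cfsg.Agent.BN.Simple.isSimpleGroup (irreducibleK hK hne hconn) hsolv hperf (core_eq_bot hK hsep)

/-! ### Perfectness -/

omit hK in
theorem commutator_eq_top_of_le (K : Subgroup (GL D.Idx F)) (h : K ≤ ⁅K, K⁆) :
    commutator K = ⊤ := by
  rw [eq_top_iff]
  intro g _
  have h1 : (g : GL D.Idx F) ∈ (commutator K).map K.subtype := by
    rw [commutator_def, Subgroup.map_commutator, ← MonoidHom.range_eq_map, Subgroup.range_subtype]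
    exact h g.2
  obtain ⟨g', hg', e⟩ := h1
  rwa [show g = g' from Subtype.ext e.symm]

theorem perfect_of_orth {π : ℕ → ℕ} (hπ : S.π = π) (hO : ∀ a < O.k, Orth hC π (O.J a))
    (hdisj : ∀ a < O.k, ∀ b < O.k, ∀ i ∈ O.J a, i ∈ O.J b → a = b)
    (hfix : ∀ c : ℕ → Fˣ, tor D c ∈ Fx S →
      ∃ c' : ℕ → Fˣ, tor D c' = tor D c ∧ ∀ i < D.rank, (c' (S.π i) : F) = S.hom i (c' i : F))
    (hder : ∀ a < O.k, ∀ f : ℕ → F, (∀ i ∈ O.J a, f (S.π i) = S.hom i (f i)) →
      opr hC D.simple (O.J a) f ∈ ⁅K, K⁆) : commutator K = ⊤ := by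
  refine commutator_eq_top_of_le K ?_
  have hle : ⁅K, K⁆ ≤ K := Subgroup.commutator_le.2 fun x hx y hy =>
    mul_mem (mul_mem (mul_mem hx hy) (inv_mem hx)) (inv_mem hy)
  refine hK.le.trans ?_
  refine Fx_le O (genData_of_orth O hπ hO hdisj (hle.trans hK.le)
    (fun a ha f hf => ⟨hder a ha f hf, ?_⟩) hfix)
  have hJ := O.J_lt a ha
  have hnF : nL hC F (O.J a) ∈ Fx S := by
    rw [← onr_one]
    exact onr_mem (hO a ha) (opr_fixed (hO a ha) hπ (Or.inl rfl) fun i _ => (map_one _).symm)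
      (opr_fixed (hO a ha) hπ (Or.inr rfl) fun i _ => by simp)
  obtain ⟨x, hx⟩ : ∃ x, x = nL hC F (O.J a) *
      opr hC (fun i => D.neg (D.simple i)) (O.J a) f * (nL hC F (O.J a))⁻¹ := ⟨_, rfl⟩
  have hxF : x ∈ Fx S :=
    hx ▸ mul_mem (mul_mem hnF (opr_fixed (hO a ha) hπ (Or.inr rfl) hf)) (inv_mem hnF)
  have hxU : x ∈ Uminus D F (tor D 1 * nL hC F (O.J a)) := by
    rw [Uminus_eq hC hJ 1, hx]
    have hm : ∀ l : List ℕ, (∀ i ∈ l, i ∈ O.J a) → nL hC F (O.J a) *
        opr hC (fun i => D.neg (D.simple i)) l f * (nL hC F (O.J a))⁻¹ ∈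
        Subgroup.closure {g : GL D.Idx F | ∃ (r : ℕ) (t : F),
          r ∈ invList D T (O.J a) ∧ g = xg hC r t} := by
      intro l
      induction l with
      | nil => intro _; simp [opr]
      | cons i l ih =>
        intro hl
        have hi := hl i List.mem_cons_self
        have hs := hC.simple_lt (hJ i hi)
        obtain ⟨η, -, e⟩ := nL_conj_x (F := F) hC hJ (hC.neg_lt hs)
        have h1 := ih fun j hj => hl j (List.mem_cons_of_mem i hj)
        simp only [opr, List.map_cons, List.prod_cons] at h1 ⊢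
        rw [show ∀ (n u v : GL D.Idx F), n * (u * v) * n⁻¹ = n * u * n⁻¹ * (n * v * n⁻¹) from
          fun n u v => by group]
        refine mul_mem ?_ h1
        rw [e]
        refine Subgroup.subset_closure ⟨_, _, (mem_invList hC).2
          ⟨wL_lt hC hJ (hC.neg_lt hs), ?_, ?_⟩, rfl⟩
        · have := O.neg_simple a ha i hi
          rw [wL_neg hC hJ hs, hC.phi_neg (wL_lt hC hJ hs)]
          omega
        · have := hC.phi_simple (hJ i hi)
          rw [O.invol a ha _ (hC.neg_lt hs), hC.phi_neg hs]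
          omega
    exact hm (O.J a) fun _ h => h
  obtain ⟨g, hg, e⟩ := fixed_Uminus (hO a ha) hπ hxF hxU
  have hgK : x ∈ ⁅K, K⁆ := e ▸ hder a ha g hg
  have hnK : (nL hC F (O.J a))⁻¹ ∈ K := inv_mem (Fx_le O hK hnF)
  have h5 : (nL hC F (O.J a))⁻¹ * x * nL hC F (O.J a) ∈ ⁅K, K⁆ := by
    have hmap : (⁅K, K⁆).map (MulAut.conj (nL hC F (O.J a))⁻¹).toMonoidHom ≤ ⁅K, K⁆ := by
      rw [Subgroup.map_commutator]
      refine Subgroup.commutator_mono ?_ ?_ <;>
        · rintro _ ⟨y, hy, rfl⟩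
          exact mul_mem (mul_mem hnK hy) (inv_mem hnK)
    have := hmap ⟨x, hgK, rfl⟩
    simpa using this
  rw [hx] at h5
  simpa [mul_assoc] using h5

theorem opr_toral {π : ℕ → ℕ} (hπ : S.π = π) {J : List ℕ} (hO : Orth hC π J) {c : ℕ → Fˣ}
    (hc : tor D c ∈ Fx S) (hne : ∀ i ∈ J, (torChar D c (D.simple i) : F) ≠ 1) {f : ℕ → F}
    (hf : ∀ i ∈ J, f (S.π i) = S.hom i (f i)) : opr hC D.simple J f ∈ ⁅K, K⁆ := by
  have hχ : ∀ i ∈ J, (torChar D c (D.simple (S.π i)) : F) =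
      S.hom i (torChar D c (D.simple i) : F) := by
    intro i hi
    have hir := hO.lt i hi
    have h1 := ((mem_Fx S).1 hc).mul (img_xg S (hC.simple_lt hir) 1) |>.mul ((mem_Fx S).1 hc).inv
    rw [S.ρ_simple i hir, S.act_simple i hir, map_one,
      tor_conj_x hC c _ _ (hC.simple_lt hir), mul_one,
      tor_conj_x hC c _ _ (hC.simple_lt (S.π_lt i hir)), mul_one] at h1
    have h2 := h1.unique (img_xg S (hC.simple_lt hir) _)
    rw [S.ρ_simple i hir, S.act_simple i hir] at h2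
    exact xg_injective hC (hC.simple_lt (S.π_lt i hir)) h2
  obtain ⟨u, hu⟩ : ∃ u : ℕ → F, ∀ i, u i = f i / ((torChar D c (D.simple i) : F) - 1) :=
    ⟨fun i => f i / ((torChar D c (D.simple i) : F) - 1), fun _ => rfl⟩
  have huF : ∀ i ∈ J, u (S.π i) = S.hom i (u i) := fun i hi => by
    rw [hu, hu, map_div₀, map_sub, map_one, hf i hi, hχ i hi]
  have e : ⁅tor D c, opr hC D.simple J u⁆ = opr hC D.simple J f := by
    rw [commutatorElement_def, tor_conj_opr hO, opr_inv hO (Or.inl rfl),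
      ← opr_add hO (Or.inl rfl) J (orth_nodup hO) fun _ h => h]
    refine opr_congr fun i hi => ?_
    have hne' : (torChar D c (D.simple i) : F) - 1 ≠ 0 := sub_ne_zero.2 (hne i hi)
    simp only [Pi.add_apply, Pi.neg_apply]
    rw [← sub_eq_add_neg, ← sub_one_mul, hu, mul_div_cancel₀ _ hne']
  rw [← e]
  exact Subgroup.commutator_mem_commutator (Fx_le O hK hc)
    (Fx_le O hK (opr_fixed hO hπ (Or.inl rfl) huF))

/-- A singleton orbit reached by conjugating a commutator of fixed root elements. -/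
theorem opr_single {π : ℕ → ℕ} (hπ : S.π = π) {i : ℕ} (hOa : Orth hC π [i]) {r : ℕ} {e : F}
    (he0 : e ≠ 0) (hr : r < D.nroots) (hxj : xg hC r e ∈ Fx S) {k : ℕ} {C : ℤ}
    (hne : r ≠ D.simple i ∧ r ≠ D.neg (D.simple i))
    (hterms : D.commTerms (D.simple i) r = [(k, C, 1, 1)]) (hCne : (C : F) ≠ 0) (hk : k < D.nroots)
    {W : List ℕ} (hW : ∀ l ∈ W, l < D.rank) (hnF : nL hC F W ∈ Fx S)
    (hrefl : wL D W k = D.simple i)
    {f : ℕ → F} (hf : ∀ l ∈ [i], f (S.π l) = S.hom l (f l)) :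
    opr hC D.simple [i] f ∈ ⁅K, K⁆ := by
  have hir : i < D.rank := hOa.lt i List.mem_cons_self
  have hsi := hC.simple_lt hir
  have hπi : S.π i = i := by
    have := hOa.stable i List.mem_cons_self
    rw [← hπ] at this
    exact List.mem_singleton.1 this
  obtain ⟨η, hη, he⟩ := nL_conj_x (F := F) hC (L := W) hW hk
  rw [hrefl] at he
  have hxi : ∀ t : F, S.hom i t = t → xg hC (D.simple i) t ∈ Fx S := by
    intro t ht
    have := opr_fixed (hC := hC) (S := S) hOa hπ (Or.inl rfl) (f := fun _ => t)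
      (fun l hl => by rw [List.mem_singleton.1 hl, ht])
    simpa [opr] using this
  -- the value of the conjugated commutator
  have key : ∀ t : F, S.hom i t = t →
      xg hC (D.simple i) (η * ((C : F) * -t * e)) ∈ ⁅K, K⁆ ∧
        xg hC (D.simple i) (η * ((C : F) * -t * e)) ∈ Fx S := by
    intro t ht
    have hx := xg_comm (F := F) hC hsi hr hne.1 hne.2 t e
    simp only [ChevalleyDatum.commWord, hterms, List.map_cons, List.map_nil, List.prod_cons,
      List.prod_nil, mul_one, pow_one] at hx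
    have e1 : xg hC k ((C : F) * -t * e) = ⁅(xg hC r e)⁻¹, (xg hC (D.simple i) t)⁻¹⁆ := by
      rw [commutatorElement_def, inv_inv, inv_inv,
        show (xg hC r e)⁻¹ * (xg hC (D.simple i) t)⁻¹ * xg hC r e * xg hC (D.simple i) t =
          (xg hC r e)⁻¹ * (xg hC (D.simple i) t)⁻¹ * (xg hC r e * xg hC (D.simple i) t) by group, hx]
      group
    have e1F : xg hC k ((C : F) * -t * e) ∈ Fx S := by
      rw [e1, commutatorElement_def]
      exact mul_mem (mul_mem (mul_mem (inv_mem hxj) (inv_mem (hxi t ht)))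
        (inv_mem (inv_mem hxj))) (inv_mem (inv_mem (hxi t ht)))
    have e1K : xg hC k ((C : F) * -t * e) ∈ ⁅K, K⁆ := by
      rw [e1]
      exact Subgroup.commutator_mem_commutator (inv_mem (Fx_le O hK hxj))
        (inv_mem (Fx_le O hK (hxi t ht)))
    rw [← he]
    refine ⟨?_, mul_mem (mul_mem hnF e1F) (inv_mem hnF)⟩
    have hnK := Fx_le O hK hnF
    have hmap : (⁅K, K⁆).map (MulAut.conj (nL hC F W)).toMonoidHom ≤ ⁅K, K⁆ := by
      rw [Subgroup.map_commutator]
      refine Subgroup.commutator_mono ?_ ?_ <;>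
        · rintro _ ⟨y, hy, rfl⟩
          exact mul_mem (mul_mem hnK hy) (inv_mem hnK)
    exact hmap ⟨_, e1K, rfl⟩
  -- the constant is fixed
  have hfi : S.hom i (f i) = f i := by
    have := hf i List.mem_cons_self
    rw [hπi] at this
    exact this.symm
  obtain ⟨A, hA⟩ : ∃ A : F, A = η * ((C : F) * -1 * e) := ⟨_, rfl⟩
  have hA0 : A ≠ 0 :=
    hA ▸ mul_ne_zero hη (mul_ne_zero (mul_ne_zero hCne (neg_ne_zero.2 one_ne_zero)) he0)
  have hAfix : S.hom i A = A := by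
    have h1 := hA ▸ (key 1 (map_one _)).2
    have h2 := h1.unique (S := S) (img_xg S hsi A)
    rw [S.ρ_simple i hir, S.act_simple i hir, hπi] at h2
    exact (xg_injective hC hsi h2).symm
  have h3 := (key (f i / A) (by rw [map_div₀, hfi, hAfix])).1
  have h4 : η * ((C : F) * -(f i / A) * e) = f i := by
    rw [show η * ((C : F) * -(f i / A) * e) = A * (f i / A) by rw [hA]; ring]
    exact mul_div_cancel₀ _ hA0
  rw [h4] at h3
  simpa [opr] using h3

omit hK in
/-- A check for `opr_single`: the second root is the image of the fundamental root `j`. -/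
noncomputable def singOrb (T : Tab) (i j : ℕ) (P W : List ℕ) : Bool :=
  (!Nat.beq (applyW T P (T.simple j)) (T.simple i) &&
    !Nat.beq (applyW T P (T.simple j)) (T.neg (T.simple i))) &&
  List.rec false (fun c L _ => (Perfect.isUnit1 c.2.1 && (Nat.beq c.2.2.1 1 && Nat.beq c.2.2.2 1)) &&
      ((Nat.blt c.1 T.n && Nat.beq (applyW T W c.1) (T.simple i)) &&
        List.rec true (fun _ _ _ => false) L))
    (commOf T.E (T.simple i) (applyW T P (T.simple j)))

omit hK in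
theorem nL_flatMap_fixed {π : ℕ → ℕ} (hπ : S.π = π) (hO : ∀ a < O.k, Orth hC π (O.J a)) :
    ∀ l : List ℕ, (∀ a ∈ l, a < O.k) → nL hC F (l.flatMap O.J) ∈ Fx S := by
  intro l
  induction l with
  | nil => intro _; simp [nL, one_mem]
  | cons a l ih =>
    intro hl
    have ha := hl a List.mem_cons_self
    rw [List.flatMap_cons, nL_append]
    refine mul_mem ?_ (ih fun b hb => hl b (List.mem_cons_of_mem a hb))
    rw [← onr_one]
    exact onr_mem (hO a ha) (opr_fixed (hO a ha) hπ (Or.inl rfl) fun l _ => (map_one _).symm)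
      (opr_fixed (hO a ha) hπ (Or.inr rfl) fun l _ => by simp)

theorem opr_single_of_chk {π : ℕ → ℕ} (hπ : S.π = π) (hO : ∀ a < O.k, Orth hC π (O.J a)) {i j : ℕ}
    (hOa : Orth hC π [i]) (hOb : Orth hC π [j]) {P W : List ℕ} {Pa Wa : List ℕ}
    (hPa : ∀ a ∈ Pa, a < O.k) (hWa : ∀ a ∈ Wa, a < O.k) (eP : Pa.flatMap O.J = P)
    (eW : Wa.flatMap O.J = W) (h : singOrb T i j P W = true)
    {f : ℕ → F} (hf : ∀ l ∈ [i], f (S.π l) = S.hom l (f l)) :
    opr hC D.simple [i] f ∈ ⁅K, K⁆ := by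
  have hir : i < D.rank := hOa.lt i List.mem_cons_self
  have hjr : j < D.rank := hOb.lt j List.mem_cons_self
  have hP : ∀ l ∈ P, l < D.rank := eP ▸ flatMap_lt O hPa
  have hW : ∀ l ∈ W, l < D.rank := eW ▸ flatMap_lt O hWa
  have hsi := hC.simple_lt hir
  have hsj := hC.simple_lt hjr
  have happ : ∀ {L : List ℕ}, (∀ l ∈ L, l < D.rank) → ∀ {r}, r < D.nroots →
      applyW T L r = wL D L r := fun hL _ hr => StConj.actT_foldr hC hL hr
  have hr := wL_lt hC hP hsj
  simp only [singOrb, Bool.and_eq_true, Bool.not_eq_true', hC.simple_eq hir, hC.simple_eq hjr,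
    happ hP hsj, hC.neg_eq hsi, Perfect.commOf_eq hC hsi hr] at h
  obtain ⟨⟨h1, h2⟩, h3⟩ := h
  cases hc : D.commTerms (D.simple i) (wL D P (D.simple j)) with
  | nil => rw [hc] at h3; simp at h3
  | cons c L =>
    rw [hc] at h3
    simp only [Bool.and_eq_true, Nat.blt_eq, hC.n_eq] at h3
    obtain ⟨⟨hu, hi1, hj1⟩, ⟨hk, hre⟩, hL⟩ := h3
    cases L with
    | cons c' L' => simp at hL
    | nil =>
      obtain ⟨k, C, e1, e2⟩ := c
      obtain rfl : e1 = 1 := Nat.eq_of_beq_eq_true hi1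
      obtain rfl : e2 = 1 := Nat.eq_of_beq_eq_true hj1
      obtain ⟨η, hη, he⟩ := nL_conj_x (F := F) hC hP hsj
      have hxj : xg hC (wL D P (D.simple j)) (η * 1) ∈ Fx S := by
        rw [← he]
        have hnP := eP ▸ nL_flatMap_fixed hπ hO Pa hPa
        refine mul_mem (mul_mem hnP ?_) (inv_mem hnP)
        have := opr_fixed (hC := hC) (S := S) hOb hπ (Or.inl rfl) (f := fun _ => (1 : F))
          (fun l _ => (map_one _).symm)
        simpa [opr] using this
      refine opr_single hK hπ hOa (mul_ne_zero hη one_ne_zero) hr hxj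
        ⟨Nat.ne_of_beq_eq_false h1, Nat.ne_of_beq_eq_false h2⟩ hc ?_ hk hW
        (eW ▸ nL_flatMap_fixed hπ hO Wa hWa) ?_ hf
      · rcases Int.natAbs_eq_iff.1 (Nat.eq_of_beq_eq_true hu) with e | e <;>
          simp only at e <;> simp [e]
      · rw [← happ hW hk]
        exact Nat.eq_of_beq_eq_true hre

/-- A torus element on one orbit moves the orbit's roots. -/
theorem opr_toral_orth {π : ℕ → ℕ} (hπ : S.π = π) {J : List ℕ} (hO : Orth hC π J) (a : ℕ → Fˣ)
    (ha : ∀ i ∈ J, (a (S.π i) : F) = S.hom i (a i : F))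
    (hcart : ∀ i ∈ J, ∀ l ∈ J, D.cartan l (D.simple i) = if l = i then 2 else 0)
    (hne : ∀ i ∈ J, (a i : F) ^ 2 ≠ 1) {f : ℕ → F}
    (hf : ∀ i ∈ J, f (S.π i) = S.hom i (f i)) : opr hC D.simple J f ∈ ⁅K, K⁆ := by
  obtain ⟨d, hd, e⟩ := onr_tor (hC := hC) J (orth_nodup hO) hO.lt a
  have hdF : tor D d ∈ Fx S := by
    rw [← e, hg_prod_eq hO (fun i => (a i : F)) _ (orth_nodup hO) fun _ h => h]
    refine mul_mem (onr_mem hO (opr_fixed hO hπ (Or.inl rfl) fun i hi => ha i hi)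
      (opr_fixed hO hπ (Or.inr rfl) fun i hi => ?_)) (onr_mem hO
      (opr_fixed hO hπ (Or.inl rfl) fun i _ => ?_) (opr_fixed hO hπ (Or.inr rfl) fun i _ => ?_))
    · simp only [map_neg, map_inv₀, ha i hi]
    · simp
    · simp
  refine opr_toral hK hπ hO hdF (fun i hi => ?_) hf
  have h1 : torChar D d (D.simple i) = a i ^ 2 := by
    rw [torChar, Finset.prod_eq_single i]
    · rw [hd i, if_pos hi, hcart i hi i hi, if_pos rfl, zpow_ofNat]
    · intro l _ hli
      rw [hd l]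
      split_ifs with h
      · rw [hcart i hi l h, if_neg hli, zpow_zero]
      · rw [one_zpow]
    · exact fun h => absurd (Finset.mem_range.2 (hO.lt i hi)) h
  rw [h1, Units.val_pow_eq_pow_val]
  exact hne i hi

end Cfsg.Agent.Chevalley.Twist
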