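import Cfsg.Agent.Lib.Chevalley.Twist.TorusD4Two
import Mathlib.RingTheory.Norm.Basic
import Mathlib.Data.ZMod.Units

/-!
A cyclic self-centralising torus of a triality twisted group.
-/

set_option autoImplicit false

open scoped Matrix

namespace Cfsg.Agent.Chevalley.Twist.D4

open Cfsg.Lie Cfsg.Agent.Chevalley Cfsg.Agent.Chevalley.Table Cfsg.Agent.Chevalley.Cert
  Cfsg.Agent.Chevalley.Group Cfsg.Agent.Chevalley.NormalForm Cfsg.Agent.Chevalley.AutThm
  Cfsg.Agent.Chevalley.Borel Cfsg.Agent.Chevalley.Bruhat Cfsg.Agent.Chevalley.Weyl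
  Cfsg.Agent.Chevalley.Unip Cfsg.Agent.Chevalley.TorusCard

/-- A matrix commuting with a generator of the multiplicative group lies in the field. -/
theorem exists_leftMul {E Q : Type*} [Field E] [Field Q] [Algebra E Q] (b : Module.Basis (Fin 2) E Q)
    {e : Qˣ} (he : ∀ x : Qˣ, x ∈ Submonoid.powers e) {A : Matrix (Fin 2) (Fin 2) E}
    (hc : Commute A (Algebra.leftMulMatrix b (e : Q))) : ∃ a : Q, A = Algebra.leftMulMatrix b a := by
  have hall : ∀ x : Q, Commute A (Algebra.leftMulMatrix b x) := fun x => by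
    rcases eq_or_ne x 0 with rfl | hx
    · rw [map_zero]; exact Commute.zero_right _
    · obtain ⟨k, hk⟩ := Submonoid.mem_powers_iff _ _ |>.1 (he (Units.mk0 x hx))
      have hk' : (e : Q) ^ k = x := by rw [← Units.val_pow_eq_pow_val, hk]; rfl
      rw [← hk', map_pow]
      exact hc.pow_right k
  obtain ⟨v, hv⟩ : ∃ v : Fin 2 → E, v = A *ᵥ (b.repr 1) := ⟨_, rfl⟩
  obtain ⟨a, ha⟩ : ∃ a : Q, b.repr a = (Finsupp.equivFunOnFinite.symm v) :=
    ⟨b.repr.symm _, b.repr.apply_symm_apply _⟩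
  have hkey : ∀ x : Q, A *ᵥ (b.repr x) = Algebra.leftMulMatrix b a *ᵥ (b.repr x) := fun x => by
    have e1 : (b.repr x : Fin 2 → E) = Algebra.leftMulMatrix b x *ᵥ (b.repr 1) := by
      rw [Algebra.leftMulMatrix_mulVec_repr, mul_one]
    rw [e1, Matrix.mulVec_mulVec, (hall x).eq, ← Matrix.mulVec_mulVec, ← hv, Matrix.mulVec_mulVec,
      ← map_mul, Algebra.leftMulMatrix_mulVec_repr, mul_one]
    have e2 : v = (b.repr a : Fin 2 → E) := by rw [ha]; rfl
    rw [e2, Algebra.leftMulMatrix_mulVec_repr, mul_comm x a]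
  refine ⟨a, Matrix.ext_of_mulVec_single fun i => ?_⟩
  have h := hkey (b i)
  rwa [b.repr_self, Finsupp.single_eq_pi_single] at h

/-- A power of a generator of a cyclic group in the preimage of a generator. -/
theorem exists_lift {G H : Type*} [CommGroup G] [CommGroup H] [Finite G] [Finite H]
    (f : G →* H) (hf : Function.Surjective f) {g : G} (hg : orderOf g = Nat.card G) {h : H}
    (hh : orderOf h = Nat.card H) : ∃ g' : G, orderOf g' = Nat.card G ∧ f g' = h := by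
  haveI : NeZero (Nat.card G) := ⟨Nat.card_pos.ne'⟩
  haveI : NeZero (Nat.card H) := ⟨Nat.card_pos.ne'⟩
  have hdvd : Nat.card H ∣ Nat.card G := Subgroup.card_dvd_of_surjective f hf
  have hfg : orderOf (f g) = Nat.card H := by
    refine orderOf_eq_card_of_forall_mem_zpowers fun y => ?_
    obtain ⟨x, rfl⟩ := hf y
    have hx : x ∈ Subgroup.zpowers g := by
      rw [Subgroup.eq_top_of_card_eq (Subgroup.zpowers g) (by rw [Nat.card_zpowers, hg])]
      exact Subgroup.mem_top x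
    obtain ⟨n, rfl⟩ := hx
    exact ⟨n, (map_zpow f g n).symm⟩
  obtain ⟨k, hk⟩ : ∃ k : ℕ, f g ^ k = h := by
    have hmem : h ∈ Subgroup.zpowers (f g) := by
      rw [Subgroup.eq_top_of_card_eq (Subgroup.zpowers (f g)) (by rw [Nat.card_zpowers, hfg])]
      exact Subgroup.mem_top h
    obtain ⟨k, hk⟩ := (isOfFinOrder_of_finite (f g)).mem_powers_iff_mem_zpowers.2 hmem
    exact ⟨k, hk⟩
  have hcop : Nat.Coprime k (Nat.card H) := by
    have h1 := orderOf_pow (f g) (n := k)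
    rw [hk, hh, hfg] at h1
    have h2 := Nat.gcd_dvd_left (Nat.card H) k
    rcases Nat.div_eq_self.1 h1.symm with h3 | h3
    · exact absurd h3 (NeZero.ne _)
    · exact (Nat.coprime_comm).1 h3
  obtain ⟨u, hu⟩ := ZMod.unitsMap_surjective hdvd (ZMod.unitOfCoprime k hcop)
  refine ⟨g ^ (u : ZMod (Nat.card G)).val, ?_, ?_⟩
  · rw [Nat.Coprime.orderOf_pow, hg]
    rw [hg]
    exact (ZMod.val_coe_unit_coprime u).symm
  · rw [map_pow, ← hk, pow_eq_pow_iff_modEq, hfg, ← ZMod.natCast_eq_natCast_iff]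
    have h3 := congrArg Units.val hu
    rw [ZMod.unitsMap_val, ZMod.coe_unitOfCoprime] at h3
    rw [ZMod.natCast_val]
    exact h3

/-- The two elements of order three of the special linear group over two elements. -/
theorem two_cases {E : Type*} [Field E] (h01 : ∀ x : E, x = 0 ∨ x = 1) (h2 : (1 : E) + 1 = 0)
    (M : Matrix (Fin 2) (Fin 2) E) (h1 : M ≠ 1) (h3 : M * M * M = 1) :
    M = !![1, 1; 1, 0] ∨ M * M = !![1, 1; 1, 0] := by
  obtain ⟨a, b, c, d, rfl⟩ : ∃ a b c d, M = !![a, b; c, d] :=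
    ⟨_, _, _, _, Matrix.eta_fin_two M⟩
  have h21 : (2 : E) = 0 := by rw [← one_add_one_eq_two, h2]
  rcases h01 a with rfl | rfl <;> rcases h01 b with rfl | rfl <;> rcases h01 c with rfl | rfl <;>
    rcases h01 d with rfl | rfl <;>
    simp [Matrix.one_fin_two, funext_iff, Fin.forall_fin_two, h2, h21] at h1 h3 ⊢

variable {K : Type*} [Field K] [Fintype K] {q : ℕ}

/-- A cyclic self-centralising torus. -/
theorem exists_cyclic_torus (hq : IsPrimePow q) (hK : Fintype.card K = q ^ 3) :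
    ∃ H : Subgroup ↥(twistedD4 K q), IsCyclic ↥H ∧ Nat.card ↥H = (q ^ 3 - 1) * (q + 1) ∧
      Subgroup.centralizer (H : Set ↥(twistedD4 K q)) = H := by
  classical
  have hq2 := hq.two_le
  obtain ⟨X⟩ := exists_setup (K := K) hq hK
  obtain ⟨θ, hθ⟩ := E6.exists_powq (K := K) hq three_ne_zero hK
  obtain ⟨P₀, h₀⟩ := exists_par₀ X θ hθ
  obtain ⟨φ, hx, hy⟩ := exists_phi X θ P₀ h₀
  have hconj := fun t g => dd_conj X θ hθ P₀ h₀ φ hx hy t g
  have hLinj := lev_injective X θ hθ P₀ h₀ φ hx hy hconj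
  -- the quadratic extension
  have hE : Nat.card (E₀ q θ) = q := by
    rw [← card_powfix hq2 hK]
    exact Nat.card_congr (Equiv.subtypeEquivRight fun t => by
      show θ t = t ↔ _
      rw [hθ])
  obtain ⟨p, hp⟩ := CharP.exists (E₀ q θ)
  haveI := hp
  haveI : Fact p.Prime := ⟨CharP.char_is_prime (E₀ q θ) p⟩
  let Q := FiniteField.Extension (E₀ q θ) p 2
  obtain ⟨b⟩ : Nonempty (Module.Basis (Fin 2) (E₀ q θ) Q) :=
    ⟨Module.finBasisOfFinrankEq _ _ (FiniteField.finrank_extension (E₀ q θ) p 2)⟩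
  have hQ : Nat.card Q = q ^ 2 := by rw [FiniteField.natCard_extension, hE]
  let Nm : Qˣ →* (E₀ q θ)ˣ := Units.map (Algebra.norm (E₀ q θ) (S := Q))
  have hNm : Function.Surjective Nm := FiniteField.unitsMap_norm_surjective (E₀ q θ) Q
  have cardQ : Nat.card Qˣ = q ^ 2 - 1 := by rw [Nat.card_units, hQ]
  have cardE : Nat.card (E₀ q θ)ˣ = q - 1 := by rw [Nat.card_units, hE]
  have cardK : Nat.card Kˣ = q ^ 3 - 1 := by rw [Nat.card_units, Nat.card_eq_fintype_card, hK]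
  have hq1 : 1 ≤ q := by omega
  have hfac3 : q ^ 3 - 1 = (q - 1) * (q ^ 2 + q + 1) := by
    zify [Nat.one_le_pow 3 q hq1, hq1]; ring
  have hfac2 : q ^ 2 - 1 = (q - 1) * (q + 1) := by
    zify [Nat.one_le_pow 2 q hq1, hq1]; ring
  -- the generators
  obtain ⟨τ, hτ⟩ := IsCyclic.exists_ofOrder_eq_natCard (α := Kˣ)
  have hτ' : orderOf τ = q ^ 3 - 1 := hτ.trans cardK
  have hν : orderOf (nmU hK θ τ) = Nat.card (E₀ q θ)ˣ := by
    rw [← orderOf_injective (Units.map (E₀ q θ).subtype.toMonoidHom)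
      (Units.map_injective Subtype.val_injective), cardE]
    have h1 : nmK hK θ τ = τ ^ (1 + q + q * q) := by
      refine Units.ext ?_
      rw [nmK_apply θ hθ, pow_add, pow_add, pow_one, pow_mul]
      simp [hθ]
    show orderOf (nmK hK θ τ) = _
    rw [h1, orderOf_pow' τ (by omega), hτ', hfac3, show q ^ 2 + q + 1 = 1 + q + q * q by ring,
      Nat.gcd_eq_right (dvd_mul_left _ _), Nat.mul_div_cancel _ (by omega)]
  obtain ⟨ε, hε⟩ := IsCyclic.exists_ofOrder_eq_natCard (α := Qˣ)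
  obtain ⟨e₀, he₀, he₀τ⟩ := exists_lift Nm hNm hε hν
  -- the torus
  let M : Q →ₐ[E₀ q θ] Matrix (Fin 2) (Fin 2) (E₀ q θ) := Algebra.leftMulMatrix b
  have hMinj : Function.Injective M := Algebra.leftMulMatrix_injective b
  let Hg : Subgroup (Qˣ × Kˣ) :=
    MonoidHom.eqLocus (Nm.comp (MonoidHom.fst _ _)) ((nmU hK θ).comp (MonoidHom.snd _ _))
  let f : Hg →* Lev hK θ :=
    (((Units.map (M : Q →* Matrix (Fin 2) (Fin 2) (E₀ q θ))).prodMap (MonoidHom.id Kˣ)).comp
      Hg.subtype).codRestrict _ fun x => Units.ext (by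
        refine (?_ : ((Units.map (M : Q →* Matrix (Fin 2) (Fin 2) (E₀ q θ)) x.1.1 :
          GL (Fin 2) (E₀ q θ)) : Matrix (Fin 2) (Fin 2) (E₀ q θ)).det = _).trans
          (congrArg Units.val x.2)
        exact (Algebra.norm_eq_matrix_det b _).symm)
  have hfinj : Function.Injective f := fun x y h => by
    have h' := congrArg (fun v : Lev hK θ => (v : GL (Fin 2) (E₀ q θ) × Kˣ)) h
    exact Subtype.ext (Prod.ext
      (Units.ext (hMinj (congrArg Units.val (congrArg Prod.fst h')))) (congrArg Prod.snd h' :))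
  let F : Hg →* twistedD4 K q := (lev X θ hθ φ hconj).comp f
  have hFinj : Function.Injective F := hLinj.comp hfinj
  obtain ⟨h0, hh0⟩ : ∃ h0 : Hg, (h0 : Qˣ × Kˣ) = (e₀, τ) := ⟨⟨(e₀, τ), he₀τ⟩, rfl⟩
  obtain ⟨π, hπ⟩ : ∃ π : Hg →* Kˣ, π = (MonoidHom.snd Qˣ Kˣ).comp Hg.subtype := ⟨_, rfl⟩
  have hπ0 : π h0 = τ := by rw [hπ, MonoidHom.comp_apply, Subgroup.coe_subtype, hh0]; rfl
  haveI : Finite Hg := Finite.of_injective _ Subtype.val_injective
  have hcard : Nat.card Hg = (q ^ 3 - 1) * (q + 1) := by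
    have hπs : Function.Surjective π := fun t => by
      obtain ⟨n, rfl⟩ : t ∈ Subgroup.zpowers τ := by
        rw [Subgroup.eq_top_of_card_eq (Subgroup.zpowers τ) (by rw [Nat.card_zpowers, hτ])]
        exact Subgroup.mem_top t
      exact ⟨h0 ^ n, by rw [map_zpow, hπ0]⟩
    have hker : Nat.card π.ker = Nat.card Nm.ker := by
      subst hπ
      refine Nat.card_congr
        { toFun := fun x => ⟨x.1.1.1, ?_⟩
          invFun := fun e => ⟨⟨(e.1, 1), ?_⟩, ?_⟩
          left_inv := fun x => ?_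
          right_inv := fun e => rfl }
      · have h1 := x.2
        rw [MonoidHom.mem_ker] at h1
        have h2 : Nm x.1.1.1 = nmU hK θ x.1.1.2 := x.1.2
        rw [show x.1.1.2 = 1 from h1, map_one] at h2
        exact h2
      · show Nm e.1 = nmU hK θ 1
        rw [map_one]; exact e.2
      · rw [MonoidHom.mem_ker]; rfl
      · have h1 := x.2
        rw [MonoidHom.mem_ker] at h1
        exact Subtype.ext (Subtype.ext (Prod.ext rfl (show x.1.1.2 = 1 from h1).symm))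
    have hNker : Nat.card Nm.ker = q + 1 := by
      have h1 := Nm.ker.card_mul_index
      rw [Subgroup.index_ker, MonoidHom.range_eq_top.2 hNm, Subgroup.card_top, cardE, cardQ,
        hfac2, mul_comm (q - 1) (q + 1)] at h1
      exact Nat.eq_of_mul_eq_mul_right (by omega) h1
    rw [← π.ker.card_mul_index, Subgroup.index_ker, MonoidHom.range_eq_top.2 hπs, Subgroup.card_top,
      cardK, hker, hNker, mul_comm]
  have hord : orderOf h0 = Nat.card Hg := by
    obtain ⟨d, hd⟩ : q ^ 3 - 1 ∣ orderOf h0 := hτ' ▸ hπ0 ▸ orderOf_map_dvd π h0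
    have h1 : orderOf (h0 ^ (q ^ 3 - 1)) = d := by
      have h3 : 0 < q ^ 3 - 1 := by rw [← cardK]; exact Nat.card_pos
      rw [orderOf_pow' _ h3.ne', hd, Nat.gcd_eq_right (dvd_mul_right _ _), Nat.mul_div_cancel_left _ h3]
    have h2 : orderOf (e₀ ^ (q ^ 3 - 1)) = q + 1 := by
      have hcop : Nat.Coprime (q + 1) (q ^ 2 + q + 1) := by
        rw [show q ^ 2 + q + 1 = q * (q + 1) + 1 by ring]
        exact (Nat.coprime_mul_right_add_right _ _ _).2 (Nat.coprime_one_right _)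
      rw [orderOf_pow, he₀, cardQ, hfac2, hfac3, Nat.gcd_mul_left, hcop.gcd_eq_one, mul_one,
        Nat.mul_div_cancel_left _ (by omega)]
    rw [← Subgroup.orderOf_coe, SubmonoidClass.coe_pow, hh0, Prod.pow_mk, Prod.orderOf,
      ← hτ', pow_orderOf_eq_one, orderOf_one, Nat.lcm_one_right, hτ', h2] at h1
    rw [hd, hcard, ← h1]
  obtain ⟨H, hH⟩ : ∃ H, H = F.range := ⟨_, rfl⟩
  have hcyc : IsCyclic Hg := isCyclic_of_orderOf_eq_card h0 hord
  have hHcyc : IsCyclic H := hH ▸ (MonoidHom.ofInjective hFinj).isCyclic.1 hcyc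
  refine ⟨H, hHcyc, ?_, ?_⟩
  · rw [hH, ← Nat.card_congr (MonoidHom.ofInjective hFinj).toEquiv, hcard]
  refine le_antisymm (fun g hg => ?_) ?_
  swap
  · subst hH
    rintro _ ⟨y, rfl⟩
    rw [Subgroup.mem_centralizer_iff]
    rintro _ ⟨x, rfl⟩
    letI := hcyc.commGroup
    rw [← map_mul, ← map_mul, mul_comm x y]
  have hgF : ∀ x : Hg, Commute g (F x) := fun x =>
    ((Subgroup.mem_centralizer_iff.1 hg) _ (hH ▸ ⟨x, rfl⟩)).symm
  -- the central element
  obtain ⟨ez, hez⟩ : ∃ ez : Qˣ, ez = Units.map (algebraMap (E₀ q θ) Q : E₀ q θ →* Q) (nmU hK θ τ) :=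
    ⟨_, rfl⟩
  have hezN : Nm ez = nmU hK θ (τ ^ 2) := by
    rw [map_pow]
    refine Units.ext ?_
    show Algebra.norm (E₀ q θ) (ez : Q) = _
    rw [hez, Units.coe_map, Units.val_pow_eq_pow_val]
    exact (Algebra.norm_algebraMap _).trans (by rw [FiniteField.finrank_extension])
  obtain ⟨hz', hzv⟩ : ∃ hz' : Hg, (hz' : Qˣ × Kˣ) = (ez, τ ^ 2) :=
    ⟨⟨(ez, τ ^ 2), show Nm.comp (MonoidHom.fst Qˣ Kˣ) (ez, τ ^ 2) =
      (nmU hK θ).comp (MonoidHom.snd Qˣ Kˣ) (ez, τ ^ 2) from hezN⟩, rfl⟩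
  obtain ⟨zc, hzc'⟩ : ∃ zc, zc = F hz' := ⟨_, rfl⟩
  have hzc : (zc : GL chevD4.Idx K) = tor chevD4 (zvec (hK := hK) θ τ) := by
    obtain ⟨p, hp'⟩ : ∃ p, p = f hz' := ⟨_, rfl⟩
    have hp2 : p.1.2 = τ ^ 2 := by rw [hp']; exact congrArg Prod.snd hzv
    have hp1 : ((p.1.1 : GL (Fin 2) (E₀ q θ)) : Matrix (Fin 2) (Fin 2) (E₀ q θ)) =
        algebraMap (E₀ q θ) _ ((nmU hK θ τ : (E₀ q θ)ˣ) : E₀ q θ) := by
      rw [hp']
      show M ((hz' : Qˣ × Kˣ).1 : Q) = _
      rw [hzv, hez]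
      exact AlgHom.commutes M _
    rw [hzc', show F hz' = lev X θ hθ φ hconj p by rw [hp']; rfl, lev_apply, Subgroup.coe_mul,
      hp2, coe_dd, phi_diag X θ P₀ h₀ φ hx hy (sPart hK θ p) (nmK hK θ τ)⁻¹, tor_mul]
    · congr 1
      funext i
      simp only [zvec, dvec, Pi.mul_apply, map_pow]
      split_ifs <;> simp [pow_two]
    all_goals
      simp only [SL2.el, sPart, hp1, hp2, dD, Matrix.mul_apply, Fin.sum_univ_two, map_inv, map_pow,
        Matrix.algebraMap_matrix_apply]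
      simp
    field_simp
  have hgz : Commute g zc := hzc' ▸ hgF hz'
  -- the Levi subgroup
  have hgL : g ∈ (lev X θ hθ φ hconj).range := by
    rcases Nat.lt_or_ge q 3 with hlt | hq3
    swap
    · exact mem_range_of_comm X θ hθ P₀ h₀ φ hx hy hconj τ hq3 hτ' zc hzc hgz
    have hq' : q = 2 := by omega
    subst hq'
    have h8 : (8 : K) = 0 := by
      have := Nat.cast_card_eq_zero K
      rw [hK] at this
      simpa using this
    have h20 : (2 : K) = 0 := by
      rw [show (8 : K) = 2 ^ 3 by norm_num] at h8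
      exact pow_eq_zero_iff three_ne_zero |>.1 h8
    haveI : CharP K 2 := CharTwo.of_one_ne_zero_of_two_eq_zero one_ne_zero h20
    have h01 : ∀ x : E₀ 2 θ, x = 0 ∨ x = 1 := fun x =>
      (Two.fix01 θ hθ rfl (θE θ x)).imp (fun h => Subtype.ext h) fun h => Subtype.ext h
    haveI : Subsingleton (E₀ 2 θ)ˣ := (Nat.card_eq_one_iff_unique.1 cardE).1
    obtain ⟨h1', hh1⟩ : ∃ h1' : Hg, (h1' : Qˣ × Kˣ) = (e₀, 1) :=
      ⟨⟨(e₀, 1), Subsingleton.elim _ _⟩, rfl⟩
    have h11 : (1 : E₀ 2 θ) + 1 = 0 := Subtype.ext (by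
      show (1 : K) + 1 = 0
      rw [one_add_one_eq_two, h20])
    have hneg : (-1 : E₀ 2 θ) = 1 := neg_eq_of_add_eq_zero_left h11
    have he3 : orderOf e₀ = 3 := by rw [he₀, cardQ]; rfl
    have hM1 : M (e₀ : Q) ≠ 1 := by
      rw [← map_one M, hMinj.ne_iff]
      intro h
      rw [Units.val_eq_one.1 h, orderOf_one] at he3
      omega
    have hM3 : M (e₀ : Q) * M (e₀ : Q) * M (e₀ : Q) = 1 := by
      rw [← map_mul, ← map_mul, ← Units.val_mul, ← Units.val_mul]
      have h := pow_orderOf_eq_one e₀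
      rw [he3, pow_succ, pow_two] at h
      rw [h, Units.val_one, map_one]
    obtain ⟨hA, hA'⟩ : ∃ hA : Hg, (hA : Qˣ × Kˣ).2 = 1 ∧
        M ((hA : Qˣ × Kˣ).1 : Q) = !![1, 1; 1, 0] := by
      rcases two_cases h01 h11
        _ hM1 hM3 with h | h
      · exact ⟨h1', by rw [hh1], by rw [hh1]; exact h⟩
      · refine ⟨h1' * h1', by simp [hh1], ?_⟩
        rw [Subgroup.coe_mul, hh1, ← h, ← map_mul]
        rfl
    obtain ⟨lc, hlc⟩ : ∃ lc, lc = x₀ X θ P₀ 1 * (x₀ X θ P₀ 1 * y₀ X θ P₀ (-1) * x₀ X θ P₀ 1) :=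
      ⟨_, rfl⟩
    have hlF : lc = F hA := by
      rw [hlc, ← hx, ← hy, ← map_mul, ← map_mul, ← map_mul]
      show _ = lev X θ hθ φ hconj (f hA)
      have hd1 : dd X θ hθ 1 = 1 := by
        have h := dd_mul X θ hθ 1 1
        rw [mul_one] at h
        exact mul_eq_left.1 h.symm
      rw [lev_apply, show (f hA).1.2 = 1 from hA'.1, hd1, mul_one]
      congr 1
      refine Subtype.ext ?_
      simp only [sPart, show (f hA).1.2 = 1 from hA'.1, inv_one]
      rw [show dD hK θ 1 = 1 by ext i j; fin_cases i <;> fin_cases j <;> simp [dD], mul_one]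
      refine Eq.trans ?_ hA'.2.symm
      ext i j
      fin_cases i <;> fin_cases j <;>
        simp [Matrix.mul_apply, Fin.sum_univ_two, h11, hneg]
    have hlz : Commute lc zc := by
      letI := hcyc.commGroup
      rw [hlF, hzc']
      exact (Commute.all hA hz').map F
    exact Two.mem_range_two X θ hθ rfl P₀ h₀ φ hx hy hconj τ hτ' zc hzc lc hlc hlz hgz
      (hlF ▸ hgF hA)
  obtain ⟨p, rfl⟩ := hgL
  have hpc : Commute p (f h0) := by
    refine hLinj ?_
    rw [map_mul, map_mul]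
    exact hgF h0
  have hAc : Commute ((p.1.1 : GL (Fin 2) (E₀ q θ)) : Matrix (Fin 2) (Fin 2) (E₀ q θ))
      (M (e₀ : Q)) := by
    have h1 := congrArg (fun v : Lev hK θ =>
      (((v : GL (Fin 2) (E₀ q θ) × Kˣ).1 : GL (Fin 2) (E₀ q θ)) : Matrix (Fin 2) (Fin 2) (E₀ q θ)))
      hpc.eq
    have h2 : (((f h0 : Lev hK θ) : GL (Fin 2) (E₀ q θ) × Kˣ).1 : Matrix (Fin 2) (Fin 2) (E₀ q θ)) =
        M (e₀ : Q) := by
      show M ((h0 : Qˣ × Kˣ).1 : Q) = _
      rw [hh0]
    simpa [h2, Commute, SemiconjBy] using h1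
  have hpow : ∀ x : Qˣ, x ∈ Submonoid.powers e₀ := fun x => by
    refine (isOfFinOrder_of_finite e₀).mem_powers_iff_mem_zpowers.2 ?_
    rw [Subgroup.eq_top_of_card_eq (Subgroup.zpowers e₀) (by rw [Nat.card_zpowers, he₀])]
    exact Subgroup.mem_top x
  obtain ⟨a, ha⟩ := exists_leftMul b hpow hAc
  have hdet := lev_det θ p
  rw [ha, ← Algebra.norm_eq_matrix_det b] at hdet
  have ha0 : a ≠ 0 := fun h => by
    rw [h, Algebra.norm_zero] at hdet
    exact Units.ne_zero _ hdet.symm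
  rw [hH]
  refine ⟨⟨(Units.mk0 a ha0, p.1.2), Units.ext hdet⟩, ?_⟩
  show lev X θ hθ φ hconj (f _) = _
  congr 1
  exact Subtype.ext (Prod.ext (Units.ext ha.symm) rfl)

end Cfsg.Agent.Chevalley.Twist.D4
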