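import Cfsg.Agent.Lib.Chevalley.Twist.TorusD4
import Mathlib.Algebra.CharP.Two

/-!
The centraliser of a cyclic torus of order twenty-one in the smallest triality twisted group.
-/

set_option autoImplicit false

open scoped Matrix

namespace Cfsg.Agent.Chevalley.Twist.D4

open Cfsg.Lie Cfsg.Agent.Chevalley Cfsg.Agent.Chevalley.Table Cfsg.Agent.Chevalley.Cert
  Cfsg.Agent.Chevalley.Group Cfsg.Agent.Chevalley.NormalForm Cfsg.Agent.Chevalley.AutThm
  Cfsg.Agent.Chevalley.Borel Cfsg.Agent.Chevalley.Bruhat Cfsg.Agent.Chevalley.Weyl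
  Cfsg.Agent.Chevalley.Unip Cfsg.Agent.Chevalley.TorusCard Cfsg.Agent.Chevalley.WeylEnum

namespace Two

/-! ### The fixed Weyl group -/

/-- The word of a word in the orbits. -/
abbrev Jw (e : List ℕ) : List ℕ := e.flatMap fun a => Js.getD a []

/-- The fixed Weyl group. -/
abbrev E12 : List (List ℕ) := [[], [0], [1], [0, 1], [1, 0], [0, 1, 0], [1, 0, 1], [0, 1, 0, 1],
  [1, 0, 1, 0], [0, 1, 0, 1, 0], [1, 0, 1, 0, 1], [0, 1, 0, 1, 0, 1]]

theorem jw_lt : ∀ e ∈ E12, (∀ a ∈ e, a < 2) ∧ ∀ i ∈ Jw e, i < chevD4.rank := by decide +kernel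

theorem cover_ok : ∀ e ∈ E12, ∀ a < 2, ∃ e' ∈ E12, ∀ r < 24,
    wL chevD4 (Jw (e ++ [a])) r = wL chevD4 (Jw e') r := by decide +kernel

theorem cover (w : List ℕ) (hw : ∀ a ∈ w, a < 2) : ∃ e ∈ E12, ∀ r < 24,
    wL chevD4 (Jw w) r = wL chevD4 (Jw e) r := by
  have h24 := d4_consts.1
  induction w using List.reverseRecOn with
  | nil => exact ⟨[], by simp, fun _ _ => rfl⟩
  | append_singleton w a ih =>
    obtain ⟨e, he, hwe⟩ := ih fun b hb => hw b (List.mem_append_left _ hb)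
    have ha := hw a (by simp)
    obtain ⟨e', he', h'⟩ := cover_ok e he a ha
    refine ⟨e', he', fun r hr => ?_⟩
    rw [← h' r hr]
    simp only [Jw, List.flatMap_append, wL_append]
    refine hwe _ ?_
    rw [← h24] at hr ⊢
    refine wL_lt hC (fun i hi => ?_) hr
    rw [List.flatMap_singleton] at hi
    interval_cases a <;> revert i <;> decide

theorem keep_ok : ∀ e ∈ E12, (∀ r < 24, (pv r 0 + 2 * pv r 1 + 4 * pv r 2 -
    (pv (wL chevD4 (Jw e) r) 0 + 2 * pv (wL chevD4 (Jw e) r) 1 +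
      4 * pv (wL chevD4 (Jw e) r) 2)) % 7 = 0) →
    e ∈ [[], [0], [1, 0, 1], [0, 1, 0, 1], [1, 0, 1, 0], [0, 1, 0, 1, 0]] := by decide +kernel

theorem supp_ok : ∀ r < 24, 0 < Data.D4.tab.phi r →
    (pv r 0 + 2 * pv r 1 + 4 * pv r 2) % 7 = 0 → r = 14 ∨ r = 22 ∨ r = 23 := by decide +kernel

theorem root_vals : chevD4.simple 1 = 14 ∧ chevD4.neg 14 = 9 ∧
    chevD4.posRoots = [12, 13, 14, 15, 16, 17, 18, 19, 20, 21, 22, 23] ∧
    chevD4.reflectRoot 1 22 = 23 ∧ chevD4.reflectRoot 1 23 = 22 ∧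
    (chevD4.commTerms 14 23).length = 0 ∧ (chevD4.commTerms 14 22).map (fun c => c.1) = [23] := by
  decide +kernel

theorem pos_a : 0 < Data.D4.tab.phi (wL chevD4 (Jw [1, 0, 1]) (chevD4.simple 1)) ∧
    0 < Data.D4.tab.phi (wL chevD4 (Jw [0, 1, 0, 1]) (chevD4.simple 1)) := by decide +kernel

theorem distinct_ok : ∀ p ∈ [([0, 1, 0, 1], [1, 0, 1, 0]), ([1, 0, 1], [1, 0, 1, 0]),
      ([0, 0, 1, 0, 1], [0, 1, 0, 1, 0]), ([0, 1, 0, 1], [0, 1, 0, 1, 0]),
      ([], [1, 0, 1]), ([], [0, 1, 0, 1]), ([], [1, 0, 1, 0]), ([], [0, 1, 0, 1, 0]),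
      (([], [0]) : List ℕ × List ℕ)],
    ¬ ∀ r < 24, wL chevD4 (Jw p.1) r = wL chevD4 (Jw p.2) r := by decide +kernel

/-! ### Cells -/

variable {K : Type*} [Field K]

/-- A Bruhat cell. -/
def Cell (e : List ℕ) (g : GL chevD4.Idx K) : Prop :=
  ∃ b ∈ chevD4.borelSubgroup K, ∃ c : ℕ → Kˣ, ∃ b' ∈ chevD4.borelSubgroup K,
    g = b * (tor chevD4 c * nL hC K (Jw e)) * b'

theorem cell_eq {e e' : List ℕ} {g : GL chevD4.Idx K} (h : Cell e g) (h' : Cell e' g)
    (he : ∀ i ∈ Jw e, i < chevD4.rank) (he' : ∀ i ∈ Jw e', i < chevD4.rank) :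
    ∀ r < 24, wL chevD4 (Jw e) r = wL chevD4 (Jw e') r := by
  obtain ⟨b, hb, c, u, hu, rfl⟩ := h
  obtain ⟨b', hb', c', u', hu', e1⟩ := h'
  intro r hr
  have hn : tor chevD4 c * nL hC K (Jw e) ∈ chevD4.monomialSubgroup K :=
    (mem_N_iff hC).2 ⟨c, _, he, rfl⟩
  have hn' : tor chevD4 c' * nL hC K (Jw e') ∈ chevD4.monomialSubgroup K :=
    (mem_N_iff hC).2 ⟨c', _, he', rfl⟩
  exact eqv_of_mul_H he he' (inv_mul_mem_H hC hb hb' hn hn' hu hu' e1) (mul_inv_cancel_left _ _)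
    (d4_consts.1.symm ▸ hr)

/-- The element of order three of the Levi subgroup. -/
noncomputable def lG : GL chevD4.Idx K :=
  xg hC (chevD4.simple 1) 1 * ng hC (chevD4.simple 1) 1

theorem h1r : 1 < chevD4.rank := by decide

theorem xB (t : K) : xg hC (chevD4.simple 1) t ∈ chevD4.borelSubgroup K :=
  Subgroup.mem_sup_left (xg_mem_U hC (hC.simple_lt h1r) (hC.phi_simple h1r) t)

theorem cell_left {e : List ℕ} {g : GL chevD4.Idx K} (h : Cell e g)
    (he : ∀ i ∈ Jw e, i < chevD4.rank) : Cell (0 :: e) (lG * g) ∨ Cell e (lG * g) := by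
  obtain ⟨b, hb, c, u, hu, rfl⟩ := h
  obtain ⟨c', hc', -⟩ := ng_conj_tor (F := K) hC h1r c
  have e0 : ∀ x y : GL chevD4.Idx K, x * (tor chevD4 c * nL hC K (Jw e)) = y →
      lG * (b * (tor chevD4 c * nL hC K (Jw e)) * u) =
        xg hC (chevD4.simple 1) 1 * (ng hC (chevD4.simple 1) 1 * b *
          (tor chevD4 c * nL hC K (Jw e))) * u := fun _ _ _ => by
    simp only [lG, mul_assoc]
  rcases mul_mem_union hC h1r ((mem_N_iff hC).2 ⟨c, _, he, rfl⟩) hb with h2 | h2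
  · obtain ⟨x, hx, y, hy, e3⟩ := DoubleCoset.mem_doubleCoset.1 h2
    refine Or.inl ⟨xg hC (chevD4.simple 1) 1 * x, mul_mem (xB 1) hx, c', y * u, mul_mem hy hu, ?_⟩
    rw [e0 1 _ rfl, e3, show Jw (0 :: e) = 1 :: Jw e from rfl, nL_cons, ← hc']
    group
  · obtain ⟨x, hx, y, hy, e3⟩ := DoubleCoset.mem_doubleCoset.1 h2
    refine Or.inr ⟨xg hC (chevD4.simple 1) 1 * x, mul_mem (xB 1) hx, c, y * u, mul_mem hy hu, ?_⟩
    rw [e0 1 _ rfl, e3]
    group

theorem cell_right {e : List ℕ} {g : GL chevD4.Idx K} (h : Cell e g)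
    (he : ∀ i ∈ Jw e, i < chevD4.rank)
    (hp : 0 < Data.D4.tab.phi (wL chevD4 (Jw e) (chevD4.simple 1))) :
    Cell (e ++ [0]) (g * lG) := by
  have hs := hC.simple_lt h1r
  obtain ⟨b, hb, c, u, hu, rfl⟩ := h
  obtain ⟨u₀, hu₀, k, hk, e1⟩ := (mem_B_iff hC).1 (mul_mem hu (xB 1))
  obtain ⟨v, hv, t, e2⟩ := U_split hC hs (hC.phi_simple h1r) (inv_mem hu₀)
  have e2' : u₀ = xg hC (chevD4.simple 1) (-t) * v⁻¹ := by
    rw [← xg_inv hC, ← mul_inv_rev, ← e2, inv_inv]
  obtain ⟨η, -, hη'⟩ := NormalForm.conj_xg (F := K) hC he c hs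
  obtain ⟨N, hN⟩ : ∃ N, N = ng hC (chevD4.simple 1) (1 : K) := ⟨_, rfl⟩
  have hvN : N⁻¹ * v⁻¹ * N ∈ chevD4.borelSubgroup K := by
    refine Subgroup.mem_sup_left (Uom_le_U hC (chevD4.simple 1) ?_)
    refine (Subgroup.mem_normalizer_iff.1 (hN ▸ ng_normalizes_Uom hC h1r) _).2 ?_
    rw [show N * (N⁻¹ * v⁻¹ * N) * N⁻¹ = v⁻¹ by group]
    exact inv_mem hv
  have hkN : N⁻¹ * k * N ∈ chevD4.borelSubgroup K := by
    refine Subgroup.mem_sup_right ?_
    have h5 := H_conj hC (inv_mem (ng_mem_N (F := K) hC h1r)) hk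
    rwa [← hN, inv_inv] at h5
  refine ⟨b * xg hC (wL chevD4 (Jw e) (chevD4.simple 1)) (η * -t),
    mul_mem hb (Subgroup.mem_sup_left (xg_mem_U hC (wL_lt hC he hs) hp _)), c,
    N⁻¹ * v⁻¹ * N * (N⁻¹ * k * N), mul_mem hvN hkN, ?_⟩
  rw [show Jw (e ++ [0]) = Jw e ++ [1] by simp [Jw], nL_append, nL_singleton, ← hη' (-t), ← hN,
    lG, ← hN, show b * (tor chevD4 c * nL hC K (Jw e)) * u * (xg hC (chevD4.simple 1) 1 * N) =
      b * (tor chevD4 c * nL hC K (Jw e)) * (u * xg hC (chevD4.simple 1) 1) * N by group, e1, e2']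
  group

variable [CharP K 2]

theorem involutions :
    xg hC (chevD4.simple 1) (1 : K) * xg hC (chevD4.simple 1) 1 = 1 ∧
      (ng hC (chevD4.simple 1) (1 : K))⁻¹ = ng hC (chevD4.simple 1) 1 := by
  refine ⟨by rw [← xg_add hC, CharTwo.add_self_eq_zero, xg_zero hC], ?_⟩
  simp only [ng, mul_inv_rev, xg_inv hC, CharTwo.neg_eq, inv_one, mul_assoc]

theorem cell_down {e : List ℕ} {v m : GL chevD4.Idx K} {t : K}
    (hv : v ∈ chevD4.borelSubgroup K) (c : ℕ → Kˣ)
    (hm : m = tor chevD4 c * nL hC K (Jw (e ++ [0]))) {r : GL chevD4.Idx K}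
    (hr : r ∈ Uom hC K (chevD4.simple 1)) (ht : t = 0 ∨ t = 1) :
    Cell e (v * m * (xg hC (chevD4.simple 1) t * r) * lG⁻¹) ∨
      Cell e (v * m * (xg hC (chevD4.simple 1) t * r) * lG) := by
  obtain ⟨hX, hN⟩ := involutions (K := K)
  have hX' : (xg hC (chevD4.simple 1) (1 : K))⁻¹ = xg hC (chevD4.simple 1) 1 :=
    inv_eq_of_mul_eq_one_right hX
  obtain ⟨N, hNd⟩ : ∃ N, N = ng hC (chevD4.simple 1) (1 : K) := ⟨_, rfl⟩
  obtain ⟨W, hWd⟩ : ∃ W, W = xg hC (chevD4.simple 1) (1 : K) := ⟨_, rfl⟩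
  rw [← hNd] at hN
  rw [← hWd] at hX hX'
  have hNN : N * N = 1 := by
    conv_lhs => arg 1; rw [← hN]
    exact inv_mul_cancel N
  have hnorm : ∀ x ∈ Uom hC K (chevD4.simple 1), N * x * N ∈ Uom hC K (chevD4.simple 1) ∧
      W * x * W ∈ Uom hC K (chevD4.simple 1) := fun x hx => by
    have a1 := (Subgroup.mem_normalizer_iff.1 (hNd ▸ ng_normalizes_Uom hC h1r) x).1 hx
    have a2 := (Subgroup.mem_normalizer_iff.1 (hWd ▸ xg_normalizes_Uom hC h1r 1) x).1 hx
    rw [hN] at a1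
    rw [hX'] at a2
    exact ⟨a1, a2⟩
  have hUB : Uom hC K (chevD4.simple 1) ≤ chevD4.borelSubgroup K :=
    (Uom_le_U hC _).trans le_sup_left
  have hWB : W ∈ chevD4.borelSubgroup K := hWd ▸ xB 1
  rw [hm, show Jw (e ++ [0]) = Jw e ++ [1] by simp [Jw], nL_append, nL_singleton, lG, ← hNd, ← hWd]
  rcases ht with rfl | rfl
  · refine Or.inl ⟨v, hv, c, N * r * N * W, mul_mem (hUB (hnorm r hr).1) hWB, ?_⟩
    rw [xg_zero hC, one_mul, mul_inv_rev, hN, hX']
    simp only [mul_assoc]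
  · refine Or.inr ⟨v, hv, c, N * (W * r * W) * N, hUB (hnorm _ (hnorm r hr).2).1, ?_⟩
    rw [← hWd]
    simp only [mul_assoc]

/-! ### The centraliser -/

theorem roots_split : ∀ r ∈ chevD4.posRoots, r ≠ 14 → r ≠ 22 → r ≠ 23 → r ∈ chevD4.posRoots ∧
    (pv r 0 + 2 * pv r 1 + 4 * pv r 2) % 7 ≠ 0 := by decide +kernel

theorem comm_vals : chevD4.commTerms 14 22 = [(23, 1, 1, 1)] ∧ chevD4.commTerms 14 23 = [] ∧
    chevD4.commTerms 22 23 = [] := by decide +kernel

theorem eta_one (i r : ℕ) : ((Data.D4.tab.eta i r : ℤ) : K) = 1 := by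
  rcases Certified.eta_cases (T := Data.D4.tab) i r with e | e <;> simp [e, CharTwo.neg_eq]

/-- Nothing but one commutes with the element of order three among the unipotent elements. -/
theorem unip_trivial (e f : K)
    (h : lG * (xg hC 22 e * xg hC 23 f) = xg hC 22 e * xg hC 23 f * lG) : e = 0 ∧ f = 0 := by
  obtain ⟨hs, -, -, r22, r23, -, -⟩ := root_vals
  obtain ⟨c1, c2, c3⟩ := comm_vals
  obtain ⟨hX, hN⟩ := involutions (K := K)
  have h22 : (22 : ℕ) < chevD4.nroots := by rw [d4_consts.1]; decide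
  have h23 : (23 : ℕ) < chevD4.nroots := by rw [d4_consts.1]; decide
  have h14 : (14 : ℕ) < chevD4.nroots := by rw [d4_consts.1]; decide
  have a22 := ng_conj_x (F := K) hC h1r h22 e
  have a23 := ng_conj_x (F := K) hC h1r h23 f
  rw [r22, eta_one, one_mul] at a22
  rw [r23, eta_one, one_mul] at a23
  have b23 : ∀ u : K, xg hC 23 u * xg hC 14 1 = xg hC 14 1 * xg hC 23 u := fun u => by
    rw [xg_comm hC h14 h23 (by decide) (by decide +kernel)]
    simp [ChevalleyDatum.commWord, c2]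
  have b22 : ∀ u : K, xg hC 22 u * xg hC 14 1 = xg hC 14 1 * xg hC 22 u * xg hC 23 u := fun u => by
    rw [xg_comm hC h14 h22 (by decide) (by decide +kernel)]
    simp [ChevalleyDatum.commWord, c1, CharTwo.neg_eq, mul_assoc]
  have b3 : ∀ a b : K, xg hC 23 a * xg hC 22 b = xg hC 22 b * xg hC 23 a := fun a b => by
    rw [xg_comm hC h22 h23 (by decide) (by decide +kernel)]
    simp [ChevalleyDatum.commWord, c3]
  rw [hs] at hX hN
  simp only [lG, hs] at h
  rw [hs] at a22 a23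
  obtain ⟨N, hNd⟩ : ∃ N, N = ng hC 14 (1 : K) := ⟨_, rfl⟩
  obtain ⟨W, hWd⟩ : ∃ W, W = xg hC 14 (1 : K) := ⟨_, rfl⟩
  simp only [← hNd, ← hWd] at h a22 a23 b23 b22 hX hN
  have hX' : W⁻¹ = W := inv_eq_of_mul_eq_one_right hX
  have h1 : xg hC 22 e * xg hC 23 f = W * (xg hC 23 e * xg hC 22 f) * W := by
    have h2 : W * N * (xg hC 22 e * xg hC 23 f) * (W * N)⁻¹ = xg hC 22 e * xg hC 23 f := by
      rw [h]; group
    conv_lhs => rw [← h2]
    rw [← a22, ← a23, mul_inv_rev, hX']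
    group
  rw [mul_assoc, mul_assoc, b22, show W * (xg hC 23 e * (W * xg hC 22 f * xg hC 23 f)) =
    W * (xg hC 23 e * W) * (xg hC 22 f * xg hC 23 f) by group, b23, ← mul_assoc W W, hX, one_mul,
    ← mul_assoc, b3, mul_assoc, ← xg_add hC] at h1
  have h3 : prodX hC [22, 23] (fun r => if r = 22 then e else f) =
      prodX hC [22, 23] (fun r => if r = 22 then f else e + f) := by
    simpa [prodX] using h1
  have h4 := prodX_inj hC (L := [22, 23]) (by decide) (by decide +kernel) h3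
  have he := h4 22 (by simp)
  have hf := h4 23 (by simp)
  simp at he hf
  exact ⟨hf, he ▸ hf⟩

variable [Fintype K] {q : ℕ} {hK : Fintype.card K = q ^ 3} (X : Setup (K := K) hK) (θ : K →+* K)
  (hθ : ∀ t, θ t = t ^ q) (hq2 : q = 2) (P₀ : Par X.S (X.O.J 0) (E₀ q θ))
  (h₀ : ∀ i t, P₀.em i t = (t : K))

include hθ hq2 in
omit [CharP K 2] in
theorem fix01 {t : K} (h : θ t = t) : t = 0 ∨ t = 1 := by
  rw [hθ, hq2, sq] at h
  rcases eq_or_ne t 0 with h0 | h0
  · exact Or.inl h0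
  · exact Or.inr (mul_left_cancel₀ h0 (h.trans (mul_one t).symm))

include hθ X in
omit [CharP K 2] in
theorem t_fix {t : K} {r : GL chevD4.Idx K} (hr : r ∈ Uom hC K (chevD4.simple 1))
    (hF : xg hC (chevD4.simple 1) t * r ∈ Fx X.S) : θ t = t := by
  have hs := hC.simple_lt h1r
  have hρ : X.S.ρ (chevD4.simple 1) = chevD4.simple 1 := by
    rw [X.S.ρ_simple 1 h1r, X.π_eq]; rfl
  obtain ⟨r', hr'⟩ := Img.exists_of_mem (S := X.S)
    (B_le_group hC (Subgroup.mem_sup_left (Uom_le_U hC _ hr)))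
  have hr'm : r' ∈ Uom hC K (chevD4.simple 1) := by
    refine Img.closure (fun x hx => ?_) hr hr'
    obtain ⟨j, u, hj, ⟨hp, hne⟩, rfl⟩ := hx
    exact ⟨_, Subgroup.subset_closure ⟨_, _, X.S.ρ_lt j hj, ⟨ρ_pos X.S j hj hp,
      fun e => hne (ρ_inj X.S hj hs (e.trans hρ.symm))⟩, rfl⟩, img_xg X.S hj u⟩
  have h1 := ((img_xg X.S hs t).mul hr').unique hF
  rw [hρ, X.S.act_simple 1 h1r, hom_pow X (by decide), ← hθ] at h1
  have hd : xg hC (chevD4.simple 1) (θ t - t) ∈ Uom hC K (chevD4.simple 1) := by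
    have e1 : (xg hC (chevD4.simple 1) t)⁻¹ * xg hC (chevD4.simple 1) (θ t) = r * r'⁻¹ := by
      rw [eq_mul_inv_iff_mul_eq, mul_assoc, h1]; group
    rw [sub_eq_neg_add, xg_add hC, ← xg_inv hC, e1]
    exact mul_mem hr (inv_mem hr'm)
  have h2 := Uom_le_U hC _
    ((Subgroup.mem_normalizer_iff.1 (ng_normalizes_Uom (F := K) hC h1r) _).1 hd)
  rw [ng_conj_x hC h1r hs, hC.reflect_simple h1r] at h2
  have h3 : xg hC (chevD4.neg (chevD4.simple 1)) ((Data.D4.tab.eta 1 (chevD4.simple 1) : K) *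
      (θ t - t)) ∈ (⊥ : Subgroup (GL chevD4.Idx K)) := by
    rw [← B_inf_V hC]
    refine ⟨Subgroup.mem_sup_left h2, xg_mem_V hC (hC.neg_lt hs) ?_ _⟩
    have := hC.phi_simple h1r
    rw [hC.phi_neg hs]
    omega
  rw [Subgroup.mem_bot, ← xg_zero hC (chevD4.neg (chevD4.simple 1))] at h3
  obtain ⟨η, hη, he⟩ := eta_field (F := K) (i := 1) (r := chevD4.simple 1) hC
  have h4 := xg_injective hC (hC.neg_lt hs) h3
  rw [← he] at h4
  exact sub_eq_zero.1 ((mul_eq_zero.1 h4).resolve_left hη)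

variable (φ : Matrix.SpecialLinearGroup (Fin 2) (E₀ q θ) →* twistedD4 K q)
  (hx : ∀ t, φ (SL2.sx t) = x₀ X θ P₀ t) (hy : ∀ t, φ (SL2.sy t) = y₀ X θ P₀ t)
  (hconj : ∀ t g, dd X θ hθ t * φ g * (dd X θ hθ t)⁻¹ = φ (cD hK θ t g)) (t₀' : Kˣ)

include hθ hq2 h₀ hx hy in
/-- What commutes with the cyclic torus lies in the Levi subgroup. -/
theorem mem_range_two (hgen : orderOf t₀' = q ^ 3 - 1)
    (zc : twistedD4 K q) (hzc : (zc : GL chevD4.Idx K) = tor chevD4 (zvec (hK := hK) θ t₀'))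
    (lc : twistedD4 K q) (hlc : lc = x₀ X θ P₀ 1 * (x₀ X θ P₀ 1 * y₀ X θ P₀ (-1) * x₀ X θ P₀ 1))
    (hlz : Commute lc zc) {g : twistedD4 K q} (hgz : Commute g zc) (hgl : Commute g lc) :
    g ∈ (lev X θ hθ φ hconj).range := by
  obtain ⟨hrX, hrT⟩ := lev_range X θ hθ P₀ h₀ φ hx hy hconj
  obtain ⟨hs14, -, hpos, -⟩ := root_vals
  have h24 := d4_consts.1
  have hs := hC.simple_lt h1r
  have hq7 : q ^ 3 - 1 = 7 := by subst hq2; rfl
  obtain ⟨z, hz⟩ : ∃ z, z = (zc : GL chevD4.Idx K) := ⟨_, rfl⟩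
  have hzH : z ∈ chevD4.diagonalSubgroup K := by rw [hz, hzc]; exact tor_mem_H hC _
  have hlG : (lc : GL chevD4.Idx K) = lG := by
    simp only [hlc, Subgroup.coe_mul, (coe_x₀ X θ P₀ h₀ _).1, (coe_x₀ X θ P₀ h₀ _).2, lG, ng]
    simp
  have hlR : lc ∈ (lev X θ hθ φ hconj).range := by
    rw [hlc]; exact mul_mem (hrX 1).1 (mul_mem (mul_mem (hrX 1).1 (hrX (-1)).2) (hrX 1).1)
  have hexp : ∀ r, torChar chevD4 (zvec (hK := hK) θ t₀') r =
      t₀' ^ (pv r 0 + 2 * pv r 1 + 4 * pv r 2) := fun r => by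
    rw [zvec_char θ hθ, hq2]; norm_num
  have cls : ∀ g : twistedD4 K q, Commute g zc →
      ∃ e ∈ ([[], [0], [1, 0, 1], [0, 1, 0, 1], [1, 0, 1, 0], [0, 1, 0, 1, 0]] : List (List ℕ)),
        ∃ v ∈ chevD4.posUnipotent K, v ∈ Fx X.S ∧ z * v * z⁻¹ = v ∧ ∃ c, ∃ u,
          u ∈ chevD4.posUnipotent K ∧ u ∈ Fx X.S ∧
          tor chevD4 c * nL hC K (Jw e) * u * (tor chevD4 c * nL hC K (Jw e))⁻¹ ∈
            chevD4.negUnipotent K ∧
          tor chevD4 c * nL hC K (Jw e) ∈ Fx X.S ∧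
          (g : GL chevD4.Idx K) = v * (tor chevD4 c * nL hC K (Jw e)) * u := by
    intro g hg
    obtain ⟨v, hv, hvF, n, hn, hnF, u, hu, huF, e, hzv, -, hzn⟩ := comm_form X zc hz hzH hg
    obtain ⟨huU, huV⟩ := (mem_Uminus_iff hC hn).1 hu
    obtain ⟨d, L, hL, rfl⟩ := (mem_N_iff hC).1 hn
    obtain ⟨w, hw, hLw⟩ := exists_orbit_word (O := X.O) hL (equiv_of_fixed hL hnF)
    have hw2 : ∀ a ∈ w, a < 2 := fun a ha => X.k_eq ▸ hw a ha
    have hJw : w.flatMap X.O.J = Jw w := by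
      rw [show X.O.J = fun a => Js.getD a [] from funext X.J_eq]
    rw [hJw] at hLw
    obtain ⟨e', he', hwe⟩ := cover w hw2
    have hLe : Eqv chevD4 L (Jw e') := fun r hr => (hLw r hr).trans (hwe r (h24 ▸ hr))
    obtain ⟨d', hd'⟩ := Order.nL_eq_tor_mul (F := K) hC hL (jw_lt e' he').2 hLe
    have hne : tor chevD4 d * nL hC K L = tor chevD4 (d * d') * nL hC K (Jw e') := by
      rw [hd', ← mul_assoc, tor_mul]
    have hkeep : ∀ r < 24, (pv r 0 + 2 * pv r 1 + 4 * pv r 2 -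
        (pv (wL chevD4 (Jw e') r) 0 + 2 * pv (wL chevD4 (Jw e') r) 1 +
          4 * pv (wL chevD4 (Jw e') r) 2)) % 7 = 0 := by
      intro r hr
      rw [← h24] at hr
      rw [← hLe r hr]
      have hwl := wL_lt hC hL hr
      obtain ⟨η, hη, hη'⟩ := NormalForm.conj_xg (F := K) hC hL d hr
      obtain ⟨m, hm⟩ : ∃ m, m = tor chevD4 d * nL hC K L := ⟨_, rfl⟩
      rw [← hm] at hη' hzn
      have hcm : z * m = m * z := mul_inv_eq_iff_eq_mul.1 hzn
      have h1 : z * (m * xg hC r 1 * m⁻¹) * z⁻¹ = m * (z * xg hC r 1 * z⁻¹) * m⁻¹ := by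
        calc _ = z * m * xg hC r 1 * (z * m)⁻¹ := by group
          _ = _ := by rw [hcm]; group
      rw [hη', hz, hzc, tor_conj_x hC _ _ _ hwl, tor_conj_x hC _ _ _ hr, hη'] at h1
      have h2 := xg_injective hC hwl h1
      rw [mul_one, mul_one, mul_comm η] at h2
      have h3 := Units.ext (mul_right_cancel₀ hη h2)
      rw [hexp, hexp, eq_comm, ← mul_inv_eq_one, ← zpow_neg, ← zpow_add,
        ← orderOf_dvd_iff_zpow_eq_one, hgen, hq7, ← sub_eq_add_neg] at h3
      exact Int.emod_eq_zero_of_dvd h3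
    refine ⟨e', keep_ok e' he' hkeep, v, hv, hvF, hzv, d * d', u, huU, huF, ?_, ?_, ?_⟩
    · rw [← hne]; exact huV
    · rw [← hne]; exact hnF
    · rw [← hne]; exact e
  have closed : ∀ h : twistedD4 K q, Commute h zc → Commute h lc →
      Commute (h * lc) zc ∧ Commute (h * lc) lc ∧ Commute (h * lc⁻¹) zc ∧ Commute (h * lc⁻¹) lc :=
    fun h a b => ⟨a.mul_left hlz, b.mul_left (Commute.refl lc), a.mul_left hlz.inv_left,
      b.mul_left (Commute.refl lc).inv_left⟩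
  have noCell : ∀ h : twistedD4 K q, Commute h lc →
      ¬ Cell [1, 0, 1] (h : GL chevD4.Idx K) ∧ ¬ Cell [0, 1, 0, 1] (h : GL chevD4.Idx K) := by
    intro h hh
    have hcm : lG * (h : GL chevD4.Idx K) = (h : GL chevD4.Idx K) * lG := by
      rw [← hlG, ← Subgroup.coe_mul, ← Subgroup.coe_mul, hh.eq]
    constructor <;> intro hcell
    · have hr := cell_right hcell (by decide) pos_a.1
      rcases cell_left hcell (by decide) with hl | hl <;> rw [hcm] at hl
      · exact distinct_ok ([0, 1, 0, 1], [1, 0, 1, 0]) (by simp) (cell_eq hl hr (by decide) (by decide))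
      · exact distinct_ok ([1, 0, 1], [1, 0, 1, 0]) (by simp) (cell_eq hl hr (by decide) (by decide))
    · have hr := cell_right hcell (by decide) pos_a.2
      rcases cell_left hcell (by decide) with hl | hl <;> rw [hcm] at hl
      · exact distinct_ok ([0, 0, 1, 0, 1], [0, 1, 0, 1, 0]) (by simp)
          (cell_eq hl hr (by decide) (by decide))
      · exact distinct_ok ([0, 1, 0, 1], [0, 1, 0, 1, 0]) (by simp)
          (cell_eq hl hr (by decide) (by decide))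
  have down : ∀ h : twistedD4 K q, Commute h zc → Commute h lc → ∀ e : List ℕ,
      ∀ v ∈ chevD4.posUnipotent K, ∀ c : ℕ → Kˣ, ∀ u ∈ chevD4.posUnipotent K, u ∈ Fx X.S →
      (h : GL chevD4.Idx K) = v * (tor chevD4 c * nL hC K (Jw (e ++ [0]))) * u →
      ∃ g' : twistedD4 K q, Commute g' zc ∧ Commute g' lc ∧ Cell e (g' : GL chevD4.Idx K) ∧
        (g' ∈ (lev X θ hθ φ hconj).range → h ∈ (lev X θ hθ φ hconj).range) := by
    intro h a b e v hv c u hu huF he
    obtain ⟨r, hr, t, e2⟩ := U_split hC hs (hC.phi_simple h1r) (inv_mem hu)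
    have e2' : u = xg hC (chevD4.simple 1) (-t) * r⁻¹ := by
      rw [← xg_inv hC, ← mul_inv_rev, ← e2, inv_inv]
    have ht := fix01 θ hθ hq2 (t_fix X θ hθ (inv_mem hr) (e2' ▸ huF))
    obtain ⟨c1, c2, c3, c4⟩ := closed h a b
    rcases cell_down (e := e) (Subgroup.mem_sup_left hv) c rfl (inv_mem hr) ht with h5 | h5 <;>
      rw [← e2', ← he, ← hlG] at h5
    · refine ⟨h * lc⁻¹, c3, c4, ?_, fun hg => ?_⟩
      · rwa [Subgroup.coe_mul, Subgroup.coe_inv]
      · simpa using mul_mem hg hlR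
    · refine ⟨h * lc, c1, c2, ?_, fun hg => ?_⟩
      · rwa [Subgroup.coe_mul]
      · simpa using mul_mem hg (inv_mem hlR)
  have base : ∀ h : twistedD4 K q, Commute h zc → Commute h lc → Cell [] (h : GL chevD4.Idx K) →
      h ∈ (lev X θ hθ φ hconj).range := by
    intro h a b hcell
    obtain ⟨e, he, v, hv, hvF, hzv, c, u, hu, huF, huV, hnF, eh⟩ := cls h a
    have hUB : chevD4.posUnipotent K ≤ chevD4.borelSubgroup K := le_sup_left
    have hee := cell_eq hcell ⟨v, hUB hv, c, u, hUB hu, eh⟩ (by decide) (jw_lt e (by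
      fin_cases he <;> simp)).2
    obtain rfl : e = [] := by
      simp only [List.mem_cons, List.not_mem_nil, or_false] at he
      rcases he with rfl | rfl | rfl | rfl | rfl | rfl
      · rfl
      all_goals exact absurd hee (distinct_ok (_, _) (by simp))
    simp only [Jw, List.flatMap_nil, show nL hC K [] = 1 by simp [nL], mul_one] at huV hnF eh
    have hu1 : u = 1 := by
      have h3 := U_inf_V hC
        ((Subgroup.mem_normalizer_iff.1 (H_normalizes_U hC (tor_mem_H hC c)) u).1 hu) huV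
      rwa [mul_inv_eq_one, mul_eq_left] at h3
    rw [hu1, mul_one] at eh
    have hxF : xg hC (chevD4.simple 1) (1 : K) ∈ Fx X.S := by
      rw [show (1 : K) = ((1 : E₀ q θ) : K) from rfl, ← (coe_x₀ X θ P₀ h₀ 1).1]
      exact X.gen.le (x₀ X θ P₀ 1).2
    have hχ : torChar chevD4 c (chevD4.simple 1) = 1 := by
      have h3 := mul_mem (mul_mem hnF hxF) (inv_mem hnF)
      rw [tor_conj_x hC _ _ _ hs, mul_one,
        ← mul_one (xg hC (chevD4.simple 1) _)] at h3
      rcases fix01 θ hθ hq2 (t_fix X θ hθ (one_mem _) h3) with h4 | h4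
      · exact absurd h4 (Units.ne_zero _)
      · exact Units.ext h4
    have hcl : tor chevD4 c * lG * (tor chevD4 c)⁻¹ = lG := by
      rw [← MulAut.conj_apply]
      simp only [lG, ng, map_mul, MulAut.conj_apply, tor_conj_x hC _ _ _ hs,
        tor_conj_x hC _ _ _ (hC.neg_lt hs), torChar_neg hC c hs, hχ, inv_one, Units.val_one, one_mul]
    have hvl : lG * v = v * lG := by
      have h3 : lG * (v * tor chevD4 c) = v * tor chevD4 c * lG := by
        rw [← eh, ← hlG, ← Subgroup.coe_mul, ← Subgroup.coe_mul, b.eq]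
      rw [mul_assoc v, mul_inv_eq_iff_eq_mul.1 hcl, ← mul_assoc, ← mul_assoc] at h3
      exact mul_right_cancel h3
    have hv1 : v = 1 := by
      obtain ⟨f, rfl⟩ := exists_prodX hC hv
      have hroots : ∀ r ∈ chevD4.posRoots, r < chevD4.nroots ∧ 0 < Data.D4.tab.phi r :=
        fun r hr => (mem_posRoots hC).1 hr
      have hscaled : prodX hC chevD4.posRoots
          (fun r => (torChar chevD4 (zvec (hK := hK) θ t₀') r : K) * f r) =
          prodX hC chevD4.posRoots f := by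
        refine Eq.trans ?_ hzv
        rw [← MulAut.conj_apply, prodX, prodX, map_list_prod, List.map_map]
        refine congrArg List.prod (List.map_congr_left fun r hr => ?_)
        rw [Function.comp_apply, MulAut.conj_apply, hz, hzc, tor_conj_x hC _ _ _ (hroots r hr).1]
      have hf := prodX_inj hC posRoots_sorted hroots hscaled
      have hone : ∀ r ∈ chevD4.posRoots, r ≠ 14 → r ≠ 22 → r ≠ 23 → f r = 0 := by
        intro r hr n1 n2 n3
        by_contra hf0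
        obtain ⟨-, hne⟩ := roots_split r hr n1 n2 n3
        have hχ' : torChar chevD4 (zvec (hK := hK) θ t₀') r = 1 :=
          Units.ext ((mul_eq_right₀ hf0).1 (hf r hr))
        rw [hexp, ← orderOf_dvd_iff_zpow_eq_one, hgen, hq7] at hχ'
        exact hne (Int.emod_eq_zero_of_dvd hχ')
      have hsplit : prodX hC chevD4.posRoots f =
          xg hC 14 (f 14) * (xg hC 22 (f 22) * xg hC 23 (f 23)) := by
        have hz0 : ∀ r ∈ [12, 13, 15, 16, 17, 18, 19, 20, 21], f r = 0 := fun r hr => by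
          refine hone r ?_ ?_ ?_ ?_ <;> (try rw [hpos]) <;> fin_cases hr <;> simp
        simp only [List.forall_mem_cons] at hz0
        obtain ⟨z1, z2, z3, z4, z5, z6, z7, z8, z9, -⟩ := hz0
        simp [prodX, hpos, z1, z2, z3, z4, z5, z6, z7, z8, z9, xg_zero hC]
      rw [hsplit] at hvF hvl ⊢
      obtain ⟨r, hrd⟩ : ∃ r, r = xg hC 22 (f 22) * xg hC 23 (f 23) := ⟨_, rfl⟩
      rw [← hrd] at hvF hvl ⊢
      have hrU : r ∈ Uom hC K (chevD4.simple 1) := by
        rw [hrd, hs14]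
        refine mul_mem (Subgroup.subset_closure ⟨22, _, ?_, ⟨?_, by decide⟩, rfl⟩)
          (Subgroup.subset_closure ⟨23, _, ?_, ⟨?_, by decide⟩, rfl⟩)
        all_goals first
          | (rw [h24]; decide)
          | exact (hroots _ (by rw [hpos]; simp)).2
      rcases fix01 θ hθ hq2 (t_fix X θ hθ hrU (by rw [hs14]; exact hvF)) with ht | ht
      · rw [ht, xg_zero hC, one_mul] at hvl ⊢
        obtain ⟨e0, f0⟩ := unip_trivial (f 22) (f 23) (hrd ▸ hvl)
        rw [hrd, e0, f0, xg_zero hC, xg_zero hC, one_mul]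
      · exfalso
        obtain ⟨hX, hN⟩ := involutions (K := K)
        rw [ht, ← hs14] at hvl
        simp only [lG] at hvl
        obtain ⟨N, hNd⟩ : ∃ N, N = ng hC (chevD4.simple 1) (1 : K) := ⟨_, rfl⟩
        obtain ⟨W, hWd⟩ : ∃ W, W = xg hC (chevD4.simple 1) (1 : K) := ⟨_, rfl⟩
        simp only [← hNd, ← hWd] at hvl hX hN
        refine conj_ne hC h1r (F := K) ?_
        rw [← hNd, ← hWd]
        have h5 : N * W * r = r * W * N := by
          refine mul_left_cancel (a := W) ?_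
          simpa only [mul_assoc] using hvl
        have h6 : N * W * N = r * W * (N * r⁻¹ * N⁻¹) := by
          rw [hN]
          calc N * W * N = N * W * r * (r⁻¹ * N) := by group
            _ = _ := by rw [h5]; group
        rw [h6]
        refine mul_mem (mul_mem ?_ (hWd ▸ xB 1)) ?_
        · exact hUB (Uom_le_U hC _ hrU)
        · refine hUB (Uom_le_U hC (chevD4.simple 1) ?_)
          exact (Subgroup.mem_normalizer_iff.1 (hNd ▸ ng_normalizes_Uom hC h1r) _).1 (inv_mem hrU)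
    refine hrT h ?_
    rw [eh, hv1, one_mul]
    exact tor_mem_H hC c
  obtain ⟨e, he, v, hv, -, -, c, u, hu, huF, -, -, eg⟩ := cls g hgz
  have hUB : chevD4.posUnipotent K ≤ chevD4.borelSubgroup K := le_sup_left
  have hcell : Cell e (g : GL chevD4.Idx K) := ⟨v, hUB hv, c, u, hUB hu, eg⟩
  simp only [List.mem_cons, List.not_mem_nil, or_false] at he
  rcases he with rfl | rfl | rfl | rfl | rfl | rfl
  · exact base g hgz hgl hcell
  · obtain ⟨g', a, b, h', hback⟩ := down g hgz hgl [] v hv c u hu huF eg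
    exact hback (base g' a b h')
  · exact absurd hcell (noCell g hgl).1
  · exact absurd hcell (noCell g hgl).2
  · obtain ⟨g', a, b, h', -⟩ := down g hgz hgl [1, 0, 1] v hv c u hu huF eg
    exact absurd h' (noCell g' b).1
  · obtain ⟨g', a, b, h', -⟩ := down g hgz hgl [0, 1, 0, 1] v hv c u hu huF eg
    exact absurd h' (noCell g' b).2

end Two

end Cfsg.Agent.Chevalley.Twist.D4
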