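import Cfsg.Agent.Lib.Chevalley.Twist.TwoGenOrth
import Cfsg.Agent.Lib.Chevalley.Twist.D4

/-!
The triality twisted groups are generated by two elements.
-/

set_option autoImplicit false
set_option linter.unusedSectionVars false

namespace Cfsg.Agent.Chevalley.Twist.D4

open Cfsg.Lie Cfsg.Agent.Chevalley Cfsg.Agent.Chevalley.Check Cfsg.Agent.Chevalley.Perfect
  Cfsg.Agent.Chevalley.Table Cfsg.Agent.Chevalley.Cert
  Cfsg.Agent.Chevalley.Group Cfsg.Agent.Chevalley.Unip Cfsg.Agent.Chevalley.NormalForm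
  Cfsg.Agent.Chevalley.Borel Cfsg.Agent.Chevalley.Bruhat Cfsg.Agent.Chevalley.Weyl
  Cfsg.Agent.Chevalley.TorusCard

/-- The Coxeter word. -/
abbrev cox : List ℕ := [1, 3, 2, 0]

/-- Powers of the Coxeter word. -/
abbrev coxp (k : ℕ) : List ℕ := (List.replicate k cox).flatten

theorem coxp_lt : ∀ k < 7, ∀ i ∈ coxp k, i < chevD4.rank := by decide +kernel

theorem word_ok : wL chevD4 cox 17 = chevD4.simple 0 ∧ 17 < chevD4.nroots ∧
    wL chevD4 (coxp 3) (chevD4.simple 3) = 11 ∧ wL chevD4 (coxp 3) (chevD4.simple 2) = 10 ∧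
    wL chevD4 (coxp 3) (chevD4.simple 0) = 5 ∧ wL chevD4 (coxp 4) (chevD4.simple 3) = 15 ∧
    wL chevD4 (coxp 4) (chevD4.simple 2) = 16 ∧ wL chevD4 (coxp 4) (chevD4.simple 0) = 19 ∧
    chevD4.simple 1 = 14 := by decide +kernel

theorem neg_map_ok : ∀ a < 2, ∀ i ∈ Js.getD a [], ∃ j ∈ Js.getD a [],
    wL chevD4 (coxp 3) (chevD4.simple j) = chevD4.neg (chevD4.simple i) := by decide +kernel

theorem lt_ok : ∀ r ∈ [11, 10, 5, 15, 16, 19, 14], r < chevD4.nroots := by decide +kernel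

theorem single_ok : ∀ p ∈ [(11, 15), (10, 16), (5, 19)], singleChk Data.D4.tab p.1 p.2 14 = true := by
  decide +kernel

theorem noComm_ok : ∀ p ∈ [(15, 10), (15, 5), (16, 5), (16, 11), (19, 11), (19, 10), (14, 11),
    (14, 10), (14, 5), (14, 15), (14, 16), (14, 19)], noComm Data.D4.tab p.1 p.2 = true := by
  decide +kernel

theorem cartan_rows : ∀ i < 4, chevD4.cartan i (chevD4.simple 0) = ([2, -1, 0, 0] : List ℤ).getD i 0 ∧
    chevD4.cartan i 17 = ([-1, 0, 1, 1] : List ℤ).getD i 0 := by decide +kernel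

theorem coprime_exp {q : ℕ} (hq : 1 ≤ q) : Nat.Coprime (q ^ 3 - 1) (q ^ 2 + q - 1) := by
  obtain ⟨a, ha⟩ : ∃ a, q ^ 3 = a + 1 := ⟨q ^ 3 - 1, by
    have := Nat.one_le_pow 3 q hq
    omega⟩
  obtain ⟨b, hb⟩ : ∃ b, q ^ 2 + q = b + 1 := ⟨q ^ 2 + q - 1, by omega⟩
  rw [ha, hb, Nat.add_sub_cancel, Nat.add_sub_cancel]
  have key : b * (b + 1) = (q + 2) * a + 2 := by
    rw [← hb]
    zify at ha hb ⊢
    linear_combination (-(q : ℤ) - 2) * (-ha) + ((q : ℤ) ^ 2 + q) * (-hb)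
  refine Nat.coprime_iff_gcd_eq_one.2 ?_
  have h2 : Nat.gcd a b ∣ 2 := (Nat.dvd_add_right ((Nat.gcd_dvd_left a b).mul_left (q + 2))).1
    (key ▸ (Nat.gcd_dvd_right a b).mul_right (b + 1))
  have hodd : ¬ 2 ∣ b := by
    intro h
    have he : 2 ∣ q ^ 2 + q := by
      rw [sq, ← Nat.mul_succ]; exact (Nat.even_mul_succ_self q).two_dvd
    omega
  rcases (Nat.dvd_prime Nat.prime_two).1 h2 with h | h
  · exact h
  · exact absurd (h ▸ Nat.gcd_dvd_right a b) hodd

variable {K : Type*} [Field K] [Fintype K] {q : ℕ} {hK : Fintype.card K = q ^ 3}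
  (X : Setup (K := K) hK)
include X

theorem orthPair (a : ℕ) (ha : a < 2) : Orth hC (nodePi L) (Js.getD a []) := orth_of_chk hC (orth_ok a ha)

theorem inv_mem_J (a : ℕ) (ha : a < 2) :
    ∀ i ∈ Js.getD a [], chevD4.simple i ∈ invList chevD4 Data.D4.tab (Js.getD a []) := fun i hi => by
  have ha' : a < X.O.k := X.k_eq ▸ ha
  rw [← X.J_eq a] at hi ⊢
  have hir := X.O.J_lt a ha' i hi
  exact (mem_invList hC).2 ⟨hC.simple_lt hir, hC.phi_simple hir, X.O.neg_simple a ha' i hi⟩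

theorem Fx_le_of_full {H : Subgroup (GL chevD4.Idx K)} (hle : H ≤ Fx X.S)
    (hfull : Full X.S H [3, 2, 0]) (hn : nL hC K cox ∈ H) : Fx X.S ≤ H := by
  classical
  have hq0 : 1 < q := by
    by_contra h
    have h1 : 1 < Fintype.card K := Fintype.one_lt_card
    have h2 : q ^ 3 ≤ 1 := pow_le_one₀ q.zero_le (by omega)
    omega
  have hk : ∀ k, nL hC K (coxp k) ∈ H := fun k => by
    rw [coxp, nL_replicate]; exact pow_mem hn k
  have hO1 : Orth hC (nodePi L) [3, 2, 0] := orthPair X 1 (by decide)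
  have hsimple : ∀ i ∈ ([3, 2, 0] : List ℕ), i < chevD4.rank := by decide
  obtain ⟨η, hη, hx⟩ := conj_opr (F := K) (hC := hC) (coxp_lt 3 (by decide)) hsimple
  obtain ⟨η', hη', hy⟩ := conj_opr (F := K) (hC := hC) (coxp_lt 4 (by decide)) hsimple
  obtain ⟨-, -, w11, w10, w5, w15, w16, w19, w14⟩ := word_ok
  have hlt : ∀ r ∈ [11, 10, 5, 15, 16, 19, 14], r < chevD4.nroots := lt_ok
  have hc : ∀ p ∈ [(15, 10), (15, 5), (16, 5), (16, 11), (19, 11), (19, 10), (14, 11),
      (14, 10), (14, 5), (14, 15), (14, 16), (14, 19)], ∀ t u : K,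
      Commute (xg hC p.1 t) (xg hC p.2 u) := fun p hp => by
    refine comm_of_noComm (hlt _ ?_) (hlt _ ?_) (noComm_ok p hp)
    · revert p; decide
    · revert p; decide
  obtain ⟨c₁, hc₁, e₁⟩ := single_spec (hC := hC) (F := K) (hlt 11 (by simp)) (hlt 15 (by simp))
    (single_ok (11, 15) (by simp))
  obtain ⟨c₂, hc₂, e₂⟩ := single_spec (hC := hC) (F := K) (hlt 10 (by simp)) (hlt 16 (by simp))
    (single_ok (10, 16) (by simp))
  obtain ⟨c₃, hc₃, e₃⟩ := single_spec (hC := hC) (F := K) (hlt 5 (by simp)) (hlt 19 (by simp))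
    (single_ok (5, 19) (by simp))
  have hfull1 : Full X.S H [1] := by
    refine full_single (q := q) (orthPair X 0 (by decide)) X.π_eq (inv_mem_J X 0 (by decide) 1 (by simp)) hle
      (by rw [X.π_eq]; rfl) (X.hom_eq 1 (by decide))
      (φ := fun t => c₁ * (η 3 * t ^ q ^ 2) * η' 3 +
        (c₂ * (η 2 * t ^ q) * η' 2 + c₃ * (η 0 * t) * η' 0))
      (fun t => ?_) (fun l t hl => ?_) ?_
    · rw [w14]
      have h1 := mul_mem (mul_mem (hk 3) (hfull (fun i => if i = 0 then t else if i = 2 then t ^ q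
        else t ^ q ^ 2) fun i hi => by
          rw [X.π_eq, X.hom_eq i (hsimple i hi)]
          simp only [List.mem_cons, List.not_mem_nil, or_false] at hi
          rcases hi with rfl | rfl | rfl <;> simp [nodePi, sq, pow_mul, qqq hK])) (inv_mem (hk 3))
      have h2 := mul_mem (mul_mem (hk 4) (hfull (fun _ => 1) fun i _ => (map_one _).symm))
        (inv_mem (hk 4))
      rw [hx] at h1
      rw [hy] at h2
      simp only [List.map_cons, List.map_nil, List.prod_cons, List.prod_nil, mul_one, w11, w10, w5,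
        w15, w16, w19, show (2 : ℕ) ≠ 0 by decide, show (3 : ℕ) ≠ 0 by decide,
        show (3 : ℕ) ≠ 2 by decide, if_true, if_false] at h1 h2
      have h23 := swap_cons (e₂ (η 2 * t ^ q) (η' 2)) (e₃ (η 0 * t) (η' 0))
        (hc (16, 5) (by simp) _ _) (hc (19, 10) (by simp) _ _) (hc (14, 5) (by simp) _ _)
        (hc (14, 19) (by simp) _ _)
      have h123 := swap_cons (e₁ (η 3 * t ^ q ^ 2) (η' 3)) h23
        ((hc (15, 10) (by simp) _ _).mul_right (hc (15, 5) (by simp) _ _))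
        ((hc (16, 11) (by simp) _ _).mul_left (hc (19, 11) (by simp) _ _))
        ((hc (14, 10) (by simp) _ _).mul_right (hc (14, 5) (by simp) _ _))
        ((hc (14, 16) (by simp) _ _).mul_right (hc (14, 19) (by simp) _ _))
      rw [xg_add hC, xg_add hC]
      refine (Subgroup.mul_mem_cancel_left H (mul_mem h1 h2)).1 ?_
      rw [← h123]
      exact mul_mem h2 h1
    · simp only [mul_pow]
      rw [hl, show l ^ q ^ 2 = l by rw [sq, pow_mul, hl, hl]]
      ring
    · obtain ⟨t, ht⟩ := exists_eval_ne (a := c₃ * η 0 * η' 0) (b := c₂ * η 2 * η' 2)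
        (c := c₁ * η 3 * η' 3) (mul_ne_zero (mul_ne_zero hc₃ (hη 0 (by simp))) (hη' 0 (by simp)))
        hq0 (Nat.le_self_pow two_ne_zero q) (by rw [hK]; exact Nat.pow_lt_pow_right hq0 (by norm_num))
        (fun e => absurd e (by
          have : q * 2 ≤ q * q := Nat.mul_le_mul_left q hq0
          rw [sq]
          omega))
      exact ⟨t, fun e => ht (by linear_combination e)⟩
  have hJ : ∀ a < 2, Full X.S H (Js.getD a []) := by
    intro a ha
    interval_cases a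
    exacts [hfull1, hfull]
  refine Fx_le X.O (genData_of_orth X.O X.π_eq (fun a ha => ?_) (fun a ha b hb i h1 h2 => ?_) hle
    (fun a ha f hf => ?_) X.fix)
  · rw [X.J_eq]; exact orthPair X a (X.k_eq ▸ ha)
  · exact disjoint_ok a (X.k_eq ▸ ha) b (X.k_eq ▸ hb) i (X.J_eq a ▸ h1) (X.J_eq b ▸ h2)
  · rw [X.k_eq] at ha
    rw [X.J_eq] at hf ⊢
    exact ⟨hJ a ha f hf, opr_mem_of (orthPair X a ha) (orthPair X a ha) X.π_eq (inv_mem_J X a ha)
      (coxp_lt 3 (by decide)) hle (hk 3) (hJ a ha) (Or.inr rfl) (neg_map_ok a ha) hf⟩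

theorem two_generated (hq : IsPrimePow q) :
    ∃ a b : twistedD4 K q, Subgroup.closure ({a, b} : Set (twistedD4 K q)) = ⊤ := by
  classical
  have hFx : Fx X.S = twistedD4 K q := Fx_eq X.O X.gen
  have hq2 : 2 ≤ q := hq.two_le
  have hqq : ∀ t : Kˣ, ((t ^ q) ^ q) ^ q = t := fun t => Units.ext (by
    simp only [Units.val_pow_eq_pow_val]; exact qqq hK _)
  obtain ⟨p, hp⟩ := IsCyclic.exists_generator (α := Kˣ)
  obtain ⟨c, hcdef⟩ : ∃ c : ℕ → Kˣ, c = fun i =>
      if i = 0 then p else if i = 1 then p * p ^ q * (p ^ q) ^ q else if i = 2 then p ^ q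
      else if i = 3 then (p ^ q) ^ q else 1 := ⟨_, rfl⟩
  obtain ⟨χ, hχ⟩ : ∃ χ, χ = torChar chevD4 c (chevD4.simple 0) := ⟨_, rfl⟩
  have χ0 : χ = p ^ 2 * (p * p ^ q * (p ^ q) ^ q)⁻¹ := by
    rw [hχ, show torChar chevD4 c (chevD4.simple 0) =
      ∏ i ∈ Finset.range 4, c i ^ ([2, -1, 0, 0] : List ℤ).getD i 0 from
      Finset.prod_congr rfl fun i hi => by rw [(cartan_rows i (Finset.mem_range.1 hi)).1]]
    simp [Finset.prod_range_succ, hcdef, zpow_ofNat]
  have χ17 : torChar chevD4 c 17 = χ⁻¹ := by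
    rw [χ0, show torChar chevD4 c 17 =
      ∏ i ∈ Finset.range 4, c i ^ ([-1, 0, 1, 1] : List ℤ).getD i 0 from
      Finset.prod_congr rfl fun i hi => by rw [(cartan_rows i (Finset.mem_range.1 hi)).2]]
    simp [Finset.prod_range_succ, hcdef]
    rw [sq, mul_inv_rev]
    group
  have hgen : ∀ x : Kˣ, ∃ j : ℕ, χ ^ j = x := by
    intro x
    have hco : (Nat.card Kˣ).Coprime (q ^ 2 + q - 1) := by
      rw [Nat.card_eq_fintype_card, Fintype.card_units, hK]
      exact coprime_exp (by omega)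
    obtain ⟨y, hy⟩ := (powCoprime hco).surjective x⁻¹
    simp only [powCoprime_apply] at hy
    obtain ⟨j, hj⟩ := mem_powers_iff_mem_zpowers.2 (hp y)
    refine ⟨j, ?_⟩
    have e : χ = (p ^ (q ^ 2 + q - 1))⁻¹ := by
      rw [χ0, eq_inv_iff_mul_eq_one, mul_right_comm, mul_inv_eq_one, ← pow_add, ← pow_mul,
        show 2 + (q ^ 2 + q - 1) = 1 + q + q * q by rw [sq]; omega, pow_add, pow_add, pow_one]
    change p ^ j = y at hj
    rw [e, inv_pow, ← pow_mul, mul_comm, pow_mul, hj, hy, inv_inv]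
  have hχ1 : χ ≠ 1 := by
    intro e
    have h2 : Fintype.card Kˣ ≤ 1 := Fintype.card_le_one_iff.2 fun x y => by
      obtain ⟨i, rfl⟩ := hgen x
      obtain ⟨j, rfl⟩ := hgen y
      rw [e, one_pow, one_pow]
    rw [Fintype.card_units, hK] at h2
    have : 2 ^ 3 ≤ q ^ 3 := Nat.pow_le_pow_left hq2 3
    omega
  have hc : tor chevD4 c ∈ Fx X.S := by
    refine tor_fixed (πi := πi) (by decide) ?_ fun i hi => ?_
    · intro j hj
      rw [X.π_eq]
      revert j
      decide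
    · change i < 4 at hi
      rw [X.π_eq, X.hom_eq i hi, ← Units.val_pow_eq_pow_val]
      congr 1
      interval_cases i <;> simp [nodePi, hcdef]
      · rw [mul_pow, mul_pow, hqq]; ac_rfl
      · rw [hqq]
  have hn : nL hC K cox ∈ Fx X.S := by
    rw [show cox = [1] ++ [3, 2, 0] from rfl, nL_append]
    exact mul_mem (nL_fixed (orthPair X 0 (by decide)) X.π_eq) (nL_fixed (orthPair X 1 (by decide)) X.π_eq)
  have hx : opr hC chevD4.simple [3, 2, 0] (fun _ => (1 : K)) ∈ Fx X.S :=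
    opr_fixed (orthPair X 1 (by decide)) X.π_eq (Or.inl rfl) fun i _ => (map_one _).symm
  have ha : tor chevD4 c ∈ twistedD4 K q := hFx ▸ hc
  have hb : opr hC chevD4.simple [3, 2, 0] (fun _ => (1 : K)) * nL hC K cox ∈ twistedD4 K q :=
    hFx ▸ mul_mem hx hn
  refine ⟨⟨_, ha⟩, ⟨_, hb⟩, ?_⟩
  obtain ⟨G, hG⟩ : ∃ G, G = (Subgroup.closure ({⟨_, ha⟩, ⟨_, hb⟩} : Set (twistedD4 K q))).map
      (twistedD4 K q).subtype := ⟨_, rfl⟩
  have hle : G ≤ Fx X.S := by
    rw [hFx, hG]; exact Subgroup.map_subtype_le _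
  have hmem : ∀ x ∈ Subgroup.closure ({⟨_, ha⟩, ⟨_, hb⟩} : Set (twistedD4 K q)),
      (x : GL chevD4.Idx K) ∈ G := fun x hx' => by rw [hG]; exact Subgroup.mem_map_of_mem _ hx'
  have haG : tor chevD4 c ∈ G := hmem ⟨_, ha⟩ (Subgroup.subset_closure (Or.inl rfl))
  have hbG : opr hC chevD4.simple [3, 2, 0] (fun _ => (1 : K)) * nL hC K cox ∈ G :=
    hmem ⟨_, hb⟩ (Subgroup.subset_closure (Or.inr rfl))
  obtain ⟨w17, h17, -⟩ := word_ok
  obtain ⟨hfull, hnG⟩ := full_of_torus (orthPair X 1 (by decide)) X.π_eq (inv_mem_J X 1 (by decide)) hle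
    (by decide) haG hbG (i₀ := 0) (by decide) (fun f g hf hg e i hi => by
      have step : ∀ k, k ∈ ([3, 2, 0] : List ℕ) → f k = g k → f (X.S.π k) = g (X.S.π k) :=
        fun k hk e' => by rw [hf k hk, hg k hk, e']
      have e2 : f 2 = g 2 := by
        have := step 0 (by decide) e
        rwa [X.π_eq] at this
      have e3 : f 3 = g 3 := by
        have := step 2 (by decide) e2
        rwa [X.π_eq] at this
      change i ∈ ([3, 2, 0] : List ℕ) at hi
      simp only [List.mem_cons, List.not_mem_nil, or_false] at hi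
      rcases hi with rfl | rfl | rfl
      exacts [e3, e2, e]) h17 w17 (by rw [χ17]; simpa using hχ1) (hχ ▸ hχ1) (hχ ▸ hgen)
  have hall := Fx_le_of_full X hle hfull hnG
  rw [hFx] at hall
  rw [eq_top_iff]
  intro g _
  obtain ⟨x, hx', e⟩ := Subgroup.mem_map.1 (hG ▸ hall g.2)
  exact (Subtype.ext e : x = g) ▸ hx'

end Cfsg.Agent.Chevalley.Twist.D4
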