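import Cfsg.Agent.Lib.Chevalley.Twist.TwoGenOrth
import Cfsg.Agent.Lib.Chevalley.Twist.E6

/-!
The twisted groups of type E6 are generated by two elements.
-/

set_option autoImplicit false
set_option linter.unusedSectionVars false

namespace Cfsg.Agent.Chevalley.Twist.E6

open Cfsg.Lie Cfsg.Agent.Chevalley Cfsg.Agent.Chevalley.Check Cfsg.Agent.Chevalley.Perfect
  Cfsg.Agent.Chevalley.Table Cfsg.Agent.Chevalley.Cert
  Cfsg.Agent.Chevalley.Group Cfsg.Agent.Chevalley.Unip Cfsg.Agent.Chevalley.NormalForm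
  Cfsg.Agent.Chevalley.Borel Cfsg.Agent.Chevalley.Bruhat Cfsg.Agent.Chevalley.Weyl
  Cfsg.Agent.Chevalley.TorusCard

/-- The Coxeter word. -/
abbrev cox : List ℕ := [1, 3, 4, 2, 5, 0]

/-- Powers of the Coxeter word. -/
abbrev coxp (k : ℕ) : List ℕ := (List.replicate k cox).flatten

theorem coxp_lt : ∀ k < 12, ∀ i ∈ coxp k, i < chevE6.rank := by decide +kernel

theorem word_ok : wL chevE6 cox 42 = chevE6.simple 0 ∧ 42 < chevE6.nroots ∧
    wL chevE6 (coxp 4) (chevE6.simple 5) = 30 ∧ wL chevE6 (coxp 4) (chevE6.simple 0) = 13 ∧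
    wL chevE6 (coxp 7) (chevE6.simple 5) = 61 ∧ wL chevE6 (coxp 7) (chevE6.simple 0) = 49 ∧
    chevE6.simple 1 = 46 := by decide +kernel

theorem neg_map_ok : ∀ a < 4, ∀ i ∈ Js.getD a [], ∃ j ∈ Js.getD a [],
    wL chevE6 (coxp 6) (chevE6.simple j) = chevE6.neg (chevE6.simple i) := by decide +kernel

theorem short_map_ok : ∀ i ∈ ([4, 2] : List ℕ), ∃ j ∈ ([5, 0] : List ℕ),
    wL chevE6 (coxp 11) (chevE6.simple j) = chevE6.simple i := by decide +kernel

theorem long_map_ok : ∀ i ∈ ([3] : List ℕ), ∃ j ∈ ([1] : List ℕ),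
    wL chevE6 (coxp 1) (chevE6.simple j) = chevE6.simple i := by decide +kernel

theorem lt_ok : ∀ r ∈ [30, 13, 49, 61, 46], r < chevE6.nroots := by decide +kernel

theorem single_ok : ∀ p ∈ [(30, 49), (13, 61)], singleChk Data.E6.tab p.1 p.2 46 = true := by
  decide +kernel

theorem noComm_ok : ∀ p ∈ [(49, 13), (61, 30), (46, 13), (46, 61)],
    noComm Data.E6.tab p.1 p.2 = true := by
  decide +kernel

theorem cartan_rows : ∀ i < 6,
    chevE6.cartan i (chevE6.simple 0) = ([2, 0, -1, 0, 0, 0] : List ℤ).getD i 0 ∧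
    chevE6.cartan i 42 = ([-1, 0, 2, -1, 0, 0] : List ℤ).getD i 0 := by decide +kernel

variable {K : Type*} [Field K] [Fintype K] {q : ℕ} {hK : Fintype.card K = q ^ 2}
  (X : Setup (K := K) hK)
include X

theorem orthPair (a : ℕ) (ha : a < 4) : Orth hC (nodePi L) (Js.getD a []) := orth_of_chk hC (orth_ok a ha)

theorem inv_mem_J (a : ℕ) (ha : a < 4) :
    ∀ i ∈ Js.getD a [], chevE6.simple i ∈ invList chevE6 Data.E6.tab (Js.getD a []) := fun i hi => by
  have ha' : a < X.O.k := X.k_eq ▸ ha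
  rw [← X.J_eq a] at hi ⊢
  have hir := X.O.J_lt a ha' i hi
  exact (mem_invList hC).2 ⟨hC.simple_lt hir, hC.phi_simple hir, X.O.neg_simple a ha' i hi⟩

theorem pow_qq (t : K) : (t ^ q) ^ q = t := by
  rw [← pow_mul, ← sq, ← hK, FiniteField.pow_card]

theorem one_lt_q : 1 < q := by
  by_contra h
  have h1 : 1 < Fintype.card K := Fintype.one_lt_card
  have h2 : q ^ 2 ≤ 1 := pow_le_one₀ q.zero_le (by omega)
  omega

theorem Fx_le_of_full {H : Subgroup (GL chevE6.Idx K)} (hle : H ≤ Fx X.S)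
    (hfull : Full X.S H [5, 0]) (hn : nL hC K cox ∈ H) : Fx X.S ≤ H := by
  classical
  have hq0 : 1 < q := one_lt_q X
  have hk : ∀ k, nL hC K (coxp k) ∈ H := fun k => by
    rw [coxp, nL_replicate]; exact pow_mem hn k
  have hsimple : ∀ i ∈ ([5, 0] : List ℕ), i < chevE6.rank := by decide
  have hsimple' : ∀ i ∈ ([0, 5] : List ℕ), i < chevE6.rank := by decide
  obtain ⟨η, hη, hx⟩ := conj_opr (F := K) (hC := hC) (coxp_lt 4 (by decide)) hsimple
  obtain ⟨η', hη', hy⟩ := conj_opr (F := K) (hC := hC) (coxp_lt 7 (by decide)) hsimple'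
  obtain ⟨-, -, w30, w13, w61, w49, w46⟩ := word_ok
  have hlt : ∀ r ∈ [30, 13, 49, 61, 46], r < chevE6.nroots := lt_ok
  have hc : ∀ p ∈ [(49, 13), (61, 30), (46, 13), (46, 61)], ∀ t u : K,
      Commute (xg hC p.1 t) (xg hC p.2 u) := fun p hp => by
    refine comm_of_noComm (hlt _ ?_) (hlt _ ?_) (noComm_ok p hp)
    · revert p; decide
    · revert p; decide
  obtain ⟨c₁, hc₁, e₁⟩ := single_spec (hC := hC) (F := K) (hlt 30 (by simp)) (hlt 49 (by simp))
    (single_ok (30, 49) (by simp))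
  obtain ⟨c₂, hc₂, e₂⟩ := single_spec (hC := hC) (F := K) (hlt 13 (by simp)) (hlt 61 (by simp))
    (single_ok (13, 61) (by simp))
  have hfull1 : Full X.S H [1] := by
    refine full_single (q := q) (orthPair X 0 (by decide)) X.π_eq (inv_mem_J X 0 (by decide) 1 (by simp)) hle
      (by rw [X.π_eq]; rfl) (X.hom_eq 1 (by decide))
      (φ := fun t => c₁ * (η 5 * t ^ q) * η' 0 + c₂ * (η 0 * t) * η' 5)
      (fun t => ?_) (fun l t hl => ?_) ?_
    · rw [w46]
      have h1 := mul_mem (mul_mem (hk 4) (hfull (fun i => if i = 0 then t else t ^ q) fun i hi => by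
          rw [X.π_eq, X.hom_eq i (hsimple i hi)]
          simp only [List.mem_cons, List.not_mem_nil, or_false] at hi
          rcases hi with rfl | rfl <;> simp [nodePi, pow_qq X])) (inv_mem (hk 4))
      have h2 := mul_mem (mul_mem (hk 7) (hfull (fun _ => 1) fun i _ => (map_one _).symm))
        (inv_mem (hk 7))
      rw [← opr_perm (J := [5, 0]) (orthPair X 3 (by decide)) (Or.inl rfl) (List.Perm.swap 5 0 [])
        (fun _ => (1 : K))] at h2
      rw [hx] at h1
      rw [hy] at h2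
      simp only [List.map_cons, List.map_nil, List.prod_cons, List.prod_nil, mul_one, w30, w13, w61,
        w49, show (5 : ℕ) ≠ 0 by decide, if_true, if_false] at h1 h2
      have h12 := swap_cons (e₁ (η 5 * t ^ q) (η' 0)) (e₂ (η 0 * t) (η' 5))
        (hc (49, 13) (by simp) _ _) (hc (61, 30) (by simp) _ _) (hc (46, 13) (by simp) _ _)
        (hc (46, 61) (by simp) _ _)
      rw [xg_add hC]
      refine (Subgroup.mul_mem_cancel_left H (mul_mem h1 h2)).1 ?_
      rw [← h12]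
      exact mul_mem h2 h1
    · simp only [mul_pow]
      rw [hl]
      ring
    · obtain ⟨t, ht⟩ := exists_eval_ne (a := c₂ * η 0 * η' 5) (b := c₁ * η 5 * η' 0) (c := 0)
        (mul_ne_zero (mul_ne_zero hc₂ (hη 0 (by simp))) (hη' 5 (by simp)))
        hq0 (le_refl q) (by rw [hK, sq]; exact lt_mul_of_one_lt_left (by omega) hq0) (fun _ => rfl)
      exact ⟨t, fun e => ht (by linear_combination e)⟩
  have hJ : ∀ a < 4, Full X.S H (Js.getD a []) := by
    intro a ha
    interval_cases a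
    · exact hfull1
    · exact fun f hf => opr_mem_of (orthPair X 0 (by decide)) (orthPair X 1 (by decide)) X.π_eq
        (inv_mem_J X 0 (by decide)) (coxp_lt 1 (by decide)) hle (hk 1) hfull1 (Or.inl rfl)
        long_map_ok hf
    · exact fun f hf => opr_mem_of (orthPair X 3 (by decide)) (orthPair X 2 (by decide)) X.π_eq
        (inv_mem_J X 3 (by decide)) (coxp_lt 11 (by decide)) hle (hk 11) hfull (Or.inl rfl)
        short_map_ok hf
    · exact hfull
  refine Fx_le X.O (genData_of_orth X.O X.π_eq (fun a ha => ?_) (fun a ha b hb i h1 h2 => ?_) hle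
    (fun a ha f hf => ?_) X.fix)
  · rw [X.J_eq]; exact orthPair X a (X.k_eq ▸ ha)
  · exact disjoint_ok a (X.k_eq ▸ ha) b (X.k_eq ▸ hb) i (X.J_eq a ▸ h1) (X.J_eq b ▸ h2)
  · rw [X.k_eq] at ha
    rw [X.J_eq] at hf ⊢
    exact ⟨hJ a ha f hf, opr_mem_of (orthPair X a ha) (orthPair X a ha) X.π_eq (inv_mem_J X a ha)
      (coxp_lt 6 (by decide)) hle (hk 6) (hJ a ha) (Or.inr rfl) (neg_map_ok a ha) hf⟩

theorem two_generated (hq : IsPrimePow q) :
    ∃ a b : twistedE6 K q, Subgroup.closure ({a, b} : Set (twistedE6 K q)) = ⊤ := by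
  classical
  have hFx : Fx X.S = twistedE6 K q := Fx_eq X.O X.gen
  have hq2 : 2 ≤ q := hq.two_le
  have hqq : ∀ t : Kˣ, (t ^ q) ^ q = t := fun t => Units.ext (by
    simp only [Units.val_pow_eq_pow_val]; exact pow_qq X _)
  obtain ⟨p, hp⟩ := IsCyclic.exists_generator (α := Kˣ)
  obtain ⟨c, hcdef⟩ : ∃ c : ℕ → Kˣ, c = fun i =>
      if i = 0 ∨ i = 2 then p else if i = 4 ∨ i = 5 then p ^ q else 1 := ⟨_, rfl⟩
  have χ0 : torChar chevE6 c (chevE6.simple 0) = p := by
    rw [show torChar chevE6 c (chevE6.simple 0) =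
      ∏ i ∈ Finset.range 6, c i ^ ([2, 0, -1, 0, 0, 0] : List ℤ).getD i 0 from
      Finset.prod_congr rfl fun i hi => by rw [(cartan_rows i (Finset.mem_range.1 hi)).1]]
    simp [Finset.prod_range_succ, hcdef, zpow_ofNat]
    rw [sq, mul_inv_cancel_right]
  have χ42 : torChar chevE6 c 42 = p := by
    rw [show torChar chevE6 c 42 =
      ∏ i ∈ Finset.range 6, c i ^ ([-1, 0, 2, -1, 0, 0] : List ℤ).getD i 0 from
      Finset.prod_congr rfl fun i hi => by rw [(cartan_rows i (Finset.mem_range.1 hi)).2]]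
    simp [Finset.prod_range_succ, hcdef, zpow_ofNat]
    rw [sq, inv_mul_cancel_left]
  have hgen : ∀ x : Kˣ, ∃ j : ℕ, p ^ j = x := fun x => mem_powers_iff_mem_zpowers.2 (hp x)
  have hp1 : p ≠ 1 := by
    intro e
    have h2 : Fintype.card Kˣ ≤ 1 := Fintype.card_le_one_iff.2 fun x y => by
      obtain ⟨i, rfl⟩ := hgen x
      obtain ⟨j, rfl⟩ := hgen y
      rw [e, one_pow, one_pow]
    rw [Fintype.card_units, hK] at h2
    have : 2 ^ 2 ≤ q ^ 2 := Nat.pow_le_pow_left hq2 2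
    omega
  have hc : tor chevE6 c ∈ Fx X.S := by
    refine tor_fixed (πi := nodePi L) (by decide) ?_ fun i hi => ?_
    · intro j hj
      rw [X.π_eq]
      revert j
      decide
    · change i < 6 at hi
      rw [X.π_eq, X.hom_eq i hi, ← Units.val_pow_eq_pow_val]
      congr 1
      interval_cases i <;> simp [nodePi, hcdef, hqq]
  have hn : nL hC K cox ∈ Fx X.S := by
    rw [show cox = [1] ++ [3] ++ [4, 2] ++ [5, 0] from rfl, nL_append, nL_append, nL_append]
    exact mul_mem (mul_mem (mul_mem (nL_fixed (orthPair X 0 (by decide)) X.π_eq)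
      (nL_fixed (orthPair X 1 (by decide)) X.π_eq)) (nL_fixed (orthPair X 2 (by decide)) X.π_eq))
      (nL_fixed (orthPair X 3 (by decide)) X.π_eq)
  have hx : opr hC chevE6.simple [5, 0] (fun _ => (1 : K)) ∈ Fx X.S :=
    opr_fixed (orthPair X 3 (by decide)) X.π_eq (Or.inl rfl) fun i _ => (map_one _).symm
  have ha : tor chevE6 c ∈ twistedE6 K q := hFx ▸ hc
  have hb : opr hC chevE6.simple [5, 0] (fun _ => (1 : K)) * nL hC K cox ∈ twistedE6 K q :=
    hFx ▸ mul_mem hx hn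
  refine ⟨⟨_, ha⟩, ⟨_, hb⟩, ?_⟩
  obtain ⟨G, hG⟩ : ∃ G, G = (Subgroup.closure ({⟨_, ha⟩, ⟨_, hb⟩} : Set (twistedE6 K q))).map
      (twistedE6 K q).subtype := ⟨_, rfl⟩
  have hle : G ≤ Fx X.S := by
    rw [hFx, hG]; exact Subgroup.map_subtype_le _
  have hmem : ∀ x ∈ Subgroup.closure ({⟨_, ha⟩, ⟨_, hb⟩} : Set (twistedE6 K q)),
      (x : GL chevE6.Idx K) ∈ G := fun x hx' => by rw [hG]; exact Subgroup.mem_map_of_mem _ hx'
  have haG : tor chevE6 c ∈ G := hmem ⟨_, ha⟩ (Subgroup.subset_closure (Or.inl rfl))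
  have hbG : opr hC chevE6.simple [5, 0] (fun _ => (1 : K)) * nL hC K cox ∈ G :=
    hmem ⟨_, hb⟩ (Subgroup.subset_closure (Or.inr rfl))
  obtain ⟨w42, h42, -⟩ := word_ok
  obtain ⟨hfull, hnG⟩ := full_of_torus (orthPair X 3 (by decide)) X.π_eq (inv_mem_J X 3 (by decide)) hle
    (by decide) haG hbG (i₀ := 0) (by decide) (fun f g hf hg e i hi => by
      have e5 : f 5 = g 5 := by
        have h1 := hf 0 (by decide)
        have h2 := hg 0 (by decide)
        rw [X.π_eq] at h1 h2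
        rw [show (5 : ℕ) = nodePi L 0 from rfl, h1, h2, e]
      change i ∈ ([5, 0] : List ℕ) at hi
      simp only [List.mem_cons, List.not_mem_nil, or_false] at hi
      rcases hi with rfl | rfl
      exacts [e5, e]) h42 w42 (χ42 ▸ hp1) (χ0 ▸ hp1) (χ0 ▸ hgen)
  have hall := Fx_le_of_full X hle hfull hnG
  rw [hFx] at hall
  rw [eq_top_iff]
  intro g _
  obtain ⟨x, hx', e⟩ := Subgroup.mem_map.1 (hG ▸ hall g.2)
  exact (Subtype.ext e : x = g) ▸ hx'

end Cfsg.Agent.Chevalley.Twist.E6
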