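import Cfsg.Agent.Lib.Chevalley.Twist.SimpleF4

/-!
The large Ree groups are generated by two elements: a torus element times a pair element and a class
element times a Coxeter element of the twisted Weyl group.
-/

set_option autoImplicit false
set_option linter.unusedSectionVars false

namespace Cfsg.Agent.Chevalley.Twist.F4

open Cfsg.Lie Cfsg.Agent.Chevalley Cfsg.Agent.Chevalley.Table Cfsg.Agent.Chevalley.Cert
  Cfsg.Agent.Chevalley.Group Cfsg.Agent.Chevalley.Unip Cfsg.Agent.Chevalley.NormalForm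
  Cfsg.Agent.Chevalley.Borel Cfsg.Agent.Chevalley.Bruhat Cfsg.Agent.Chevalley.Weyl

/-- The Coxeter word of the twisted Weyl group. -/
abbrev cox : List ℕ := [3, 0] ++ [1, 2, 1, 2]

theorem cox_lt : ∀ i ∈ cox, i < chevF4.rank := by decide +kernel

theorem cox_ok : wL chevF4 cox 15 = 24 ∧ wL chevF4 cox 10 = 33 ∧ wL chevF4 cox 31 = 25 ∧
    15 < chevF4.nroots ∧ 10 < chevF4.nroots ∧ 31 < chevF4.nroots := by decide +kernel

theorem cox4_ok : ∀ p ∈ [(33, 14), (24, 23), (27, 20), (25, 22), (28, 19), (30, 17)],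
    p.1 < chevF4.nroots ∧ wL chevF4 (cox ++ cox ++ cox ++ cox) p.1 = p.2 := by decide +kernel

theorem cartan_rows : ∀ j < 6, ∀ i < 4, chevF4.cartan i ([33, 24, 25, 15, 10, 31].getD j 0) =
    (([[2, -1, 0, 0], [0, 0, -1, 2], [0, -2, 2, -1], [2, 0, -1, 0], [0, -1, 0, 1], [-2, 2, -1, 1]]
      : List (List ℤ)).getD j []).getD i 0 := by decide +kernel

variable {K : Type*} [Field K] {m : ℕ}

/-- The torus element. -/
def tg (m : ℕ) (p : Kˣ) : ℕ → Kˣ := fun i =>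
  if i = 0 then p ^ 2 ^ m else if i = 1 then (p ^ 2) ^ 2 ^ m else if i = 2 then p ^ 2
  else if i = 3 then p else 1

theorem char_tg (p : Kˣ) : torChar chevF4 (tg m p) 33 = 1 ∧ torChar chevF4 (tg m p) 24 = 1 ∧
    torChar chevF4 (tg m p) 25 = p ^ 3 * (p ^ (4 * 2 ^ m))⁻¹ ∧
    torChar chevF4 (tg m p) 15 = p ^ (2 * 2 ^ m) * (p ^ 2)⁻¹ ∧
    torChar chevF4 (tg m p) 10 = p * (p ^ (2 * 2 ^ m))⁻¹ ∧
    torChar chevF4 (tg m p) 31 = p ^ (2 * 2 ^ m) * p⁻¹ := by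
  obtain ⟨E, hE⟩ : ∃ E, E = 2 ^ m := ⟨_, rfl⟩
  have h : ∀ j < 6, torChar chevF4 (tg m p) ([33, 24, 25, 15, 10, 31].getD j 0) =
      ∏ i ∈ Finset.range 4, tg m p i ^ (([[2, -1, 0, 0], [0, 0, -1, 2], [0, -2, 2, -1], [2, 0, -1, 0],
        [0, -1, 0, 1], [-2, 2, -1, 1]] : List (List ℤ)).getD j []).getD i 0 := fun j hj =>
    Finset.prod_congr rfl fun i hi => by rw [cartan_rows j hj i (Finset.mem_range.1 hi)]
  have e0 : tg m p 0 = p ^ (E : ℤ) := by simp [tg, ← hE]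
  have e1 : tg m p 1 = p ^ (2 * E : ℤ) := by
    simp [tg, ← hE, zpow_mul]
  have e2 : tg m p 2 = p ^ (2 : ℤ) := by simp [tg, zpow_ofNat]
  have e3 : tg m p 3 = p ^ (1 : ℤ) := by simp [tg]
  rw [← hE]
  refine ⟨(h 0 (by decide)).trans ?_, (h 1 (by decide)).trans ?_, (h 2 (by decide)).trans ?_,
    (h 3 (by decide)).trans ?_, (h 4 (by decide)).trans ?_, (h 5 (by decide)).trans ?_⟩ <;>
    simp only [Finset.prod_range_succ, Finset.prod_range_zero, List.getD_cons_zero, List.getD_cons_succ,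
      e0, e1, e2, e3, one_mul] <;>
    group

/-- An element of the pair orbit. -/
noncomputable def pr (e : ℕ) (t : K) : GL chevF4.Idx K :=
  opr hC chevF4.simple [3, 0] (fun i => if i = 0 then t ^ e else t)

theorem pr_eq (e : ℕ) (t : K) : pr e t = xg hC 24 t * xg hC 33 (t ^ e) := by
  obtain ⟨h0, -, -, h3, -⟩ := roots_ok
  simp [pr, opr, h0, h3]

variable [Fintype K] [CharP K 2] {hK : Fintype.card K = 2 ^ (2 * m + 1)} (X : Setup (K := K) hK)
include X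

theorem pair_word_twoGen {rt : ℕ → ℕ} (hrt : Signed chevF4 rt) (a b : K) :
    xg hC (rt 3) b * xg hC (rt 0) a = wordGL hC [(rt 0, a), (rt 3, b)] := by
  have h := opr_perm (hC := hC) (orth0 X) hrt (List.Perm.swap 3 0 [])
    (fun i => if i = 0 then a else b)
  simpa [opr, wordGL] using h.symm

theorem pr_mem (t : K) : pr (2 ^ m) t ∈ twistedF4 K (2 ^ m) := by
  rw [pr_eq, ← roots_ok.1, ← roots_ok.2.2.2.1, pair_word_twoGen X (Or.inl rfl)]
  exact wordGL_mem (Or.inl ⟨t, Or.inl rfl⟩)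

theorem cox_mem : nL hC K cox ∈ twistedF4 K (2 ^ m) := by
  rw [cox, nL_append]
  refine mul_mem ?_ ?_
  · rw [← onr_one (hC := hC)]
    refine onr_mem (orth0 X) ?_ ?_
    · have h := pr_mem X 1
      simpa [pr] using h
    · have h := pair_word_twoGen X (rt := fun i => chevF4.neg (chevF4.simple i)) (Or.inr rfl) (1 : K) 1
      have hm : wordGL hC [(chevF4.neg (chevF4.simple 0), (1 : K)), (chevF4.neg (chevF4.simple 3), (1 : K))] ∈
          twistedF4 K (2 ^ m) := by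
        have h1 : (1 : K) ^ 2 ^ m = 1 := one_pow _
        nth_rw 1 [← h1]
        exact wordGL_mem (Or.inl ⟨1, Or.inr rfl⟩)
      rw [← h] at hm
      simpa [opr, CharTwo.neg_eq] using hm
  · rw [nJ_eq]
    have h2E : 2 * 2 ^ m ≠ 0 := by positivity
    have h10 : cw (2 ^ m) 27 25 28 30 (1 : K) 0 = xg hC 27 1 * xg hC 25 1 * xg hC 28 1 := by
      simp [cw, zero_pow h2E, xg_zero hC]
    have h11 : cw (2 ^ m) 27 25 28 30 (1 : K) 1 = xg hC 27 1 * xg hC 25 1 * xg hC 30 1 := by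
      simp [cw, _root_.CharTwo.add_self_eq_zero, xg_zero hC]
    have hv : cw (2 ^ m) 20 22 19 17 (0 : K) 1 = xg hC 19 1 * xg hC 17 1 := by
      simp [cw, zero_pow (pow_ne_zero m two_ne_zero), xg_zero hC]
    rw [← h10, ← h11, ← hv]
    exact mul_mem (mul_mem (inv_mem (X.cls_mem 1 1).1) (X.cls_mem 0 1).2) (inv_mem (X.cls_mem 1 0).1)

omit X [Fintype K] [CharP K 2] in
theorem nL_cox4 : nL hC K (cox ++ cox ++ cox ++ cox) =
    nL hC K cox * nL hC K cox * nL hC K cox * nL hC K cox := by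
  simp only [nL_append]

omit X in
theorem le_of_parts {H : Subgroup (GL chevF4.Idx K)} (hn : nL hC K cox ∈ H)
    (hc : ∀ t u : K, cw (2 ^ m) 27 25 28 30 t u ∈ H)
    (hp : ∀ t : K, pr (2 ^ m) t ∈ H) (X : Setup (K := K) hK) : twistedF4 K (2 ^ m) ≤ H := by
  rw [twistedF4, genSubgroup_eq hC, Subgroup.closure_le]
  obtain ⟨w, hw⟩ : ∃ w, w = nL hC K (cox ++ cox ++ cox ++ cox) := ⟨_, rfl⟩
  have hwH : w ∈ H := by
    rw [hw, nL_cox4]
    exact mul_mem (mul_mem (mul_mem hn hn) hn) hn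
  have hlt : ∀ i ∈ cox ++ cox ++ cox ++ cox, i < chevF4.rank := by decide +kernel
  have hx : ∀ p ∈ [(33, 14), (24, 23), (27, 20), (25, 22), (28, 19), (30, 17)], ∀ t : K,
      w * xg hC p.1 t * w⁻¹ = xg hC p.2 t := fun p hp t => by
    rw [hw, ← (cox4_ok p hp).2]
    exact CharTwo.nL_conj hlt (cox4_ok p hp).1 t
  obtain ⟨h0, -, -, h3, -, -, -, -, h14, h23, -⟩ := roots_ok
  rintro g ⟨v, hv, rfl⟩
  rcases hv with ⟨t, rfl | rfl⟩ | ⟨t, u, rfl | rfl⟩
  · have h := hp t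
    rwa [pr_eq, ← h3, ← h0, pair_word_twoGen X (Or.inl rfl)] at h
  · have h := mul_mem (mul_mem hwH (hp t)) (inv_mem hwH)
    rw [pr_eq, show w * (xg hC 24 t * xg hC 33 (t ^ 2 ^ m)) * w⁻¹ =
      w * xg hC 24 t * w⁻¹ * (w * xg hC 33 (t ^ 2 ^ m) * w⁻¹) by group, hx _ (by simp : (24, 23) ∈ _),
      hx _ (by simp : (33, 14) ∈ _), ← h23, ← h14, ← h3, ← h0,
      pair_word_twoGen X (rt := fun i => chevF4.neg (chevF4.simple i)) (Or.inr rfl)] at h
    exact h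
  · rw [wordGL_cw]; exact hc t u
  · rw [wordGL_cw]
    have h := mul_mem (mul_mem hwH (hc t u)) (inv_mem hwH)
    rw [cw, show ∀ a b c d : GL chevF4.Idx K, w * (a * b * (c * d)) * w⁻¹ =
      w * a * w⁻¹ * (w * b * w⁻¹) * (w * c * w⁻¹ * (w * d * w⁻¹)) from fun a b c d => by group,
      hx _ (by simp : (27, 20) ∈ _), hx _ (by simp : (25, 22) ∈ _), hx _ (by simp : (28, 19) ∈ _),
      hx _ (by simp : (30, 17) ∈ _)] at h
    exact h

theorem class_all {H : Subgroup (GL chevF4.Idx K)} {c : ℕ → Kˣ}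
    (hc : tor chevF4 c ∈ twistedF4 K (2 ^ m)) (hcH : tor chevF4 c ∈ H)
    (hgen : ∀ x : Kˣ, x ∈ Subgroup.zpowers (torChar chevF4 c 25)) {t₁ u₁ : K} (ht : t₁ ≠ 0)
    (h₁ : cw (2 ^ m) 27 25 28 30 t₁ u₁ ∈ H) : ∀ t u : K, cw (2 ^ m) 27 25 28 30 t u ∈ H := by
  obtain ⟨E, hE⟩ : ∃ E, E = 2 ^ m := ⟨_, rfl⟩
  have hq : ∀ t : K, t ^ (2 * (E * E)) = t := hE ▸ pow_q hK
  obtain ⟨χ, hχ⟩ : ∃ χ, χ = torChar chevF4 c 25 := ⟨_, rfl⟩
  rw [← hχ] at hgen
  have hj : ∀ j : ℕ, ∃ u, cw (2 ^ m) 27 25 28 30 (((χ ^ j : Kˣ) : K) * t₁) u ∈ H := by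
    intro j
    induction j with
    | zero => exact ⟨u₁, by rwa [pow_zero, Units.val_one, one_mul]⟩
    | succ j ih =>
      obtain ⟨u, hu⟩ := ih
      have h := mul_mem (mul_mem hcH hu) (inv_mem hcH)
      rw [conj_cw X hc, ← hχ, ← mul_assoc, ← Units.val_mul, ← pow_succ'] at h
      exact ⟨_, h⟩
  have hall : ∀ t : K, ∃ u, cw (2 ^ m) 27 25 28 30 t u ∈ H := by
    intro t
    by_cases ht0 : t = 0
    · exact ⟨0, by rw [ht0, cw_zero X]; exact one_mem H⟩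
    · obtain ⟨j, hj'⟩ := mem_powers_iff_mem_zpowers.2 (hgen (Units.mk0 _ (div_ne_zero ht0 ht)))
      obtain ⟨u, hu⟩ := hj j
      refine ⟨u, ?_⟩
      have e : ((χ ^ j : Kˣ) : K) = t / t₁ := congrArg Units.val hj'
      rwa [e, div_mul_cancel₀ t ht] at hu
  have hu0 : ∀ u : K, cw (2 ^ m) 27 25 28 30 0 u ∈ H := by
    intro u
    by_cases h0 : u = 0
    · rw [h0, cw_zero X]; exact one_mem H
    obtain ⟨t, ht'⟩ : ∃ t : K, t ^ E * t = u := by
      refine ⟨(u ^ (2 * (E - 1)))⁻¹, ?_⟩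
      obtain ⟨E', hE'⟩ : ∃ E', E = E' + 1 := ⟨E - 1, by
        have := hE ▸ Nat.one_le_two_pow (n := m)
        omega⟩
      rw [← pow_succ, inv_pow, ← pow_mul, inv_eq_iff_eq_inv]
      refine eq_inv_of_mul_eq_one_left (mul_left_cancel₀ (pow_ne_zero 1 h0) ?_)
      rw [mul_one, ← pow_succ, ← pow_add, pow_one]
      refine Eq.trans ?_ (hq u)
      congr 1
      subst hE'
      rw [Nat.add_sub_cancel]
      ring
    obtain ⟨v, hv⟩ := hall t
    have h := mul_mem hv hv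
    rw [cw_mul hK, _root_.CharTwo.add_self_eq_zero, _root_.CharTwo.add_self_eq_zero, zero_add,
      ← hE, ht'] at h
    rwa [← hE]
  intro t u
  obtain ⟨v, hv⟩ := hall t
  have h := mul_mem hv (hu0 (u + v))
  rw [cw_mul hK, add_zero, mul_zero, add_zero, add_left_comm, _root_.CharTwo.add_self_eq_zero,
    add_zero] at h
  exact h

theorem pr_all {H : Subgroup (GL chevF4.Idx K)} {g : GL chevF4.Idx K} {ξ : Kˣ} (hg : g ∈ H)
    (hgen : ∀ x : Kˣ, x ∈ Subgroup.zpowers ξ) (h1 : pr (2 ^ m) (1 : K) ∈ H)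
    (hconj : ∀ t : K, g * pr (2 ^ m) t * g⁻¹ = pr (2 ^ m) ((ξ : K) * t)) :
    ∀ t : K, pr (2 ^ m) t ∈ H := by
  have hj : ∀ j : ℕ, pr (2 ^ m) ((ξ ^ j : Kˣ) : K) ∈ H := by
    intro j
    induction j with
    | zero => simpa using h1
    | succ j ih =>
      have h := mul_mem (mul_mem hg ih) (inv_mem hg)
      rwa [hconj, ← Units.val_mul, ← pow_succ'] at h
  intro t
  by_cases ht : t = 0
  · subst ht
    rw [pr_eq, xg_zero hC, zero_pow (pow_ne_zero m two_ne_zero), xg_zero hC, one_mul]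
    exact one_mem H
  · obtain ⟨j, hj'⟩ := mem_powers_iff_mem_zpowers.2 (hgen (Units.mk0 t ht))
    have h := hj j
    rwa [show ((ξ ^ j : Kˣ) : K) = t from congrArg Units.val hj'] at h

theorem two_generated (hm : 1 ≤ m) :
    ∃ a b : twistedF4 K (2 ^ m),
      Subgroup.closure ({a, b} : Set (twistedF4 K (2 ^ m))) = ⊤ := by
  classical
  obtain ⟨E, hE⟩ : ∃ E, E = 2 ^ m := ⟨_, rfl⟩
  have hq : ∀ t : K, t ^ (2 * (E * E)) = t := hE ▸ pow_q hK
  obtain ⟨p, hp⟩ := IsCyclic.exists_generator (α := Kˣ)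
  have hqp : p ^ (2 * (E * E)) = p := Units.ext (by rw [Units.val_pow_eq_pow_val, hq])
  have hgen : ∀ y : Kˣ, p ∈ Subgroup.zpowers y → ∀ x : Kˣ, x ∈ Subgroup.zpowers y :=
    fun y hy x => Subgroup.zpowers_le.2 hy (hp x)
  have hp1 : p ≠ 1 := by
    rintro rfl
    have h2 : Fintype.card Kˣ ≤ 1 := Fintype.card_le_one_iff.2 fun x y => by
      obtain ⟨i, rfl⟩ := Subgroup.mem_zpowers_iff.1 (hp x)
      obtain ⟨j, rfl⟩ := Subgroup.mem_zpowers_iff.1 (hp y)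
      rw [one_zpow, one_zpow]
    rw [Fintype.card_units, hK] at h2
    have : 2 ^ 3 ≤ 2 ^ (2 * m + 1) := Nat.pow_le_pow_right (by norm_num) (by omega)
    omega
  obtain ⟨c, hcdef⟩ : ∃ c, c = tg m p := ⟨_, rfl⟩
  obtain ⟨χ33, χ24, χ25, χ15, χ10, χ31⟩ := char_tg (m := m) p
  rw [← hcdef, ← hE] at χ25 χ15 χ10 χ31
  rw [← hcdef] at χ33 χ24
  have g25 : p ∈ Subgroup.zpowers (torChar chevF4 c 25) := by
    refine ⟨(4 * E + 3 : ℕ), ?_⟩
    show torChar chevF4 c 25 ^ ((4 * E + 3 : ℕ) : ℤ) = p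
    rw [zpow_natCast, χ25, mul_pow, inv_pow, ← pow_mul, ← pow_mul, mul_inv_eq_iff_eq_mul,
      show 4 * E * (4 * E + 3) = 2 * (E * E) * 8 + 12 * E by ring, pow_add, pow_mul p (2 * (E * E)),
      hqp, ← pow_add, ← pow_succ']
    congr 1
    ring
  have g15 : p ∈ Subgroup.zpowers (torChar chevF4 c 15) := by
    refine ⟨-((E + 1 : ℕ) : ℤ), ?_⟩
    show torChar chevF4 c 15 ^ (-((E + 1 : ℕ) : ℤ)) = p
    rw [zpow_neg, zpow_natCast, χ15, inv_eq_iff_eq_inv, mul_pow, inv_pow, ← pow_mul, ← pow_mul,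
      mul_inv_eq_iff_eq_mul, show 2 * E * (E + 1) = 2 * (E * E) + 2 * E by ring, pow_add, hqp,
      eq_inv_mul_iff_mul_eq, ← mul_assoc, ← sq, ← pow_add]
    congr 1
    ring
  have hc31 : torChar chevF4 c 31 ≠ 1 := by
    intro e
    rw [χ31, mul_inv_eq_one] at e
    have e1 : p = p ^ E := by
      conv_lhs => rw [← hqp]
      rw [show 2 * (E * E) = 2 * E * E by ring, pow_mul, e]
    have e2 : p ^ (2 * E) = p ^ 2 := by
      rw [mul_comm, pow_mul, ← e1]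
    rw [e2, sq] at e
    exact hp1 (mul_eq_left.1 e)
  have hc25 : torChar chevF4 c 25 ≠ 1 := fun e => hp1 (by
    obtain ⟨i, hi⟩ := Subgroup.mem_zpowers_iff.1 g25
    rw [← hi, e, one_zpow])
  have hhom : ∀ i < 4, ∀ t, X.S.hom i t = (t ^ (L.getD i (0, 1)).2) ^ E := hE ▸ X.hom_eq
  have hh : tor chevF4 c ∈ twistedF4 K (2 ^ m) := by
    refine tor_mem X fun i hi => ?_
    change i < 4 at hi
    rw [X.π_eq, hhom i hi]
    interval_cases i <;> simp [nodePi, hcdef, tg, ← hE]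
    · rw [← pow_mul, ← pow_mul, show E * (2 * E) = 2 * (E * E) by ring, hq]
    · rw [← pow_mul, ← pow_mul, ← pow_mul, show 2 * (E * (2 * E)) = 2 * (E * E) * 2 by ring, pow_mul, hq]
  obtain ⟨n, hndef⟩ : ∃ n, n = nL hC K cox := ⟨_, rfl⟩
  have hn : n ∈ twistedF4 K (2 ^ m) := hndef ▸ cox_mem X
  obtain ⟨H, hH⟩ : ∃ H, H = Subgroup.closure ({(⟨_, mul_mem hh (pr_mem X 1)⟩ : twistedF4 K (2 ^ m)),
      ⟨_, mul_mem (X.cls_mem 1 0).1 hn⟩} : Set (twistedF4 K (2 ^ m))) := ⟨_, rfl⟩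
  refine ⟨⟨_, mul_mem hh (pr_mem X 1)⟩, ⟨_, mul_mem (X.cls_mem 1 0).1 hn⟩, ?_⟩
  rw [← hH]
  obtain ⟨G, hG⟩ : ∃ G, G = H.map (twistedF4 K (2 ^ m)).subtype := ⟨_, rfl⟩
  have hmem : ∀ x ∈ H, (x : GL chevF4.Idx K) ∈ G := fun x hx => by
    rw [hG]; exact Subgroup.mem_map_of_mem _ hx
  have ha : tor chevF4 c * pr (2 ^ m) 1 ∈ G := hmem ⟨_, mul_mem hh (pr_mem X 1)⟩ (by rw [hH]; exact Subgroup.subset_closure (Or.inl rfl))
  have hb : cw (2 ^ m) 27 25 28 30 1 0 * n ∈ G :=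
    hmem ⟨_, mul_mem (X.cls_mem 1 0).1 hn⟩ (by rw [hH]; exact Subgroup.subset_closure (Or.inr rfl))
  suffices hle : twistedF4 K (2 ^ m) ≤ G by
    rw [eq_top_iff]
    intro g _
    obtain ⟨x, hx, e⟩ := Subgroup.mem_map.1 (hG ▸ hle g.2)
    exact (Subtype.ext e : x = g) ▸ hx
  -- the torus element and the pair element
  have hcomm : Commute (tor chevF4 c) (pr (2 ^ m) (1 : K)) := by
    refine mul_inv_eq_iff_eq_mul.1 ?_
    rw [pr_eq, ← conj_mul, tor_conj_x hC c 24 _ (by decide +kernel),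
      tor_conj_x hC c 33 _ (by decide +kernel), χ24, χ33]
    simp
  have hsq : pr (2 ^ m) (1 : K) ^ 2 = 1 := by
    rw [sq, pr, ← opr_add (orth0 X) (Or.inl rfl) _ (orth_nodup (orth0 X)) fun _ h => h]
    convert opr_zero (hC := hC) (rt := chevF4.simple) [3, 0] using 2
    funext i
    exact _root_.CharTwo.add_self_eq_zero _
  have hodd : ∀ k, pr (2 ^ m) (1 : K) ^ (2 * k + 1) = pr (2 ^ m) 1 := fun k => by
    rw [pow_succ, pow_mul, hsq, one_pow, one_mul]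
  have hcq : tor chevF4 c ^ (Fintype.card Kˣ) = 1 := by
    have hpow : ∀ j : ℕ, tor chevF4 c ^ j = tor chevF4 (c ^ j) := fun j => by
      induction j with
      | zero => rw [pow_zero, pow_zero, tor_one]
      | succ j ih => rw [pow_succ, ih, tor_mul, pow_succ]
    rw [hpow, show c ^ Fintype.card Kˣ = 1 from funext fun i => pow_card_eq_one, tor_one]
  have hP : pr (2 ^ m) (1 : K) ∈ G := by
    have h := pow_mem ha (Fintype.card Kˣ)
    rw [hcomm.mul_pow, hcq, one_mul, Fintype.card_units, hK] at h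
    have h1 : 1 ≤ 2 ^ (2 * m) := Nat.one_le_two_pow
    rwa [show 2 ^ (2 * m + 1) - 1 = 2 * (2 ^ (2 * m) - 1) + 1 by rw [pow_succ]; omega, hodd] at h
  have hcG : tor chevF4 c ∈ G := by
    have h := mul_mem ha (inv_mem hP)
    rwa [mul_inv_cancel_right] at h
  -- the second torus element
  obtain ⟨c', hc'⟩ : ∃ c', n * tor chevF4 c * n⁻¹ = tor chevF4 c' :=
    (mem_H_iff hC).1 (H_conj hC (hndef ▸ (mem_N_iff hC).2 ⟨1, cox, cox_lt, by rw [tor_one, one_mul]⟩)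
      (tor_mem_H hC c))
  have hc'T : tor chevF4 c' ∈ twistedF4 K (2 ^ m) := hc' ▸ mul_mem (mul_mem hn hh) (inv_mem hn)
  obtain ⟨w15, w10, w31, l15, l10, l31⟩ := cox_ok
  have hnx : ∀ r, r < chevF4.nroots → ∀ t : K,
      n * xg hC r t * n⁻¹ = xg hC (wL chevF4 cox r) t := fun r hr t => by
    rw [hndef]; exact CharTwo.nL_conj cox_lt hr t
  have hgx : ∀ r, r < chevF4.nroots → ∀ t : K, tor chevF4 c' * xg hC (wL chevF4 cox r) t *
      (tor chevF4 c')⁻¹ = xg hC (wL chevF4 cox r) ((torChar chevF4 c r : K) * t) := fun r hr t => by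
    rw [← hc', ← hnx r hr, ← hnx r hr, ← tor_conj_x hC c r t hr]
    group
  have hχ' : torChar chevF4 c' 25 = torChar chevF4 c 31 := by
    have e := hgx 31 l31 1
    rw [w31, tor_conj_x hC c' 25 1 (by decide +kernel), mul_one, mul_one] at e
    exact Units.ext (xg_injective (hC := hC) (by decide +kernel) e)
  obtain ⟨t₁, u₁, ht₁, h₁⟩ : ∃ t u : K, t ≠ 0 ∧ cw (2 ^ m) 27 25 28 30 t u ∈ G := by
    obtain ⟨z, hz⟩ : ∃ z, z = cw (2 ^ m) 27 25 28 30 (1 : K) 0 *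
      (tor chevF4 c' * cw (2 ^ m) 27 25 28 30 1 0 * (tor chevF4 c')⁻¹)⁻¹ := ⟨_, rfl⟩
    have hbhb : z * tor chevF4 c' ∈ G := by
      have h := mul_mem (mul_mem hb hcG) (inv_mem hb)
      rw [mul_inv_rev, show cw (2 ^ m) 27 25 28 30 1 0 * n * tor chevF4 c *
        (n⁻¹ * (cw (2 ^ m) 27 25 28 30 1 0)⁻¹) = cw (2 ^ m) 27 25 28 30 1 0 * (n * tor chevF4 c * n⁻¹) *
        (cw (2 ^ m) 27 25 28 30 1 0)⁻¹ by group, hc'] at h
      convert h using 1
      rw [hz]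
      group
    have hcc : Commute (tor chevF4 c) (tor chevF4 c') := by
      rw [Commute, SemiconjBy, tor_mul, tor_mul, mul_comm]
    have h := mul_mem (mul_mem (mul_mem hcG hbhb) (inv_mem hcG)) (inv_mem hbhb)
    rw [show tor chevF4 c * (z * tor chevF4 c') * (tor chevF4 c)⁻¹ * (z * tor chevF4 c')⁻¹ =
      tor chevF4 c * z * (tor chevF4 c' * (tor chevF4 c)⁻¹) * (tor chevF4 c')⁻¹ * z⁻¹ by group,
      ← hcc.inv_left.eq, show tor chevF4 c * z * ((tor chevF4 c)⁻¹ * tor chevF4 c') *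
      (tor chevF4 c')⁻¹ * z⁻¹ = tor chevF4 c * z * (tor chevF4 c)⁻¹ * z⁻¹ by group] at h
    have hinv : ∀ t u : K, (cw (2 ^ m) 27 25 28 30 t u)⁻¹ =
        cw (2 ^ m) 27 25 28 30 t (u + t ^ 2 ^ m * t) := fun t u => by
      refine inv_eq_of_mul_eq_one_right ?_
      rw [cw_mul hK, _root_.CharTwo.add_self_eq_zero, ← add_assoc, _root_.CharTwo.add_self_eq_zero,
        zero_add, _root_.CharTwo.add_self_eq_zero]
      exact cw_zero X
    rw [hz, conj_cw X hc'T, hinv, cw_mul hK, conj_cw X hh, hinv, cw_mul hK, hχ', mul_one] at h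
    refine ⟨_, _, ?_, h⟩
    rw [← add_one_mul]
    refine mul_ne_zero ?_ ?_
    · exact fun e => hc25 (Units.val_eq_one.1 (_root_.CharTwo.add_eq_zero.1 e))
    · exact fun e => hc31 (Units.val_eq_one.1 (_root_.CharTwo.add_eq_zero.1 e).symm)
  have hcl := class_all X hh hcG (hgen _ g25) ht₁ h₁
  have hnG : n ∈ G := by
    have h := mul_mem (inv_mem (hcl 1 0)) hb
    rwa [inv_mul_cancel_left] at h
  have hc'G : tor chevF4 c' ∈ G := hc' ▸ mul_mem (mul_mem hnG hcG) (inv_mem hnG)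
  refine le_of_parts (hndef ▸ hnG) hcl (pr_all X hc'G (hgen _ g15) hP fun t => ?_) X
  rw [pr_eq, pr_eq, ← conj_mul]
  have e24 := hgx 15 l15 t
  have e33 := hgx 10 l10 (t ^ 2 ^ m)
  rw [w15] at e24
  rw [w10] at e33
  rw [e24, e33, mul_pow]
  congr 3
  rw [← Units.val_pow_eq_pow_val]
  congr 1
  rw [χ10, χ15, ← hE, mul_pow, inv_pow, ← pow_mul, ← pow_mul,
    show 2 * E * E = 2 * (E * E) by ring, hqp]

end Cfsg.Agent.Chevalley.Twist.F4
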