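import Cfsg.Agent.Lib.Chevalley.Twist.OrthGen
import Cfsg.Agent.Lib.Chevalley.Twist.Simple

/-!
Tools for generating the twisted groups with orthogonal orbits: an orbit is full in a subgroup of the
fixed group when the subgroup contains all fixed elements on its roots.
-/

set_option autoImplicit false
set_option linter.unusedSectionVars false

open scoped Matrix

namespace Cfsg.Agent.Chevalley.Twist

open Cfsg.Lie Cfsg.Agent.Chevalley Cfsg.Agent.Chevalley.Check Cfsg.Agent.Chevalley.Perfect Cfsg.Agent.Chevalley.Table Cfsg.Agent.Chevalley.Cert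
  Cfsg.Agent.Chevalley.Group Cfsg.Agent.Chevalley.Unip Cfsg.Agent.Chevalley.NormalForm
  Cfsg.Agent.Chevalley.Borel Cfsg.Agent.Chevalley.Bruhat Cfsg.Agent.Chevalley.Weyl
  Cfsg.Agent.Chevalley.TorusCard

variable {D : ChevalleyDatum} {F : Type*} [Field F] {T : Tab} {hC : Certified D T} {S : Tw hC F}
  {π : ℕ → ℕ}

theorem swap_cons {G : Type*} [Group G] {a b z A B Z : G} (h : b * a = a * b * z)
    (hAB : B * A = A * B * Z) (hbA : Commute b A) (hBa : Commute B a) (hzA : Commute z A)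
    (hzB : Commute z B) : b * B * (a * A) = a * A * (b * B) * (z * Z) := by
  calc b * B * (a * A) = b * (B * a) * A := by group
    _ = b * a * (B * A) := by rw [hBa.eq]; group
    _ = a * b * (z * A) * (B * Z) := by rw [h, hAB]; group
    _ = a * (b * A) * (z * B) * Z := by rw [hzA.eq]; group
    _ = a * A * (b * B) * (z * Z) := by rw [hbA.eq, hzB.eq]; group

theorem comm_of_noComm {a b : ℕ} (ha : a < D.nroots) (hb : b < D.nroots)
    (h : noComm T a b = true) (t u : F) : Commute (xg hC a t) (xg hC b u) := by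
  obtain ⟨h1, h2, h3⟩ := noComm_spec hC ha hb h
  have e := xg_comm (F := F) hC ha hb h1 h2 t u
  simp only [ChevalleyDatum.commWord, h3, List.map_nil, List.prod_nil, mul_one] at e
  exact e.symm

/-- A pair of roots whose commutator is the single root element `k`. -/
noncomputable def singleChk (T : Tab) (r s k : ℕ) : Bool :=
  (!Nat.beq s r && !Nat.beq s (T.neg r)) && match commOf T.E r s with
    | [(k', c, 1, 1)] => Nat.beq k' k && (c.natAbs == 1)
    | _ => false

theorem single_spec {r s k : ℕ} (hr : r < D.nroots) (hs : s < D.nroots)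
    (h : singleChk T r s k = true) : ∃ c : F, c ≠ 0 ∧ ∀ t u : F,
      xg hC s u * xg hC r t = xg hC r t * xg hC s u * xg hC k (c * t * u) := by
  simp only [singleChk, Bool.and_eq_true, Bool.not_eq_true'] at h
  obtain ⟨⟨h1, h2⟩, h3⟩ := h
  rw [commOf_eq hC hr hs] at h3
  obtain ⟨z, hz, hz'⟩ : ∃ z : ℤ, z.natAbs = 1 ∧ D.commTerms r s = [(k, z, 1, 1)] := by
    split at h3
    · rename_i k' z heq
      simp only [Bool.and_eq_true, beq_iff_eq] at h3
      obtain rfl : k' = k := Nat.eq_of_beq_eq_true h3.1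
      exact ⟨z, h3.2, heq⟩
    · exact absurd h3 Bool.false_ne_true
  refine ⟨-(z : F), ?_, fun t u => ?_⟩
  · rcases Int.natAbs_eq_iff.1 hz with rfl | rfl <;> simp
  · rw [xg_comm (F := F) hC hr hs (Nat.ne_of_beq_eq_false h1)
      (hC.neg_eq hr ▸ Nat.ne_of_beq_eq_false h2) t u]
    simp [ChevalleyDatum.commWord, hz']

theorem nL_replicate (L : List ℕ) (k : ℕ) :
    nL hC F (List.replicate k L).flatten = nL hC F L ^ k := by
  induction k with
  | zero => simp [nL]
  | succ k ih => rw [List.replicate_succ, List.flatten_cons, nL_append, ih, pow_succ']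

theorem nL_fixed {J : List ℕ} (hO : Orth hC π J) (hπ : S.π = π) : nL hC F J ∈ Fx S := by
  rw [← onr_one (hC := hC) J]
  exact onr_mem hO (opr_fixed hO hπ (Or.inl rfl) fun i _ => (map_one _).symm)
    (opr_fixed hO hπ (Or.inr rfl) fun i _ => by simp)

theorem fixed_cond {J : List ℕ} (hO : Orth hC π J) (hπ : S.π = π)
    (hinv : ∀ i ∈ J, D.simple i ∈ invList D T J) {f : ℕ → F}
    (hf : opr hC D.simple J f ∈ Fx S) : ∀ i ∈ J, f (S.π i) = S.hom i (f i) := by
  have hU : opr hC D.simple J f ∈ Uminus D F (tor D 1 * nL hC F J) := by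
    rw [Uminus_eq hC hO.lt 1]
    refine list_prod_mem fun g hg => ?_
    obtain ⟨i, hi, rfl⟩ := List.mem_map.1 hg
    exact Subgroup.subset_closure ⟨_, _, hinv i hi, rfl⟩
  obtain ⟨g, hg, e⟩ := fixed_Uminus hO hπ hf hU
  have he := opr_unique hO e
  intro i hi
  rw [he i hi, he (S.π i) (hπ ▸ hO.stable i hi)]
  exact hg i hi

theorem tor_fixed {πi : ℕ → ℕ} (hlt : ∀ j < D.rank, πi j < D.rank)
    (hinv : ∀ j < D.rank, S.π (πi j) = j) {c : ℕ → Fˣ}
    (hc : ∀ i < D.rank, (c (S.π i) : F) = S.hom i (c i : F)) : tor D c ∈ Fx S := by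
  have h := img_torHom (S := S) hlt hinv fun i => c i
  have e1 : tau S πi hlt (fun i : Fin D.rank => c i) = fun i : Fin D.rank => c i := by
    funext j
    refine Units.ext ?_
    show S.hom (πi j) (c (πi j) : F) = _
    rw [← hc _ (hlt j j.2), hinv j j.2]
  have e : torHom D F (fun i : Fin D.rank => c i) = tor D c :=
    dg_congr fun s _ => Finset.prod_congr rfl fun i hi => by
      rw [TorusCard.ext, dif_pos (Finset.mem_range.1 hi)]
  rw [e1, e] at h
  exact h

/-- All fixed elements on the positive roots of an orbit lie in `H`. -/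
def Full (S : Tw hC F) (H : Subgroup (GL D.Idx F)) (J : List ℕ) : Prop :=
  ∀ f : ℕ → F, (∀ i ∈ J, f (S.π i) = S.hom i (f i)) → opr hC D.simple J f ∈ H

variable {H : Subgroup (GL D.Idx F)}

/-- Fixed elements on the images of a full orbit under a word lie in `H`. -/
theorem opr_mem_of {J J' M : List ℕ} (hO : Orth hC π J) (hO' : Orth hC π J') (hπ : S.π = π)
    (hinv : ∀ i ∈ J, D.simple i ∈ invList D T J) (hM : ∀ i ∈ M, i < D.rank) (hle : H ≤ Fx S)
    (hMH : nL hC F M ∈ H) (hJ : Full S H J) {rt : ℕ → ℕ} (hrt : Signed D rt)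
    (hmap : ∀ i ∈ J', ∃ j ∈ J, wL D M (D.simple j) = rt i) {f : ℕ → F}
    (hf : ∀ i ∈ J', f (S.π i) = S.hom i (f i)) : opr hC rt J' f ∈ H := by
  obtain ⟨y, hy⟩ : ∃ y, y = (nL hC F M)⁻¹ * opr hC rt J' f * nL hC F M := ⟨_, rfl⟩
  have hyF : y ∈ Fx S :=
    hy ▸ mul_mem (mul_mem (inv_mem (hle hMH)) (opr_fixed hO' hπ hrt hf)) (hle hMH)
  have hyU : y ∈ Uminus D F (tor D 1 * nL hC F J) := by
    rw [hy, show (nL hC F M)⁻¹ * opr hC rt J' f * nL hC F M =
      MulAut.conj (nL hC F M)⁻¹ (opr hC rt J' f) by rw [MulAut.conj_apply, inv_inv],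
      opr, map_list_prod]
    refine list_prod_mem fun g hg => ?_
    obtain ⟨x, hx, rfl⟩ := List.mem_map.1 hg
    obtain ⟨i, hi, rfl⟩ := List.mem_map.1 hx
    obtain ⟨j, hj, e⟩ := hmap i hi
    obtain ⟨η, hη, h⟩ := nL_conj_x (F := F) hC hM (hC.simple_lt (hO.lt j hj))
    have e2 := h (η⁻¹ * f i)
    rw [← mul_assoc, mul_inv_cancel₀ hη, one_mul, e] at e2
    rw [MulAut.conj_apply, inv_inv, ← e2, Uminus_eq hC hO.lt 1]
    refine Subgroup.subset_closure ⟨D.simple j, η⁻¹ * f i, hinv j hj, ?_⟩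
    group
  obtain ⟨g, hg, e⟩ := fixed_Uminus hO hπ hyF hyU
  have h := mul_mem (mul_mem hMH (hJ g hg)) (inv_mem hMH)
  rwa [← e, hy, show nL hC F M * ((nL hC F M)⁻¹ * opr hC rt J' f * nL hC F M) * (nL hC F M)⁻¹ =
    opr hC rt J' f by group] at h

theorem conj_opr {M : List ℕ} (hM : ∀ i ∈ M, i < D.rank) {l : List ℕ}
    (hl : ∀ i ∈ l, i < D.rank) : ∃ η : ℕ → F, (∀ i ∈ l, η i ≠ 0) ∧ ∀ f : ℕ → F,
      nL hC F M * opr hC D.simple l f * (nL hC F M)⁻¹ =
        (l.map fun i => xg hC (wL D M (D.simple i)) (η i * f i)).prod := by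
  classical
  have hex : ∀ i, ∃ η : F, i ∈ l → η ≠ 0 ∧ ∀ t : F,
      nL hC F M * xg hC (D.simple i) t * (nL hC F M)⁻¹ = xg hC (wL D M (D.simple i)) (η * t) := by
    intro i
    by_cases hi : i ∈ l
    · obtain ⟨η, hη⟩ := nL_conj_x (F := F) hC hM (hC.simple_lt (hl i hi))
      exact ⟨η, fun _ => hη⟩
    · exact ⟨1, fun h => absurd h hi⟩
  choose η hη using hex
  refine ⟨η, fun i hi => (hη i hi).1, fun f => ?_⟩
  rw [← MulAut.conj_apply, opr, map_list_prod, List.map_map]
  exact congrArg List.prod (List.map_congr_left fun i hi => (hη i hi).2 (f i))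

theorem full_of_torus {J : List ℕ} (hO : Orth hC π J) (hπ : S.π = π)
    (hinv : ∀ i ∈ J, D.simple i ∈ invList D T J) (hle : H ≤ Fx S) {L : List ℕ}
    (hL : ∀ i ∈ L, i < D.rank) {c : ℕ → Fˣ} (hc : tor D c ∈ H)
    (hb : opr hC D.simple J (fun _ => (1 : F)) * nL hC F L ∈ H) {i₀ r : ℕ} (hi₀ : i₀ ∈ J)
    (hdet : ∀ f g : ℕ → F, (∀ i ∈ J, f (S.π i) = S.hom i (f i)) →
      (∀ i ∈ J, g (S.π i) = S.hom i (g i)) → f i₀ = g i₀ → ∀ i ∈ J, f i = g i)
    (hr : r < D.nroots) (hw : wL D L r = D.simple i₀) (hχ' : torChar D c r ≠ 1)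
    (hχ : torChar D c (D.simple i₀) ≠ 1)
    (hgen : ∀ x : Fˣ, ∃ j : ℕ, torChar D c (D.simple i₀) ^ j = x) :
    Full S H J ∧ nL hC F L ∈ H := by
  obtain ⟨n, hn⟩ : ∃ n, n = nL hC F L := ⟨_, rfl⟩
  obtain ⟨x, hx⟩ : ∃ x, x = opr hC D.simple J fun _ => (1 : F) := ⟨_, rfl⟩
  rw [← hn, ← hx] at hb
  obtain ⟨c', hc'⟩ : ∃ c', n * tor D c * n⁻¹ = tor D c' :=
    (mem_H_iff hC).1 (H_conj hC (hn ▸ (mem_N_iff hC).2 ⟨1, L, hL, by rw [tor_one, one_mul]⟩)
      (tor_mem_H hC c))
  have hχ'' : torChar D c' (D.simple i₀) = torChar D c r := by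
    obtain ⟨η, hη, h⟩ := nL_conj_x (F := F) hC hL hr
    have e : tor D c' * xg hC (D.simple i₀) η * (tor D c')⁻¹ =
        xg hC (D.simple i₀) (η * (torChar D c r : F)) := by
      have e1 := h 1
      have e2 := h ((torChar D c r : F) * 1)
      rw [← hn, hw, mul_one] at e1
      rw [← tor_conj_x hC c r 1 hr, ← hn, hw, mul_one] at e2
      rw [← e1, ← e2, ← hc']
      group
    rw [tor_conj_x hC c' _ _ (hC.simple_lt (hO.lt i₀ hi₀))] at e
    have e' := xg_injective hC (hC.simple_lt (hO.lt i₀ hi₀)) e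
    rw [mul_comm η] at e'
    exact Units.ext (mul_right_cancel₀ hη e')
  obtain ⟨z, hz⟩ : ∃ z, z = x * (tor D c' * x * (tor D c')⁻¹)⁻¹ := ⟨_, rfl⟩
  have hbhb : z * tor D c' ∈ H := by
    have h := mul_mem (mul_mem hb hc) (inv_mem hb)
    rw [mul_inv_rev, show x * n * tor D c * (n⁻¹ * x⁻¹) = x * (n * tor D c * n⁻¹) * x⁻¹ by group,
      hc'] at h
    convert h using 1
    rw [hz]
    group
  have hcc : Commute (tor D c) (tor D c') := by
    rw [Commute, SemiconjBy, tor_mul, tor_mul, mul_comm]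
  have h1 := mul_mem (mul_mem (mul_mem hc hbhb) (inv_mem hc)) (inv_mem hbhb)
  rw [show tor D c * (z * tor D c') * (tor D c)⁻¹ * (z * tor D c')⁻¹ =
      tor D c * z * (tor D c' * (tor D c)⁻¹) * (tor D c')⁻¹ * z⁻¹ by group,
    ← hcc.inv_left.eq, show tor D c * z * ((tor D c)⁻¹ * tor D c') * (tor D c')⁻¹ * z⁻¹ =
      tor D c * z * (tor D c)⁻¹ * z⁻¹ by group, hz, hx, tor_conj_opr hO,
    opr_inv hO (Or.inl rfl), ← opr_add hO (Or.inl rfl) _ (orth_nodup hO) (fun _ h => h),
    tor_conj_opr hO, opr_inv hO (Or.inl rfl),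
    ← opr_add hO (Or.inl rfl) _ (orth_nodup hO) (fun _ h => h)] at h1
  obtain ⟨f₁, hf₁, h1'⟩ : ∃ f₁ : ℕ → F, f₁ i₀ ≠ 0 ∧ opr hC D.simple J f₁ ∈ H := by
    refine ⟨_, ?_, h1⟩
    simp only [Pi.add_apply, Pi.neg_apply, mul_one, hχ'']
    rw [← sub_eq_add_neg, ← sub_eq_add_neg, ← sub_one_mul]
    exact mul_ne_zero (sub_ne_zero.2 fun e => hχ (Units.val_eq_one.1 e))
      (sub_ne_zero.2 fun e => hχ' (Units.val_eq_one.1 e.symm))
  have hpow : ∀ j : ℕ,
      opr hC D.simple J (fun i => ((torChar D c (D.simple i) ^ j : Fˣ) : F) * f₁ i) ∈ H := by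
    intro j
    induction j with
    | zero => simpa using h1'
    | succ j ih =>
      have h := mul_mem (mul_mem hc ih) (inv_mem hc)
      rw [tor_conj_opr hO] at h
      convert h using 2
      funext i
      rw [pow_succ', Units.val_mul, mul_assoc]
  have hfull : Full S H J := by
    intro g hg
    by_cases h0 : g i₀ = 0
    · have e := hdet g 0 hg (fun i _ => by simp) h0
      rw [opr_congr e, opr_zero]
      exact one_mem H
    · obtain ⟨j, hj⟩ := hgen (Units.mk0 _ (div_ne_zero h0 hf₁))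
      have e := hdet _ g (fixed_cond hO hπ hinv (hle (hpow j))) hg (by
        show ((torChar D c (D.simple i₀) ^ j : Fˣ) : F) * f₁ i₀ = g i₀
        rw [hj, Units.val_mk0, div_mul_cancel₀ _ hf₁])
      rw [← opr_congr e]
      exact hpow j
  refine ⟨hfull, ?_⟩
  have hxH : x ∈ H := hx ▸ hfull _ fun i _ => (map_one _).symm
  have h := mul_mem (inv_mem hxH) hb
  rwa [inv_mul_cancel_left, hn] at h

/-- A single root orbit is full when `H` contains a nonzero scalar family of its elements. -/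
theorem full_single {i q : ℕ} (hO : Orth hC π [i]) (hπ : S.π = π)
    (hinv : D.simple i ∈ invList D T [i]) (hle : H ≤ Fx S) (hπi : S.π i = i)
    (hhom : ∀ t : F, S.hom i t = t ^ q) {φ : F → F} (hφ : ∀ t, xg hC (D.simple i) (φ t) ∈ H)
    (hlin : ∀ l t : F, l ^ q = l → φ (l * t) = l * φ t) (hne : ∃ t, φ t ≠ 0) :
    Full S H [i] := by
  obtain ⟨t₀, ht₀⟩ := hne
  intro f hf
  have h0 : φ t₀ ^ q = φ t₀ := by
    have h : opr hC D.simple [i] (fun _ => φ t₀) ∈ Fx S := by
      simpa [opr] using hle (hφ t₀)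
    have e := fixed_cond hO hπ (by simpa using hinv) h i (by simp)
    rw [hhom] at e
    exact e.symm
  have hfq : f i ^ q = f i := by
    have e := hf i (by simp)
    rw [hπi, hhom] at e
    exact e.symm
  have h := hφ (f i / φ t₀ * t₀)
  rw [hlin _ _ (by rw [div_pow, hfq, h0]), div_mul_cancel₀ _ ht₀] at h
  simpa [opr] using h

theorem exists_eval_ne [Fintype F] {a b c : F} (ha : a ≠ 0) {e e' : ℕ} (he : 1 < e) (he' : e ≤ e')
    (hcard : e' < Fintype.card F) (hne : e = e' → c = 0) :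
    ∃ t : F, a * t + b * t ^ e + c * t ^ e' ≠ 0 := by
  classical
  by_contra hall
  push Not at hall
  obtain ⟨p, hp⟩ : ∃ p : Polynomial F, p = Polynomial.C a * Polynomial.X +
      Polynomial.C b * Polynomial.X ^ e + Polynomial.C c * Polynomial.X ^ e' := ⟨_, rfl⟩
  have hd : p.natDegree ≤ e' := by
    rw [hp]
    refine (Polynomial.natDegree_add_le _ _).trans (max_le ((Polynomial.natDegree_add_le _ _).trans
      (max_le ?_ ((Polynomial.natDegree_C_mul_X_pow_le _ _).trans he'))) (Polynomial.natDegree_C_mul_X_pow_le _ _))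
    exact (Polynomial.natDegree_C_mul_le _ _).trans (Polynomial.natDegree_X_le.trans (by omega))
  have h0 : p = 0 := Polynomial.eq_zero_of_natDegree_lt_card_of_eval_eq_zero p
    (f := id) Function.injective_id (fun t => by simp [hp, hall t]) (by omega)
  refine ha ?_
  have h1 := congrArg (fun r => Polynomial.coeff r 1) h0
  simpa [hp, Polynomial.coeff_C_mul, Polynomial.coeff_X_pow, show (1 : ℕ) ≠ e by omega,
    show (1 : ℕ) ≠ e' by omega] using h1

end Cfsg.Agent.Chevalley.Twist
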